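import Cfsg.Agent.TriTwo.Basic

/-!
# Transport of hexagonal root systems along injective homomorphisms
-/

set_option autoImplicit false
set_option linter.unusedSectionVars false

namespace Cfsg.Agent.TriTwo.Transport

open Cfsg.Agent.TriTwo Cfsg.Agent.StdRank2.Hex Cfsg.Agent.SplitTwo

variable {E : Type*} [Field E] {σ : E ≃+* E} {Γ Γ' : Type*} [Group Γ] [Group Γ'] (f : Γ →* Γ')
  {x : ZMod 12 → E → Γ} {x' : ZMod 12 → E → Γ'} (hx : ∀ k a, Ok σ k a → x' k a = f (x k a))

theorem map_kk (a b : Γ) : f (kk a b) = kk (f a) (f b) := by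
  unfold kk
  rw [map_mul, map_mul, map_mul, map_inv, map_inv]

include hx

theorem map_gens (S : Set (ZMod 12)) : gens σ x' S = (gens σ x S).map f := by
  apply le_antisymm
  · refine gens_le fun k hk a ha => ?_
    rw [hx k a ha]
    exact ⟨_, mem_gens hk ha, rfl⟩
  · rw [Subgroup.map_le_iff_le_comap]
    refine gens_le fun k hk a ha => ?_
    show f (x k a) ∈ gens σ x' S
    rw [← hx k a ha]
    exact mem_gens hk ha

theorem map_nn (k : ZMod 12) : nn x' k = f (nn x k) := by
  unfold nn
  rw [hx k 1 (ok_one σ _), hx (k + 6) 1 (ok_one σ _), map_mul, map_mul]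

theorem map_nt {k : ZMod 12} {t : E} (ht : Ok σ k t) : nt x' k t = f (nt x k t) := by
  unfold nt
  rw [hx k t ht, hx (k + 6) t⁻¹ (ht.inv.congr (val_add_6 k)), map_mul, map_mul]

theorem map_hh {k : ZMod 12} {t : E} (ht : Ok σ k t) : hh x' k t = f (hh x k t) := by
  unfold hh
  rw [map_nt f hx ht, map_nn f hx, map_mul]

theorem map_tau (s : E) : tau x' s = f (tau x s) := map_hh f hx (ok_odd (by decide) _)

variable (hf : Function.Injective f)
include hf

theorem hexRel_iff : HexRel σ (x 1) (x 2) (x 3) (x 4) (x 5) (x 6) ↔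
    HexRel σ (x' 1) (x' 2) (x' 3) (x' 4) (x' 5) (x' 6) := by
  have k1 : ∀ a, x' 1 a = f (x 1 a) := fun a => hx 1 a (ok_odd (by decide) a)
  have k3 : ∀ a, x' 3 a = f (x 3 a) := fun a => hx 3 a (ok_odd (by decide) a)
  have k5 : ∀ a, x' 5 a = f (x 5 a) := fun a => hx 5 a (ok_odd (by decide) a)
  have k2 : ∀ a, σ a = a → x' 2 a = f (x 2 a) := fun a ha => hx 2 a (ok_of_fix _ ha)
  have k4 : ∀ a, σ a = a → x' 4 a = f (x 4 a) := fun a ha => hx 4 a (ok_of_fix _ ha)
  have k6 : ∀ a, σ a = a → x' 6 a = f (x 6 a) := fun a ha => hx 6 a (ok_of_fix _ ha)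
  have fa : ∀ {a b : E}, σ a = a → σ b = b → σ (a + b) = a + b := fun ha hb => by rw [map_add, ha, hb]
  have fm : ∀ {a b : E}, σ a = a → σ b = b → σ (a * b) = a * b := fun ha hb => by rw [map_mul, ha, hb]
  have fn : ∀ {a : E}, σ a = a → σ (-a) = -a := fun ha => by rw [map_neg, ha]
  have fp : ∀ {a : E}, σ a = a → σ (a ^ 2) = a ^ 2 := fun ha => by rw [map_pow, ha]
  have one : f 1 = 1 := map_one f
  constructor
  · intro h
    have ft : ∀ a b, σ (trc σ a b) = trc σ a b := trc_fix h.cube
    have fN : ∀ a, σ (nrm σ a) = nrm σ a := nrm_fix h.cube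
    refine
      { cube := h.cube
        add1 := fun a b => by rw [k1, k1, k1, h.add1, map_mul]
        add2 := fun a b ha hb => by rw [k2 _ (fa ha hb), k2 a ha, k2 b hb, h.add2 a b ha hb, map_mul]
        add3 := fun a b => by rw [k3, k3, k3, h.add3, map_mul]
        add4 := fun a b ha hb => by rw [k4 _ (fa ha hb), k4 a ha, k4 b hb, h.add4 a b ha hb, map_mul]
        add5 := fun a b => by rw [k5, k5, k5, h.add5, map_mul]
        add6 := fun a b ha hb => by rw [k6 _ (fa ha hb), k6 a ha, k6 b hb, h.add6 a b ha hb, map_mul]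
        c12 := fun a t ht => by rw [k1, k2 t ht, ← map_kk, h.c12 a t ht, map_one]
        c13 := fun a b => by rw [k1, k3, k2 _ (ft a b), ← map_kk, h.c13]
        c14 := fun a t ht => by rw [k1, k4 t ht, ← map_kk, h.c14 a t ht, map_one]
        c15 := fun a b => by
          rw [k1, k5, k2 _ (fn (ft _ _)), k3, k4 _ (ft _ _), ← map_kk, h.c15, map_mul, map_mul]
        c16 := fun a t ht => by
          rw [k1, k6 t ht, k2 _ (fn (fm ht (fN a))), k3, k4 _ (fm (fp ht) (fN a)), k5, ← map_kk, h.c16 a t ht, map_mul,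
            map_mul, map_mul]
        c23 := fun t a ht => by rw [k2 t ht, k3, ← map_kk, h.c23 t a ht, map_one]
        c24 := fun t u ht hu => by rw [k2 t ht, k4 u hu, ← map_kk, h.c24 t u ht hu, map_one]
        c25 := fun t a ht => by rw [k2 t ht, k5, ← map_kk, h.c25 t a ht, map_one]
        c26 := fun t u ht hu => by rw [k2 t ht, k6 u hu, k4 _ (fm ht hu), ← map_kk, h.c26 t u ht hu]
        c34 := fun a t ht => by rw [k3, k4 t ht, ← map_kk, h.c34 a t ht, map_one]
        c35 := fun a b => by rw [k3, k5, k4 _ (ft a b), ← map_kk, h.c35]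
        c36 := fun a t ht => by rw [k3, k6 t ht, ← map_kk, h.c36 a t ht, map_one]
        c45 := fun t a ht => by rw [k4 t ht, k5, ← map_kk, h.c45 t a ht, map_one]
        c46 := fun t u ht hu => by rw [k4 t ht, k6 u hu, ← map_kk, h.c46 t u ht hu, map_one]
        c56 := fun a t ht => by rw [k5, k6 t ht, ← map_kk, h.c56 a t ht, map_one] }
  · intro h
    have ft : ∀ a b, σ (trc σ a b) = trc σ a b := trc_fix h.cube
    have fN : ∀ a, σ (nrm σ a) = nrm σ a := nrm_fix h.cube
    refine
      { cube := h.cube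
        add1 := fun a b => hf (by rw [map_mul, ← k1, ← k1, ← k1, h.add1])
        add2 := fun a b ha hb => hf (by rw [map_mul, ← k2 _ (fa ha hb), ← k2 a ha, ← k2 b hb, h.add2 a b ha hb])
        add3 := fun a b => hf (by rw [map_mul, ← k3, ← k3, ← k3, h.add3])
        add4 := fun a b ha hb => hf (by rw [map_mul, ← k4 _ (fa ha hb), ← k4 a ha, ← k4 b hb, h.add4 a b ha hb])
        add5 := fun a b => hf (by rw [map_mul, ← k5, ← k5, ← k5, h.add5])
        add6 := fun a b ha hb => hf (by rw [map_mul, ← k6 _ (fa ha hb), ← k6 a ha, ← k6 b hb, h.add6 a b ha hb])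
        c12 := fun a t ht => hf (by rw [one, map_kk, ← k1, ← k2 t ht, h.c12 a t ht])
        c13 := fun a b => hf (by rw [map_kk, ← k1, ← k3, ← k2 _ (ft a b), h.c13])
        c14 := fun a t ht => hf (by rw [one, map_kk, ← k1, ← k4 t ht, h.c14 a t ht])
        c15 := fun a b => hf (by
          rw [map_kk, map_mul, map_mul, ← k1, ← k5, ← k2 _ (fn (ft _ _)), ← k3, ← k4 _ (ft _ _), h.c15])
        c16 := fun a t ht => hf (by
          rw [map_kk, map_mul, map_mul, map_mul, ← k1, ← k6 t ht, ← k2 _ (fn (fm ht (fN a))), ← k3,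
            ← k4 _ (fm (fp ht) (fN a)), ← k5, h.c16 a t ht])
        c23 := fun t a ht => hf (by rw [one, map_kk, ← k2 t ht, ← k3, h.c23 t a ht])
        c24 := fun t u ht hu => hf (by rw [one, map_kk, ← k2 t ht, ← k4 u hu, h.c24 t u ht hu])
        c25 := fun t a ht => hf (by rw [one, map_kk, ← k2 t ht, ← k5, h.c25 t a ht])
        c26 := fun t u ht hu => hf (by rw [map_kk, ← k2 t ht, ← k6 u hu, ← k4 _ (fm ht hu), h.c26 t u ht hu])
        c34 := fun a t ht => hf (by rw [one, map_kk, ← k3, ← k4 t ht, h.c34 a t ht])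
        c35 := fun a b => hf (by rw [map_kk, ← k3, ← k5, ← k4 _ (ft a b), h.c35])
        c36 := fun a t ht => hf (by rw [one, map_kk, ← k3, ← k6 t ht, h.c36 a t ht])
        c45 := fun t a ht => hf (by rw [one, map_kk, ← k4 t ht, ← k5, h.c45 t a ht])
        c46 := fun t u ht hu => hf (by rw [one, map_kk, ← k4 t ht, ← k6 u hu, h.c46 t u ht hu])
        c56 := fun a t ht => hf (by rw [one, map_kk, ← k5, ← k6 t ht, h.c56 a t ht]) }

/-- **Transport.** -/
theorem hexTwo_iff : HexTwo σ x ↔ HexTwo σ x' := by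
  have hS : ∀ (S : Set (ZMod 12)),
      Subgroup.closure {y : Γ' | ∃ k ∈ S, ∃ a, Ok σ k a ∧ y = x' k a} =
        (Subgroup.closure {y : Γ | ∃ k ∈ S, ∃ a, Ok σ k a ∧ y = x k a}).map f := fun S => map_gens f hx S
  have n1 := map_nn (σ := σ) f hx 1
  have n6 := map_nn (σ := σ) f hx 6
  have ch1 : ∀ (h3 : ∀ a, σ (σ (σ a)) = a) (t : E) (j : ZMod 12) (a : E), Ok σ j a → Ok σ j (chS σ (j - 1) t * a) := by
    intro h3 t j a ha
    have := ok_ch h3 (1 : ZMod 12) (j - 1) (ok_odd (k := (1 : ZMod 12)) (σ := σ) (by decide) t)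
    rw [add_sub_cancel] at this
    exact Ok.mul this ha
  have ch6 : ∀ (h3 : ∀ a, σ (σ (σ a)) = a) (t : E), σ t = t → ∀ (j : ZMod 12) (a : E), Ok σ j a →
      Ok σ j (chL (j - 6) t * a) := by
    intro h3 t ht j a ha
    have := ok_ch h3 (6 : ZMod 12) (j - 6) (ok_of_fix (k := (6 : ZMod 12)) (σ := σ) ht)
    rw [add_sub_cancel] at this
    exact Ok.mul this ha
  constructor
  · intro h
    refine
      { two := h.two
        rel := (hexRel_iff f hx hf).mp h.rel
        add := fun k a b ha hb => by rw [hx k _ (ha.add hb), hx k a ha, hx k b hb, h.add k a b ha hb, map_mul]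
        inj := fun k a ha e => h.inj k a ha (hf (by rw [← hx k a ha, e, map_one]))
        refl1 := fun j a ha => by
          rw [n1, hx j a ha, hx (8 - j) a (ha.congr (val_8_sub j)), ← h.refl1 j a ha, map_mul, map_mul, map_inv]
        refl6 := fun j a ha => by
          rw [n6, hx j a ha, hx (6 - j) a (ha.congr (val_6_sub j)), ← h.refl6 j a ha, map_mul, map_mul, map_inv]
        tor1 := fun t ht j a ha => by
          rw [map_hh f hx (ok_odd (k := (1 : ZMod 12)) (by decide) t), hx j a ha, hx j _ (ch1 h.cube t j a ha),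
            ← h.tor1 t ht j a ha, map_mul, map_mul, map_inv]
        tor6 := fun t ht ht' j a ha => by
          rw [map_hh f hx (ok_of_fix (6 : ZMod 12) ht'), hx j a ha, hx j _ (ch6 h.cube t ht' j a ha),
            ← h.tor6 t ht ht' j a ha, map_mul, map_mul, map_inv]
        opp := fun g h1 h2 => by
          rw [hS] at h1 h2
          obtain ⟨g1, hg1, e1⟩ := h1
          obtain ⟨g2, hg2, e2⟩ := h2
          have : g1 = g2 := hf (e1.trans e2.symm)
          subst this
          rw [← e1, h.opp g1 hg1 hg2, map_one] }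
  · intro h
    refine
      { two := h.two
        rel := (hexRel_iff f hx hf).mpr h.rel
        add := fun k a b ha hb => hf (by
          rw [map_mul, ← hx k _ (ha.add hb), ← hx k a ha, ← hx k b hb, h.add k a b ha hb])
        inj := fun k a ha e => h.inj k a ha (by rw [hx k a ha, e, map_one])
        refl1 := fun j a ha => hf (by
          rw [map_mul, map_mul, map_inv, ← n1, ← hx j a ha, ← hx (8 - j) a (ha.congr (val_8_sub j)), ← h.refl1 j a ha])
        refl6 := fun j a ha => hf (by
          rw [map_mul, map_mul, map_inv, ← n6, ← hx j a ha, ← hx (6 - j) a (ha.congr (val_6_sub j)), ← h.refl6 j a ha])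
        tor1 := fun t ht j a ha => hf (by
          rw [map_mul, map_mul, map_inv, ← map_hh f hx (ok_odd (k := (1 : ZMod 12)) (by decide) t), ← hx j a ha,
            ← hx j _ (ch1 h.rel.cube t j a ha), ← h.tor1 t ht j a ha])
        tor6 := fun t ht ht' j a ha => hf (by
          rw [map_mul, map_mul, map_inv, ← map_hh f hx (ok_of_fix (6 : ZMod 12) ht'), ← hx j a ha,
            ← hx j _ (ch6 h.rel.cube t ht' j a ha), ← h.tor6 t ht ht' j a ha])
        opp := fun g h1 h2 => hf (by
          rw [map_one]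
          exact h.opp (f g) (by rw [hS]; exact ⟨g, h1, rfl⟩) (by rw [hS]; exact ⟨g, h2, rfl⟩)) }

end Cfsg.Agent.TriTwo.Transport
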