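import Cfsg.Agent.TriTwo.AFacts
import Cfsg.Agent.TriTwo.Transport

/-!
# S1778, type `³D₄(2)`, piece [B]: the environment `Env` in `X = N_G(O) / O`

`C : Conf L A t`, `A = ⟨root groups⟩` for `h : HexTwo σ x`, `|E| = 8`.
-/

set_option autoImplicit false
set_option linter.unusedSectionVars false

namespace Cfsg.Agent.TriTwo.Bridge

open Cfsg Subgroup Cfsg.Agent.SignalizersComponents Cfsg.Agent.StdEven.Syl Cfsg.Agent.StdEven.Loc
open Cfsg.Agent.StdEven.CoreQuot Cfsg.Agent.StdL2.Setup Cfsg.Agent.StdRank2.Hex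
open Cfsg.Agent.StdRank2.Hex.HexTwo (AA)
open scoped commutatorElement

section Conj

variable {G : Type*} [Group G] [Finite G] {L A : Subgroup G} {t : G}

/-- Conjugating `T` by an element of `A`. -/
theorem isT_conj {T : Subgroup G} (hT : IsT A t T) (htA : t ∈ centralizer (A : Set G)) {n : G} (hn : n ∈ A) :
    IsT A t (T.map (MulAut.conj n).toMonoidHom) := by
  have hnt : t * n = n * t := comm_of_centralizer htA hn
  refine ⟨hT.syl.conj (le_normalizer (le_normalizer hn)), ?_, ?_, ?_⟩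
  · refine ⟨t, hT.mem, ?_⟩
    show n * t * n⁻¹ = t
    rw [← hnt, mul_inv_cancel_right]
  · rintro _ ⟨y, hy, rfl⟩
    show n * y * n⁻¹ * t = t * (n * y * n⁻¹)
    have h1 : n⁻¹ * t = t * n⁻¹ := by
      rw [inv_mul_eq_iff_eq_mul, ← mul_assoc, ← hnt, mul_inv_cancel_right]
    calc n * y * n⁻¹ * t = n * y * (n⁻¹ * t) := by group
      _ = n * (y * t) * n⁻¹ := by rw [h1]; group
      _ = (n * t) * y * n⁻¹ := by rw [hT.cent y hy]; group
      _ = t * (n * y * n⁻¹) := by rw [← hnt]; group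
  · intro r hr hrK hrr
    rw [mem_map_conj] at hr
    have h1 : n⁻¹ * r * n = r := by
      rw [mul_assoc, comm_of_centralizer hrK hn, inv_mul_cancel_left]
    rw [h1] at hr
    exact hT.uniq r hr hrK hrr

theorem exists_T (C : Conf L A t) {U : Subgroup G} (hU : IsSyl U A) : ∃ T, IsT A t T ∧ T ⊓ A = U := by
  obtain ⟨T, hT⟩ := exists_isT C.std C.ht C.htA C.cyc
  obtain ⟨n, hn, hc⟩ := hU.exists_conj hT.sylA.two inf_le_right
  have hT' := isT_conj hT C.htA hn
  refine ⟨_, hT', ?_⟩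
  refine (hT'.sylA.max U hU.two hU.le ?_).symm
  intro y hy
  obtain ⟨hy1, hyA⟩ := mem_inf.mp hy
  obtain ⟨z, hz, rfl⟩ := hy1
  have hzA : z ∈ A := by
    have h1 : n⁻¹ * (n * z * n⁻¹) * n ∈ A := mul_mem (mul_mem (inv_mem hn) hyA) hn
    have h2 : n⁻¹ * (n * z * n⁻¹) * n = z := by group
    rwa [h2] at h1
  exact hc z (mem_inf.mpr ⟨hz, hzA⟩)

end Conj

variable {E : Type*} [Field E] {σ : E ≃+* E} {G : Type*} [Group G] {x : ZMod 12 → E → G}

open Classical in
/-- The root elements in `X = N_G(O) / O`. -/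
noncomputable def xX (A : Subgroup G) (t : G) (x : ZMod 12 → E → G) : ZMod 12 → E → XQ A t := fun k a =>
  if hk : x k a ∈ NO A t then pr A t ⟨x k a, hk⟩ else 1

theorem xX_eq {A : Subgroup G} {t : G} {k : ZMod 12} {a : E} (hk : x k a ∈ NO A t) :
    xX A t x k a = pr A t ⟨x k a, hk⟩ := dif_pos hk

section Center

variable (h : HexTwo σ x) (hc : Nat.card E = 8) (hf : ∀ a, σ a = a → a = 0 ∨ a = 1)
include h hc hf

/-- `Z(A) = 1` -/
theorem center_AA {a : G} (ha : a ∈ AA σ x) (hcomm : ∀ b ∈ AA σ x, a * b = b * a) : a = 1 := by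
  rcases AFacts.center_Us h hc hf (u := a) (by
    have h1 := AFacts.cent_Q1 h hc hf ha fun q hq => hcomm q ((SecBase.Q1_le_Us.trans AFacts.Us_AA) hq)
    have h2 : Zs σ x ≤ Us σ x := by rw [Zs_eq, Us_eq]; exact gl_mono (by decide)
    exact h2 h1) (fun v hv => hcomm v (AFacts.Us_AA hv)) with h1 | h1
  · exact h1
  · exfalso
    have h2 := hcomm (x 0 1) (AFacts.x_AA (ok_one σ _))
    have c04 : ⁅x 0 1, x 4 1⁆ = x 2 1 := by
      have := h.commL4 (k := 0) (by decide) (map_one σ) (map_one σ)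
      rw [one_mul] at this
      exact this
    rw [h1] at h2
    have h3 : ⁅x 0 1, x 4 1⁆ = 1 := commutatorElement_eq_one_iff_mul_comm.mpr h2.symm
    rw [c04] at h3
    exact one_ne_zero (h.inj 2 1 (ok_one σ _) h3)

end Center

section Hyp

variable [Finite G] {t : G} {T : Subgroup G} (h : HexTwo σ x) (hc : Nat.card E = 8)
  (hf : ∀ a, σ a = a → a = 0 ∨ a = 1) (H : Hyp (AA σ x) t T)
include h hc hf H

open Classical in
/-- The image of `⟨x k⟩` and the transport of the root system. -/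
theorem exists_hex : HexTwo σ (xX (AA σ x) t x) ∧
    ∀ S : Set (ZMod 12), im (AA σ x) t (gens σ x S) = gens σ (xX (AA σ x) t x) S := by
  let f : ↥(AA σ x) →* XQ (AA σ x) t := (pr (AA σ x) t).comp (Subgroup.inclusion H.A_le)
  have hfi : Function.Injective f := by
    rw [injective_iff_map_eq_one]
    intro a ha
    have h1 : (a : G) ∈ core (AA σ x) t := pr_eq_one.mp ha
    have h2 := (H.mem_core_iff_center a.2).mp h1
    apply Subtype.ext
    exact center_AA h hc hf a.2 fun b hb => (congrArg Subtype.val (mem_center_iff.mp h2 ⟨b, hb⟩)).symm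
  let x'' : ZMod 12 → E → ↥(AA σ x) := fun k a => if hk : x k a ∈ AA σ x then ⟨x k a, hk⟩ else 1
  have hx'' : ∀ k a, Ok σ k a → x k a = (AA σ x).subtype (x'' k a) := by
    intro k a ha
    show x k a = ((if hk : x k a ∈ AA σ x then ⟨x k a, hk⟩ else 1 : ↥(AA σ x)) : G)
    rw [dif_pos (AFacts.x_AA ha)]
  have hx' : ∀ k a, Ok σ k a → xX (AA σ x) t x k a = f (x'' k a) := by
    intro k a ha
    rw [xX_eq (H.A_le (AFacts.x_AA ha))]
    show pr (AA σ x) t ⟨x k a, _⟩ = pr (AA σ x) t (Subgroup.inclusion H.A_le (x'' k a))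
    congr 1
    exact Subtype.ext (hx'' k a ha)
  refine ⟨(Transport.hexTwo_iff f hx' hfi).mp ((Transport.hexTwo_iff (AA σ x).subtype hx''
    Subtype.val_injective).mpr h), fun S => ?_⟩
  rw [Transport.map_gens f hx' S, Transport.map_gens (AA σ x).subtype hx'' S]
  apply le_antisymm
  · intro y hy
    obtain ⟨n, ⟨a, ha, hn⟩, rfl⟩ := mem_im.mp hy
    refine ⟨a, ha, ?_⟩
    show pr (AA σ x) t (Subgroup.inclusion H.A_le a) = pr (AA σ x) t n
    congr 1
    exact Subtype.ext hn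
  · rintro _ ⟨a, ha, rfl⟩
    exact pr_mem_im (Y := (gens σ x'' S).map (AA σ x).subtype) (n := ⟨(a : G), H.A_le a.2⟩) ⟨a, ha, rfl⟩

end Hyp

section Main

variable [Finite G] {L A : Subgroup G} {t : G} (C : Conf L A t) (hZ : Odd (Nat.card (center ↥A)))
  (h : HexTwo σ x) (hA : A = AA σ x) (hc : Nat.card E = 8) (hf : ∀ a, σ a = a → a = 0 ∨ a = 1)
include C hZ h hA hc hf

theorem exists_hyp (hrec : IsSyl (Us σ x) L → Nat.card L ≤ Nat.card A) :
    ∃ T, ∃ _ : Hyp A t T, T ⊓ A = Us σ x ∧ ¬ IsSyl T ⊤ ∧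
      ∃ g ∈ normalizer (T : Set G), (∃ k : ℕ, g ^ 2 ^ k = 1) ∧ g * t * g⁻¹ = t * x 4 1 ∧ g * x 4 1 * g⁻¹ = x 4 1 := by
  subst hA
  obtain ⟨T, hT, hTA⟩ := exists_T C (AFacts.isSyl_Us h hc hf)
  have hI := AFacts.inner h hc hf hT.syl.two hT.norm hTA
  have hin := AFacts.into h hc hf hTA
  have hns := Start.not_syl C hZ hT hI hin (by rw [hTA]; exact hrec)
  have hz4 : x 4 1 ∈ T ⊓ AA σ x := by rw [hTA, Us_eq]; exact mem_gl (by decide) (ok_one σ _)
  obtain ⟨hR, g, hg, hg2, hgt, hgz⟩ := Start.exists_mover C hZ hT hI (z := x 4 1) hz4.1 hz4.2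
    (h.x_sq (ok_one σ _)) (by rw [hTA]; exact AFacts.z4_mem_comm h)
    (fun v hv hvA => SecOne.z4_comm h (SecBase.Us_le_P1 (by rw [← hTA]; exact mem_inf.mpr ⟨hv, hvA⟩)))
    (fun e => one_ne_zero (h.inj 4 1 (ok_one σ _) e))
    (fun u hu huA hv => AFacts.center_Us h hc hf (by rw [← hTA]; exact mem_inf.mpr ⟨hu, huA⟩) (fun v hv' => by
      rw [← hTA] at hv'
      exact hv v hv'.1 hv'.2)) hns
  exact ⟨T, ⟨C.std, C.ht, C.htA, hZ, hT, hR⟩, hTA, hns, g, hg, hg2, hgt, hgz⟩

end Main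

section EnvSec

variable [Finite G] {t : G} {T : Subgroup G} (h : HexTwo σ x) (hc : Nat.card E = 8)
  (hf : ∀ a, σ a = a → a = 0 ∨ a = 1) (H : Hyp (AA σ x) t T) (hTA : T ⊓ AA σ x = Us σ x)
include h hc hf H hTA

theorem T_cases {y : G} (hy : y ∈ T) : y ∈ Us σ x ∨ t * y ∈ Us σ x := by
  obtain ⟨a, ha, hay⟩ := AFacts.inner h hc hf H.isT.syl.two H.isT.norm hTA y hy
  obtain ⟨u, hu, huA, r, hr, hrK, rfl⟩ := H.isT.exists_of_inner hy ha hay
  have hU : u ∈ Us σ x := by rw [← hTA]; exact mem_inf.mpr ⟨hu, huA⟩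
  rcases H.R r hr hrK with e | e
  · left; rw [e, mul_one]; exact hU
  · right
    have : t * (u * t) = u := by rw [← mul_assoc, comm_of_centralizer H.htA huA, mul_assoc, H.tt, mul_one]
    rw [e, this]; exact hU

/-- Facts on `C_G(t)`. -/
theorem base : Flat.Base (AA σ x) t T where
  tt := H.tt
  comm := fun _ ha => (comm_of_centralizer H.htA ha).symm
  norm := fun _ hy => H.mem_normalizer hy
  syl := H.isT.syl_cent H.std H.ht H.htA
  mem := fun _ hy => (T_cases h hc hf H hTA hy).imp (fun h => AFacts.Us_AA h) (fun h => AFacts.Us_AA h)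

/-- Facts on `C_X(t)`. -/
theorem baseX : Flat.Base (AA σ (xX (AA σ x) t x)) H.tX (im (AA σ x) t T) := by
  obtain ⟨-, hS⟩ := exists_hex h hc hf H
  have hAA : im (AA σ x) t (AA σ x) = AA σ (xX (AA σ x) t x) := hS Set.univ
  refine ⟨H.tX_sq, fun a ha => H.im_A_comm (by rw [hAA]; exact ha), fun y hy => ?_, H.syl_im, fun y hy => ?_⟩
  · apply mem_normalizer_of_conj_le
    intro a ha
    rw [← hAA] at ha ⊢
    exact H.conj_mem_im hy ha
  · obtain ⟨n, hn, rfl⟩ := mem_im.mp hy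
    rw [← hAA]
    rcases T_cases h hc hf H hTA hn with h1 | h1
    · exact Or.inl (pr_mem_im (AFacts.Us_AA h1))
    · right
      rw [H.tX_eq, ← map_mul]
      exact pr_mem_im (n := ⟨t, H.t_mem⟩ * n) (AFacts.Us_AA h1)

/-- An element moving `t` to `t z₄` and centralising `z₄` is in `N_G(O)` and normalises `P₁`. -/
theorem mover_mem {g : G} (hgt : g * t * g⁻¹ = t * x 4 1) (hgz : g * x 4 1 * g⁻¹ = x 4 1) :
    g ∈ NO (AA σ x) t ∧ g ∈ normalizer (P1 σ x : Set G) := by
  have F := AFacts.frame h hc hf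
  have B := base h hc hf H hTA
  obtain ⟨M, hM1, htM, hM2, hM3, hM4⟩ := F.exists_M B
  have hgM := hM4 g hgt hgz
  constructor
  · refine H.normalizer_le_of_core (Y := M) (fun o ho y hy => ?_) (fun y hy hyo => ?_) hgM
    · have hoA := H.core_le ho
      have hot := H.comm_t ho
      rcases hM2 y hy with h1 | h1
      · exact comm_of_centralizer hoA (F.P1_A h1)
      · have h2 := comm_of_centralizer hoA (F.P1_A h1)
        have h3 : t * (o * y) = t * (y * o) := by
          calc t * (o * y) = (t * o) * y := by group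
            _ = (o * t) * y := by rw [hot]
            _ = o * (t * y) := by group
            _ = t * y * o := h2
            _ = t * (y * o) := by group
        exact mul_left_cancel h3
    · refine H.mem_core.mpr ⟨?_, hy t htM, hyo⟩
      rw [mem_centralizer_iff]
      intro a ha
      exact (F.odd1 (H.mem_normalizer (hy t htM)) hyo (fun q hq => hy q (hM1 (F.U_P1 (F.Q1_U hq)))) a ha).symm
  · rw [hM3]
    apply mem_normalizer_of_conj_le
    intro y hy
    have h1 : (MulAut.conj g).toMonoidHom y ∈ ⁅M, M⁆.map (MulAut.conj g).toMonoidHom := ⟨y, hy, rfl⟩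
    rw [Subgroup.map_commutator] at h1
    have h2 : M.map (MulAut.conj g).toMonoidHom ≤ M := by
      rintro _ ⟨m, hm, rfl⟩
      exact conj_mem_of_mem_normalizer hgM hm
    exact Subgroup.commutator_mono h2 h2 h1

/-- **The environment.** -/
theorem env {g : G} (hgt : g * t * g⁻¹ = t * x 4 1) (hgz : g * x 4 1 * g⁻¹ = x 4 1) :
    Env σ (xX (AA σ x) t x) H.tX := by
  obtain ⟨h', hS⟩ := exists_hex h hc hf H
  have hAA : im (AA σ x) t (AA σ x) = AA σ (xX (AA σ x) t x) := hS Set.univ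
  have F' := AFacts.frame h' hc hf
  have B' := baseX h hc hf H hTA
  have hcent : ∀ y, y * H.tX = H.tX * y → (∀ a ∈ AA σ (xX (AA σ x) t x), y * a = a * y) → y = 1 ∨ y = H.tX := by
    intro y hy hyA
    exact H.eq_of_cent hy (by rw [hAA]; exact hyA)
  obtain ⟨hgN, hgP⟩ := mover_mem h hc hf H hTA hgt hgz
  have hx4 : x 4 1 ∈ NO (AA σ x) t := H.A_le (AFacts.x_AA (ok_one σ _))
  have e4 : xX (AA σ x) t x 4 1 = pr (AA σ x) t ⟨x 4 1, hx4⟩ := xX_eq hx4
  refine
    { hex := h'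
      card := hc
      fix := hf
      tt := H.tX_sq
      tx := fun k a ha => (B'.comm _ (AFacts.x_AA ha)).symm
      syl := fun P hP hPt htP hUP g hg => F'.mem_U B' (AFacts.isSyl_Us h' hc hf) hP hPt htP hUP hg
      c0 := fun c hct hq => (F'.cent2 B' hcent hct hq).imp (fun h1 => AFacts.cent_Q2 h' hc hf h1.1 h1.2)
        (fun h1 => AFacts.cent_Q2 h' hc hf h1.1 h1.2)
      c1 := fun c hct hq => (F'.cent1 B' hcent hct hq).imp (fun h1 => AFacts.cent_Q1 h' hc hf h1.1 h1.2)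
        (fun h1 => AFacts.cent_Q1 h' hc hf h1.1 h1.2)
      c2 := fun c hct hcz hm => F'.two_mem_P1 B' hct hcz hm.choose_spec
      inp := ⟨pr (AA σ x) t ⟨g, hgN⟩, ?_, ?_, ?_⟩
      pf := pfacts h' hc hf }
  · rw [e4, H.tX_eq, ← map_inv, ← map_mul, ← map_mul, ← map_mul]
    congr 1
    exact Subtype.ext hgt
  · rw [e4, ← map_mul, ← map_mul]
    congr 1
    refine Subtype.ext ?_
    show g * x 4 1 = x 4 1 * g
    rw [← mul_inv_eq_iff_eq_mul]; exact hgz
  · have hP : P1 σ (xX (AA σ x) t x) = im (AA σ x) t (P1 σ x) := (hS _).symm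
    intro p
    rw [hP]
    have := mem_normalizer_iff.mp (H.pr_mem_normalizer (g := ⟨g, hgN⟩) hgP) p
    exact this.symm

end EnvSec

end Cfsg.Agent.TriTwo.Bridge
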