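import Mathlib
import Cfsg.Agent.StdRank2.HexBN
import Cfsg.Agent.HexGrow.Defs
import Cfsg.Agent.HexGrow.Tools

/-!
# S1778, types `G₂(q)`, `³D₄(q)`: the grown root groups lie in every normal subgroup containing `A`

`V_le` : `V r ≤ N` for all `r`; `UU_le` : `Ŝ ≤ N`.
Odd `r` : `V 1 = [V 1, h]`, `h` a torus element without fixed points; even `r` : `V 4 = [x 2 1, V 6] X 4`.
-/

set_option autoImplicit false
set_option linter.unusedSectionVars false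

namespace Cfsg.Agent.TriTwo.InL

open Cfsg.Agent.StdRank2.Hex Cfsg.Agent.SplitTwo Cfsg.Agent.StdRank2.Hex.HexTwo Cfsg.Agent.HexGrow.Defs
open scoped commutatorElement

variable {E : Type*} [Field E] {σ : E ≃+* E} {G : Type*} [Group G] {x : ZMod 12 → E → G} {t : G}
  {X V : ZMod 12 → Subgroup G}

theorem odd_idx : ∀ r : ZMod 12, r.val % 2 = 1 → ∃ k : ZMod 12, 2 * k + 6 - r = 1 := by decide
theorem even_idx : ∀ r : ZMod 12, r.val % 2 = 0 → ∃ k : ZMod 12, 2 * k + 6 - r = 4 := by decide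

/-- `V 1 ≤ N` -/
theorem V1_le [Finite E] [Finite G] (h : HexTwo σ x) (hE : ∃ s : E, s ≠ 0 ∧ s ≠ 1) (g : Grown t h.H X (nn x) V)
    (hX : ∀ r y, y ∈ X r ↔ ∃ a, Ok σ r a ∧ y = x r a) {N : Subgroup G} (hN : N.Normal) (hA : AA σ x ≤ N) : V 1 ≤ N := by
  obtain ⟨s, hs0, hs1⟩ := hE
  have hT : hh x 1 s ∈ h.H := h.hh1_mem_H hs0
  have hf : Fpf (hh x 1 s) (X 1) := by
    intro y hy e
    obtain ⟨a, ha, rfl⟩ := (hX 1 y).1 hy
    rw [h.tor 1 1 hs0 (ok1 s) ha, sub_self, ch_zero_right] at e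
    have e2 := (h.x_inj ((ok1 (s ^ 2)).mul ha) ha).1 e
    by_cases ha0 : a = 0
    · rw [ha0, h.x_zero]
    · exfalso
      have e3 : s ^ 2 = 1 := mul_right_cancel₀ ha0 (by rw [e2, one_mul])
      exact hs1 (h.sq_eq_one (by rw [← sq]; exact e3))
  have hfV := g.fpf _ hT 1 hf
  intro y hy
  obtain ⟨w, -, e⟩ := HexGrow.Tools.exists_of_fpf_nonab (A := V 1) (h := hh x 1 s) (fun a ha => g.TV _ hT 1 a ha) hfV y hy
  have hh1 : hh x 1 s ∈ N := hA (hh_mem_AA 1 (ok1 s))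
  rw [← e]
  have e2 : w⁻¹ * (hh x 1 s * w * (hh x 1 s)⁻¹) = (w⁻¹ * hh x 1 s * w⁻¹⁻¹) * (hh x 1 s)⁻¹ := by group
  rw [e2]
  exact mul_mem (hN.conj_mem _ hh1 _) (inv_mem hh1)

/-- `V 4 ≤ N` -/
theorem V4_le {T : Subgroup G} (h : HexTwo σ x) (htx : ∀ k a, Ok σ k a → t * x k a = x k a * t)
    (g : Grown t T X (nn x) V)
    (hX : ∀ r y, y ∈ X r ↔ ∃ a, Ok σ r a ∧ y = x r a) {N : Subgroup G} (hN : N.Normal) (hA : AA σ x ≤ N) : V 4 ≤ N := by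
  intro y hy
  obtain ⟨a, ha, ea⟩ := (hX 4 _).1 (g.br 4 y hy)
  have ha6 : Ok σ 6 a := ha.congr (by decide)
  obtain ⟨w, hw, ew⟩ := g.onto 6 (x 6 a) ((hX 6 _).2 ⟨a, ha6, rfl⟩)
  have m2 : x 2 1 ∈ N := hA (x_mem_AA (ok_one σ 2))
  have v2 : x 2 1 ∈ V 2 := g.le 2 ((hX 2 _).2 ⟨1, ok_one σ 2, rfl⟩)
  have v6 : x 6 a ∈ V 6 := g.le 6 ((hX 6 _).2 ⟨a, ha6, rfl⟩)
  have y4 : ⁅x 2 1, w⁆ ∈ V 4 := g.l4 2 (by unfold Ev; decide) _ v2 _ hw
  have yN : ⁅x 2 1, w⁆ ∈ N := by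
    have e : ⁅x 2 1, w⁆ = x 2 1 * (w * (x 2 1)⁻¹ * w⁻¹) := by rw [commutatorElement_def]; group
    rw [e]
    exact mul_mem m2 (hN.conj_mem _ (inv_mem m2) _)
  set y' := ⁅x 2 1, w⁆ with hy'
  have c46 : y' * x 6 a = x 6 a * y' := g.l2 4 (by unfold Ev; decide) _ y4 _ v6
  have c26 : ⁅x 2 1, x 6 a⁆ = x 4 a := by
    have := h.commL4 (k := 2) (by decide) (t := 1) (u := a) (map_one σ) (ha (by decide))
    rw [one_mul, show (2 : ZMod 12) + 4 = 6 from rfl, show (2 : ZMod 12) + 2 = 4 from rfl] at this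
    exact this
  have tw : t * w * t⁻¹ = x 6 a * w := by
    rw [← ew, commutatorElement_def]; group
  have t2 : t * x 2 1 * t⁻¹ = x 2 1 := by rw [htx 2 1 (ok_one σ 2), mul_inv_cancel_right]
  have ty' : t * y' * t⁻¹ = x 4 a * y' := by
    calc t * y' * t⁻¹ = ⁅t * x 2 1 * t⁻¹, t * w * t⁻¹⁆ := by
          rw [HexTwo.conj_comm]
      _ = ⁅x 2 1, x 6 a * w⁆ := by rw [t2, tw]
      _ = ⁅x 2 1, x 6 a⁆ * (x 6 a * y' * (x 6 a)⁻¹) := by
          rw [hy', commutatorElement_def, commutatorElement_def, commutatorElement_def]; group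
      _ = x 4 a * y' := by rw [c26, ← c46, mul_inv_cancel_right]
  have ty : t * y * t⁻¹ = x 4 a * y := by
    rw [← ea, commutatorElement_def]; group
  have e3 : t * (y'⁻¹ * y) * t⁻¹ = y'⁻¹ * y := by
    calc t * (y'⁻¹ * y) * t⁻¹ = (t * y' * t⁻¹)⁻¹ * (t * y * t⁻¹) := by group
      _ = y'⁻¹ * y := by rw [ty', ty]; group
  have e4 := g.fix 4 (y'⁻¹ * y) (mul_mem (inv_mem y4) hy) (mul_inv_eq_iff_eq_mul.1 e3).symm
  obtain ⟨b, hb, e5⟩ := (hX 4 _).1 e4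
  have e6 : y = y' * (y'⁻¹ * y) := by group
  rw [e6, e5]
  exact mul_mem yN (hA (x_mem_AA hb))

/-- **`V r ≤ N`.** -/
theorem V_le [Finite E] [Finite G] (h : HexTwo σ x) (hE : ∃ s : E, s ≠ 0 ∧ s ≠ 1)
    (htx : ∀ k a, Ok σ k a → t * x k a = x k a * t) (g : Grown t h.H X (nn x) V)
    (hX : ∀ r y, y ∈ X r ↔ ∃ a, Ok σ r a ∧ y = x r a) {N : Subgroup G} (hN : N.Normal) (hA : AA σ x ≤ N) (r : ZMod 12) :
    V r ≤ N := by
  have back : ∀ k : ZMod 12, V (2 * k + 6 - r) ≤ N → V r ≤ N := by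
    intro k hk y hy
    have h1 := hk (g.nV k r y hy)
    have h2 := hN.conj_mem _ h1 (nn x k)⁻¹
    have e : (nn x k)⁻¹ * (nn x k * y * (nn x k)⁻¹) * (nn x k)⁻¹⁻¹ = y := by group
    rwa [e] at h2
  rcases Nat.mod_two_eq_zero_or_one r.val with hr | hr
  · obtain ⟨k, hk⟩ := even_idx r hr
    refine back k ?_
    rw [hk]
    exact V4_le h htx g hX hN hA
  · obtain ⟨k, hk⟩ := odd_idx r hr
    refine back k ?_
    rw [hk]
    exact V1_le h hE g hX hN hA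

/-- **`Ŝ ≤ N`.** -/
theorem UU_le [Finite E] [Finite G] (h : HexTwo σ x) (hE : ∃ s : E, s ≠ 0 ∧ s ≠ 1)
    (htx : ∀ k a, Ok σ k a → t * x k a = x k a * t) (g : Grown t h.H X (nn x) V)
    (hX : ∀ r y, y ∈ X r ↔ ∃ a, Ok σ r a ∧ y = x r a) {N : Subgroup G} (hN : N.Normal) (hA : AA σ x ≤ N) (r : ZMod 12) :
    Cfsg.Agent.HexGrow.Defs.UU V r ≤ N := by
  have key := fun r => V_le h hE htx g hX hN hA r
  unfold Cfsg.Agent.HexGrow.Defs.UU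
  exact sup_le (sup_le (sup_le (sup_le (sup_le (key _) (key _)) (key _)) (key _)) (key _)) (key _)

end Cfsg.Agent.TriTwo.InL
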