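import Cfsg.Agent.TriTwo.SecRel

/-!
# S1778, type `³D₄(2)`, section 1

`exists_centralising`: a 2-element normalising `P₁` centralises `P₁` after multiplication by an element of `P₁`.
`exists_a`: piece [C1].
-/

set_option autoImplicit false
set_option linter.unusedSectionVars false

namespace Cfsg.Agent.TriTwo.SecOne

open Subgroup Cfsg.Agent.TriTwo Cfsg.Agent.StdRank2.Hex Cfsg.Agent.SplitTwo Cfsg.Agent.StdEven.Syl
open Cfsg.Agent.StdRank2.Hex.HexTwo (ok1 ok3 ok5)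
open Cfsg.Agent.TriTwo.SecBase Cfsg.Agent.TriTwo.SecRel
open scoped commutatorElement

variable {E : Type*} [Field E] {σ : E ≃+* E} {G : Type*} [Group G] {x : ZMod 12 → E → G} (h : HexTwo σ x)

include h

theorem ok_zero_or {k : ZMod 12} (hf : ∀ a, σ a = a → a = 0 ∨ a = 1) (hk : k.val % 2 = 0) {a : E} (ha : Ok σ k a) :
    a = 0 ∨ a = 1 := hf a (ha hk)

theorem mem_Zs_iff (hf : ∀ a, σ a = a → a = 0 ∨ a = 1) {g : G} : g ∈ Zs σ x ↔ g = 1 ∨ g = x 4 1 := by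
  have e : Zs σ x = rt h 4 := gens_single h 4
  rw [e]
  constructor
  · rintro ⟨a, ha, rfl⟩
    rcases hf a (ha (by decide)) with rfl | rfl
    · exact Or.inl (h.x_zero 4)
    · exact Or.inr rfl
  · rintro (rfl | rfl)
    · exact one_mem _
    · exact ⟨1, ok_one σ 4, rfl⟩

/-- `Z` is central in `P₁` -/
theorem z4_comm {p : G} (hp : p ∈ P1 σ x) : x 4 1 * p = p * x 4 1 := by
  rw [P1_eq] at hp
  refine gl_comm h (fun k hk a ha => cm h ?_ (ok_one σ 4) ha) hp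
  have : ∀ k ∈ ([1, 2, 3, 4, 5, 6, 7] : List (ZMod 12)), adj 4 k = true := by decide
  exact this k hk

theorem Zs_comm (hf : ∀ a, σ a = a → a = 0 ∨ a = 1) {z p : G} (hz : z ∈ Zs σ x) (hp : p ∈ P1 σ x) :
    z * p = p * z := by
  rcases (mem_Zs_iff h hf).mp hz with rfl | rfl
  · rw [one_mul, mul_one]
  · exact z4_comm h hp

theorem Q1_le_P1 : Q1 σ x ≤ P1 σ x := Q1_le_Us.trans Us_le_P1

/-- `[Q₁, Q₁] ≤ Z` -/
theorem comm_Q1 (hf : ∀ a, σ a = a → a = 0 ∨ a = 1) {p q : G} (hp : p ∈ Q1 σ x) (hq : q ∈ Q1 σ x) :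
    p * q * p⁻¹ * q⁻¹ ∈ Zs σ x := by
  have hZc : ∀ z ∈ Zs σ x, ∀ q ∈ Q1 σ x, q * z * q⁻¹ = z := fun z hz q hq => by
    rw [← Zs_comm h hf hz (Q1_le_P1 h hq), mul_inv_cancel_right]
  -- first for a root element on the left
  have key : ∀ k ∈ ([2, 3, 4, 5, 6] : List (ZMod 12)), ∀ a, Ok σ k a → ∀ q ∈ Q1 σ x,
      x k a * q * (x k a)⁻¹ * q⁻¹ ∈ Zs σ x := by
    intro k hk a ha
    have hxk : x k a ∈ Q1 σ x := by rw [Q1_eq]; exact mem_gl hk ha
    let K : Subgroup G :=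
      { carrier := {q | q ∈ Q1 σ x ∧ x k a * q * (x k a)⁻¹ * q⁻¹ ∈ Zs σ x}
        mul_mem' := by
          rintro q r ⟨hq, hq'⟩ ⟨hr, hr'⟩
          refine ⟨mul_mem hq hr, ?_⟩
          have e : x k a * (q * r) * (x k a)⁻¹ * (q * r)⁻¹ =
              (x k a * q * (x k a)⁻¹ * q⁻¹) * (q * (x k a * r * (x k a)⁻¹ * r⁻¹) * q⁻¹) := by group
          rw [e, hZc _ hr' q hq]
          exact mul_mem hq' hr'
        one_mem' := ⟨one_mem _, by simp⟩
        inv_mem' := by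
          rintro q ⟨hq, hq'⟩
          refine ⟨inv_mem hq, ?_⟩
          have e : x k a * q⁻¹ * (x k a)⁻¹ * q⁻¹⁻¹ = q⁻¹ * (x k a * q * (x k a)⁻¹ * q⁻¹)⁻¹ * q⁻¹⁻¹ := by group
          rw [e, hZc _ (inv_mem hq') _ (inv_mem hq)]
          exact inv_mem hq' }
    have hle : Q1 σ x ≤ K := by
      rw [Q1_eq]
      refine gens_le fun l hl b hb => ?_
      refine ⟨by rw [Q1_eq]; exact mem_gl hl hb, ?_⟩
      have h1 := comm_betw h (k := k) (j := l) ha hb (by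
        have : ∀ k ∈ ([2, 3, 4, 5, 6] : List (ZMod 12)), ∀ l ∈ ([2, 3, 4, 5, 6] : List (ZMod 12)), l ≠ k + 6 := by
          decide
        exact this k hk l hl)
      rw [commutatorElement_def] at h1
      rw [Zs_eq]
      refine gl_mono ?_ h1
      have : ∀ k ∈ ([2, 3, 4, 5, 6] : List (ZMod 12)), ∀ l ∈ ([2, 3, 4, 5, 6] : List (ZMod 12)),
          ∀ i ∈ betw k l, i ∈ ([4] : List (ZMod 12)) := by decide
      exact this k hk l hl
    intro q hq
    exact (hle hq).2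
  let K : Subgroup G :=
    { carrier := {p | p ∈ Q1 σ x ∧ p * q * p⁻¹ * q⁻¹ ∈ Zs σ x}
      mul_mem' := by
        rintro p r ⟨hp, hp'⟩ ⟨hr, hr'⟩
        refine ⟨mul_mem hp hr, ?_⟩
        have e : p * r * q * (p * r)⁻¹ * q⁻¹ = (p * (r * q * r⁻¹ * q⁻¹) * p⁻¹) * (p * q * p⁻¹ * q⁻¹) := by group
        rw [e, hZc _ hr' p hp]
        exact mul_mem hr' hp'
      one_mem' := ⟨one_mem _, by simp⟩
      inv_mem' := by
        rintro p ⟨hp, hp'⟩
        refine ⟨inv_mem hp, ?_⟩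
        have e : p⁻¹ * q * p⁻¹⁻¹ * q⁻¹ = p⁻¹ * (p * q * p⁻¹ * q⁻¹)⁻¹ * p⁻¹⁻¹ := by group
        rw [e, hZc _ (inv_mem hp') _ (inv_mem hp)]
        exact inv_mem hp' }
  have hle : Q1 σ x ≤ K := by
    conv_lhs => rw [Q1_eq]
    refine gens_le fun l hl b hb => ?_
    exact ⟨by rw [Q1_eq]; exact mem_gl hl hb, key l hl b hb q hq⟩
  exact (hle hp).2

/-- the elements of `Q₁` on which `y` acts trivially modulo `Z` -/
def Kz (hf : ∀ a, σ a = a → a = 0 ∨ a = 1) (y : G) : Subgroup G where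
  carrier := {g | g ∈ Q1 σ x ∧ y * g * y⁻¹ * g⁻¹ ∈ Zs σ x}
  mul_mem' := by
    rintro g r ⟨hg, hg'⟩ ⟨hr, hr'⟩
    refine ⟨mul_mem hg hr, ?_⟩
    have e : y * (g * r) * y⁻¹ * (g * r)⁻¹ = (y * g * y⁻¹ * g⁻¹) * (g * (y * r * y⁻¹ * r⁻¹) * g⁻¹) := by group
    rw [e, ← Zs_comm h hf hr' (Q1_le_P1 h hg), mul_inv_cancel_right]
    exact mul_mem hg' hr'
  one_mem' := ⟨one_mem _, by simp⟩
  inv_mem' := by
    rintro g ⟨hg, hg'⟩
    refine ⟨inv_mem hg, ?_⟩
    have e : y * g⁻¹ * y⁻¹ * g⁻¹⁻¹ = g⁻¹ * (y * g * y⁻¹ * g⁻¹)⁻¹ * g⁻¹⁻¹ := by group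
    rw [e, ← Zs_comm h hf (inv_mem hg') (Q1_le_P1 h (inv_mem hg)), mul_inv_cancel_right]
    exact inv_mem hg'

theorem mem_Kz (hf : ∀ a, σ a = a → a = 0 ∨ a = 1) {y g : G} :
    g ∈ Kz h hf y ↔ g ∈ Q1 σ x ∧ y * g * y⁻¹ * g⁻¹ ∈ Zs σ x := Iff.rfl

variable {y : G} (hc : Nat.card E = 8) (hf : ∀ a, σ a = a → a = 0 ∨ a = 1)

/-- invariance of `Kz` under `x₁(b)` -/
theorem Kz_conj (hR : ∀ a, R σ x y a a) {g : G} (hg : g ∈ Kz h hf y) (b : E) :
    x 1 b * g * (x 1 b)⁻¹ ∈ Kz h hf y := by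
  obtain ⟨hg1, hg2⟩ := hg
  obtain ⟨q, hq, e⟩ := hR b
  refine ⟨conj_mem_of_mem_normalizer (x1_norm_Q1 h b) hg1, ?_⟩
  set z := y * g * y⁻¹ * g⁻¹ with hz
  have h1 : y * g * y⁻¹ = z * g := by rw [hz]; group
  have h2 := comm_Q1 h hf hq hg1
  set w := q * g * q⁻¹ * g⁻¹ with hw
  have h3 : q * g * q⁻¹ = w * g := by rw [hw]; group
  have hzq : q * z * q⁻¹ = z := by
    rw [← Zs_comm h hf hg2 (Q1_le_P1 h hq), mul_inv_cancel_right]
  have hx1 : x 1 b ∈ P1 σ x := by rw [P1_eq]; exact mem_gl (by decide) (ok1 b)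
  have e1 : y * (x 1 b * g * (x 1 b)⁻¹) * y⁻¹ * (x 1 b * g * (x 1 b)⁻¹)⁻¹ = z * w := by
    calc y * (x 1 b * g * (x 1 b)⁻¹) * y⁻¹ * (x 1 b * g * (x 1 b)⁻¹)⁻¹ =
          (y * x 1 b * y⁻¹) * (y * g * y⁻¹) * (y * x 1 b * y⁻¹)⁻¹ * (x 1 b * g * (x 1 b)⁻¹)⁻¹ := by group
      _ = (x 1 b * q) * (z * g) * (x 1 b * q)⁻¹ * (x 1 b * g * (x 1 b)⁻¹)⁻¹ := by rw [e, h1]
      _ = x 1 b * ((q * z * q⁻¹) * (q * g * q⁻¹)) * g⁻¹ * (x 1 b)⁻¹ := by group
      _ = x 1 b * (z * w) * (x 1 b)⁻¹ := by rw [hzq, h3]; group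
      _ = z * w := by
        rw [← Zs_comm h hf (mul_mem hg2 h2) hx1, mul_inv_cancel_right]
  rw [e1]
  exact mul_mem hg2 h2

include hc hf

theorem exists_tau_comm {η : E} (h0 : η ≠ 0) (h1 : η ≠ 1) (a : E) :
    (∃ b, x 3 a = tau x η * x 3 b * (tau x η)⁻¹ * (x 3 b)⁻¹) ∧
      ∃ b, x 5 a = tau x η * x 5 b * (tau x η)⁻¹ * (x 5 b)⁻¹ := by
  have hη1 : η + 1 ≠ 0 := by
    intro e
    apply h1
    have := eq_neg_of_add_eq_zero_left e
    rwa [h.neg_eq] at this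
  have hη2 : η⁻¹ + 1 ≠ 0 := by
    intro e
    apply h1
    have := eq_neg_of_add_eq_zero_left e
    rw [h.neg_eq] at this
    exact inv_eq_one.mp this
  constructor
  · refine ⟨(η⁻¹ + 1)⁻¹ * a, ?_⟩
    rw [tau3 h hc hf h0, h.x_inv (ok3 _), ← h.add 3 _ _ (ok3 _) (ok3 _)]
    congr 1
    calc a = (η⁻¹ + 1) * (η⁻¹ + 1)⁻¹ * a := by rw [mul_inv_cancel₀ hη2, one_mul]
      _ = _ := by ring
  · refine ⟨(η + 1)⁻¹ * a, ?_⟩
    rw [tau5 h hc hf h0, h.x_inv (ok5 _), ← h.add 5 _ _ (ok5 _) (ok5 _)]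
    congr 1
    calc a = (η + 1) * (η + 1)⁻¹ * a := by rw [mul_inv_cancel₀ hη1, one_mul]
      _ = _ := by ring

omit hc in
theorem x_mem_Q1 {k : ZMod 12} (hk : k ∈ ([2, 3, 4, 5, 6] : List (ZMod 12))) {a : E} (ha : Ok σ k a) :
    x k a ∈ Q1 σ x := by rw [Q1_eq]; exact mem_gl hk ha

/-- `Kz` is invariant under the torus -/
theorem Kz_tau {η : E} (h0 : η ≠ 0) (hcomm : y * tau x η = tau x η * y) {g : G} (hg : g ∈ Kz h hf y) :
    tau x η * g * (tau x η)⁻¹ ∈ Kz h hf y := by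
  obtain ⟨hg1, hg2⟩ := hg
  refine ⟨conj_mem_of_mem_normalizer (tau_norm_Q1 h hc hf h0) hg1, ?_⟩
  have e : y * (tau x η * g * (tau x η)⁻¹) * y⁻¹ * (tau x η * g * (tau x η)⁻¹)⁻¹ =
      tau x η * (y * g * y⁻¹ * g⁻¹) * (tau x η)⁻¹ := by
    have h1 : y * tau x η * y⁻¹ = tau x η := by rw [hcomm, mul_inv_cancel_right]
    calc y * (tau x η * g * (tau x η)⁻¹) * y⁻¹ * (tau x η * g * (tau x η)⁻¹)⁻¹ =
          (y * tau x η * y⁻¹) * (y * g * y⁻¹) * (y * tau x η * y⁻¹)⁻¹ * (tau x η * g * (tau x η)⁻¹)⁻¹ := by group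
      _ = _ := by rw [h1]; group
  rw [e, ← Zs_comm h hf hg2 (tau_mem_P1 η), mul_inv_cancel_right]
  exact hg2

theorem Kz_tau_pow {η : E} (h0 : η ≠ 0) (hcomm : y * tau x η = tau x η * y) {g : G} (hg : g ∈ Kz h hf y) (n : ℕ) :
    tau x (η ^ n) * g * (tau x (η ^ n))⁻¹ ∈ Kz h hf y := by
  induction n with
  | zero => rw [pow_zero, tau_one h]; simpa using hg
  | succ n ih =>
    have h1 := Kz_tau h hc hf h0 hcomm ih
    rw [pow_succ', tau_mul h hc hf h0 (pow_ne_zero _ h0)]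
    have e : tau x η * tau x (η ^ n) * g * (tau x η * tau x (η ^ n))⁻¹ =
        tau x η * (tau x (η ^ n) * g * (tau x (η ^ n))⁻¹) * (tau x η)⁻¹ := by group
    rw [e]; exact h1

/-- **Step G.**  If `y` fixes `z₆` modulo `Z`, it acts trivially on `Q₁ / Z`. -/
theorem Kz_eq (hR : ∀ a, R σ x y a a) (hy4 : y * x 4 1 = x 4 1 * y) {η : E} (h0 : η ≠ 0) (h1 : η ≠ 1)
    (htr : tr σ η = 0) (htr' : tr σ η⁻¹ = 1) (hcomm : y * tau x η = tau x η * y) (h6 : x 6 1 ∈ Kz h hf y) :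
    Q1 σ x ≤ Kz h hf y := by
  have h2 := h.two
  have o : ∀ k : ZMod 12, Ok σ k 1 := fun k => ok_one σ k
  have hs1 : shp σ (1 : E) = 1 := shp_one
  have hn1 : nrm σ (1 : E) = 1 := nrm_one
  -- `g1 = x₂x₃x₄x₅`
  have g1 : x 2 1 * x 3 1 * x 4 1 * x 5 1 ∈ Kz h hf y := by
    have h3 := mul_mem (Kz_conj h hf hR h6 1) (inv_mem h6)
    have h4 : x 1 1 * x 6 1 * (x 1 1)⁻¹ * (x 6 1)⁻¹ = x 2 1 * x 3 1 * x 4 1 * x 5 1 := by
      have := h.commS5 (k := 1) (by decide) (1 : E) (map_one σ)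
      rw [commutatorElement_def] at this
      rw [show (6 : ZMod 12) = 1 + 5 by decide, this, hs1, hn1]
      simp only [mul_one, one_pow]
      rfl
    rwa [h4] at h3
  -- commutation
  have c2 : x 1 η * x 2 1 = x 2 1 * x 1 η := cm h (by decide) (ok1 η) (o 2)
  have c4 : x 1 η * x 4 1 = x 4 1 * x 1 η := cm h (by decide) (ok1 η) (o 4)
  have c3 : x 1 η * x 3 1 = x 3 1 * x 1 η := by
    have := h.commS2 (k := 1) (by decide) η 1
    rw [trc_eq, mul_one, htr, h.x_zero] at this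
    exact commutatorElement_eq_one_iff_mul_comm.mp this
  have c5 : x 1 η * x 5 1 * (x 1 η)⁻¹ = x 2 1 * x 3 η * x 5 1 := by
    have e1 := h.commS4 (k := 1) (by decide) η 1
    have e2 : crs σ η 1 = η := by
      have : crs σ η 1 = tr σ η - η := by
        unfold crs tr
        rw [map_one, map_one]; ring
      rw [this, htr, zero_sub, h.neg_eq]
    rw [trc_eq, trc_eq, shp_eq hf h.cube, hs1, mul_one, mul_one, htr, htr', h.x_zero, mul_one, e2,
      commutatorElement_def] at e1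
    calc x 1 η * x 5 1 * (x 1 η)⁻¹ = (x 1 η * x (1 + 4) 1 * (x 1 η)⁻¹ * (x (1 + 4) 1)⁻¹) * x (1 + 4) 1 := by
          rw [show (1 : ZMod 12) + 4 = 5 by decide]; group
      _ = _ := by rw [e1]; rfl
  have a23 : Commute (x 2 1) (x 3 1) := cm h (by decide) (o 2) (o 3)
  have a23' : Commute (x 2 1) (x 3 η) := cm h (by decide) (o 2) (ok3 η)
  have a33 : Commute (x 3 1) (x 3 η) := cm h (by decide) (o 3) (ok3 η)
  have a24 : Commute (x 2 1) (x 4 1) := cm h (by decide) (o 2) (o 4)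
  have a34 : Commute (x 3 1) (x 4 1) := cm h (by decide) (o 3) (o 4)
  have a34' : Commute (x 3 η) (x 4 1) := cm h (by decide) (ok3 η) (o 4)
  -- `g3 = x₂ x₃(η)`
  have g3 : x 2 1 * x 3 η ∈ Kz h hf y := by
    have h3 := mul_mem (Kz_conj h hf hR g1 η) (inv_mem g1)
    have h4 : x 1 η * (x 2 1 * x 3 1 * x 4 1 * x 5 1) * (x 1 η)⁻¹ * (x 2 1 * x 3 1 * x 4 1 * x 5 1)⁻¹ =
        x 2 1 * x 3 η := by
      have k2 : x 1 η * x 2 1 * (x 1 η)⁻¹ = x 2 1 := by rw [c2, mul_inv_cancel_right]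
      have k3 : x 1 η * x 3 1 * (x 1 η)⁻¹ = x 3 1 := by rw [c3, mul_inv_cancel_right]
      have k4 : x 1 η * x 4 1 * (x 1 η)⁻¹ = x 4 1 := by rw [c4, mul_inv_cancel_right]
      calc x 1 η * (x 2 1 * x 3 1 * x 4 1 * x 5 1) * (x 1 η)⁻¹ * (x 2 1 * x 3 1 * x 4 1 * x 5 1)⁻¹ =
            (x 1 η * x 2 1 * (x 1 η)⁻¹) * (x 1 η * x 3 1 * (x 1 η)⁻¹) * (x 1 η * x 4 1 * (x 1 η)⁻¹) *
              (x 1 η * x 5 1 * (x 1 η)⁻¹) * (x 2 1 * x 3 1 * x 4 1 * x 5 1)⁻¹ := by group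
        _ = (x 2 1 * x 3 1 * x 4 1) * (x 2 1 * x 3 η) * (x 2 1 * x 3 1 * x 4 1)⁻¹ := by
          rw [k2, k3, k4, c5]; group
        _ = x 2 1 * x 3 η := by
          have hcm : Commute (x 2 1 * x 3 1 * x 4 1) (x 2 1 * x 3 η) :=
            (((Commute.refl _).mul_left a23.symm).mul_left a24.symm).mul_right
              ((a23'.mul_left a33).mul_left a34'.symm)
          rw [hcm.eq, mul_inv_cancel_right]
    rwa [h4] at h3
  -- `x₂(1)`
  have m2 : x 2 1 ∈ Kz h hf y := by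
    have h3 := mul_mem (Kz_conj h hf hR g3 η⁻¹) (inv_mem g3)
    have h4 : x 1 η⁻¹ * (x 2 1 * x 3 η) * (x 1 η⁻¹)⁻¹ * (x 2 1 * x 3 η)⁻¹ = x 2 1 := by
      have k2 : x 1 η⁻¹ * x 2 1 * (x 1 η⁻¹)⁻¹ = x 2 1 := by
        rw [cm h (k := 1) (l := 2) (by decide) (ok1 _) (o 2), mul_inv_cancel_right]
      have k3 : x 1 η⁻¹ * x 3 η * (x 1 η⁻¹)⁻¹ * (x 3 η)⁻¹ = x 2 1 := by
        have := h.commS2 (k := 1) (by decide) η⁻¹ η
        rw [trc_eq, inv_mul_cancel₀ h0, tr_one h2, commutatorElement_def] at this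
        exact this
      calc x 1 η⁻¹ * (x 2 1 * x 3 η) * (x 1 η⁻¹)⁻¹ * (x 2 1 * x 3 η)⁻¹ =
            (x 1 η⁻¹ * x 2 1 * (x 1 η⁻¹)⁻¹) * (x 1 η⁻¹ * x 3 η * (x 1 η⁻¹)⁻¹ * (x 3 η)⁻¹) * (x 2 1)⁻¹ := by group
        _ = x 2 1 := by rw [k2, k3, mul_inv_cancel_right]
    rwa [h4] at h3
  have m3 : x 3 η ∈ Kz h hf y := by
    have := mul_mem (inv_mem m2) g3
    rwa [inv_mul_cancel_left] at this
  have m3' : ∀ a, x 3 a ∈ Kz h hf y := by
    intro a
    by_cases ha : a = 0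
    · rw [ha, h.x_zero]; exact one_mem _
    · obtain ⟨n, hn⟩ := exists_pow hc h0 h1 (inv_ne_zero (mul_ne_zero ha (inv_ne_zero h0)))
      have h3 := Kz_tau_pow h hc hf h0 hcomm m3 n
      rw [← hn, tau3 h hc hf (inv_ne_zero (mul_ne_zero ha (inv_ne_zero h0))), inv_inv, mul_assoc,
        inv_mul_cancel₀ h0, mul_one] at h3
      exact h3
  have m4 : x 4 1 ∈ Kz h hf y := by
    refine ⟨x_mem_Q1 h hf (by decide) (o 4), ?_⟩
    rw [hy4, mul_inv_cancel_right, mul_inv_cancel]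
    exact one_mem _
  have m5 : x 5 1 ∈ Kz h hf y := by
    have := mul_mem (inv_mem (mul_mem (mul_mem m2 (m3' 1)) m4)) g1
    rwa [inv_mul_cancel_left] at this
  have m5' : ∀ a, x 5 a ∈ Kz h hf y := by
    intro a
    by_cases ha : a = 0
    · rw [ha, h.x_zero]; exact one_mem _
    · obtain ⟨n, hn⟩ := exists_pow hc h0 h1 ha
      have h3 := Kz_tau_pow h hc hf h0 hcomm m5 n
      rw [← hn, tau5 h hc hf ha, mul_one] at h3
      exact h3
  have ev : ∀ k : ZMod 12, k.val % 2 = 0 → x k 1 ∈ Kz h hf y → ∀ a, Ok σ k a → x k a ∈ Kz h hf y := by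
    intro k hk hm a ha
    rcases hf a (ha hk) with rfl | rfl
    · rw [h.x_zero]; exact one_mem _
    · exact hm
  rw [Q1_eq]
  refine gens_le fun k hk a ha => ?_
  have hk' : k = 2 ∨ k = 3 ∨ k = 4 ∨ k = 5 ∨ k = 6 := by simpa using hk
  rcases hk' with rfl | rfl | rfl | rfl | rfl
  · exact ev 2 (by decide) m2 a ha
  · exact m3' a
  · exact ev 4 (by decide) m4 a ha
  · exact m5' a
  · exact ev 6 (by decide) h6 a ha

/-- **Step F.** `y` fixes `z₆` modulo `Z`. -/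
theorem six_mem_Kz (hQ : y ∈ normalizer (Q1 σ x : Set G)) (hR : ∀ a, R σ x y a a)
    (hy4 : y * x 4 1 = x 4 1 * y) {η : E} (h0 : η ≠ 0) (h1 : η ≠ 1) (hcomm : y * tau x η = tau x η * y) :
    x 6 1 ∈ Kz h hf y := by
  have h2 := h.two
  have o : ∀ k : ZMod 12, Ok σ k 1 := fun k => ok_one σ k
  have hx6 : x 6 1 ∈ Q1 σ x := x_mem_Q1 h hf (by decide) (o 6)
  set g := y * x 6 1 * y⁻¹ with hg
  have hgQ : g ∈ Q1 σ x := conj_mem_of_mem_normalizer hQ hx6
  have hgg : g * g = 1 := by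
    calc g * g = y * (x 6 1 * x 6 1) * y⁻¹ := by rw [hg]; group
      _ = 1 := by rw [h.x_sq (o 6)]; group
  -- coordinates
  obtain ⟨b, -, g', hg', e1⟩ := split_gl h (k := 3) (L := [5, 2, 6, 4]) (by decide)
    (y := g) (by rw [Q1_eq] at hgQ; exact gl_mono (by decide) hgQ)
  obtain ⟨c, -, g'', hg'', e2⟩ := split_gl h (k := 5) (L := [2, 6, 4]) (by decide) hg'
  obtain ⟨α, hα, g3, hg3, e3⟩ := split_gl h (k := 2) (L := [6, 4]) (by decide) hg''
  obtain ⟨β, hβ, g4, hg4, e4⟩ := split_gl h (k := 6) (L := [4]) (by decide) hg3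
  have hg4' : g4 ∈ Zs σ x := by rw [Zs_eq]; exact hg4
  -- the torus commutes with `g` and with `g''`
  have ht6 : tau x η * x 6 1 = x 6 1 * tau x η := tau_even h hc hf h0 (by decide) (o 6)
  have htg : tau x η * g * (tau x η)⁻¹ = g := by
    rw [hg]
    calc tau x η * (y * x 6 1 * y⁻¹) * (tau x η)⁻¹ = (tau x η * y) * x 6 1 * (tau x η * y)⁻¹ := by group
      _ = y * (tau x η * x 6 1) * (y * tau x η)⁻¹ := by rw [← hcomm]; group
      _ = y * x 6 1 * y⁻¹ := by rw [ht6]; group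
  have htg'' : tau x η * g'' * (tau x η)⁻¹ = g'' := by
    have : tau x η * g'' = g'' * tau x η := by
      refine gl_comm h (fun k hk a ha => tau_even h hc hf h0 ?_ ha) hg''
      have : ∀ k ∈ ([2, 6, 4] : List (ZMod 12)), k.val % 2 = 0 := by decide
      exact this k hk
    rw [this, mul_inv_cancel_right]
  have e5 : x 3 (η⁻¹ * b) * x 5 (η * c) = x 3 b * x 5 c := by
    have e6 : g = x 3 b * x 5 c * g'' := by rw [e1, e2, mul_assoc]
    have e7 : tau x η * g * (tau x η)⁻¹ = x 3 (η⁻¹ * b) * x 5 (η * c) * g'' := by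
      rw [e6]
      calc tau x η * (x 3 b * x 5 c * g'') * (tau x η)⁻¹ =
            (tau x η * x 3 b * (tau x η)⁻¹) * (tau x η * x 5 c * (tau x η)⁻¹) *
              (tau x η * g'' * (tau x η)⁻¹) := by group
        _ = _ := by rw [tau3 h hc hf h0, tau5 h hc hf h0, htg'']
    rw [htg, e6] at e7
    exact (mul_right_cancel e7).symm
  have e8 : (x 3 b)⁻¹ * x 3 (η⁻¹ * b) = x 5 c * (x 5 (η * c))⁻¹ := by
    calc (x 3 b)⁻¹ * x 3 (η⁻¹ * b) = (x 3 b)⁻¹ * (x 3 (η⁻¹ * b) * x 5 (η * c)) * (x 5 (η * c))⁻¹ := by group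
      _ = _ := by rw [e5]; group
  have e9 : (x 3 b)⁻¹ * x 3 (η⁻¹ * b) = 1 := by
    refine disj_of_opps h (L := [3]) (M := [5]) (by decide)
      (mul_mem (inv_mem (mem_gl (by decide) (ok3 b))) (mem_gl (by decide) (ok3 _))) ?_
    rw [e8]
    exact mul_mem (mem_gl (by decide) (ok5 c)) (inv_mem (mem_gl (by decide) (ok5 _)))
  have hb : b = 0 := by
    have e10 := inv_mul_eq_one.mp e9
    have e11 := (h.x_inj (ok3 b) (ok3 _)).mp e10
    by_contra hb
    apply h1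
    have : η⁻¹ * b = 1 * b := by rw [one_mul]; exact e11.symm
    exact inv_eq_one.mp (mul_right_cancel₀ hb this)
  have hcz : c = 0 := by
    rw [e9] at e8
    have e10 := mul_inv_eq_one.mp e8.symm
    have e11 := (h.x_inj (ok5 c) (ok5 _)).mp e10
    by_contra hc0
    apply h1
    have : η * c = 1 * c := by rw [one_mul]; exact e11.symm
    exact mul_right_cancel₀ hc0 this
  have eg : g = x 2 α * (x 6 β * g4) := by
    rw [e1, e2, e3, e4, hb, hcz, h.x_zero, h.x_zero, one_mul, one_mul]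
  have hZc : ∀ p ∈ P1 σ x, g4 * p = p * g4 := fun p hp => Zs_comm h hf hg4' hp
  have hP : ∀ {k : ZMod 12}, k ∈ ([1, 2, 3, 4, 5, 6, 7] : List (ZMod 12)) → ∀ {a : E}, Ok σ k a → x k a ∈ P1 σ x := by
    intro k hk a ha
    rw [P1_eq]; exact mem_gl hk ha
  have hg44 : g4 * g4 = 1 := by
    rcases (mem_Zs_iff h hf).mp hg4' with h3 | h3
    · rw [h3, one_mul]
    · rw [h3, h.x_sq (o 4)]
  -- `β = 1`
  have hβ1 : β = 1 := by
    rcases hf β (hβ (by decide)) with h3 | h3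
    · exfalso
      rw [h3, h.x_zero, one_mul] at eg
      -- `g` commutes with `x₁(1)`
      have hgx : x 1 1 * g = g * x 1 1 := by
        rw [eg]
        calc x 1 1 * (x 2 α * g4) = (x 1 1 * x 2 α) * g4 := by group
          _ = x 2 α * (x 1 1 * g4) := by rw [cm h (k := 1) (l := 2) (by decide) (o 1) hα]; group
          _ = _ := by rw [← hZc _ (hP (by decide) (o 1))]; group
      obtain ⟨q, hq, eq1⟩ := hR 1
      have hw := comm_Q1 h hf hq hgQ
      set w := q * g * q⁻¹ * g⁻¹ with hwdef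
      have hwc : x 1 1 * w * (x 1 1)⁻¹ = w := by
        rw [← Zs_comm h hf hw (hP (by decide) (o 1)), mul_inv_cancel_right]
      have g1 : x 1 1 * x 6 1 * (x 1 1)⁻¹ * (x 6 1)⁻¹ = x 2 1 * x 3 1 * x 4 1 * x 5 1 := by
        have := h.commS5 (k := 1) (by decide) (1 : E) (map_one σ)
        rw [commutatorElement_def] at this
        rw [show (6 : ZMod 12) = 1 + 5 by decide, this, shp_one, nrm_one]
        simp only [mul_one, one_pow]
        rfl
      have e12 : y * (x 2 1 * x 3 1 * x 4 1 * x 5 1) * y⁻¹ = w := by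
        rw [← g1]
        calc y * (x 1 1 * x 6 1 * (x 1 1)⁻¹ * (x 6 1)⁻¹) * y⁻¹ =
              (y * x 1 1 * y⁻¹) * (y * x 6 1 * y⁻¹) * (y * x 1 1 * y⁻¹)⁻¹ * (y * x 6 1 * y⁻¹)⁻¹ := by group
          _ = (x 1 1 * q) * g * (x 1 1 * q)⁻¹ * g⁻¹ := by rw [eq1]
          _ = x 1 1 * (q * g * q⁻¹ * g⁻¹) * (g * (x 1 1)⁻¹ * g⁻¹) := by group
          _ = x 1 1 * w * (x 1 1)⁻¹ := by
            have : g * (x 1 1)⁻¹ * g⁻¹ = (x 1 1)⁻¹ := by
              have e13 : g * (x 1 1)⁻¹ = (x 1 1)⁻¹ * g := by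
                have hcc : Commute (x 1 1) g := hgx
                exact hcc.symm.inv_right.eq
              rw [e13, mul_inv_cancel_right]
            rw [this]
          _ = w := hwc
      have e14 : x 2 1 * x 3 1 * x 4 1 * x 5 1 ∈ Zs σ x := by
        have e15 : x 2 1 * x 3 1 * x 4 1 * x 5 1 = y⁻¹ * w * y := by rw [← e12]; group
        rw [e15]
        rcases (mem_Zs_iff h hf).mp hw with h3 | h3
        · rw [h3]; simp
        · rw [h3, mul_assoc, ← hy4, inv_mul_cancel_left]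
          exact (mem_Zs_iff h hf).mpr (Or.inr rfl)
      have e16 : x 5 1 ∈ gl σ x [2, 3, 4] := by
        have e17 : x 5 1 = (x 2 1 * x 3 1 * x 4 1)⁻¹ * (x 2 1 * x 3 1 * x 4 1 * x 5 1) := by group
        rw [e17]
        refine mul_mem (inv_mem (mul_mem (mul_mem (mem_gl (by decide) (o 2)) (mem_gl (by decide) (o 3)))
          (mem_gl (by decide) (o 4)))) ?_
        rw [Zs_eq] at e14
        exact gl_mono (by decide) e14
      have e18 : x 5 1 = 1 := disj_of_opps h (L := [2, 3, 4]) (M := [5]) (by decide) e16 (mem_gl (by decide) (o 5))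
      exact one_ne_zero (h.inj 5 1 (o 5) e18)
    · exact h3
  -- `α = 0`
  have hα0 : α = 0 := by
    rcases hf α (hα (by decide)) with h3 | h3
    · exact h3
    · exfalso
      rw [h3, hβ1] at eg
      have e12 : g * g = x 4 1 := by
        have e13 := h.commL4 (k := 2) (by decide) (map_one σ) (map_one σ)
        rw [commutatorElement_def, mul_one] at e13
        have e13' : x 2 1 * x 6 1 * x 2 1 * x 6 1 = x 4 1 := by
          have i2 := h.x_inv (o 2)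
          have i6 := h.x_inv (o 6)
          calc x 2 1 * x 6 1 * x 2 1 * x 6 1 = x 2 1 * x 6 1 * (x 2 1)⁻¹ * (x 6 1)⁻¹ := by rw [i2, i6]
            _ = x 4 1 := e13
        have c6 := hZc _ (hP (k := 6) (by decide) (o 6))
        have c2 := hZc _ (hP (k := 2) (by decide) (o 2))
        calc g * g = x 2 1 * x 6 1 * (g4 * x 2 1) * x 6 1 * g4 := by rw [eg]; group
          _ = x 2 1 * x 6 1 * x 2 1 * (g4 * x 6 1) * g4 := by rw [c2]; group
          _ = (x 2 1 * x 6 1 * x 2 1 * x 6 1) * (g4 * g4) := by rw [c6]; group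
          _ = x 4 1 := by rw [hg44, mul_one, e13']
      rw [hgg] at e12
      exact one_ne_zero (h.inj 4 1 (o 4) e12.symm)
  refine ⟨hx6, ?_⟩
  have e12 : y * x 6 1 * y⁻¹ * (x 6 1)⁻¹ = g4 := by
    rw [← hg, eg, hα0, hβ1, h.x_zero, one_mul, ← hZc _ (hP (by decide) (o 6)), mul_inv_cancel_right]
  rw [e12]
  exact hg4'

/-- a 2-element normalising `P₁`, `U` and the torus. -/
theorem exists_of_norm (pf : PFacts σ x) (hP : y ∈ normalizer (P1 σ x : Set G))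
    (hU : y ∈ normalizer (Us σ x : Set G)) {m : ℕ} (hy : y ^ 2 ^ m = 1)
    (hH : ∀ s : E, s ≠ 0 → ∃ r : E, r ≠ 0 ∧ y * tau x s * y⁻¹ = tau x r) :
    ∃ u ∈ Us σ x, ∀ p ∈ P1 σ x, u * y * p = p * (u * y) := by
  have h2 := h.two
  have o : ∀ k : ZMod 12, Ok σ k 1 := fun k => ok_one σ k
  have hQ := norm_Q1 h hP hU
  obtain ⟨η, h0, h1, htr, htr', hη⟩ := exists_eta h2 hc hf h.cube
  have hcomm := comm_tau h hc hf hP hU hy hH h0 hη
  have hR := R_self h hc hf hP hU hy h0 h1 hcomm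
  have hL4 : x 2 1 * x 6 1 * (x 2 1)⁻¹ * (x 6 1)⁻¹ = x 4 1 := by
    have e13 := h.commL4 (k := 2) (by decide) (map_one σ) (map_one σ)
    rw [commutatorElement_def, mul_one] at e13
    exact e13
  have hy4 : y * x 4 1 = x 4 1 * y := by
    have e1 : y * x 4 1 * y⁻¹ ∈ Zs σ x := by
      rw [← hL4]
      have e2 : y * (x 2 1 * x 6 1 * (x 2 1)⁻¹ * (x 6 1)⁻¹) * y⁻¹ =
          (y * x 2 1 * y⁻¹) * (y * x 6 1 * y⁻¹) * (y * x 2 1 * y⁻¹)⁻¹ * (y * x 6 1 * y⁻¹)⁻¹ := by group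
      rw [e2]
      exact comm_Q1 h hf (conj_mem_of_mem_normalizer hQ (x_mem_Q1 h hf (by decide) (o 2)))
        (conj_mem_of_mem_normalizer hQ (x_mem_Q1 h hf (by decide) (o 6)))
    rcases (mem_Zs_iff h hf).mp e1 with h3 | h3
    · exfalso
      have h4 : x 4 1 = 1 := by
        have : x 4 1 = y⁻¹ * (y * x 4 1 * y⁻¹) * y := by group
        rw [this, h3]; group
      exact one_ne_zero (h.inj 4 1 (o 4) h4)
    · rwa [mul_inv_eq_iff_eq_mul] at h3
  have h6 := six_mem_Kz h hc hf hQ hR hy4 h0 h1 hcomm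
  have hK := Kz_eq h hc hf hR hy4 h0 h1 htr htr' hcomm h6
  have hPx : ∀ {k : ZMod 12}, k ∈ ([1, 2, 3, 4, 5, 6, 7] : List (ZMod 12)) → ∀ {a : E}, Ok σ k a → x k a ∈ P1 σ x := by
    intro k hk a ha
    rw [P1_eq]; exact mem_gl hk ha
  -- `y` centralises `X₃`, `X₅`
  have key : ∀ g gb : G, gb ∈ Q1 σ x → g = tau x η * gb * (tau x η)⁻¹ * gb⁻¹ → y * g = g * y := by
    intro g gb hgb e
    have h3 := (hK hgb).2
    set z := y * gb * y⁻¹ * gb⁻¹ with hz
    have h4 : y * gb * y⁻¹ = z * gb := by rw [hz]; group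
    have h5 : y * tau x η * y⁻¹ = tau x η := by rw [hcomm, mul_inv_cancel_right]
    have h6 : y * g * y⁻¹ = g := by
      calc y * g * y⁻¹ = (y * tau x η * y⁻¹) * (y * gb * y⁻¹) * (y * tau x η * y⁻¹)⁻¹ * (y * gb * y⁻¹)⁻¹ := by
            rw [e]; group
        _ = (tau x η * z) * gb * (tau x η)⁻¹ * (z * gb)⁻¹ := by rw [h5, h4]; group
        _ = z * (tau x η * gb * (tau x η)⁻¹ * gb⁻¹) * z⁻¹ := by rw [← Zs_comm h hf h3 (tau_mem_P1 η)]; group
        _ = z * g * z⁻¹ := by rw [← e]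
        _ = g := by
          have hgP : g ∈ P1 σ x := by
            rw [e]
            exact mul_mem (mul_mem (mul_mem (tau_mem_P1 η) (Q1_le_P1 h hgb)) (inv_mem (tau_mem_P1 η)))
              (inv_mem (Q1_le_P1 h hgb))
          rw [Zs_comm h hf h3 hgP, mul_inv_cancel_right]
    rwa [mul_inv_eq_iff_eq_mul] at h6
  have y3 : ∀ a, y * x 3 a = x 3 a * y := by
    intro a
    obtain ⟨⟨b, hb⟩, -⟩ := exists_tau_comm h hc hf h0 h1 a
    exact key _ _ (x_mem_Q1 h hf (by decide) (ok3 b)) hb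
  have y5 : ∀ a, y * x 5 a = x 5 a * y := by
    intro a
    obtain ⟨-, ⟨b, hb⟩⟩ := exists_tau_comm h hc hf h0 h1 a
    exact key _ _ (x_mem_Q1 h hf (by decide) (ok5 b)) hb
  have h42 : x 4 1 * x 2 1 = x 2 1 * x 4 1 := cm h (by decide) (o 4) (o 2)
  have h46 : x 4 1 * x 6 1 = x 6 1 * x 4 1 := cm h (by decide) (o 4) (o 6)
  have h44 := h.x_sq (o 4)
  have h22 := h.x_sq (o 2)
  have h66 := h.x_sq (o 6)
  have i2 := h.x_inv (o 2)
  have i6 := h.x_inv (o 6)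
  have i4 := h.x_inv (o 4)
  have hL : x 6 1 * x 2 1 * (x 6 1)⁻¹ = x 4 1 * x 2 1 := by
    have e1 : x 6 1 * x 2 1 * (x 6 1)⁻¹ * (x 2 1)⁻¹ = (x 2 1 * x 6 1 * (x 2 1)⁻¹ * (x 6 1)⁻¹)⁻¹ := by group
    rw [hL4, i4] at e1
    rw [← e1]; group
  have hL' : x 2 1 * x 6 1 * (x 2 1)⁻¹ = x 4 1 * x 6 1 := by rw [← hL4]; group
  obtain ⟨u, hu, hu2, hu6, hu3, hu5, hu4⟩ : ∃ u ∈ Us σ x, u * y * x 2 1 = x 2 1 * (u * y) ∧
      u * y * x 6 1 = x 6 1 * (u * y) ∧ (∀ a, u * y * x 3 a = x 3 a * (u * y)) ∧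
      (∀ a, u * y * x 5 a = x 5 a * (u * y)) ∧ u * y * x 4 1 = x 4 1 * (u * y) := by
    have k2 := (hK (x_mem_Q1 h hf (by decide) (o 2))).2
    have k6 := h6.2
    have c23 : ∀ a, x 2 1 * x 3 a = x 3 a * x 2 1 := fun a => cm h (by decide) (o 2) (ok3 a)
    have c25 : ∀ a, x 2 1 * x 5 a = x 5 a * x 2 1 := fun a => cm h (by decide) (o 2) (ok5 a)
    have c63 : ∀ a, x 6 1 * x 3 a = x 3 a * x 6 1 := fun a => cm h (by decide) (o 6) (ok3 a)
    have c65 : ∀ a, x 6 1 * x 5 a = x 5 a * x 6 1 := fun a => cm h (by decide) (o 6) (ok5 a)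
    have hmul : ∀ u v g : G, u * g = g * u → v * g = g * v → u * v * g = g * (u * v) := fun u v g h1 h2 => by
      rw [mul_assoc, h2, ← mul_assoc, h1, mul_assoc]
    have mU : ∀ {k : ZMod 12}, k ∈ ([1, 2, 3, 4, 5, 6] : List (ZMod 12)) → ∀ {a : E}, Ok σ k a → x k a ∈ Us σ x := by
      intro k hk a ha
      rw [Us_eq]; exact mem_gl hk ha
    have m2 := mU (k := 2) (by decide) (o 2)
    have m6 := mU (k := 6) (by decide) (o 6)
    rcases (mem_Zs_iff h hf).mp k2 with e2 | e2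
    · have y2 : y * x 2 1 = x 2 1 * y := by
        rw [mul_inv_eq_one, mul_inv_eq_iff_eq_mul] at e2; exact e2
      rcases (mem_Zs_iff h hf).mp k6 with e6 | e6
      · have y6 : y * x 6 1 = x 6 1 * y := by
          rw [mul_inv_eq_one, mul_inv_eq_iff_eq_mul] at e6; exact e6
        exact ⟨1, one_mem _, by rw [one_mul]; exact y2, by rw [one_mul]; exact y6,
          fun a => by rw [one_mul]; exact y3 a, fun a => by rw [one_mul]; exact y5 a, by rw [one_mul]; exact hy4⟩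
      · refine ⟨x 2 1, m2, hmul _ _ _ rfl y2, ?_, fun a => hmul _ _ _ (c23 a) (y3 a),
          fun a => hmul _ _ _ (c25 a) (y5 a), hmul _ _ _ h42.symm hy4⟩
        have e7 : y * x 6 1 * y⁻¹ = x 4 1 * x 6 1 := by rw [← e6]; group
        have e8 : x 2 1 * y * x 6 1 * (x 2 1 * y)⁻¹ = x 6 1 := by
          calc x 2 1 * y * x 6 1 * (x 2 1 * y)⁻¹ = x 2 1 * (y * x 6 1 * y⁻¹) * (x 2 1)⁻¹ := by group
            _ = (x 2 1 * x 4 1) * x 6 1 * (x 2 1)⁻¹ := by rw [e7]; group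
            _ = x 4 1 * (x 2 1 * x 6 1 * (x 2 1)⁻¹) := by rw [← h42]; group
            _ = (x 4 1 * x 4 1) * x 6 1 := by rw [hL']; group
            _ = x 6 1 := by rw [h44, one_mul]
        rwa [mul_inv_eq_iff_eq_mul] at e8
    · have e7 : y * x 2 1 * y⁻¹ = x 4 1 * x 2 1 := by rw [← e2]; group
      have e8 : x 6 1 * y * x 2 1 * (x 6 1 * y)⁻¹ = x 2 1 := by
        calc x 6 1 * y * x 2 1 * (x 6 1 * y)⁻¹ = x 6 1 * (y * x 2 1 * y⁻¹) * (x 6 1)⁻¹ := by group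
          _ = (x 6 1 * x 4 1) * x 2 1 * (x 6 1)⁻¹ := by rw [e7]; group
          _ = x 4 1 * (x 6 1 * x 2 1 * (x 6 1)⁻¹) := by rw [← h46]; group
          _ = (x 4 1 * x 4 1) * x 2 1 := by rw [hL]; group
          _ = x 2 1 := by rw [h44, one_mul]
      rw [mul_inv_eq_iff_eq_mul] at e8
      rcases (mem_Zs_iff h hf).mp k6 with e6 | e6
      · have y6 : y * x 6 1 = x 6 1 * y := by
          rw [mul_inv_eq_one, mul_inv_eq_iff_eq_mul] at e6; exact e6
        exact ⟨x 6 1, m6, e8, hmul _ _ _ rfl y6, fun a => hmul _ _ _ (c63 a) (y3 a),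
          fun a => hmul _ _ _ (c65 a) (y5 a), hmul _ _ _ h46.symm hy4⟩
      · refine ⟨x 2 1 * x 6 1, mul_mem m2 m6, ?_, ?_, fun a => ?_, fun a => ?_, ?_⟩
        · rw [mul_assoc (x 2 1) (x 6 1) y]
          exact hmul _ _ _ rfl e8
        · have e9 : y * x 6 1 * y⁻¹ = x 4 1 * x 6 1 := by rw [← e6]; group
          have e10 : x 2 1 * x 6 1 * y * x 6 1 * (x 2 1 * x 6 1 * y)⁻¹ = x 6 1 := by
            calc x 2 1 * x 6 1 * y * x 6 1 * (x 2 1 * x 6 1 * y)⁻¹ =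
                  x 2 1 * (x 6 1 * (y * x 6 1 * y⁻¹) * (x 6 1)⁻¹) * (x 2 1)⁻¹ := by group
              _ = x 2 1 * ((x 6 1 * x 4 1) * x 6 1 * (x 6 1)⁻¹) * (x 2 1)⁻¹ := by rw [e9]; group
              _ = (x 2 1 * x 4 1) * x 6 1 * (x 2 1)⁻¹ := by rw [← h46]; group
              _ = x 4 1 * (x 2 1 * x 6 1 * (x 2 1)⁻¹) := by rw [← h42]; group
              _ = (x 4 1 * x 4 1) * x 6 1 := by rw [hL']; group
              _ = x 6 1 := by rw [h44, one_mul]
          rwa [mul_inv_eq_iff_eq_mul] at e10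
        · exact hmul _ _ _ (hmul _ _ _ (c23 a) (c63 a)) (y3 a)
        · exact hmul _ _ _ (hmul _ _ _ (c25 a) (c65 a)) (y5 a)
        · exact hmul _ _ _ (hmul _ _ _ h42.symm h46.symm) hy4
  -- `w = u y` centralises `Q₁`
  set w := u * y with hw
  have hwQ : ∀ q ∈ Q1 σ x, w * q = q * w := by
    intro q hq
    rw [Q1_eq] at hq
    refine gl_comm h (fun k hk a ha => ?_) hq
    have hk' : k = 2 ∨ k = 3 ∨ k = 4 ∨ k = 5 ∨ k = 6 := by simpa using hk
    have ev : ∀ k : ZMod 12, k.val % 2 = 0 → w * x k 1 = x k 1 * w → ∀ a, Ok σ k a → w * x k a = x k a * w := by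
      intro k hk hm a ha
      rcases hf a (ha hk) with rfl | rfl
      · rw [h.x_zero, mul_one, one_mul]
      · exact hm
    rcases hk' with rfl | rfl | rfl | rfl | rfl
    · exact ev 2 (by decide) hu2 a ha
    · exact hu3 a
    · exact ev 4 (by decide) hu4 a ha
    · exact hu5 a
    · exact ev 6 (by decide) hu6 a ha
  have hwP : w ∈ normalizer (P1 σ x : Set G) := mul_mem (le_normalizer (Us_le_P1 hu)) hP
  have hcm : ∀ p ∈ P1 σ x, w * p * w⁻¹ * p⁻¹ ∈ Zs σ x := by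
    intro p hp
    apply pf.cent_Q1 _ (mul_mem (conj_mem_of_mem_normalizer hwP hp) (inv_mem hp))
    intro q hq
    have h3 : p⁻¹ * q * p ∈ Q1 σ x := conj_inv_mem_of_mem_normalizer (P1_norm_Q1 h hp) hq
    have h4 : w⁻¹ * q * w = q := by rw [mul_assoc, ← hwQ q hq, inv_mul_cancel_left]
    have h5 : (w * p * w⁻¹ * p⁻¹) * q * (w * p * w⁻¹ * p⁻¹)⁻¹ = q := by
      have h6 := hwQ _ h3
      have h7 : w⁻¹ * (p⁻¹ * q * p) * w = p⁻¹ * q * p := by rw [mul_assoc, ← h6, inv_mul_cancel_left]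
      calc (w * p * w⁻¹ * p⁻¹) * q * (w * p * w⁻¹ * p⁻¹)⁻¹ =
            w * (p * (w⁻¹ * (p⁻¹ * q * p) * w) * p⁻¹) * w⁻¹ := by group
        _ = w * q * w⁻¹ := by rw [h7]; group
        _ = q := by rw [hwQ q hq, mul_inv_cancel_right]
    rwa [mul_inv_eq_iff_eq_mul] at h5
  refine ⟨u, hu, ?_⟩
  -- `P₁` is perfect
  have hle : ⁅P1 σ x, P1 σ x⁆ ≤ centralizer ({w} : Set G) := by
    rw [Subgroup.commutator_le]
    intro p hp r hr
    rw [mem_centralizer_singleton_iff]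
    have hp' := hcm p hp
    have hr' := hcm r hr
    set z := w * p * w⁻¹ * p⁻¹ with hz
    set z' := w * r * w⁻¹ * r⁻¹ with hz'
    have e1 : w * p * w⁻¹ = z * p := by rw [hz]; group
    have e2 : w * r * w⁻¹ = z' * r := by rw [hz']; group
    have e3 : w * ⁅p, r⁆ * w⁻¹ = ⁅p, r⁆ := by
      rw [commutatorElement_def]
      have c1 : Commute z p := Zs_comm h hf hp' hp
      have c2 : Commute z r := Zs_comm h hf hp' hr
      have c3 : Commute z' p := Zs_comm h hf hr' hp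
      have c4 : Commute z' r := Zs_comm h hf hr' hr
      have c5 : Commute z z' := by
        rcases (mem_Zs_iff h hf).mp hr' with h3 | h3
        · rw [h3]; exact Commute.one_right _
        · rw [h3]; exact Zs_comm h hf hp' (hPx (by decide) (o 4))
      calc w * (p * r * p⁻¹ * r⁻¹) * w⁻¹ =
            (w * p * w⁻¹) * (w * r * w⁻¹) * (w * p * w⁻¹)⁻¹ * (w * r * w⁻¹)⁻¹ := by group
        _ = z * (p * (z' * r) * p⁻¹) * z⁻¹ * (z' * r)⁻¹ := by rw [e1, e2]; group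
        _ = z * (z' * (p * r * p⁻¹)) * z⁻¹ * (z' * r)⁻¹ := by
          have : p * (z' * r) * p⁻¹ = z' * (p * r * p⁻¹) := by
            rw [← mul_assoc p z' r, ← c3.eq]; group
          rw [this]
        _ = z' * (p * r * p⁻¹) * (z' * r)⁻¹ := by
          have c6 : Commute z (z' * (p * r * p⁻¹)) := c5.mul_right ((c1.mul_right c2).mul_right c1.inv_right)
          rw [c6.eq, mul_inv_cancel_right]
        _ = z' * (p * r * p⁻¹ * r⁻¹) * z'⁻¹ := by group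
        _ = p * r * p⁻¹ * r⁻¹ := by
          have c6 : Commute z' (p * r * p⁻¹ * r⁻¹) :=
            ((c3.mul_right c4).mul_right c3.inv_right).mul_right c4.inv_right
          rw [c6.eq, mul_inv_cancel_right]
    rw [mul_inv_eq_iff_eq_mul] at e3
    exact e3.symm
  intro p hp
  rw [← pf.perfect] at hp
  have := hle hp
  rw [mem_centralizer_singleton_iff] at this
  exact this.symm

omit h hc hf in
theorem isPGroup_zpowers {y : G} {m : ℕ} (hy : y ^ 2 ^ m = 1) : IsPGroup 2 (zpowers y) := by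
  rintro ⟨z, hz⟩
  obtain ⟨i, rfl⟩ := mem_zpowers_iff.mp hz
  refine ⟨m, Subtype.ext ?_⟩
  show (y ^ i) ^ 2 ^ m = 1
  rw [← zpow_natCast, ← zpow_mul, mul_comm, zpow_mul, zpow_natCast, hy, one_zpow]

/-- **A 2-element which normalises `P₁` centralises `P₁` after multiplication by an element of `P₁`.** -/
theorem exists_centralising [Finite G] (pf : PFacts σ x) (hP : y ∈ normalizer (P1 σ x : Set G)) {m : ℕ}
    (hy : y ^ 2 ^ m = 1) : ∃ p ∈ P1 σ x, ∀ q ∈ P1 σ x, p * y * q = q * (p * y) := by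
  have hyz := isPGroup_zpowers hy
  obtain ⟨S, hS, hyS⟩ := exists_isSyl (N := P1 σ x ⊔ zpowers y) hyz le_sup_right
  have hyS' : y ∈ S := hyS (mem_zpowers y)
  have hSP : IsSyl (S ⊓ P1 σ x) (P1 σ x) := hS.inf_normal le_sup_left
    (sup_le le_normalizer (by rw [zpowers_le]; exact hP))
  obtain ⟨p, hp, hpS⟩ := pf.sylow _ hSP.two inf_le_right
  have hUS : ∀ u ∈ Us σ x, p⁻¹ * u * p ∈ S ⊓ P1 σ x := by
    have h1 : (S ⊓ P1 σ x).map (MulAut.conj p).toMonoidHom = Us σ x := by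
      apply Subgroup.eq_of_le_of_card_ge
      · rintro _ ⟨s, hs, rfl⟩
        exact hpS s hs
      · calc Nat.card (Us σ x) ≤ Nat.card ↥(S ⊓ P1 σ x) := hSP.card_le pf.two Us_le_P1
          _ = _ := Nat.card_congr ((S ⊓ P1 σ x).equivMapOfInjective (MulAut.conj p).toMonoidHom
            (MulAut.conj p).injective).toEquiv
    intro u hu
    rw [← h1] at hu
    exact mem_map_conj.mp hu
  set y' := p * y * p⁻¹ with hy'
  have hyP' : y' ∈ normalizer (P1 σ x : Set G) :=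
    mul_mem (mul_mem (le_normalizer hp) hP) (inv_mem (le_normalizer hp))
  have hyU' : y' ∈ normalizer (Us σ x : Set G) := by
    apply mem_normalizer_of_conj_le
    intro u hu
    have h1 := hUS u hu
    have h2 : y * (p⁻¹ * u * p) * y⁻¹ ∈ S ⊓ P1 σ x :=
      mem_inf.mpr ⟨mul_mem (mul_mem hyS' h1.1) (inv_mem hyS'), conj_mem_of_mem_normalizer hP h1.2⟩
    have h3 := hpS _ h2
    have h4 : y' * u * y'⁻¹ = p * (y * (p⁻¹ * u * p) * y⁻¹) * p⁻¹ := by rw [hy']; group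
    rw [h4]; exact h3
  have hy2 : y' ^ 2 ^ m = 1 := by
    rw [hy', conj_pow, hy]; group
  obtain ⟨u, hu, huH⟩ := exists_norm_Ht h hc hf pf hyP' hyU'
  have hgrp : IsPGroup 2 ↥(zpowers y' ⊔ Us σ x) := IsPGroup.to_sup_of_normal_right' (isPGroup_zpowers hy2) pf.two
    (by rw [zpowers_le]; exact hyU')
  have hmem : u * y' ∈ zpowers y' ⊔ Us σ x :=
    mul_mem ((le_sup_right : Us σ x ≤ _) hu) ((le_sup_left : zpowers y' ≤ _) (mem_zpowers y'))
  obtain ⟨m', hm'⟩ := hgrp ⟨_, hmem⟩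
  have hm' : (u * y') ^ 2 ^ m' = 1 := congrArg Subtype.val hm'
  obtain ⟨u2, hu2, hu2c⟩ := exists_of_norm h hc hf (y := u * y') pf
    (mul_mem (le_normalizer (Us_le_P1 hu)) hyP') (mul_mem (le_normalizer hu) hyU') hm' huH
  refine ⟨p⁻¹ * (u2 * u) * p, mul_mem (mul_mem (inv_mem hp) (mul_mem (Us_le_P1 hu2) (Us_le_P1 hu))) hp, ?_⟩
  intro q hq
  have h1 := hu2c (p * q * p⁻¹) (mul_mem (mul_mem hp hq) (inv_mem hp))
  have h2 : p⁻¹ * (u2 * u) * p * y = p⁻¹ * (u2 * (u * y')) * p := by rw [hy']; group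
  rw [h2]
  calc p⁻¹ * (u2 * (u * y')) * p * q = p⁻¹ * (u2 * (u * y') * (p * q * p⁻¹)) * p := by group
    _ = p⁻¹ * (p * q * p⁻¹ * (u2 * (u * y'))) * p := by rw [h1]
    _ = q * (p⁻¹ * (u2 * (u * y')) * p) := by group

omit h hc hf in
/-- **[C1]** -/
theorem exists_a [Finite G] {t : G} (V : Env σ x t) : ∃ a : G, a * a = 1 ∧ (∀ p ∈ P1 σ x, a * p = p * a) ∧
    a * t * a⁻¹ = t * x 4 1 := by
  have h := V.hex
  have hc := V.card
  have hf := V.fix
  obtain ⟨n, hn1, hn2, hn3⟩ := V.inp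
  have hz4 : x 4 1 * x 4 1 = 1 := h.x_sq (ok_one σ 4)
  have htz : t * x 4 1 = x 4 1 * t := V.tx 4 1 (ok_one σ 4)
  have hz1 : x 4 1 ≠ 1 := fun e => one_ne_zero (h.inj 4 1 (ok_one σ 4) e)
  have hnP : n ∈ normalizer (P1 σ x : Set G) := by
    rw [mem_normalizer_iff]
    exact fun p => (hn3 p).symm
  -- powers of `n`
  have hpow : ∀ i : ℕ, n ^ i * t * (n ^ i)⁻¹ = t * x 4 1 ^ i := by
    intro i
    induction i with
    | zero => simp
    | succ i ih =>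
      have h1 : n * x 4 1 ^ i = x 4 1 ^ i * n := (Commute.pow_right (show Commute n (x 4 1) from hn2) i).eq
      calc n ^ (i + 1) * t * (n ^ (i + 1))⁻¹ = n * (n ^ i * t * (n ^ i)⁻¹) * n⁻¹ := by rw [pow_succ']; group
        _ = n * t * (x 4 1 ^ i * n⁻¹) := by rw [ih]; group
        _ = n * t * (n⁻¹ * x 4 1 ^ i) := by
          have h2 : x 4 1 ^ i * n⁻¹ = n⁻¹ * x 4 1 ^ i :=
            ((Commute.pow_right (show Commute n (x 4 1) from hn2) i).inv_left.eq).symm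
          rw [h2]
        _ = n * t * n⁻¹ * x 4 1 ^ i := by group
        _ = t * x 4 1 ^ (i + 1) := by rw [hn1, pow_succ']; group
  obtain ⟨i, j, hij, hi, k, hk⟩ := Cfsg.Agent.StdSz.Env.exists_decomp n
  -- the odd part commutes with `t`
  have hpar : ∀ i : ℕ, x 4 1 ^ i = 1 ∨ x 4 1 ^ i = x 4 1 := by
    intro i
    rcases Nat.even_or_odd i with ⟨r, hr⟩ | ⟨r, hr⟩
    · left
      rw [hr, ← two_mul, pow_mul, pow_two, hz4, one_pow]
    · right
      rw [hr, pow_succ, pow_mul, pow_two, hz4, one_pow, one_mul]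
  have hodd : x 4 1 ^ i = 1 := by
    rcases hpar i with h1 | h1
    · exact h1
    · exfalso
      -- `n ^ i` has odd order and maps `t` to `t z₄`
      have h2 := hpow i
      rw [h1] at h2
      have h3 : ∀ r : ℕ, (n ^ i) ^ r * t * ((n ^ i) ^ r)⁻¹ = t * x 4 1 ^ r := by
        intro r
        rw [← pow_mul, hpow, pow_mul, h1]
      have h4 := h3 (orderOf (n ^ i))
      rw [pow_orderOf_eq_one] at h4
      obtain ⟨r, hr⟩ := hi
      rw [hr, pow_succ, pow_mul, pow_two, hz4, one_pow, one_mul, one_mul, inv_one, mul_one] at h4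
      exact hz1 (by
        have : t * 1 = t * x 4 1 := by rw [mul_one]; exact h4
        exact (mul_left_cancel this).symm)
  have hz4j : x 4 1 ^ j = x 4 1 := by
    rcases hpar j with h1 | h1
    · exfalso
      have h2 := hn1
      rw [hij] at h2
      have h3 : n ^ i * n ^ j * t * (n ^ i * n ^ j)⁻¹ = n ^ i * (n ^ j * t * (n ^ j)⁻¹) * (n ^ i)⁻¹ := by group
      rw [h3, hpow j, h1, mul_one, hpow i, hodd, mul_one] at h2
      exact hz1 (by
        have : t * 1 = t * x 4 1 := by rw [mul_one]; exact h2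
        exact (mul_left_cancel this).symm)
    · exact h1
  obtain ⟨p, hp, hpc⟩ := exists_centralising h hc hf (y := n ^ j) V.pf (pow_mem hnP j) hk
  set a := p * n ^ j with ha
  have htP : ∀ p ∈ P1 σ x, t * p = p * t := by
    intro p hp
    rw [P1_eq] at hp
    exact gl_comm h (fun k _ b hb => V.tx k b hb) hp
  have hat : a * t * a⁻¹ = t * x 4 1 := by
    calc a * t * a⁻¹ = p * (n ^ j * t * (n ^ j)⁻¹) * p⁻¹ := by rw [ha]; group
      _ = (p * t) * x 4 1 * p⁻¹ := by rw [hpow j, hz4j]; group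
      _ = t * (p * x 4 1) * p⁻¹ := by rw [← htP p hp]; group
      _ = t * x 4 1 := by rw [← z4_comm h hp]; group
  have haz : a * x 4 1 = x 4 1 * a := hpc _ (by rw [P1_eq]; exact mem_gl (by decide) (ok_one σ 4))
  have ha2 : a * a * t = t * (a * a) := by
    have h1 : a * a * t * (a * a)⁻¹ = t := by
      calc a * a * t * (a * a)⁻¹ = a * (a * t * a⁻¹) * a⁻¹ := by group
        _ = a * t * (x 4 1 * a⁻¹) := by rw [hat]; group
        _ = a * t * (a⁻¹ * x 4 1) := by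
          have h2 : x 4 1 * a⁻¹ = a⁻¹ * x 4 1 := ((show Commute a (x 4 1) from haz).inv_left.eq).symm
          rw [h2]
        _ = a * t * a⁻¹ * x 4 1 := by group
        _ = t := by rw [hat, mul_assoc, hz4, mul_one]
    rwa [mul_inv_eq_iff_eq_mul] at h1
  have hne : a * t ≠ t * a := by
    intro h1
    have h2 : a * t * a⁻¹ = t := by rw [h1, mul_inv_cancel_right]
    rw [hat] at h2
    exact hz1 (mul_eq_left.mp h2)
  rcases V.c1 (a * a) ha2 (fun q hq => by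
    have h1 := hpc q (Q1_le_P1 h hq)
    rw [mul_assoc, h1, ← mul_assoc, h1, mul_assoc]) with h1 | h1
  · rcases (mem_Zs_iff h hf).mp h1 with h2 | h2
    · exact ⟨a, h2, hpc, hat⟩
    · refine ⟨a * t, ?_, fun q hq => ?_, ?_⟩
      · calc a * t * (a * t) = (a * t * a⁻¹) * (a * a) * t := by group
          _ = t * x 4 1 * x 4 1 * t := by rw [hat, h2]
          _ = t * (x 4 1 * x 4 1) * t := by group
          _ = 1 := by rw [hz4, mul_one, V.tt]
      · rw [mul_assoc, htP q hq, ← mul_assoc, hpc q hq, mul_assoc]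
      · calc a * t * t * (a * t)⁻¹ = a * (t * t * t⁻¹) * a⁻¹ := by group
          _ = t * x 4 1 := by rw [mul_inv_cancel_right, hat]
  · exfalso
    apply hne
    -- `a a = t` or `t z₄` would commute with `a`
    rcases (mem_Zs_iff h hf).mp h1 with h2 | h2
    · have h3 : a * a = t := by
        have : t * (t * (a * a)) = a * a := by rw [← mul_assoc, V.tt, one_mul]
        rw [← this, h2, mul_one]
      rw [← h3]
      exact (mul_assoc a a a).symm
    · have h3 : a * a = t * x 4 1 := by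
        have : t * (t * (a * a)) = a * a := by rw [← mul_assoc, V.tt, one_mul]
        rw [← this, h2]
      have h4 : a * (t * x 4 1) = t * x 4 1 * a := by rw [← h3]; exact (mul_assoc a a a).symm
      have h5 : a * t * x 4 1 = t * a * x 4 1 := by
        calc a * t * x 4 1 = a * (t * x 4 1) := by group
          _ = t * (x 4 1 * a) := by rw [h4]; group
          _ = t * a * x 4 1 := by rw [← haz]; group
      exact mul_right_cancel h5

end Cfsg.Agent.TriTwo.SecOne
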