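import Mathlib
import Cfsg.Agent.StdRank2.HexTwoRel
import Cfsg.Agent.StdRank2.HexTorus

/-!
# S1778, type `³D₄(2)`: the environment of the growth (`outputs/live/blueprints/S1778-3D4-q2.md`)

`x : ZMod 12 → E → G`, `|E| = 8`, root elements (HexTwo), `t` an involution commuting with all of them. Left conjugation
`g * y * g⁻¹`, `⁅g, y⁆ = g * y * g⁻¹ * y⁻¹`.
-/

set_option autoImplicit false

namespace Cfsg.Agent.TriTwo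

open Cfsg.Agent.StdRank2.Hex Cfsg.Agent.SplitTwo
open scoped commutatorElement

section Defs

variable {E : Type*} [Field E] (σ : E ≃+* E) {G : Type*} [Group G] (x : ZMod 12 → E → G)

/-- The subgroup generated by the root groups `x k`, `k ∈ S`. -/
def gens (S : Set (ZMod 12)) : Subgroup G :=
  Subgroup.closure {y : G | ∃ k ∈ S, ∃ a, Ok σ k a ∧ y = x k a}

/-- `Z = ⟨z₄⟩` -/
def Zs : Subgroup G := gens σ x {4}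
/-- `W = ⟨z₂, z₄⟩` -/
def Ws : Subgroup G := gens σ x {2, 4}
/-- `J₀ = U₂U₃U₄` -/
def Js : Subgroup G := gens σ x {2, 3, 4}
/-- `Q₁ = U₂⋯U₆ = 2^(1+8)` -/
def Q1 : Subgroup G := gens σ x {2, 3, 4, 5, 6}
/-- `Q₂ = U₁⋯U₅` -/
def Q2 : Subgroup G := gens σ x {1, 2, 3, 4, 5}
/-- `U = U₁⋯U₆` -/
def Us : Subgroup G := gens σ x {1, 2, 3, 4, 5, 6}
/-- `P₁ = ⟨U₁, …, U₇⟩ = C_A(z₄)` -/
def P1 : Subgroup G := gens σ x {1, 2, 3, 4, 5, 6, 7}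

/-- The torus element acting on `x k` by `s` (`k = 1, 5, 9`), `s⁻¹` (`k = 3, 7, 11`), `1` (`k` even). -/
def tau (s : E) : G := hh x 1 (s ^ 4)

end Defs

/-- Facts inside `P₁` (piece [A]); they follow from `HexTwo σ x`, `|E| = 8`. -/
structure PFacts {E : Type*} [Field E] (σ : E ≃+* E) {G : Type*} [Group G] (x : ZMod 12 → E → G) : Prop where
  /-- `P₁` is perfect -/
  perfect : ⁅P1 σ x, P1 σ x⁆ = P1 σ x
  /-- `U` is a Sylow `2`-subgroup of `P₁` -/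
  two : IsPGroup 2 (Us σ x)
  sylow : ∀ Q : Subgroup G, IsPGroup 2 Q → Q ≤ P1 σ x → ∃ p ∈ P1 σ x, ∀ y ∈ Q, p * y * p⁻¹ ∈ Us σ x
  /-- `N_{P₁}(U) = U H` -/
  borel : ∀ p ∈ P1 σ x, (∀ u ∈ Us σ x, p * u * p⁻¹ ∈ Us σ x) → ∃ u ∈ Us σ x, ∃ s : E, s ≠ 0 ∧ p = u * tau x s
  /-- `C_{P₁}(Q₁) = Z` -/
  cent_Q1 : ∀ p ∈ P1 σ x, (∀ q ∈ Q1 σ x, p * q = q * p) → p ∈ Zs σ x
  /-- an element of `P₁` which fixes the lines `z₂`, `z₆`, `z₆^{x₁(1)}` is in `Q₁` -/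
  three : ∀ p ∈ P1 σ x, ⁅p, x 2 1⁆ ∈ Zs σ x → ⁅p, x 6 1⁆ ∈ Zs σ x → ⁅p, x 1 1 * x 6 1 * x 1 1⁆ ∈ Zs σ x → p ∈ Q1 σ x

/-- The environment. -/
structure Env {E : Type*} [Field E] (σ : E ≃+* E) {G : Type*} [Group G] (x : ZMod 12 → E → G) (t : G) : Prop where
  hex : HexTwo σ x
  card : Nat.card E = 8
  fix : ∀ a, σ a = a → a = 0 ∨ a = 1
  tt : t * t = 1
  tx : ∀ k a, Ok σ k a → t * x k a = x k a * t
  /-- (T) `⟨t⟩U` is a Sylow `2`-subgroup of `C(t)` -/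
  syl : ∀ P : Subgroup G, IsPGroup 2 P → (∀ g ∈ P, g * t = t * g) → t ∈ P → Us σ x ≤ P →
    ∀ g ∈ P, g ∈ Us σ x ∨ t * g ∈ Us σ x
  /-- (C0) -/
  c0 : ∀ c : G, c * t = t * c → (∀ q ∈ Q2 σ x, c * q = q * c) → c ∈ Ws σ x ∨ t * c ∈ Ws σ x
  /-- (C1) -/
  c1 : ∀ c : G, c * t = t * c → (∀ q ∈ Q1 σ x, c * q = q * c) → c ∈ Zs σ x ∨ t * c ∈ Zs σ x
  /-- (C2) -/
  c2 : ∀ c : G, c * t = t * c → c * x 4 1 = x 4 1 * c → (∃ m : ℕ, c ^ 2 ^ m = 1) → c ∈ P1 σ x ∨ t * c ∈ P1 σ x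
  /-- (I) -/
  inp : ∃ n : G, n * t * n⁻¹ = t * x 4 1 ∧ n * x 4 1 = x 4 1 * n ∧ ∀ p, n * p * n⁻¹ ∈ P1 σ x ↔ p ∈ P1 σ x
  pf : PFacts σ x

end Cfsg.Agent.TriTwo
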