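import Mathlib
import Cfsg.Agent.TriTwo.Env

/-!
# S1778, type `³D₄(2)`: elementary facts on the environment
-/

set_option autoImplicit false
set_option linter.unusedSectionVars false

namespace Cfsg.Agent.TriTwo

open Cfsg.Agent.StdRank2.Hex Cfsg.Agent.SplitTwo
open scoped commutatorElement

/-! ### The field with eight elements -/

section Fld

variable {E : Type*} [Field E] {σ : E ≃+* E} (h2 : (2 : E) = 0) (hc : Nat.card E = 8)
  (hf : ∀ a, σ a = a → a = 0 ∨ a = 1) (h3 : ∀ a, σ (σ (σ a)) = a)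

include hc in
theorem finE : Finite E := Nat.finite_of_card_ne_zero (by rw [hc]; norm_num)

include hc in
theorem pow_seven {a : E} (ha : a ≠ 0) : a ^ 7 = 1 := by
  have := finE hc
  have := Fintype.ofFinite E
  have h := FiniteField.pow_card_sub_one_eq_one a ha
  rwa [← Nat.card_eq_fintype_card, hc] at h

include hc in
theorem pow_eight (a : E) : a ^ 8 = a := by
  by_cases ha : a = 0
  · rw [ha]; simp
  · rw [pow_succ, pow_seven hc ha, one_mul]

include h3 hf in
theorem nrm_one' {a : E} (ha : a ≠ 0) : nrm σ a = 1 := by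
  rcases hf _ (nrm_fix h3 a) with h | h
  · exact absurd h (nrm_ne_zero ha)
  · exact h

include h3 hf in
theorem shp_eq (a : E) : shp σ a = a⁻¹ := by
  by_cases ha : a = 0
  · rw [ha]; unfold shp; simp
  · have := nrm_one' hf h3 ha
    unfold nrm at this
    unfold shp
    field_simp
    rw [← this]
    ring

include h2 in
theorem addSelf (a : E) : a + a = 0 := by rw [← two_mul, h2, zero_mul]

include h2 in
theorem negEq (a : E) : -a = a := neg_eq_of_add_eq_zero_left (addSelf h2 a)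

/-- the trace -/
def tr (σ : E ≃+* E) (a : E) : E := a + σ a + σ (σ a)

theorem tr_add (a b : E) : tr σ (a + b) = tr σ a + tr σ b := by
  unfold tr
  rw [map_add, map_add]
  ring

theorem trc_eq (a b : E) : trc σ a b = tr σ (a * b) := rfl

include h3 in
theorem tr_fix (a : E) : σ (tr σ a) = tr σ a := by
  unfold tr
  rw [map_add, map_add, h3]
  ring

include hf h3 in
theorem tr_01 (a : E) : tr σ a = 0 ∨ tr σ a = 1 := hf _ (tr_fix h3 a)

include h2 in
theorem tr_one : tr σ 1 = 1 := by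
  unfold tr
  rw [map_one, map_one]
  linear_combination h2

theorem tr_zero : tr σ 0 = 0 := by
  unfold tr
  simp

theorem crs_one (b : E) (h2 : (2 : E) = 0) : crs σ 1 b = tr σ b + b := by
  unfold crs tr
  rw [map_one, map_one]
  linear_combination -b * h2

include h2 hc hf h3 in
/-- an element `η` with `η³ = η + 1`, trace `0` -/
theorem exists_eta : ∃ η : E, η ≠ 0 ∧ η ≠ 1 ∧ tr σ η = 0 ∧ tr σ η⁻¹ = 1 ∧ η ^ 3 = η + 1 := by
  have := finE hc
  -- some element other than `0, 1`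
  obtain ⟨b, hb0, hb1⟩ : ∃ b : E, b ≠ 0 ∧ b ≠ 1 := by
    by_contra hcon
    push Not at hcon
    have : Nat.card E ≤ 2 := by
      have hs : (Set.univ : Set E) ⊆ {0, 1} := by
        intro b _
        by_cases hb : b = 0
        · left; exact hb
        · right; exact hcon b hb
      calc Nat.card E = (Set.univ : Set E).ncard := by rw [Set.ncard_univ]
        _ ≤ ({0, 1} : Set E).ncard := Set.ncard_le_ncard hs (Set.toFinite _)
        _ ≤ 2 := by
          refine (Set.ncard_insert_le _ _).trans ?_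
          rw [Set.ncard_singleton]
    omega
  -- make the trace zero
  obtain ⟨η, h0, h1, ht⟩ : ∃ η : E, η ≠ 0 ∧ η ≠ 1 ∧ tr σ η = 0 := by
    rcases tr_01 hf h3 b with h | h
    · exact ⟨b, hb0, hb1, h⟩
    · refine ⟨b + 1, fun e => hb1 ?_, fun e => hb0 ?_, ?_⟩
      · have := eq_neg_of_add_eq_zero_left e
        rw [negEq h2] at this
        exact this
      · exact add_eq_right.1 e
      · rw [tr_add, h, tr_one h2, addSelf h2]
  have hn := nrm_one' hf h3 h0
  have hs := shp_eq hf h3 η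
  -- the minimal polynomial
  have hpoly : η ^ 3 = tr σ η * η ^ 2 + tr σ η⁻¹ * η + 1 := by
    rw [← hs, ← hn]
    unfold tr shp nrm
    rw [map_mul, map_mul, h3]
    linear_combination (-(η ^ 2 * σ η) - η ^ 2 * σ (σ η) - η * σ η * σ (σ η)) * h2
  rw [ht, zero_mul, zero_add] at hpoly
  rcases tr_01 hf h3 η⁻¹ with h | h
  · exfalso
    rw [h, zero_mul, zero_add] at hpoly
    have h7 := pow_seven hc h0
    have : η ^ 7 = η := by
      calc η ^ 7 = (η ^ 3) ^ 2 * η := by ring
        _ = η := by rw [hpoly]; ring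
    rw [h7] at this
    exact h1 this.symm
  · rw [h, one_mul] at hpoly
    exact ⟨η, h0, h1, ht, h, hpoly⟩

end Fld

end Cfsg.Agent.TriTwo

namespace Cfsg.Agent.TriTwo

open Cfsg.Agent.StdRank2.Hex Cfsg.Agent.SplitTwo
open scoped commutatorElement

/-! ### Subgroups generated by root groups -/

section Gens

variable {E : Type*} [Field E] {σ : E ≃+* E} {G : Type*} [Group G] {x : ZMod 12 → E → G}

theorem mem_gens {S : Set (ZMod 12)} {k : ZMod 12} (hk : k ∈ S) {a : E} (ha : Ok σ k a) : x k a ∈ gens σ x S :=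
  Subgroup.subset_closure ⟨k, hk, a, ha, rfl⟩

theorem gens_le {S : Set (ZMod 12)} {K : Subgroup G} (h : ∀ k ∈ S, ∀ a, Ok σ k a → x k a ∈ K) : gens σ x S ≤ K := by
  unfold gens
  rw [Subgroup.closure_le]
  rintro y ⟨k, hk, a, ha, rfl⟩
  exact h k hk a ha

theorem gens_mono {S T : Set (ZMod 12)} (h : S ⊆ T) : gens σ x S ≤ gens σ x T :=
  gens_le fun _ hk _ ha => mem_gens (h hk) ha

theorem gens_induct {S : Set (ZMod 12)} {K : Subgroup G} {g : G}
    (h : ∀ k ∈ S, ∀ a, Ok σ k a → g * x k a * g⁻¹ ∈ K) {y : G} (hy : y ∈ gens σ x S) : g * y * g⁻¹ ∈ K := by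
  have : gens σ x S ≤ K.comap (MulAut.conj g).toMonoidHom := gens_le fun k hk a ha => by
    simpa using h k hk a ha
  simpa using this hy

theorem gens_comm {S : Set (ZMod 12)} {g : G}
    (h : ∀ k ∈ S, ∀ a, Ok σ k a → g * x k a = x k a * g) {y : G} (hy : y ∈ gens σ x S) : g * y = y * g := by
  have : gens σ x S ≤ Subgroup.centralizer {g} := gens_le fun k hk a ha => by
    rw [Subgroup.mem_centralizer_singleton_iff]
    exact (h k hk a ha).symm
  exact (Subgroup.mem_centralizer_singleton_iff.1 (this hy)).symm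

theorem gens_sup (S T : Set (ZMod 12)) : gens σ x (S ∪ T) = gens σ x S ⊔ gens σ x T := by
  apply le_antisymm
  · refine gens_le fun k hk a ha => ?_
    rcases hk with hk | hk
    · exact (le_sup_left : gens σ x S ≤ _) (mem_gens hk ha)
    · exact (le_sup_right : gens σ x T ≤ _) (mem_gens hk ha)
  · exact sup_le (gens_mono Set.subset_union_left) (gens_mono Set.subset_union_right)

/-- product decomposition -/
theorem mem_sup_norm {A B : Subgroup G} (h : ∀ a ∈ A, ∀ b ∈ B, a * b * a⁻¹ ∈ B) {y : G} (hy : y ∈ A ⊔ B) :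
    ∃ a ∈ A, ∃ b ∈ B, y = a * b := by
  have hn : ∀ a ∈ A, ∀ b ∈ B, a⁻¹ * b * a ∈ B := fun a ha b hb => by
    have := h a⁻¹ (A.inv_mem ha) b hb
    rwa [inv_inv] at this
  let K : Subgroup G :=
    { carrier := {y | ∃ a ∈ A, ∃ b ∈ B, y = a * b}
      mul_mem' := by
        rintro _ _ ⟨a, ha, b, hb, rfl⟩ ⟨a', ha', b', hb', rfl⟩
        exact ⟨a * a', A.mul_mem ha ha', (a'⁻¹ * b * a') * b', B.mul_mem (hn a' ha' b hb) hb', by group⟩
      one_mem' := ⟨1, A.one_mem, 1, B.one_mem, by simp⟩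
      inv_mem' := by
        rintro _ ⟨a, ha, b, hb, rfl⟩
        exact ⟨a⁻¹, A.inv_mem ha, a * b⁻¹ * a⁻¹, h a ha _ (B.inv_mem hb), by group⟩ }
  have : A ⊔ B ≤ K := sup_le (fun a ha => ⟨a, ha, 1, B.one_mem, by simp⟩) (fun b hb => ⟨1, A.one_mem, b, hb, by simp⟩)
  exact this hy

end Gens

section Hex

variable {E : Type*} [Field E] {σ : E ≃+* E} {G : Type*} [Group G] {x : ZMod 12 → E → G} (h : HexTwo σ x)

include h

/-- the root groups -/
def rt (k : ZMod 12) : Subgroup G where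
  carrier := {y | ∃ a, Ok σ k a ∧ y = x k a}
  mul_mem' := by
    rintro _ _ ⟨a, ha, rfl⟩ ⟨b, hb, rfl⟩
    exact ⟨a + b, ha.add hb, (h.add k a b ha hb).symm⟩
  one_mem' := ⟨0, ok_zero σ k, (h.x_zero k).symm⟩
  inv_mem' := by
    rintro _ ⟨a, ha, rfl⟩
    exact ⟨a, ha, h.x_inv ha⟩

theorem gens_single (k : ZMod 12) : gens σ x {k} = rt h k := by
  apply le_antisymm
  · refine gens_le ?_
    rintro _ rfl a ha
    exact ⟨a, ha, rfl⟩
  · rintro _ ⟨a, ha, rfl⟩
    exact mem_gens (Set.mem_singleton k) ha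

/-- Pairs of roots whose root groups commute. -/
def adj (k l : ZMod 12) : Bool :=
  (k.val % 2 == 0 && ((l - k).val ≤ 3 || 9 ≤ (l - k).val)) || (l.val % 2 == 0 && ((l - k).val ≤ 3 || 9 ≤ (l - k).val)) ||
    k == l

omit h in
theorem adj_cases {k l : ZMod 12} (hadj : adj k l = true) :
    k = l ∨ (k.val % 2 = 0 ∧ (l = k + 1 ∨ l = k + 2 ∨ l = k + 3)) ∨
      (l.val % 2 = 0 ∧ (k = l + 1 ∨ k = l + 2 ∨ k = l + 3)) ∨
      (k.val % 2 = 1 ∧ (l = k + 1 ∨ l = k + 3)) ∨ (l.val % 2 = 1 ∧ (k = l + 1 ∨ k = l + 3)) := by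
  revert k l
  decide

theorem cm {k l : ZMod 12} (hadj : adj k l = true) {a b : E} (ha : Ok σ k a) (hb : Ok σ l b) :
    x k a * x l b = x l b * x k a := by
  have fixk : ∀ {k : ZMod 12} {a : E}, k.val % 2 = 0 → Ok σ k a → σ a = a := fun hk ha => ha hk
  rcases adj_cases hadj with rfl | ⟨hk, rfl | rfl | rfl⟩ | ⟨hl, rfl | rfl | rfl⟩ | ⟨hk, rfl | rfl⟩ | ⟨hl, rfl | rfl⟩
  · exact h.x_comm_same ha hb
  · exact commutatorElement_eq_one_iff_mul_comm.1 (h.commL1 hk (ha hk) b)
  · have hb' : σ b = b := hb (by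
      have : ∀ k : ZMod 12, k.val % 2 = 0 → (k + 2).val % 2 = 0 := by decide
      exact this k hk)
    exact commutatorElement_eq_one_iff_mul_comm.1 (h.commL2 hk (ha hk) hb')
  · exact commutatorElement_eq_one_iff_mul_comm.1 (h.commL3 hk (ha hk) b)
  · exact (commutatorElement_eq_one_iff_mul_comm.1 (h.commL1 hl (hb hl) a)).symm
  · have ha' : σ a = a := ha (by
      have : ∀ k : ZMod 12, k.val % 2 = 0 → (k + 2).val % 2 = 0 := by decide
      exact this l hl)
    exact (commutatorElement_eq_one_iff_mul_comm.1 (h.commL2 hl (hb hl) ha')).symm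
  · exact (commutatorElement_eq_one_iff_mul_comm.1 (h.commL3 hl (hb hl) a)).symm
  · have hb' : σ b = b := hb (by
      have : ∀ k : ZMod 12, k.val % 2 = 1 → (k + 1).val % 2 = 0 := by decide
      exact this k hk)
    exact commutatorElement_eq_one_iff_mul_comm.1 (h.commS1 hk a hb')
  · have hb' : σ b = b := hb (by
      have : ∀ k : ZMod 12, k.val % 2 = 1 → (k + 3).val % 2 = 0 := by decide
      exact this k hk)
    exact commutatorElement_eq_one_iff_mul_comm.1 (h.commS3 hk a hb')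
  · have ha' : σ a = a := ha (by
      have : ∀ k : ZMod 12, k.val % 2 = 1 → (k + 1).val % 2 = 0 := by decide
      exact this l hl)
    exact (commutatorElement_eq_one_iff_mul_comm.1 (h.commS1 hl b ha')).symm
  · have ha' : σ a = a := ha (by
      have : ∀ k : ZMod 12, k.val % 2 = 1 → (k + 3).val % 2 = 0 := by decide
      exact this l hl)
    exact (commutatorElement_eq_one_iff_mul_comm.1 (h.commS3 hl b ha')).symm

theorem conj_eq_comm {k l : ZMod 12} {a b : E} : x k a * x l b * (x k a)⁻¹ = ⁅x k a, x l b⁆ * x l b := by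
  rw [commutatorElement_def]
  group

end Hex


theorem z12 (k : ZMod 12) : k = 0 ∨ k = 1 ∨ k = 2 ∨ k = 3 ∨ k = 4 ∨ k = 5 ∨ k = 6 ∨ k = 7 ∨ k = 8 ∨ k = 9 ∨
    k = 10 ∨ k = 11 := by
  revert k; decide

/-! ### The torus -/

section Tau

variable {E : Type*} [Field E] {σ : E ≃+* E} {G : Type*} [Group G] {x : ZMod 12 → E → G} (h : HexTwo σ x)
  (hc : Nat.card E = 8) (hf : ∀ a, σ a = a → a = 0 ∨ a = 1)

/-- the weight of `tau s` on the root `k` -/
def wt (k : ZMod 12) (s : E) : E :=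
  if k.val % 2 = 0 then 1 else if k.val % 4 = 1 then s else s⁻¹

include h hc hf

theorem tau_act {s : E} (hs : s ≠ 0) (k : ZMod 12) {a : E} (ha : Ok σ k a) :
    tau x s * x k a * (tau x s)⁻¹ = x k (wt k s * a) := by
  have h0 : s ^ 4 ≠ 0 := pow_ne_zero _ hs
  have h7 := pow_seven hc hs
  have hn := nrm_one' hf h.cube h0
  have hsh : shp σ (s ^ 4) = (s ^ 4)⁻¹ := shp_eq hf h.cube _
  have h8 : (s ^ 4) ^ 2 = s := by rw [← pow_mul]; exact pow_eight hc s
  have hinv : (s ^ 4)⁻¹ = s ^ 3 := by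
    refine inv_eq_of_mul_eq_one_right ?_
    rw [← pow_add]
    exact h7
  have e1 : (s ^ 4)⁻¹ * (s ^ 4)⁻¹ = s⁻¹ := by
    rw [hinv, ← pow_add]
    refine (inv_eq_of_mul_eq_one_right ?_).symm
    rw [← pow_succ']
    exact h7
  have e2 : s ^ 4 * ((s ^ 4)⁻¹)⁻¹ = s := by rw [inv_inv, ← sq, h8]
  unfold tau
  rw [h.tor1 _ h0 k a ha]
  congr 1
  have hk := z12 k
  have key : chS σ (k - 1) (s ^ 4) = wt k s := by
    rcases hk with rfl | rfl | rfl | rfl | rfl | rfl | rfl | rfl | rfl | rfl | rfl | rfl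
    · show (nrm σ (s ^ 4)) = 1
      exact hn
    · show (s ^ 4) ^ 2 = s
      exact h8
    · show (nrm σ (s ^ 4)) = 1
      exact hn
    · show (s ^ 4)⁻¹ * shp σ (s ^ 4) = s⁻¹
      rw [hsh, e1]
    · show (1 : E) = 1
      rfl
    · show s ^ 4 * (shp σ (s ^ 4))⁻¹ = s
      rw [hsh, e2]
    · show (nrm σ (s ^ 4))⁻¹ = 1
      rw [hn, inv_one]
    · show ((s ^ 4) ^ 2)⁻¹ = s⁻¹
      rw [h8]
    · show (nrm σ (s ^ 4))⁻¹ = 1
      rw [hn, inv_one]
    · show s ^ 4 * (shp σ (s ^ 4))⁻¹ = s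
      rw [hsh, e2]
    · show (1 : E) = 1
      rfl
    · show (s ^ 4)⁻¹ * shp σ (s ^ 4) = s⁻¹
      rw [hsh, e1]
  rw [key]

theorem tau_mul {s r : E} (hs : s ≠ 0) (hr : r ≠ 0) : tau x (s * r) = tau x s * tau x r := by
  have := finE hc
  unfold tau
  rw [mul_pow]
  exact h.hh_mul 1 (pow_ne_zero _ hs) (pow_ne_zero _ hr) (ok_odd (by decide) _) (ok_odd (by decide) _)

omit hc hf in
theorem tau_one : tau x (1 : E) = 1 := by
  unfold tau
  rw [one_pow, h.hh_one]

theorem tau_inv {s : E} (hs : s ≠ 0) : tau x s⁻¹ = (tau x s)⁻¹ := by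
  rw [eq_inv_iff_mul_eq_one, ← tau_mul h hc hf (inv_ne_zero hs) hs, inv_mul_cancel₀ hs, tau_one h]

/-- even root elements commute with the torus -/
theorem tau_even {s : E} (hs : s ≠ 0) {k : ZMod 12} (hk : k.val % 2 = 0) {a : E} (ha : Ok σ k a) :
    tau x s * x k a = x k a * tau x s := by
  have := tau_act h hc hf hs k ha
  unfold wt at this
  rw [if_pos hk, one_mul, mul_inv_eq_iff_eq_mul] at this
  exact this

theorem tau_nn {s : E} (hs : s ≠ 0) {k : ZMod 12} (hk : k.val % 2 = 0) : tau x s * nn x k = nn x k * tau x s := by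
  have h1 := tau_even h hc hf hs hk (ok_one σ k)
  have h2 := tau_even h hc hf hs (k := k + 6) (by rw [val_add_6, hk]) (ok_one σ _)
  unfold nn
  calc tau x s * (x k 1 * x (k + 6) 1 * x k 1) = (tau x s * x k 1) * x (k + 6) 1 * x k 1 := by group
    _ = x k 1 * (tau x s * x (k + 6) 1) * x k 1 := by rw [h1]; group
    _ = x k 1 * x (k + 6) 1 * (tau x s * x k 1) := by rw [h2]; group
    _ = x k 1 * x (k + 6) 1 * x k 1 * tau x s := by rw [h1]; group

/-- the reflections at the short roots invert the torus -/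
theorem tau_nn1 {s : E} (hs : s ≠ 0) : nn x 1 * tau x s * (nn x 1)⁻¹ = tau x s⁻¹ := by
  unfold tau
  rw [h.conj_nn_hh 1 1 (ok_odd (by decide) _), show (2 : ZMod 12) * 1 + 6 - 1 = 1 + 6 by rfl,
    h.hh_opp 1 (pow_ne_zero _ hs) (ok_odd (by decide) _), inv_pow]

end Tau

end Cfsg.Agent.TriTwo
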