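import Mathlib
import Cfsg.Agent.TriTwo.Basic

/-!
# S1778, type `³D₄(2)`: normal forms in `U`
-/

set_option autoImplicit false
set_option linter.unusedSectionVars false

namespace Cfsg.Agent.TriTwo

open Cfsg.Agent.StdRank2.Hex Cfsg.Agent.SplitTwo
open scoped commutatorElement

/-- the roots between `k` and `k + d` (in this direction) which occur in the commutator -/
def btw (k d : ZMod 12) : List (ZMod 12) :=
  if d = 2 then (if k.val % 2 = 0 then [] else [k + 1])
  else if d = 4 then (if k.val % 2 = 0 then [k + 2] else [k + 1, k + 2, k + 3])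
  else if d = 5 then [k + 1, k + 2, k + 3, k + 4]
  else []

/-- the roots between `k` and `j` which occur in the commutator -/
def betw (k j : ZMod 12) : List (ZMod 12) := btw k (j - k) ++ btw j (k - j)

/-- `x k` normalises the group generated by the root groups in `L` -/
def stable (k : ZMod 12) (L : List (ZMod 12)) : Bool :=
  L.all fun j => (j != k + 6) && (betw k j).all fun i => L.contains i

theorem near {k j : ZMod 12} (hj : j ≠ k + 6) : j = k ∨ (j - k = 1 ∨ j - k = 2 ∨ j - k = 3 ∨ j - k = 4 ∨ j - k = 5) ∨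
    (k - j = 1 ∨ k - j = 2 ∨ k - j = 3 ∨ k - j = 4 ∨ k - j = 5) := by
  revert k j
  decide

section Nf

variable {E : Type*} [Field E] {σ : E ≃+* E} {G : Type*} [Group G] {x : ZMod 12 → E → G} (h : HexTwo σ x)

/-- the group generated by the root groups in a list -/
def gl (σ : E ≃+* E) (x : ZMod 12 → E → G) (L : List (ZMod 12)) : Subgroup G := gens σ x {j | j ∈ L}

theorem mem_gl {L : List (ZMod 12)} {k : ZMod 12} (hk : k ∈ L) {a : E} (ha : Ok σ k a) : x k a ∈ gl σ x L :=
  mem_gens hk ha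

theorem gl_mono {L M : List (ZMod 12)} (hLM : ∀ i ∈ L, i ∈ M) : gl σ x L ≤ gl σ x M := gens_mono hLM

include h

theorem comm_btw (k d : ZMod 12) {a b : E} (ha : Ok σ k a) (hb : Ok σ (k + d) b) (hd : d = 1 ∨ d = 2 ∨ d = 3 ∨ d = 4 ∨ d = 5) :
    ⁅x k a, x (k + d) b⁆ ∈ gl σ x (btw k d) := by
  have f1 := trc_fix h.cube
  have f2 := nrm_fix h.cube
  have nf : ∀ t a : E, σ t = t → σ (t * nrm σ a) = t * nrm σ a := fun t a ht => by rw [map_mul, ht, f2]
  have nf2 : ∀ t a : E, σ t = t → σ (t ^ 2 * nrm σ a) = t ^ 2 * nrm σ a := fun t a ht => by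
    rw [map_mul, map_pow, ht, f2]
  have par : k.val % 2 = 0 ∨ k.val % 2 = 1 := Nat.mod_two_eq_zero_or_one _
  rcases par with hk | hk
  · have ha' := ha hk
    have e1 : (k + 1).val % 2 = 1 := by
      have : ∀ k : ZMod 12, k.val % 2 = 0 → (k + 1).val % 2 = 1 := by decide
      exact this k hk
    have e2 : (k + 2).val % 2 = 0 := by
      have : ∀ k : ZMod 12, k.val % 2 = 0 → (k + 2).val % 2 = 0 := by decide
      exact this k hk
    have e3 : (k + 3).val % 2 = 1 := by
      have : ∀ k : ZMod 12, k.val % 2 = 0 → (k + 3).val % 2 = 1 := by decide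
      exact this k hk
    have e4 : (k + 4).val % 2 = 0 := by
      have : ∀ k : ZMod 12, k.val % 2 = 0 → (k + 4).val % 2 = 0 := by decide
      exact this k hk
    rcases hd with rfl | rfl | rfl | rfl | rfl
    · rw [h.commL1 hk ha' b]; exact one_mem _
    · rw [h.commL2 hk ha' (hb e2)]; exact one_mem _
    · rw [h.commL3 hk ha' b]; exact one_mem _
    · rw [h.commL4 hk ha' (hb e4)]
      refine mem_gl ?_ (ok_of_fix _ (by rw [map_mul, ha', hb e4]))
      rw [btw, if_neg (by decide), if_pos rfl, if_pos hk]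
      simp
    · rw [h.commL5 hk ha' b]
      have hb5 : btw k 5 = [k + 1, k + 2, k + 3, k + 4] := by
        rw [btw, if_neg (by decide), if_neg (by decide), if_pos rfl]
      rw [hb5]
      refine mul_mem (mul_mem (mul_mem (mem_gl (by simp) (ok_odd e1 _)) (mem_gl (by simp) (ok_of_fix _ (nf2 _ _ ha'))))
        (mem_gl (by simp) (ok_odd e3 _))) (mem_gl (by simp) (ok_of_fix _ (nf _ _ ha')))
  · have e1 : (k + 1).val % 2 = 0 := by
      have : ∀ k : ZMod 12, k.val % 2 = 1 → (k + 1).val % 2 = 0 := by decide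
      exact this k hk
    have e2 : (k + 2).val % 2 = 1 := by
      have : ∀ k : ZMod 12, k.val % 2 = 1 → (k + 2).val % 2 = 1 := by decide
      exact this k hk
    have e3 : (k + 3).val % 2 = 0 := by
      have : ∀ k : ZMod 12, k.val % 2 = 1 → (k + 3).val % 2 = 0 := by decide
      exact this k hk
    have e4 : (k + 4).val % 2 = 1 := by
      have : ∀ k : ZMod 12, k.val % 2 = 1 → (k + 4).val % 2 = 1 := by decide
      exact this k hk
    have e5 : (k + 5).val % 2 = 0 := by
      have : ∀ k : ZMod 12, k.val % 2 = 1 → (k + 5).val % 2 = 0 := by decide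
      exact this k hk
    have hk0 : ¬ k.val % 2 = 0 := by omega
    rcases hd with rfl | rfl | rfl | rfl | rfl
    · rw [h.commS1 hk a (hb e1)]; exact one_mem _
    · rw [h.commS2 hk a b]
      refine mem_gl ?_ (ok_of_fix _ (f1 _ _))
      rw [btw, if_pos rfl, if_neg hk0]
      simp
    · rw [h.commS3 hk a (hb e3)]; exact one_mem _
    · rw [h.commS4 hk a b]
      have hb4 : btw k 4 = [k + 1, k + 2, k + 3] := by
        rw [btw, if_neg (by decide), if_pos rfl, if_neg hk0]
      rw [hb4]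
      exact mul_mem (mul_mem (mem_gl (by simp) (ok_of_fix _ (f1 _ _))) (mem_gl (by simp) (ok_odd e2 _)))
        (mem_gl (by simp) (ok_of_fix _ (f1 _ _)))
    · have hb' := hb e5
      rw [h.commS5 hk a hb']
      have hb5 : btw k 5 = [k + 1, k + 2, k + 3, k + 4] := by
        rw [btw, if_neg (by decide), if_neg (by decide), if_pos rfl]
      rw [hb5]
      exact mul_mem (mul_mem (mul_mem (mem_gl (by simp) (ok_of_fix _ (nf _ _ hb'))) (mem_gl (by simp) (ok_odd e2 _)))
        (mem_gl (by simp) (ok_of_fix _ (nf2 _ _ hb')))) (mem_gl (by simp) (ok_odd e4 _))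

theorem comm_betw {k j : ZMod 12} {a b : E} (ha : Ok σ k a) (hb : Ok σ j b) (hj : j ≠ k + 6) :
    ⁅x k a, x j b⁆ ∈ gl σ x (betw k j) := by
  rcases near hj with rfl | hd | hd
  · rw [(commutatorElement_eq_one_iff_mul_comm.2 (h.x_comm_same ha hb))]
    exact one_mem _
  · have e : k + (j - k) = j := by ring
    have := comm_btw h k (j - k) ha (by rw [e]; exact hb) hd
    rw [e] at this
    exact gl_mono (fun i hi => List.mem_append_left _ hi) this
  · have e : j + (k - j) = k := by ring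
    have := comm_btw h j (k - j) hb (by rw [e]; exact ha) hd
    rw [e] at this
    rw [← commutatorElement_inv]
    exact inv_mem (gl_mono (fun i hi => List.mem_append_right _ hi) this)

theorem conj_gl {L : List (ZMod 12)} {k : ZMod 12} (hL : stable k L = true) {a : E} (ha : Ok σ k a)
    {y : G} (hy : y ∈ gl σ x L) : x k a * y * (x k a)⁻¹ ∈ gl σ x L := by
  refine gens_induct (fun j hj b hb => ?_) hy
  have hj' := List.all_eq_true.1 hL j hj
  rw [Bool.and_eq_true, List.all_eq_true] at hj'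
  rw [conj_eq_comm h]
  refine mul_mem (gl_mono (fun i hi => ?_) (comm_betw h ha hb ?_)) (mem_gl hj hb)
  · have := hj'.2 i hi
    simpa using this
  · have := hj'.1
    simpa using this

/-- splitting off the root `k` -/
theorem split_gl {L : List (ZMod 12)} {k : ZMod 12} (hL : stable k L = true) {y : G} (hy : y ∈ gl σ x (k :: L)) :
    ∃ a, Ok σ k a ∧ ∃ z ∈ gl σ x L, y = x k a * z := by
  have e : gl σ x (k :: L) = rt h k ⊔ gl σ x L := by
    rw [← gens_single h k]
    unfold gl
    rw [← gens_sup]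
    congr 1
    ext i
    simp
  rw [e] at hy
  obtain ⟨_, ⟨a, ha, rfl⟩, z, hz, rfl⟩ := mem_sup_norm (by
    rintro _ ⟨a, ha, rfl⟩ b hb
    exact conj_gl h hL ha hb) hy
  exact ⟨a, ha, z, hz, rfl⟩

theorem gl_nil {y : G} (hy : y ∈ gl σ x []) : y = 1 := by
  have : gl σ x ([] : List (ZMod 12)) ≤ ⊥ := gens_le (by
    intro k hk
    exact absurd hk (by simp))
  exact this hy

/-- elements of a subgroup commute with `g` -/
theorem gl_comm {L : List (ZMod 12)} {g : G} (hg : ∀ k ∈ L, ∀ a, Ok σ k a → g * x k a = x k a * g) {y : G}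
    (hy : y ∈ gl σ x L) : g * y = y * g := gens_comm hg hy

/-! ### Uniqueness -/

theorem disj0 {y : G} (hy : y ∈ gl σ x [1, 2, 3, 4, 5, 6]) (hy' : y ∈ gl σ x [7, 8, 9, 10, 11, 0]) : y = 1 := by
  refine h.opp y ?_ ?_
  · unfold gl gens at hy
    convert hy using 6
    simp
  · unfold gl gens at hy'
    convert hy' using 6
    simp

/-- transport of `gl` by an element permuting the root groups -/
theorem gl_conj {L M : List (ZMod 12)} {g : G} (f : ZMod 12 → ZMod 12) (hf : ∀ k ∈ L, f k ∈ M)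
    (hg : ∀ k ∈ L, ∀ a, Ok σ k a → g * x k a * g⁻¹ = x (f k) a) (hp : ∀ k ∈ L, (f k).val % 2 = k.val % 2) {y : G}
    (hy : y ∈ gl σ x L) : g * y * g⁻¹ ∈ gl σ x M := by
  refine gens_induct (fun k hk a ha => ?_) hy
  rw [hg k hk a ha]
  exact mem_gens (hf k hk) (ha.congr (hp k hk))

theorem gl_nn {L M : List (ZMod 12)} (k : ZMod 12) (hf : ∀ j ∈ L, 2 * k + 6 - j ∈ M) {y : G}
    (hy : y ∈ gl σ x L) : nn x k * y * (nn x k)⁻¹ ∈ gl σ x M :=
  gl_conj h (fun j => 2 * k + 6 - j) hf (fun j _ _ ha => h.refl k j ha) (fun j _ => val_refl k j) hy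

/-- opposite sets of roots: rotations of the positive system -/
theorem disj_rot (m : Fin 6) {y : G} (hy : y ∈ gl σ x ([1, 2, 3, 4, 5, 6].map fun i => i + 2 * ((m : ℕ) : ZMod 12)))
    (hy' : y ∈ gl σ x ([7, 8, 9, 10, 11, 0].map fun i => i + 2 * ((m : ℕ) : ZMod 12))) : y = 1 := by
  set g := ((nn x 1 * nn x 6) ^ (m : ℕ))⁻¹ with hg
  have act : ∀ j a, Ok σ j a → g * x j a * g⁻¹ = x (j - 2 * ((m : ℕ) : ZMod 12)) a := fun j a ha => by
    have e := h.rot_pow (m : ℕ) (j - 2 * ((m : ℕ) : ZMod 12)) (a := a) (ha.congr (by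
      have : ∀ (m : Fin 6) (j : ZMod 12), (j - 2 * ((m : ℕ) : ZMod 12)).val % 2 = j.val % 2 := by decide
      exact this m j))
    rw [sub_add_cancel] at e
    rw [← e, hg, inv_inv]
    group
  have par : ∀ (m : Fin 6) (j : ZMod 12), (j - 2 * ((m : ℕ) : ZMod 12)).val % 2 = j.val % 2 := by decide
  have h1 : g * y * g⁻¹ ∈ gl σ x [1, 2, 3, 4, 5, 6] := by
    refine gl_conj h (fun j => j - 2 * ((m : ℕ) : ZMod 12)) (fun k hk => ?_) (fun j _ a ha => act j a ha)
      (fun j _ => par m j) hy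
    obtain ⟨i, hi, rfl⟩ := List.mem_map.1 hk
    simpa using hi
  have h2 : g * y * g⁻¹ ∈ gl σ x [7, 8, 9, 10, 11, 0] := by
    refine gl_conj h (fun j => j - 2 * ((m : ℕ) : ZMod 12)) (fun k hk => ?_) (fun j _ a ha => act j a ha)
      (fun j _ => par m j) hy'
    obtain ⟨i, hi, rfl⟩ := List.mem_map.1 hk
    simpa using hi
  have := disj0 h h1 h2
  rwa [mul_inv_eq_one, mul_eq_left] at this

/-- lists in opposite half planes -/
def opps (L M : List (ZMod 12)) : Bool :=
  (List.finRange 6).any fun m => (L.all fun i => ([1, 2, 3, 4, 5, 6].map fun i => i + 2 * ((m : ℕ) : ZMod 12)).contains i) &&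
    (M.all fun i => ([7, 8, 9, 10, 11, 0].map fun i => i + 2 * ((m : ℕ) : ZMod 12)).contains i)

theorem disj_of_opps {L M : List (ZMod 12)} (hLM : opps L M = true) {y : G} (hy : y ∈ gl σ x L) (hy' : y ∈ gl σ x M) :
    y = 1 := by
  obtain ⟨m, -, hm⟩ := List.any_eq_true.1 hLM
  rw [Bool.and_eq_true, List.all_eq_true, List.all_eq_true] at hm
  exact disj_rot h m (gl_mono (fun i hi => by simpa using hm.1 i hi) hy) (gl_mono (fun i hi => by simpa using hm.2 i hi) hy')

end Nf

/-- `U = x₁ x₂ x₃ x₄ x₅ x₆` -/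
theorem Us_eq {E : Type*} [Field E] {σ : E ≃+* E} {G : Type*} [Group G] {x : ZMod 12 → E → G} :
    Us σ x = gl σ x [1, 2, 3, 4, 5, 6] := by unfold Us gl; congr 1; ext i; simp
theorem Q1_eq {E : Type*} [Field E] {σ : E ≃+* E} {G : Type*} [Group G] {x : ZMod 12 → E → G} :
    Q1 σ x = gl σ x [2, 3, 4, 5, 6] := by unfold Q1 gl; congr 1; ext i; simp
theorem Q2_eq {E : Type*} [Field E] {σ : E ≃+* E} {G : Type*} [Group G] {x : ZMod 12 → E → G} :
    Q2 σ x = gl σ x [1, 2, 3, 4, 5] := by unfold Q2 gl; congr 1; ext i; simp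
theorem Zs_eq {E : Type*} [Field E] {σ : E ≃+* E} {G : Type*} [Group G] {x : ZMod 12 → E → G} :
    Zs σ x = gl σ x [4] := by unfold Zs gl; congr 1; ext i; simp
theorem Ws_eq {E : Type*} [Field E] {σ : E ≃+* E} {G : Type*} [Group G] {x : ZMod 12 → E → G} :
    Ws σ x = gl σ x [2, 4] := by unfold Ws gl; congr 1; ext i; simp
theorem P1_eq {E : Type*} [Field E] {σ : E ≃+* E} {G : Type*} [Group G] {x : ZMod 12 → E → G} :
    P1 σ x = gl σ x [1, 2, 3, 4, 5, 6, 7] := by unfold P1 gl; congr 1; ext i; simp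

end Cfsg.Agent.TriTwo
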