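import Mathlib
import Cfsg.Agent.TriTwo.Nf
import Cfsg.Agent.HexGrow.Defs

/-!
# S1778, type `³D₄(2)`: interfaces between the pieces [C], [D], [E] of the growth

* `Seed σ x t a` : output of [C] (sections 1, 2 of the blueprint): `a = a₄`, `κ = 0`;
* `Zh x a = ⟨z₄, a⟩`, `N1 σ x t a`, `Ec σ x a` : section 3;
* `QOne σ x t a` : output of [D] (section 3).
-/

set_option autoImplicit false

namespace Cfsg.Agent.TriTwo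

open Cfsg.Agent.StdRank2.Hex Cfsg.Agent.SplitTwo
open scoped commutatorElement

section Defs

variable {E : Type*} [Field E] (σ : E ≃+* E) {G : Type*} [Group G] (x : ZMod 12 → E → G) (t a : G)

/-- `a₂` -/
def a2 : G := nn x 6 * a * (nn x 6)⁻¹

/-- `a₆` -/
def a6 : G := nn x 1 * a2 x a * (nn x 1)⁻¹

/-- `Ẑ = ⟨z₄, a₄⟩` -/
def Zh : Subgroup G := Subgroup.closure {x 4 1, a}

/-- `N₁ = Q̂₁` -/
def N1 : Subgroup G where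
  carrier := {n | (∀ c ∈ Zh x a, n * c = c * n) ∧ (∀ q ∈ Q1 σ x, n * q * n⁻¹ * q⁻¹ ∈ Zh x a) ∧
    (∀ q ∈ Q1 σ x, n⁻¹ * q * n * q⁻¹ ∈ Zh x a) ∧
    n * t * n⁻¹ * t⁻¹ ∈ Q1 σ x ⊔ Zh x a ∧ n⁻¹ * t * n * t⁻¹ ∈ Q1 σ x ⊔ Zh x a}
  mul_mem' := by
    rintro n m ⟨n1, n2, n3, n4, n5⟩ ⟨m1, m2, m3, m4, m5⟩
    have n1' : ∀ c ∈ Zh x a, n⁻¹ * c = c * n⁻¹ := fun c hc => by
      rw [inv_mul_eq_iff_eq_mul, ← mul_assoc, n1 c hc, mul_inv_cancel_right]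
    have m1' : ∀ c ∈ Zh x a, m⁻¹ * c = c * m⁻¹ := fun c hc => by
      rw [inv_mul_eq_iff_eq_mul, ← mul_assoc, m1 c hc, mul_inv_cancel_right]
    have cn : ∀ c ∈ Zh x a, n * c * n⁻¹ = c := fun c hc => by rw [n1 c hc, mul_inv_cancel_right]
    have cm : ∀ c ∈ Zh x a, m⁻¹ * c * m = c := fun c hc => by rw [m1' c hc, inv_mul_cancel_right]
    -- conjugation maps `Q1 ⊔ Zh` to itself
    have nQ : ∀ y ∈ Q1 σ x ⊔ Zh x a, n * y * n⁻¹ ∈ Q1 σ x ⊔ Zh x a := by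
      have : Q1 σ x ⊔ Zh x a ≤ (Q1 σ x ⊔ Zh x a).comap (MulAut.conj n).toMonoidHom := by
        refine sup_le (fun q hq => ?_) (fun c hc => ?_)
        · show n * q * n⁻¹ ∈ Q1 σ x ⊔ Zh x a
          have e : n * q * n⁻¹ = (n * q * n⁻¹ * q⁻¹) * q := by group
          rw [e]
          exact mul_mem ((le_sup_right : Zh x a ≤ _) (n2 q hq)) ((le_sup_left : Q1 σ x ≤ _) hq)
        · show n * c * n⁻¹ ∈ Q1 σ x ⊔ Zh x a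
          rw [cn c hc]
          exact (le_sup_right : Zh x a ≤ _) hc
      intro y hy
      exact this hy
    have mQ : ∀ y ∈ Q1 σ x ⊔ Zh x a, m⁻¹ * y * m ∈ Q1 σ x ⊔ Zh x a := by
      have : Q1 σ x ⊔ Zh x a ≤ (Q1 σ x ⊔ Zh x a).comap (MulAut.conj m⁻¹).toMonoidHom := by
        refine sup_le (fun q hq => ?_) (fun c hc => ?_)
        · show m⁻¹ * q * m⁻¹⁻¹ ∈ Q1 σ x ⊔ Zh x a
          have e : m⁻¹ * q * m⁻¹⁻¹ = (m⁻¹ * q * m * q⁻¹) * q := by group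
          rw [e]
          exact mul_mem ((le_sup_right : Zh x a ≤ _) (m3 q hq)) ((le_sup_left : Q1 σ x ≤ _) hq)
        · show m⁻¹ * c * m⁻¹⁻¹ ∈ Q1 σ x ⊔ Zh x a
          rw [inv_inv, cm c hc]
          exact (le_sup_right : Zh x a ≤ _) hc
      intro y hy
      have := this hy
      simpa using this
    refine ⟨fun c hc => ?_, fun q hq => ?_, fun q hq => ?_, ?_, ?_⟩
    · rw [mul_assoc, m1 c hc, ← mul_assoc, n1 c hc, mul_assoc]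
    · have e : n * m * q * (n * m)⁻¹ * q⁻¹ = n * (m * q * m⁻¹ * q⁻¹) * n⁻¹ * (n * q * n⁻¹ * q⁻¹) := by group
      rw [e, cn _ (m2 q hq)]
      exact mul_mem (m2 q hq) (n2 q hq)
    · have e : (n * m)⁻¹ * q * (n * m) * q⁻¹ = m⁻¹ * (n⁻¹ * q * n * q⁻¹) * m * (m⁻¹ * q * m * q⁻¹) := by group
      rw [e, cm _ (n3 q hq)]
      exact mul_mem (n3 q hq) (m3 q hq)
    · have e : n * m * t * (n * m)⁻¹ * t⁻¹ = n * (m * t * m⁻¹ * t⁻¹) * n⁻¹ * (n * t * n⁻¹ * t⁻¹) := by group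
      rw [e]
      exact mul_mem (nQ _ m4) n4
    · have e : (n * m)⁻¹ * t * (n * m) * t⁻¹ = m⁻¹ * (n⁻¹ * t * n * t⁻¹) * m * (m⁻¹ * t * m * t⁻¹) := by group
      rw [e]
      exact mul_mem (mQ _ n5) m5
  one_mem' := by
    refine ⟨fun c _ => by simp, fun q _ => ?_, fun q _ => ?_, ?_, ?_⟩ <;> simp [one_mem]
  inv_mem' := by
    rintro n ⟨n1, n2, n3, n4, n5⟩
    refine ⟨fun c hc => ?_, fun q hq => ?_, fun q hq => ?_, ?_, ?_⟩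
    · rw [inv_mul_eq_iff_eq_mul, ← mul_assoc, n1 c hc, mul_inv_cancel_right]
    · rw [inv_inv]; exact n3 q hq
    · rw [inv_inv]; exact n2 q hq
    · rw [inv_inv]; exact n5
    · rw [inv_inv]; exact n4

/-- `E = Ẑ ⟨a₆^{x₁(b)}⟩` -/
def Ec : Subgroup G := Zh x a ⊔ Subgroup.closure {y | ∃ b : E, y = x 1 b * a6 x a * x 1 b}

/-- Output of [C]. -/
structure Seed : Prop where
  aa : a * a = 1
  aP : ∀ p ∈ P1 σ x, a * p = p * a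
  at' : a * t * a⁻¹ = t * x 4 1
  kap : a * a2 x a = a2 x a * a

/-- Output of [D]. -/
structure QOne : Prop where
  /-- `N₁` is normalised by `P₁` and `t` -/
  P_N1 : ∀ p ∈ P1 σ x, ∀ n ∈ N1 σ x t a, p * n * p⁻¹ ∈ N1 σ x t a
  t_N1 : ∀ n ∈ N1 σ x t a, t * n * t⁻¹ ∈ N1 σ x t a
  Q_le : Q1 σ x ≤ N1 σ x t a
  Z_le : Zh x a ≤ N1 σ x t a
  a2_mem : a2 x a ∈ N1 σ x t a
  a6_mem : a6 x a ∈ N1 σ x t a
  /-- kernel of `n ↦ ⁅n, t⁆` mod `Ẑ` -/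
  ker : ∀ n ∈ N1 σ x t a, ⁅n, t⁆ ∈ Zh x a → n ∈ Q1 σ x ⊔ Zh x a
  /-- `N₁ / Ẑ` is elementary abelian -/
  comm : ∀ n ∈ N1 σ x t a, ∀ m ∈ N1 σ x t a, ⁅n, m⁆ ∈ Zh x a
  sq : ∀ n ∈ N1 σ x t a, n * n ∈ Zh x a
  /-- the complement `E` -/
  E_le : Ec x a ≤ N1 σ x t a
  E_onto : ∀ q ∈ Q1 σ x, ∃ e ∈ Ec x a, ⁅e, t⁆ * q⁻¹ ∈ Zh x a
  E_inj : ∀ e ∈ Ec x a, ⁅e, t⁆ ∈ Zh x a → e ∈ Zh x a
  U1_E : ∀ b : E, ∀ e ∈ Ec x a, x 1 b * e * x 1 b ∈ Ec x a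
  H_E : ∀ s : E, s ≠ 0 → ∀ e ∈ Ec x a, tau x s * e * (tau x s)⁻¹ ∈ Ec x a

/-- Output of [E1] (section 4): the twelve doubled root groups with all relations except the `120` degree relation of
short roots and the `150` degree relation, of which only the parts with one factor in `A` are present. -/
structure Lev (V : ZMod 12 → Subgroup G) : Prop where
  le : ∀ r, ∀ b, Ok σ r b → x r b ∈ V r
  sq : ∀ r, ∀ y ∈ V r, y * y = 1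
  br : ∀ r, ∀ y ∈ V r, ∃ b, Ok σ r b ∧ ⁅t, y⁆ = x r b
  onto : ∀ r, ∀ b, Ok σ r b → ∃ y ∈ V r, ⁅t, y⁆ = x r b
  fix : ∀ r, ∀ y ∈ V r, y * t = t * y → ∃ b, Ok σ r b ∧ y = x r b
  TV : ∀ s : E, s ≠ 0 → ∀ r, ∀ y ∈ V r, tau x s * y * (tau x s)⁻¹ ∈ V r
  /-- the torus centralises the long root groups -/
  cen : ∀ s : E, s ≠ 0 → ∀ r : ZMod 12, r.val % 2 = 0 → ∀ y ∈ V r, tau x s * y = y * tau x s
  /-- and acts without fixed points on the short ones -/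
  fpf : ∀ s : E, s ≠ 0 → s ≠ 1 → ∀ r : ZMod 12, r.val % 2 = 1 → ∀ y ∈ V r, tau x s * y = y * tau x s → y = 1
  nV : ∀ k r, ∀ y ∈ V r, nn x k * y * (nn x k)⁻¹ ∈ V (2 * k + 6 - r)
  /-- 30 degrees -/
  c1 : ∀ r, ∀ y ∈ V r, ∀ y' ∈ V (r + 1), y * y' = y' * y
  /-- 90 degrees -/
  c3 : ∀ r, ∀ y ∈ V r, ∀ y' ∈ V (r + 3), y * y' = y' * y
  /-- 60 and 120 degrees, long -/
  l2 : ∀ r : ZMod 12, r.val % 2 = 0 → ∀ y ∈ V r, ∀ y' ∈ V (r + 2), y * y' = y' * y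
  l4 : ∀ r : ZMod 12, r.val % 2 = 0 → ∀ y ∈ V r, ∀ y' ∈ V (r + 4), ⁅y, y'⁆ ∈ V (r + 2)
  /-- 60 degrees, short -/
  s2 : ∀ r : ZMod 12, r.val % 2 = 1 → ∀ y ∈ V r, ∀ y' ∈ V (r + 2), ⁅y, y'⁆ ∈ V (r + 1)
  /-- 120 degrees, short, one factor in `A` -/
  h4 : ∀ r : ZMod 12, r.val % 2 = 1 → ∀ b : E, ∀ y ∈ V (r + 4), ⁅x r b, y⁆ ∈ V (r + 1) ⊔ V (r + 2) ⊔ V (r + 3)
  h4' : ∀ r : ZMod 12, r.val % 2 = 1 → ∀ b : E, ∀ y ∈ V r, ⁅x (r + 4) b, y⁆ ∈ V (r + 1) ⊔ V (r + 2) ⊔ V (r + 3)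
  /-- 150 degrees, the short factor in `A` -/
  h5 : ∀ r : ZMod 12, r.val % 2 = 1 → ∀ b : E, ∀ y ∈ V (r + 5),
    ⁅x r b, y⁆ ∈ V (r + 1) ⊔ V (r + 2) ⊔ V (r + 3) ⊔ V (r + 4)

/-- Output of [E2] (section 5). -/
def ShortFour (V : ZMod 12 → Subgroup G) : Prop :=
  ∀ r : ZMod 12, r.val % 2 = 1 → ∀ y ∈ V r, ∀ y' ∈ V (r + 4), ⁅y, y'⁆ ∈ V (r + 1) ⊔ V (r + 2) ⊔ V (r + 3)

end Defs

end Cfsg.Agent.TriTwo
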