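import Mathlib
import Cfsg.Agent.TriTwo.Defs

/-!
# S1778, type `³D₄(2)`: first consequences of `Env` and `Seed`
-/

set_option autoImplicit false
set_option linter.unusedSectionVars false

namespace Cfsg.Agent.TriTwo

open Cfsg.Agent.StdRank2.Hex Cfsg.Agent.SplitTwo
open scoped commutatorElement

section Gen

variable {G : Type*} [Group G]

/-- conjugates commute -/
theorem conj_comm_iff {g y z : G} (h : y * z = z * y) : (g * y * g⁻¹) * (g * z * g⁻¹) = (g * z * g⁻¹) * (g * y * g⁻¹) := by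
  calc (g * y * g⁻¹) * (g * z * g⁻¹) = g * (y * z) * g⁻¹ := by group
    _ = g * (z * y) * g⁻¹ := by rw [h]
    _ = _ := by group

theorem mul_comm_of {a b c : G} (h1 : a * c = c * a) (h2 : b * c = c * b) : (a * b) * c = c * (a * b) := by
  rw [mul_assoc, h2, ← mul_assoc, h1, mul_assoc]

theorem inv_comm_of {a c : G} (h1 : a * c = c * a) : a⁻¹ * c = c * a⁻¹ := by
  rw [inv_mul_eq_iff_eq_mul, ← mul_assoc, h1, mul_inv_cancel_right]

end Gen

section Env

variable {E : Type*} [Field E] {σ : E ≃+* E} {G : Type*} [Group G] {x : ZMod 12 → E → G} {t : G} (v : Env σ x t)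

include v

theorem h2 : (2 : E) = 0 := v.hex.two
theorem h3 (a : E) : σ (σ (σ a)) = a := v.hex.cube a

theorem tinv : t⁻¹ = t := inv_eq_of_mul_eq_one_left v.tt

theorem xx {k : ZMod 12} {a : E} (ha : Ok σ k a) : x k a * x k a = 1 := v.hex.x_sq ha

theorem xinv {k : ZMod 12} {a : E} (ha : Ok σ k a) : (x k a)⁻¹ = x k a := v.hex.x_inv ha

theorem z4_ne : x 4 1 ≠ 1 := fun e => one_ne_zero (v.hex.inj 4 1 (ok_one σ 4) e)

theorem t_gens {S : Set (ZMod 12)} {y : G} (hy : y ∈ gens σ x S) : t * y = y * t :=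
  gens_comm (fun k _ a ha => v.tx k a ha) hy

theorem t_nn (k : ZMod 12) : t * nn x k = nn x k * t := by
  have h1 := v.tx k 1 (ok_one σ k)
  have h2 := v.tx (k + 6) 1 (ok_one σ _)
  unfold nn
  calc t * (x k 1 * x (k + 6) 1 * x k 1) = (t * x k 1) * x (k + 6) 1 * x k 1 := by group
    _ = x k 1 * (t * x (k + 6) 1) * x k 1 := by rw [h1]; group
    _ = x k 1 * x (k + 6) 1 * (t * x k 1) := by rw [h2]; group
    _ = x k 1 * x (k + 6) 1 * x k 1 * t := by rw [h1]; group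

theorem even_val {k : ZMod 12} (hk : k.val % 2 = 0) {a : E} (ha : Ok σ k a) : x k a = 1 ∨ x k a = x k 1 := by
  rcases v.fix a (ha hk) with rfl | rfl
  · left; exact v.hex.x_zero k
  · right; rfl

theorem t_conj_gens {S : Set (ZMod 12)} {y : G} (hy : y ∈ gens σ x S) : t * y * t⁻¹ = y := by
  rw [t_gens v hy, mul_inv_cancel_right]

/-- `Z = {1, z₄}` -/
theorem mem_Zs {y : G} : y ∈ Zs σ x ↔ y = 1 ∨ y = x 4 1 := by
  unfold Zs
  rw [gens_single v.hex]
  constructor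
  · rintro ⟨a, ha, rfl⟩
    exact even_val v (by decide) ha
  · rintro (rfl | rfl)
    · exact one_mem _
    · exact ⟨1, ok_one σ 4, rfl⟩

theorem nn_P1 : nn x 1 ∈ P1 σ x := by
  unfold nn P1
  exact mul_mem (mul_mem (mem_gens (by simp) (ok_one σ _)) (mem_gens (by
    show (1 + 6 : ZMod 12) ∈ _
    have : (1 + 6 : ZMod 12) = 7 := rfl
    rw [this]
    simp) (ok_one σ _))) (mem_gens (by simp) (ok_one σ _))

theorem nt_P1 (s : E) : nt x 1 s ∈ P1 σ x := by
  unfold nt P1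
  have : (1 + 6 : ZMod 12) = 7 := rfl
  exact mul_mem (mul_mem (mem_gens (by simp) (ok_odd (by decide) _)) (mem_gens (by rw [this]; simp)
    (ok_odd (by decide) _))) (mem_gens (by simp) (ok_odd (by decide) _))

theorem tau_P1 (s : E) : tau x s ∈ P1 σ x := by
  unfold tau hh
  exact mul_mem (nt_P1 v _) (nn_P1 v)

theorem Q1_le_P1 : Q1 σ x ≤ P1 σ x := by
  rw [Q1_eq, P1_eq]; exact gl_mono (by decide)

theorem Zs_le_Q1 : Zs σ x ≤ Q1 σ x := by
  rw [Q1_eq, Zs_eq]; exact gl_mono (by decide)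

/-- `P₁` centralises `z₄` -/
theorem P1_z4 {p : G} (hp : p ∈ P1 σ x) : p * x 4 1 = x 4 1 * p := by
  rw [P1_eq] at hp
  refine (gl_comm (σ := σ) v.hex (g := x 4 1) (fun k hk a ha => ?_) hp).symm
  have hadj : ∀ k ∈ ([1, 2, 3, 4, 5, 6, 7] : List (ZMod 12)), adj 4 k = true := by decide
  exact cm v.hex (hadj k hk) (ok_one σ 4) ha

theorem gl_le {L : List (ZMod 12)} {K : Subgroup G} (hK : ∀ k ∈ L, ∀ a, Ok σ k a → x k a ∈ K) : gl σ x L ≤ K :=
  gens_le (S := {j | j ∈ L}) (fun k hk a ha => hK k hk a ha)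

theorem x_norm {L : List (ZMod 12)} {k : ZMod 12} (hL : stable k L = true) {a : E} (ha : Ok σ k a) :
    x k a ∈ Subgroup.normalizer (gl σ x L : Set G) := by
  rw [Subgroup.mem_normalizer_iff]
  intro y
  refine ⟨fun hy => conj_gl v.hex hL ha hy, fun hy => ?_⟩
  have h1 := conj_gl v.hex hL ha hy
  have e : x k a * (x k a * y * (x k a)⁻¹) * (x k a)⁻¹ = y := by
    rw [xinv v ha]
    calc x k a * (x k a * y * x k a) * x k a = (x k a * x k a) * y * (x k a * x k a) := by group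
      _ = y := by rw [xx v ha]; group
  rwa [e] at h1

/-- `P₁` normalises `Q₁` -/
theorem P1_Q1 {p q : G} (hp : p ∈ P1 σ x) (hq : q ∈ Q1 σ x) : p * q * p⁻¹ ∈ Q1 σ x := by
  rw [Q1_eq] at *
  have gen : ∀ k ∈ ([1, 2, 3, 4, 5, 6, 7] : List (ZMod 12)), stable k [2, 3, 4, 5, 6] = true := by decide
  have hK : P1 σ x ≤ Subgroup.normalizer (gl σ x [2, 3, 4, 5, 6] : Set G) := by
    rw [P1_eq]
    exact gl_le v fun k hk a ha => x_norm v (gen k hk) ha
  exact (Subgroup.mem_normalizer_iff.1 (hK hp) q).1 hq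

theorem P1_Q1' {p q : G} (hp : p ∈ P1 σ x) (hq : q ∈ Q1 σ x) : p⁻¹ * q * p ∈ Q1 σ x := by
  have := P1_Q1 v (inv_mem hp) hq
  rwa [inv_inv] at this

/-- `[Q₁, Q₁] ≤ Z` -/
theorem Q1_comm {q r : G} (hq : q ∈ Q1 σ x) (hr : r ∈ Q1 σ x) : ⁅q, r⁆ ∈ Zs σ x := by
  -- fix `r`; the set of `q ∈ P₁` with `⁅q, r⁆ ∈ Z` is a subgroup
  have cenQ : ∀ q ∈ Q1 σ x, ∀ c ∈ Zs σ x, q * c = c * q := fun q hq c hc => by
    rcases (mem_Zs v).1 hc with rfl | rfl
    · simp
    · exact P1_z4 v (Q1_le_P1 v hq)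
  have step : ∀ r ∈ Q1 σ x, (∀ k ∈ ([2, 3, 4, 5, 6] : List (ZMod 12)), ∀ a, Ok σ k a → ⁅x k a, r⁆ ∈ Zs σ x) →
      ∀ q ∈ Q1 σ x, ⁅q, r⁆ ∈ Zs σ x := by
    intro r hr hgen q hq
    let K : Subgroup G :=
      { carrier := {q | q ∈ Q1 σ x ∧ ⁅q, r⁆ ∈ Zs σ x}
        mul_mem' := by
          rintro a b ⟨ha, ha'⟩ ⟨hb, hb'⟩
          refine ⟨mul_mem ha hb, ?_⟩
          have e : ⁅a * b, r⁆ = a * ⁅b, r⁆ * a⁻¹ * ⁅a, r⁆ := by
            rw [commutatorElement_def, commutatorElement_def, commutatorElement_def]; group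
          rw [e, cenQ a ha _ hb', mul_inv_cancel_right]
          exact mul_mem hb' ha'
        one_mem' := ⟨one_mem _, by simp [one_mem]⟩
        inv_mem' := by
          rintro a ⟨ha, ha'⟩
          refine ⟨inv_mem ha, ?_⟩
          have e : ⁅a⁻¹, r⁆ = a⁻¹ * (⁅a, r⁆)⁻¹ * a := by
            rw [commutatorElement_def, commutatorElement_def]; group
          rw [e, cenQ _ (inv_mem ha) _ (inv_mem ha'), inv_mul_cancel_right]
          exact inv_mem ha' }
    have hK : Q1 σ x ≤ K := by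
      rw [Q1_eq]
      refine gl_le v fun k hk a ha => ⟨?_, hgen k hk a ha⟩
      rw [Q1_eq]
      exact mem_gl hk ha
    exact (hK hq).2
  refine step r hr (fun k hk a ha => ?_) q hq
  rw [← commutatorElement_inv]
  refine inv_mem (step (x k a) (by rw [Q1_eq]; exact mem_gl hk ha) (fun j hj b hb => ?_) r hr)
  have key : ∀ k ∈ ([2, 3, 4, 5, 6] : List (ZMod 12)), ∀ j ∈ ([2, 3, 4, 5, 6] : List (ZMod 12)), k ≠ j + 6 ∧
      ∀ i ∈ betw j k, i ∈ ([4] : List (ZMod 12)) := by decide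
  rw [Zs_eq]
  exact gl_mono (key k hk j hj).2 (comm_betw v.hex hb ha (key k hk j hj).1)

end Env


section Seed

variable {E : Type*} [Field E] {σ : E ≃+* E} {G : Type*} [Group G] {x : ZMod 12 → E → G} {t a : G} (v : Env σ x t)
  (s : Seed σ x t a)

include v s

theorem ainv : a⁻¹ = a := inv_eq_of_mul_eq_one_left s.aa

theorem a_x {k : ZMod 12} (hk : k ∈ ([1, 2, 3, 4, 5, 6, 7] : List (ZMod 12))) {b : E} (hb : Ok σ k b) :
    a * x k b = x k b * a := s.aP _ (by rw [P1_eq]; exact mem_gl hk hb)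

theorem a2_a2 : a2 x a * a2 x a = 1 := by
  unfold a2
  calc nn x 6 * a * (nn x 6)⁻¹ * (nn x 6 * a * (nn x 6)⁻¹) = nn x 6 * (a * a) * (nn x 6)⁻¹ := by group
    _ = 1 := by rw [s.aa]; group

theorem a6_a6 : a6 x a * a6 x a = 1 := by
  unfold a6
  calc nn x 1 * a2 x a * (nn x 1)⁻¹ * (nn x 1 * a2 x a * (nn x 1)⁻¹) = nn x 1 * (a2 x a * a2 x a) * (nn x 1)⁻¹ := by
        group
    _ = 1 := by rw [a2_a2 v s]; group

theorem a2inv : (a2 x a)⁻¹ = a2 x a := inv_eq_of_mul_eq_one_left (a2_a2 v s)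
theorem a6inv : (a6 x a)⁻¹ = a6 x a := inv_eq_of_mul_eq_one_left (a6_a6 v s)

theorem a2_x {k : ZMod 12} (hk : k ∈ ([11, 0, 1, 2, 3, 4, 5] : List (ZMod 12))) {b : E} (hb : Ok σ k b) :
    a2 x a * x k b = x k b * a2 x a := by
  have key : ∀ k ∈ ([11, 0, 1, 2, 3, 4, 5] : List (ZMod 12)), 2 * 6 + 6 - k ∈ ([1, 2, 3, 4, 5, 6, 7] : List (ZMod 12)) ∧
      2 * 6 + 6 - (2 * 6 + 6 - k) = k := by decide
  have hb' : Ok σ (2 * 6 + 6 - k) b := hb.congr (val_refl 6 k)
  have e : x k b = nn x 6 * x (2 * 6 + 6 - k) b * (nn x 6)⁻¹ := by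
    rw [v.hex.refl 6 _ hb', (key k hk).2]
  unfold a2
  rw [e]
  exact conj_comm_iff (a_x v s (key k hk).1 hb')

theorem a6_x {k : ZMod 12} (hk : k ∈ ([3, 4, 5, 6, 7, 8, 9] : List (ZMod 12))) {b : E} (hb : Ok σ k b) :
    a6 x a * x k b = x k b * a6 x a := by
  have key : ∀ k ∈ ([3, 4, 5, 6, 7, 8, 9] : List (ZMod 12)), 2 * 1 + 6 - k ∈ ([11, 0, 1, 2, 3, 4, 5] : List (ZMod 12)) ∧
      2 * 1 + 6 - (2 * 1 + 6 - k) = k := by decide
  have hb' : Ok σ (2 * 1 + 6 - k) b := hb.congr (val_refl 1 k)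
  have e : x k b = nn x 1 * x (2 * 1 + 6 - k) b * (nn x 1)⁻¹ := by
    rw [v.hex.refl 1 _ hb', (key k hk).2]
  unfold a6
  rw [e]
  exact conj_comm_iff (a2_x v s (key k hk).1 hb')

theorem a_nn1 : a * nn x 1 = nn x 1 * a := s.aP _ (nn_P1 v)

theorem a_tau (r : E) : a * tau x r = tau x r * a := s.aP _ (tau_P1 v r)

theorem a2_tau {r : E} (hr : r ≠ 0) : a2 x a * tau x r = tau x r * a2 x a := by
  have h1 : tau x r = nn x 6 * tau x r * (nn x 6)⁻¹ := by
    rw [← tau_nn v.hex v.card v.fix hr (by decide), mul_inv_cancel_right]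
  have h2 := conj_comm_iff (g := nn x 6) (a_tau v s r)
  rwa [← h1] at h2

theorem a6_tau {r : E} (hr : r ≠ 0) : a6 x a * tau x r = tau x r * a6 x a := by
  have h0 : nn x 1 * tau x r⁻¹ * (nn x 1)⁻¹ = tau x r := by
    rw [tau_nn1 v.hex v.card v.fix (inv_ne_zero hr), inv_inv]
  rw [← h0]
  unfold a6
  exact conj_comm_iff (a2_tau v s (inv_ne_zero hr))

/-- `a t a = t z₄` -/
theorem a_t : a * t * a⁻¹ = t * x 4 1 := s.at'

theorem a2_t : a2 x a * t * (a2 x a)⁻¹ = t * x 2 1 := by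
  have ht := t_nn v (x := x) 6
  have e1 : nn x 6 * x 4 1 * (nn x 6)⁻¹ = x 2 1 := by
    rw [v.hex.refl 6 4 (ok_one σ 4)]; congr 1
  have e2 : (nn x 6)⁻¹ * t * nn x 6 = t := by
    rw [mul_assoc, ht, inv_mul_cancel_left]
  unfold a2
  calc nn x 6 * a * (nn x 6)⁻¹ * t * (nn x 6 * a * (nn x 6)⁻¹)⁻¹
      = nn x 6 * (a * ((nn x 6)⁻¹ * t * nn x 6) * a⁻¹) * (nn x 6)⁻¹ := by group
    _ = nn x 6 * (t * x 4 1) * (nn x 6)⁻¹ := by rw [e2, s.at']
    _ = (nn x 6 * t) * x 4 1 * (nn x 6)⁻¹ := by group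
    _ = t * (nn x 6 * x 4 1 * (nn x 6)⁻¹) := by rw [← ht]; group
    _ = _ := by rw [e1]

theorem a6_t : a6 x a * t * (a6 x a)⁻¹ = t * x 6 1 := by
  have ht := t_nn v (x := x) 1
  have e1 : nn x 1 * x 2 1 * (nn x 1)⁻¹ = x 6 1 := by
    rw [v.hex.refl 1 2 (ok_one σ 2)]; congr 1
  have e2 : (nn x 1)⁻¹ * t * nn x 1 = t := by
    rw [mul_assoc, ht, inv_mul_cancel_left]
  unfold a6
  calc nn x 1 * a2 x a * (nn x 1)⁻¹ * t * (nn x 1 * a2 x a * (nn x 1)⁻¹)⁻¹
      = nn x 1 * (a2 x a * ((nn x 1)⁻¹ * t * nn x 1) * (a2 x a)⁻¹) * (nn x 1)⁻¹ := by group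
    _ = nn x 1 * (t * x 2 1) * (nn x 1)⁻¹ := by rw [e2, a2_t v s]
    _ = (nn x 1 * t) * x 2 1 * (nn x 1)⁻¹ := by group
    _ = t * (nn x 1 * x 2 1 * (nn x 1)⁻¹) := by rw [← ht]; group
    _ = _ := by rw [e1]

/-- `t a t = a z₄` -/
theorem t_a : t * a * t⁻¹ = a * x 4 1 := by
  have h1 := s.at'
  have h2 := P1_z4 v (p := x 4 1) (by rw [P1_eq]; exact mem_gl (by decide) (ok_one σ 4))
  have haz := a_x v s (k := 4) (by decide) (ok_one σ 4)
  have htz := v.tx 4 1 (ok_one σ 4)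
  rw [ainv v s] at h1
  rw [tinv v]
  -- `a t a = t z` gives `t a = a t z`
  have h3 : t * a = a * t * x 4 1 := by
    calc t * a = a * (a * t * a) := by rw [← mul_assoc, ← mul_assoc, s.aa, one_mul]
      _ = a * (t * x 4 1) := by rw [h1]
      _ = _ := by group
  calc t * a * t = a * t * x 4 1 * t := by rw [h3]
    _ = a * (t * x 4 1 * t) := by group
    _ = a * (x 4 1 * (t * t)) := by rw [htz]; group
    _ = _ := by rw [v.tt, mul_one]

theorem a_not_comm : a * t ≠ t * a := by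
  intro e
  have := s.at'
  rw [e, mul_inv_cancel_right, left_eq_mul] at this
  exact z4_ne v this

/-- elements of `Ẑ` -/
theorem mem_Zh {c : G} : c ∈ Zh x a ↔ c = 1 ∨ c = x 4 1 ∨ c = a ∨ c = a * x 4 1 := by
  have haz := a_x v s (k := 4) (by decide) (ok_one σ 4)
  have hzz := xx v (ok_one σ 4)
  have hzi := xinv v (ok_one σ 4)
  have hai := ainv v s
  constructor
  · intro hc
    unfold Zh at hc
    refine Subgroup.closure_induction (p := fun c _ => c = 1 ∨ c = x 4 1 ∨ c = a ∨ c = a * x 4 1) ?_ ?_ ?_ ?_ hc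
    · rintro y (rfl | rfl)
      · right; left; rfl
      · right; right; left; rfl
    · left; rfl
    · rintro y z - - (rfl | rfl | rfl | rfl) (rfl | rfl | rfl | rfl)
      · left; simp
      · right; left; simp
      · right; right; left; simp
      · right; right; right; simp
      · right; left; simp
      · left; exact hzz
      · right; right; right; rw [haz]
      · right; right; left; rw [← mul_assoc, ← haz, mul_assoc, hzz, mul_one]
      · right; right; left; simp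
      · right; right; right; rfl
      · left; exact s.aa
      · right; left; rw [← mul_assoc, s.aa, one_mul]
      · right; right; right; simp
      · right; right; left; rw [mul_assoc, hzz, mul_one]
      · right; left; rw [haz, mul_assoc, s.aa, mul_one]
      · left
        calc a * x 4 1 * (a * x 4 1) = a * (x 4 1 * a) * x 4 1 := by group
          _ = (a * a) * (x 4 1 * x 4 1) := by rw [← haz]; group
          _ = 1 := by rw [s.aa, hzz, one_mul]
    · rintro y - (rfl | rfl | rfl | rfl)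
      · left; simp
      · right; left; exact hzi
      · right; right; left; exact hai
      · right; right; right; rw [mul_inv_rev, hzi, hai, haz]
  · have hz : x 4 1 ∈ Zh x a := Subgroup.subset_closure (by simp)
    have ha : a ∈ Zh x a := Subgroup.subset_closure (by simp)
    rintro (rfl | rfl | rfl | rfl)
    · exact one_mem _
    · exact hz
    · exact ha
    · exact mul_mem ha hz

theorem Zs_le_Zh : Zs σ x ≤ Zh x a := fun y hy => by
  rw [mem_Zh v s]
  rcases (mem_Zs v).1 hy with rfl | rfl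
  · left; rfl
  · right; left; rfl

theorem a_mem_Zh : a ∈ Zh x a := (mem_Zh v s).2 (Or.inr (Or.inr (Or.inl rfl)))
theorem z_mem_Zh : x 4 1 ∈ Zh x a := (mem_Zh v s).2 (Or.inr (Or.inl rfl))

theorem Zh_sq {c : G} (hc : c ∈ Zh x a) : c * c = 1 := by
  have haz := a_x v s (k := 4) (by decide) (ok_one σ 4)
  have hzz := xx v (ok_one σ 4)
  rcases (mem_Zh v s).1 hc with rfl | rfl | rfl | rfl
  · simp
  · exact hzz
  · exact s.aa
  · calc a * x 4 1 * (a * x 4 1) = a * (x 4 1 * a) * x 4 1 := by group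
      _ = (a * a) * (x 4 1 * x 4 1) := by rw [← haz]; group
      _ = 1 := by rw [s.aa, hzz, one_mul]

/-- `P₁` centralises `Ẑ` -/
theorem P1_Zh {p c : G} (hp : p ∈ P1 σ x) (hc : c ∈ Zh x a) : p * c = c * p := by
  have h1 := P1_z4 v hp
  have h2 := s.aP p hp
  rcases (mem_Zh v s).1 hc with rfl | rfl | rfl | rfl
  · simp
  · exact h1
  · exact h2.symm
  · rw [← mul_assoc, ← h2, mul_assoc, h1, ← mul_assoc]

theorem Zh_comm {c d : G} (hc : c ∈ Zh x a) (hd : d ∈ Zh x a) : c * d = d * c := by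
  have h1 := Zh_sq v s hc
  have h2 := Zh_sq v s hd
  have h3 := Zh_sq v s (mul_mem hc hd)
  calc c * d = c * d * (c * d * (c * d)) := by rw [h3, mul_one]
    _ = c * d * c * (d * (c * d)) := by group
    _ = d * c := by
      have : c * d * c * (d * (c * d)) = (c * d) * (c * d) * (c * d) := by group
      rw [this, h3, one_mul]
      calc c * d = (d * d) * (c * d) * (c * c) := by rw [h1, h2]; group
        _ = d * ((d * c) * (d * c)) * c := by group
        _ = d * c := by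
          have h4 : (d * c) * (d * c) = 1 := Zh_sq v s (mul_mem hd hc)
          rw [h4, mul_one]

/-- elements of `Ẑ` inverted by `t` in the coset sense are in `Z` -/
theorem Zh_ct {c : G} (hc : c ∈ Zh x a) (h : c * (t * c * t⁻¹) = 1) : c = 1 ∨ c = x 4 1 := by
  have haz := a_x v s (k := 4) (by decide) (ok_one σ 4)
  have hzz := xx v (ok_one σ 4)
  have hta := t_a v s
  have htz : t * x 4 1 * t⁻¹ = x 4 1 := by rw [v.tx 4 1 (ok_one σ 4), mul_inv_cancel_right]
  rcases (mem_Zh v s).1 hc with rfl | rfl | rfl | rfl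
  · left; rfl
  · right; rfl
  · exfalso
    rw [hta, ← mul_assoc, s.aa, one_mul] at h
    exact z4_ne v h
  · exfalso
    have e : t * (a * x 4 1) * t⁻¹ = a := by
      calc t * (a * x 4 1) * t⁻¹ = (t * a * t⁻¹) * (t * x 4 1 * t⁻¹) := by group
        _ = a := by rw [hta, htz, mul_assoc, hzz, mul_one]
    rw [e, haz, mul_assoc, s.aa, mul_one] at h
    exact z4_ne v h

end Seed

end Cfsg.Agent.TriTwo
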