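import Mathlib
import Cfsg.Agent.TriTwo.SeedFacts

/-!
# S1778, type `³D₄(2)`: the eight elements of the field, the trace form, dual elements in `Q₁`
-/

set_option autoImplicit false
set_option linter.unusedSectionVars false

namespace Cfsg.Agent.TriTwo

open Cfsg.Agent.StdRank2.Hex Cfsg.Agent.SplitTwo
open scoped commutatorElement

section Fld

variable {E : Type*} [Field E] {σ : E ≃+* E} (h2 : (2 : E) = 0) (hc : Nat.card E = 8)

include h2 hc in
theorem E_cases {η : E} (hη : η ^ 3 = η + 1) (b : E) : b = 0 ∨ b = 1 ∨ b = η ∨ b = η ^ 2 ∨ b = η + 1 ∨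
    b = η ^ 2 + η ∨ b = η ^ 2 + η + 1 ∨ b = η ^ 2 + 1 := by
  by_cases hb : b = 0
  · left; exact hb
  right
  have h7 := pow_seven hc hb
  have sub : ∀ c d : E, c + d = 0 → c = d := fun c d h => by
    have := eq_neg_of_add_eq_zero_left h
    rwa [negEq h2] at this
  have f : (b + 1) * ((b + η) * ((b + η ^ 2) * (b + (η ^ 2 + η)))) *
      ((b + (η + 1)) * ((b + (η ^ 2 + η + 1)) * (b + (η ^ 2 + 1)))) = 0 := by
    have e1 : (b + η) * ((b + η ^ 2) * (b + (η ^ 2 + η))) = b ^ 3 + b + 1 := by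
      linear_combination (b * (η + 1) + η ^ 2 + η + 1) * hη + (b ^ 2 * (η ^ 2 + η) + b * (η ^ 3 + η ^ 2 + η) + η ^ 2 + η) * h2
    have e2 : (b + (η + 1)) * ((b + (η ^ 2 + η + 1)) * (b + (η ^ 2 + 1))) = b ^ 3 + b ^ 2 + 1 := by
      linear_combination (b * (η + 3) + η ^ 2 + 2 * η + 4) * hη + (b ^ 2 * (η ^ 2 + η + 1) +
        b * (3 * η ^ 2 + 4 * η + 3) + 3 * η ^ 2 + 4 * η + 2) * h2
    rw [e1, e2]
    linear_combination h7 + (b ^ 6 + b ^ 5 + 2 * b ^ 4 + 2 * b ^ 3 + b ^ 2 + b + 1) * h2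
  rcases mul_eq_zero.1 f with f | f
  · rcases mul_eq_zero.1 f with f | f
    · left; exact sub _ _ f
    · rcases mul_eq_zero.1 f with f | f
      · right; left; exact sub _ _ f
      · rcases mul_eq_zero.1 f with f | f
        · right; right; left; exact sub _ _ f
        · right; right; right; right; left; exact sub _ _ f
  · rcases mul_eq_zero.1 f with f | f
    · right; right; right; left; exact sub _ _ f
    · rcases mul_eq_zero.1 f with f | f
      · right; right; right; right; right; left; exact sub _ _ f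
      · right; right; right; right; right; right; exact sub _ _ f

theorem tr_sq (h2 : (2 : E) = 0) (a : E) : tr σ (a ^ 2) = tr σ a ^ 2 := by
  unfold tr
  rw [map_pow, map_pow]
  linear_combination -(a * σ a + a * σ (σ a) + σ a * σ (σ a)) * h2

include h2 hc in
/-- every additive `F₂`-valued function is a trace form -/
theorem exists_tr (hf : ∀ a, σ a = a → a = 0 ∨ a = 1) (h3 : ∀ a, σ (σ (σ a)) = a) (χ : E → E)
    (h01 : ∀ b, χ b = 0 ∨ χ b = 1) (hadd : ∀ b c, χ (b + c) = χ b + χ c) : ∃ d : E, ∀ b, χ b = tr σ (d * b) := by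
  obtain ⟨η, h0, h1, ht, hti, hη⟩ := exists_eta h2 hc hf h3
  have ht1 : tr σ (1 : E) = 1 := tr_one h2
  have ht2 : tr σ (η ^ 2) = 0 := by rw [tr_sq h2, ht]; ring
  have ht3 : tr σ (η ^ 3) = 1 := by rw [hη, tr_add, ht, ht1, zero_add]
  have ht4 : tr σ (η ^ 4) = 0 := by rw [show η ^ 4 = (η ^ 2) ^ 2 by ring, tr_sq h2, ht2]; ring
  have sm : ∀ c y : E, c = 0 ∨ c = 1 → tr σ (c * y) = c * tr σ y := by
    rintro c y (rfl | rfl)
    · rw [zero_mul, zero_mul, tr_zero]
    · rw [one_mul, one_mul]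
  refine ⟨χ 1 + χ η * η ^ 2 + χ (η ^ 2) * η, ?_⟩
  have g1 : χ 1 = tr σ ((χ 1 + χ η * η ^ 2 + χ (η ^ 2) * η) * 1) := by
    rw [mul_one, tr_add, tr_add, sm _ _ (h01 _), sm _ _ (h01 _), ht2, ht]
    have := sm (χ 1) 1 (h01 1)
    rw [mul_one] at this
    rw [this, ht1]; ring
  have g2 : χ η = tr σ ((χ 1 + χ η * η ^ 2 + χ (η ^ 2) * η) * η) := by
    rw [show (χ 1 + χ η * η ^ 2 + χ (η ^ 2) * η) * η = χ 1 * η + χ η * η ^ 3 + χ (η ^ 2) * η ^ 2 by ring,
      tr_add, tr_add, sm _ _ (h01 _), sm _ _ (h01 _), sm _ _ (h01 _), ht2, ht, ht3]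
    ring
  have g3 : χ (η ^ 2) = tr σ ((χ 1 + χ η * η ^ 2 + χ (η ^ 2) * η) * η ^ 2) := by
    rw [show (χ 1 + χ η * η ^ 2 + χ (η ^ 2) * η) * η ^ 2 = χ 1 * η ^ 2 + χ η * η ^ 4 + χ (η ^ 2) * η ^ 3 by ring,
      tr_add, tr_add, sm _ _ (h01 _), sm _ _ (h01 _), sm _ _ (h01 _), ht2, ht4, ht3]
    ring
  set d := χ 1 + χ η * η ^ 2 + χ (η ^ 2) * η with hd
  have add : ∀ b c, χ b = tr σ (d * b) → χ c = tr σ (d * c) → χ (b + c) = tr σ (d * (b + c)) := by
    intro b c hb hc
    rw [hadd, mul_add, tr_add, hb, hc]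
  have z0 : χ 0 = 0 := by
    have := hadd 0 0
    rw [add_zero] at this
    exact left_eq_add.1 this
  intro b
  rcases E_cases h2 hc hη b with rfl | rfl | rfl | rfl | rfl | rfl | rfl | rfl
  · rw [z0, mul_zero, tr_zero]
  · exact g1
  · exact g2
  · exact g3
  · exact add _ _ g2 g1
  · exact add _ _ g3 g2
  · exact add _ _ (add _ _ g3 g2) g1
  · exact add _ _ g3 g1

end Fld

section Grp

variable {E : Type*} [Field E] {σ : E ≃+* E} {G : Type*} [Group G] {x : ZMod 12 → E → G} {t : G} (v : Env σ x t)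

include v

theorem c35 (a b : E) : ⁅x 3 a, x 5 b⁆ = x 4 (tr σ (a * b)) := v.hex.commS2 (k := 3) (by decide) a b

theorem ok_tr (k : ZMod 12) (a : E) : Ok σ k (tr σ a) := ok_of_fix _ (tr_fix v.hex.cube a)

theorem c53 (a b : E) : ⁅x 5 a, x 3 b⁆ = x 4 (tr σ (a * b)) := by
  rw [← commutatorElement_inv, c35 v, xinv v (ok_tr v 4 _), mul_comm]

/-- an additive character `b ↦ g x_k(b) g⁻¹ x_k(b)⁻¹ ∈ Z` is a trace form -/
theorem exists_char {k : ZMod 12} (hk : k = 3 ∨ k = 5) {g : G}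
    (hg : ∀ b : E, g * x k b * g⁻¹ * (x k b)⁻¹ ∈ Zs σ x) :
    ∃ d : E, ∀ b, g * x k b * g⁻¹ * (x k b)⁻¹ = x 4 (tr σ (d * b)) := by
  classical
  have hodd : k.val % 2 = 1 := by rcases hk with rfl | rfl <;> decide
  have hk7 : k ∈ ([1, 2, 3, 4, 5, 6, 7] : List (ZMod 12)) := by rcases hk with rfl | rfl <;> decide
  set f : E → G := fun b => g * x k b * g⁻¹ * (x k b)⁻¹ with hf
  have hz : ∀ b c : E, x k b * x 4 c = x 4 c * x k b ∨ ¬ Ok σ 4 c := fun b c => by
    by_cases hc : Ok σ 4 c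
    · left
      refine cm v.hex ?_ (ok_odd hodd b) hc
      rcases hk with rfl | rfl <;> decide
    · right; exact hc
  have fval : ∀ b, f b = 1 ∨ f b = x 4 1 := fun b => (mem_Zs v).1 (hg b)
  have fcomm : ∀ b c, f b * x k c = x k c * f b := fun b c => by
    rcases fval b with h | h <;> rw [h]
    · simp
    · rcases hz c 1 with h' | h'
      · exact h'.symm
      · exact absurd (ok_one σ 4) h'
  have fadd : ∀ b c, f (b + c) = f b * f c := fun b c => by
    have e1 : g * x k (b + c) * g⁻¹ = (f b * x k b) * (f c * x k c) := by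
      rw [v.hex.add k b c (ok_odd hodd b) (ok_odd hodd c), hf]
      group
    have e2 : (f b * x k b) * (f c * x k c) = f b * f c * (x k b * x k c) := by
      calc (f b * x k b) * (f c * x k c) = f b * (x k b * f c) * x k c := by group
        _ = f b * (f c * x k b) * x k c := by rw [fcomm c b]
        _ = _ := by group
    show g * x k (b + c) * g⁻¹ * (x k (b + c))⁻¹ = f b * f c
    rw [e1, e2, ← v.hex.add k b c (ok_odd hodd b) (ok_odd hodd c), mul_inv_cancel_right]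
  set χ : E → E := fun b => if f b = 1 then 0 else 1 with hχ
  have hχf : ∀ b, f b = x 4 (χ b) := fun b => by
    rw [hχ]
    rcases fval b with h | h
    · simp only [h, if_true]
      exact (v.hex.x_zero 4).symm
    · simp only [h, if_neg (z4_ne v)]
  have h01 : ∀ b, χ b = 0 ∨ χ b = 1 := fun b => by
    rw [hχ]
    by_cases h : f b = 1
    · left; simp [h]
    · right; simp [h]
  have ok01 : ∀ b, Ok σ 4 (χ b) := fun b => by
    rcases h01 b with h | h <;> rw [h]
    · exact ok_zero σ 4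
    · exact ok_one σ 4
  have hadd : ∀ b c, χ (b + c) = χ b + χ c := fun b c => by
    have h := fadd b c
    rw [hχf, hχf, hχf, ← v.hex.add 4 _ _ (ok01 b) (ok01 c)] at h
    exact (v.hex.x_inj (ok01 _) ((ok01 b).add (ok01 c))).1 h
  obtain ⟨d, hd⟩ := exists_tr v.hex.two v.card v.fix v.hex.cube χ h01 hadd
  exact ⟨d, fun b => by rw [← hd b]; exact hχf b⟩

end Grp

end Cfsg.Agent.TriTwo
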