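import Cfsg.Agent.TriTwo.PFactsA

/-!
# S1778, type `³D₄(2)`, piece [A]: the facts inside `P₁`

`pfacts : HexTwo σ x → Nat.card E = 8 → (∀ a, σ a = a → a = 0 ∨ a = 1) → PFacts σ x`.
-/

set_option autoImplicit false
set_option linter.style.haveILetI false
set_option linter.unusedSectionVars false

namespace Cfsg.Agent.TriTwo

namespace PF

open Cfsg.Agent.StdRank2.Hex Cfsg.Agent.SplitTwo
open Cfsg.Agent.StdRank2.Hex.HexTwo (ok1 ok3 ok5)
open Cfsg.Agent.TriTwo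
open scoped commutatorElement

variable {E : Type*} [Field E] {σ : E ≃+* E} {G : Type*} [Group G] {x : ZMod 12 → E → G} (h : HexTwo σ x)

include h

theorem trc_one_right {t : E} (ht : σ t = t) : trc σ t 1 = t := by
  unfold trc
  rw [mul_one, ht, ht, h.add_self, zero_add]

theorem trc_inv {a : E} (ha : a ≠ 0) : trc σ a a⁻¹ = 1 := by
  unfold trc
  rw [mul_inv_cancel₀ ha, map_one, map_one, h.add_self, zero_add]

/-- a unit which is not `1` -/
theorem exists_unit (hE : Nat.card E = 8) : ∃ s : E, s ≠ 0 ∧ s ≠ 1 := by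
  haveI : Finite E := Nat.finite_of_card_ne_zero (by omega)
  haveI := Fintype.ofFinite E
  classical
  by_contra hcon
  push Not at hcon
  have h1 : (Finset.univ : Finset E) ⊆ {0, 1} := by
    intro s _
    rw [Finset.mem_insert, Finset.mem_singleton]
    by_cases hs : s = 0
    · exact Or.inl hs
    · exact Or.inr (hcon s hs)
  have h2 := Finset.card_le_card h1
  rw [Finset.card_univ, ← Nat.card_eq_fintype_card, hE] at h2
  have h3 := Finset.card_le_two (a := (0 : E)) (b := 1)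
  omega

theorem pow_eight (hE : Nat.card E = 8) (s : E) : s ^ 8 = s := by
  haveI : Finite E := Nat.finite_of_card_ne_zero (by omega)
  haveI := Fintype.ofFinite E
  have := FiniteField.pow_card s
  rwa [← Nat.card_eq_fintype_card, hE] at this

theorem hh_eq_tau (hE : Nat.card E = 8) (s : E) : hh x 1 s = tau x (s ^ 2) := by
  rw [tau, ← pow_mul, pow_eight h hE]

/-- `x k a`, `k` odd, is a commutator with an element of the torus -/
theorem odd_mem_comm (hE : Nat.card E = 8) {k : ZMod 12} (hk : k = 1 ∨ k = 3 ∨ k = 5 ∨ k = 7) (a : E) :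
    x k a ∈ ⁅P1 σ x, P1 σ x⁆ := by
  haveI : Finite E := Nat.finite_of_card_ne_zero (by omega)
  obtain ⟨s, hs, hs1⟩ := exists_unit h hE
  have hkk : k.val % 2 = 1 ∧ (k - 1).val < 7 := by
    rcases hk with rfl | rfl | rfl | rfl <;> decide
  -- the character is not `1`
  have hc : chS σ (k - 1) s ≠ 1 := by
    intro e
    have n1 : ∀ u : E, u ^ 2 = 1 → u = 1 := fun u hu => h.sq_eq_one (by rw [← pow_two]; exact hu)
    have n2 : s⁻¹ * shp σ s = 1 → False := by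
      intro e
      refine hs1 (h.shp_injective hs one_ne_zero ?_)
      rw [e, shp_one, inv_one, mul_one]
    rcases hk with rfl | rfl | rfl | rfl
    · exact hs1 (n1 s e)
    · exact n2 e
    · refine n2 ?_
      have e' : s * (shp σ s)⁻¹ = 1 := e
      have : s⁻¹ * shp σ s = (s * (shp σ s)⁻¹)⁻¹ := by rw [mul_inv, inv_inv]
      rw [this, e', inv_one]
    · have e' : (s ^ 2)⁻¹ = 1 := e
      exact hs1 (n1 s (inv_eq_one.1 e'))
  set c := chS σ (k - 1) s with hcdef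
  have hc1 : c + 1 ≠ 0 := by
    intro e
    rw [← h.sub_eq] at e
    exact hc (sub_eq_zero.1 e)
  have ok : ∀ b : E, Ok σ k b := fun b => ok_odd hkk.1 b
  have e1 : ⁅hh x 1 s, x k ((c + 1)⁻¹ * a)⁆ = x k a := by
    rw [commutatorElement_def, hh1_act h hs k (ok _), h.x_inv (ok _), ← h.add k _ _ (ok _) (ok _), ← hcdef]
    congr 1
    field_simp
  rw [← e1]
  exact Subgroup.commutator_mem_commutator (hh1_mem_P1 s) (x_mem_P1 hkk.2 (ok _))

/-- `P₁` is perfect -/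
theorem perfect (hE : Nat.card E = 8) : ⁅P1 σ x, P1 σ x⁆ = P1 σ x := by
  refine le_antisymm ?_ ?_
  · rw [Subgroup.commutator_le]
    intro a ha b hb
    rw [commutatorElement_def]
    exact mul_mem (mul_mem (mul_mem ha hb) (inv_mem ha)) (inv_mem hb)
  · conv_lhs => rw [P1_eq]
    refine gen_le fun k hk a ha => ?_
    have hk' : k = 1 ∨ k = 2 ∨ k = 3 ∨ k = 4 ∨ k = 5 ∨ k = 6 ∨ k = 7 := by
      have : ∀ k : ZMod 12, (k - 1).val < 7 → k = 1 ∨ k = 2 ∨ k = 3 ∨ k = 4 ∨ k = 5 ∨ k = 6 ∨ k = 7 := by decide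
      exact this k hk
    have ev : ∀ k : ZMod 12, k.val % 2 = 1 → (k - 1).val < 7 → (k + 2 - 1).val < 7 → ∀ t, σ t = t →
        x (k + 1) t ∈ ⁅P1 σ x, P1 σ x⁆ := by
      intro k hk h1 h2 t ht
      have e := h.commS2 hk t 1
      rw [trc_one_right h ht] at e
      rw [← e]
      refine Subgroup.commutator_mem_commutator (x_mem_P1 h1 (ok_odd hk _)) (x_mem_P1 h2 (ok_odd ?_ _))
      have : ∀ k : ZMod 12, k.val % 2 = 1 → (k + 2).val % 2 = 1 := by decide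
      exact this k hk
    rcases hk' with rfl | rfl | rfl | rfl | rfl | rfl | rfl
    · exact odd_mem_comm h hE (Or.inl rfl) a
    · exact ev 1 (by decide) (by decide) (by decide) a (ha (by decide))
    · exact odd_mem_comm h hE (Or.inr (Or.inl rfl)) a
    · exact ev 3 (by decide) (by decide) (by decide) a (ha (by decide))
    · exact odd_mem_comm h hE (Or.inr (Or.inr (Or.inl rfl))) a
    · exact ev 5 (by decide) (by decide) (by decide) a (ha (by decide))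
    · exact odd_mem_comm h hE (Or.inr (Or.inr (Or.inr rfl))) a

theorem card_fix (hfix : ∀ a, σ a = a → a = 0 ∨ a = 1) : Nat.card {a : E // σ a = a} = 2 := by
  rw [Nat.card_eq_two_iff]
  refine ⟨⟨0, map_zero σ⟩, ⟨1, map_one σ⟩, ?_, ?_⟩
  · intro e
    exact zero_ne_one (congrArg Subtype.val e)
  · ext ⟨a, ha⟩
    simp only [Set.mem_insert_iff, Set.mem_singleton_iff, Set.mem_univ, iff_true, Subtype.mk.injEq]
    exact hfix a ha

theorem card_Us (hE : Nat.card E = 8) (hfix : ∀ a, σ a = a → a = 0 ∨ a = 1) : Nat.card (Us σ x) = 2 ^ 12 := by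
  rw [Us_eq, h.card_U, hE, card_fix h hfix]
  norm_num

theorem two_Us (hE : Nat.card E = 8) (hfix : ∀ a, σ a = a → a = 0 ∨ a = 1) : IsPGroup 2 (Us σ x) :=
  IsPGroup.of_card (card_Us h hE hfix)

theorem six_not_mem {y : G} (hy : y ∈ Q2 σ x) {t : E} (ht : σ t = t) (e : y = x 6 t) : t = 0 := by
  subst e
  rw [Q2_eq] at hy
  refine h.mem_last_eq_zero (k := 6) (ok_of_fix _ ht) ?_
  rwa [show (6 : ZMod 12) - 5 = 1 by ring]

theorem seven_not_mem {a : E} (hy : x 7 a ∈ Us σ x) : a = 0 := by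
  rw [Us_eq] at hy
  have ok7 : Ok σ (7 : ZMod 12) a := ok_odd (by decide) a
  refine h.inj 7 a ok7 (h.opp_all 1 hy ?_)
  rw [show (1 : ZMod 12) + 6 = 7 by ring]
  exact x_mem_gen (self_mem_arc (by norm_num)) ok7

/-- `N_{P₁}(U) = U H` -/
theorem borel (hE : Nat.card E = 8) {p : G} (hp : p ∈ P1 σ x) (hU : ∀ u ∈ Us σ x, p * u * p⁻¹ ∈ Us σ x) :
    ∃ u ∈ Us σ x, ∃ s : E, s ≠ 0 ∧ p = u * tau x s := by
  haveI : Finite E := Nat.finite_of_card_ne_zero (by omega)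
  obtain ⟨q, hq, a, s, hs, e | ⟨c, e⟩⟩ := P1_decomp h hp
  · refine ⟨q * x 1 a, mul_mem (Q1_le_Us hq) (x_mem_Us (by decide) (ok1 a)), s ^ 2, pow_ne_zero 2 hs, ?_⟩
    rw [e, ← hh_eq_tau h hE]
    group
  · exfalso
    have hx1 : ∀ b, x 1 b ∈ Us σ x := fun b => x_mem_Us (by decide) (ok1 b)
    -- `nn x 1` normalises `U`
    have h1 := hU (x 1 c * x 1 1 * (x 1 c)⁻¹) (mul_mem (mul_mem (hx1 c) (hx1 1)) (inv_mem (hx1 c)))
    have hb : q * x 1 a ∈ Us σ x := mul_mem (Q1_le_Us hq) (hx1 a)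
    have h0 : (x 1 c)⁻¹ * (x 1 c * x 1 1 * (x 1 c)⁻¹) * x 1 c = x 1 1 := by group
    have h2 : (q * x 1 a)⁻¹ * (p * (x 1 c)⁻¹ * x 1 1 * (p * (x 1 c)⁻¹)⁻¹) * (q * x 1 a) ∈ Us σ x := by
      have h3 := hU ((x 1 c)⁻¹ * x 1 1 * x 1 c) (mul_mem (mul_mem (inv_mem (hx1 c)) (hx1 1)) (hx1 c))
      have e3 : p * (x 1 c)⁻¹ * x 1 1 * (p * (x 1 c)⁻¹)⁻¹ = p * ((x 1 c)⁻¹ * x 1 1 * x 1 c) * p⁻¹ := by group
      rw [e3]
      exact mul_mem (mul_mem (inv_mem hb) h3) hb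
    have e4 : (q * x 1 a)⁻¹ * (p * (x 1 c)⁻¹ * x 1 1 * (p * (x 1 c)⁻¹)⁻¹) * (q * x 1 a) =
        hh x 1 s * (nn x 1 * x 1 1 * (nn x 1)⁻¹) * (hh x 1 s)⁻¹ := by
      rw [e]; group
    rw [e4, h.refl 1 1 (ok1 1), show (2 : ZMod 12) * 1 + 6 - 1 = 7 by decide] at h2
    rw [Us_eq] at h2
    have h5 := hh1_conj_gen' h hs _ h2
    have e5 : (hh x 1 s)⁻¹ * (hh x 1 s * x 7 1 * (hh x 1 s)⁻¹) * hh x 1 s = x 7 1 := by group
    rw [e5, ← Us_eq] at h5
    exact one_ne_zero (seven_not_mem h h5)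

theorem tau_pow (hE : Nat.card E = 8) {s : E} (hs : s ≠ 0) : tau x s ^ 7 = 1 := by
  haveI : Finite E := Nat.finite_of_card_ne_zero (by omega)
  have hpow : ∀ n : ℕ, ∀ u : E, u ≠ 0 → hh x 1 (u ^ n) = hh x 1 u ^ n := by
    intro n u hu
    induction n with
    | zero => rw [pow_zero, pow_zero, h.hh_one]
    | succ n ih =>
      rw [pow_succ, pow_succ, h.hh_mul 1 (pow_ne_zero n hu) hu (ok1 _) (ok1 _), ih]
  have h7 : (s ^ 4) ^ 7 = 1 := by
    have h8 := pow_eight h hE (s ^ 4)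
    have : (s ^ 4) ^ 7 * (s ^ 4) = 1 * s ^ 4 := by rw [one_mul]; nth_rw 3 [← h8]; ring
    exact mul_right_cancel₀ (pow_ne_zero 4 hs) this
  rw [tau, ← hpow 7 _ (pow_ne_zero 4 hs), h7, h.hh_one]

theorem finite_P1 (hE : Nat.card E = 8) : Finite (P1 σ x) := by
  haveI : Finite E := Nat.finite_of_card_ne_zero (by omega)
  haveI hfg : Finite (gen σ x (arc 2 5)) := by
    have key : ∀ (n : ℕ), n ≤ 6 → ∀ k : ZMod 12, Finite (gen σ x (arc k n)) := by
      intro n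
      induction n with
      | zero =>
        intro _ k
        rw [HexTwo.gen_arc_zero]
        infer_instance
      | succ n ih =>
        intro hn k
        haveI := ih (by omega) (k + 1)
        exact Finite.of_equiv _ (h.arcEquiv k (n := n) (by omega))
    exact key 5 (by norm_num) 2
  let f : (gen σ x (arc 2 5)) × E × E × Option E → G := fun w =>
    match w with
    | (q, a, s, none) => q.1 * (x 1 a * hh x 1 s)
    | (q, a, s, some c) => q.1 * (x 1 a * hh x 1 s * nn x 1 * x 1 c)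
  have hsub : (P1 σ x : Set G) ⊆ Set.range f := by
    intro p hp
    obtain ⟨q, hq, a, s, hs, e | ⟨c, e⟩⟩ := P1_decomp h hp
    · rw [Q1_eq] at hq
      exact ⟨(⟨q, hq⟩, a, s, none), e.symm⟩
    · rw [Q1_eq] at hq
      exact ⟨(⟨q, hq⟩, a, s, some c), e.symm⟩
  exact ((Set.finite_range f).subset hsub).to_subtype

/-- `U` is a Sylow `2`-subgroup of `P₁` -/
theorem sylow_Us (hE : Nat.card E = 8) (hfix : ∀ a, σ a = a → a = 0 ∨ a = 1) (Q : Subgroup G) (hQ2 : IsPGroup 2 Q)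
    (hQ : Q ≤ P1 σ x) : ∃ p ∈ P1 σ x, ∀ y ∈ Q, p * y * p⁻¹ ∈ Us σ x := by
  haveI := finite_P1 h hE
  haveI : Fact (Nat.Prime 2) := ⟨Nat.prime_two⟩
  -- `U` inside `P₁`
  have hU2 : IsPGroup 2 ((Us σ x).subgroupOf (P1 σ x)) := by
    refine (two_Us h hE hfix).of_equiv (Subgroup.subgroupOfEquivOfLe Us_le_P1).symm
  obtain ⟨S, hS⟩ := hU2.exists_le_sylow
  have hSU : (S : Subgroup (P1 σ x)) = (Us σ x).subgroupOf (P1 σ x) := by
    by_contra hne
    have hlt : (Us σ x).subgroupOf (P1 σ x) < S := lt_of_le_of_ne hS (Ne.symm hne)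
    -- normalizer grows in the nilpotent group `S`
    haveI : Finite S := inferInstance
    haveI hnil : Group.IsNilpotent (S : Subgroup (P1 σ x)) := S.isPGroup'.isNilpotent
    have hnc : NormalizerCondition (S : Subgroup (P1 σ x)) := Group.normalizerCondition_of_isNilpotent
    set U' : Subgroup (S : Subgroup (P1 σ x)) := ((Us σ x).subgroupOf (P1 σ x)).subgroupOf S with hU'
    have hlt' : U' < ⊤ := by
      rw [lt_top_iff_ne_top]
      intro e
      rw [hU', Subgroup.subgroupOf_eq_top] at e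
      exact hne (le_antisymm e hS)
    have h1 := hnc U' hlt'
    obtain ⟨g, hg, hgU⟩ := SetLike.exists_of_lt h1
    rw [Subgroup.mem_normalizer_iff] at hg
    -- `g` normalises `U`
    have hgn : ∀ u ∈ Us σ x, (g : P1 σ x).1 * u * ((g : P1 σ x).1)⁻¹ ∈ Us σ x := by
      intro u hu
      have hu' : (⟨u, Us_le_P1 hu⟩ : P1 σ x) ∈ (S : Subgroup (P1 σ x)) := hS hu
      have := (hg ⟨⟨u, Us_le_P1 hu⟩, hu'⟩).1 hu
      exact this
    obtain ⟨u, hu, s, hs, e⟩ := borel h hE (g : P1 σ x).2 hgn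
    -- `tau s ∈ S`
    have hτP : tau x s ∈ P1 σ x := hh1_mem_P1 _
    have huS : (⟨u, Us_le_P1 hu⟩ : P1 σ x) ∈ (S : Subgroup (P1 σ x)) := hS hu
    have hτS : (⟨tau x s, hτP⟩ : P1 σ x) ∈ (S : Subgroup (P1 σ x)) := by
      have e2 : (⟨tau x s, hτP⟩ : P1 σ x) = (⟨u, Us_le_P1 hu⟩ : P1 σ x)⁻¹ * (g : P1 σ x) := by
        apply Subtype.ext
        rw [Subgroup.coe_mul, e]
        simp
      rw [e2]
      exact mul_mem (inv_mem huS) g.2
    have hτ1 : tau x s = 1 := by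
      obtain ⟨n, hn⟩ := S.isPGroup' ⟨_, hτS⟩
      have hn' : tau x s ^ 2 ^ n = 1 := by
        have := congrArg (fun y : (S : Subgroup (P1 σ x)) => ((y : P1 σ x) : G)) hn
        simpa using this
      have h7 := tau_pow h hE hs
      have o1 := orderOf_dvd_of_pow_eq_one hn'
      have o2 := orderOf_dvd_of_pow_eq_one h7
      have hcop : Nat.Coprime (2 ^ n) 7 := Nat.Coprime.pow_left n (by norm_num)
      have := Nat.eq_one_of_dvd_coprimes hcop o1 o2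
      exact orderOf_eq_one_iff.1 this
    apply hgU
    rw [hU', Subgroup.mem_subgroupOf, Subgroup.mem_subgroupOf, e, hτ1, mul_one]
    exact hu
  have hQ2' : IsPGroup 2 (Q.subgroupOf (P1 σ x)) := hQ2.of_equiv (Subgroup.subgroupOfEquivOfLe hQ).symm
  obtain ⟨R, hR⟩ := hQ2'.exists_le_sylow
  obtain ⟨g, hg⟩ := MulAction.exists_smul_eq (P1 σ x) R S
  refine ⟨g.1, g.2, fun y hy => ?_⟩
  have hyR : (⟨y, hQ hy⟩ : P1 σ x) ∈ (R : Subgroup (P1 σ x)) := hR hy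
  have : g * ⟨y, hQ hy⟩ * g⁻¹ ∈ (S : Subgroup (P1 σ x)) := by
    rw [← hg]
    exact Subgroup.smul_mem_pointwise_smul _ (MulAut.conj g) _ hyR
  rw [hSU] at this
  exact this

/-- `[p, y] ∈ Z` means `p y p⁻¹ ≡ y mod Z` -/
theorem comm_Zs_iff {p y : G} (hc : ⁅p, y⁆ ∈ Zs σ x) : ∃ z ∈ Zs σ x, p * y * p⁻¹ = z * y :=
  ⟨_, hc, by rw [commutatorElement_def]; group⟩

/-- an element of `P₁` which fixes the lines `z₂`, `z₆`, `z₆^{x₁(1)}` is in `Q₁` -/
theorem three (hE : Nat.card E = 8) (hfix : ∀ a, σ a = a → a = 0 ∨ a = 1) {p : G} (hp : p ∈ P1 σ x)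
    (h2 : ⁅p, x 2 1⁆ ∈ Zs σ x) (h6 : ⁅p, x 6 1⁆ ∈ Zs σ x) (h16 : ⁅p, x 1 1 * x 6 1 * x 1 1⁆ ∈ Zs σ x) :
    p ∈ Q1 σ x := by
  haveI : Finite E := Nat.finite_of_card_ne_zero (by omega)
  have hQP : Q1 σ x ≤ P1 σ x := Q1_le_Us.trans Us_le_P1
  have hx1 : ∀ b, x 1 b ∈ Us σ x := fun b => x_mem_Us (by decide) (ok1 b)
  have z4Q2 : Zs σ x ≤ Q2 σ x := by
    rw [Q2_eq, Zs_eq]
    refine gen_mono ?_
    intro l hl
    rw [Set.mem_singleton_iff] at hl
    subst hl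
    rw [mem_arc]; decide
  have z4Q1 : Zs σ x ≤ Q1 σ x := by
    rw [Q1_eq, Zs_eq]
    refine gen_mono ?_
    intro l hl
    rw [Set.mem_singleton_iff] at hl
    subst hl
    rw [mem_arc]; decide
  obtain ⟨q, hq, a, s, hs, e | ⟨c, e⟩⟩ := P1_decomp h hp
  · have nfix : ∀ u : E, u ≠ 0 → nrm σ u = 1 := fun u hu => (hfix _ (nrm_fix h.cube u)).resolve_left (nrm_ne_zero hu)
    -- `p` on `x 6 1`
    obtain ⟨z, hz, ez⟩ := comm_Zs_iff h h6
    have e1 : hh x 1 s * x 6 1 * (hh x 1 s)⁻¹ = x 6 1 := by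
      rw [hh1_act h hs 6 (ok_one σ _)]
      have : chS σ (6 - 1) s = (nrm σ s)⁻¹ := rfl
      rw [this, nfix s hs, inv_one, mul_one]
    have e2 := h.commS5 (k := 1) (by decide) a (map_one σ)
    rw [show (1 : ZMod 12) + 5 = 6 from rfl, show (1 : ZMod 12) + 1 = 2 from rfl, show (1 : ZMod 12) + 2 = 3 from rfl,
      show (1 : ZMod 12) + 3 = 4 from rfl, show (1 : ZMod 12) + 4 = 5 from rfl, one_mul, one_mul, one_pow, one_mul,
      one_mul] at e2
    have e3 : x 1 a * x 6 1 * (x 1 a)⁻¹ = x 2 (nrm σ a) * x 3 (shp σ a) * x 4 (nrm σ a) * x 5 a * x 6 1 := by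
      rw [← e2, commutatorElement_def]; group
    have nf := nrm_fix h.cube a
    -- the big element
    have m2 : x 2 (nrm σ a) ∈ gen σ x (arc 2 3) := x_mem_gen (by rw [mem_arc]; decide) (ok_of_fix _ nf)
    have m3 : x 3 (shp σ a) ∈ gen σ x (arc 2 3) := x_mem_gen (by rw [mem_arc]; decide) (ok3 _)
    have m4 : x 4 (nrm σ a) ∈ gen σ x (arc 2 3) := x_mem_gen (by rw [mem_arc]; decide) (ok_of_fix _ nf)
    have mv : x 2 (nrm σ a) * x 3 (shp σ a) * x 4 (nrm σ a) ∈ gen σ x (arc 2 3) := mul_mem (mul_mem m2 m3) m4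
    set w := x 2 (nrm σ a) * x 3 (shp σ a) * x 4 (nrm σ a) with hw
    have hwQ : w * x 5 a * x 6 1 ∈ Q1 σ x := by
      rw [Q1_eq]
      refine mul_mem (mul_mem (gen_mono (arc_mono (by norm_num)) mv) (x_mem_gen (by rw [mem_arc]; decide) (ok5 a)))
        (x_mem_gen (by rw [mem_arc]; decide) (ok_one σ _))
    have e4 : p * x 6 1 * p⁻¹ = ⁅q, w * x 5 a * x 6 1⁆ * (w * x 5 a * x 6 1) := by
      have : p * x 6 1 * p⁻¹ = q * (x 1 a * (hh x 1 s * x 6 1 * (hh x 1 s)⁻¹) * (x 1 a)⁻¹) * q⁻¹ := by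
        rw [e]; group
      rw [this, e1, e3, commutatorElement_def]; group
    have hz' := comm_Q1 h hq hwQ
    rw [e4] at ez
    -- `x 5` coordinate
    have e5 : (z⁻¹ * ⁅q, w * x 5 a * x 6 1⁆ * w) * x 5 a = 1 * x 5 0 := by
      rw [h.x_zero, mul_one]
      have h1 : z⁻¹ * (⁅q, w * x 5 a * x 6 1⁆ * (w * x 5 a * x 6 1)) = x 6 1 := by rw [ez]; group
      have h2 : z⁻¹ * ⁅q, w * x 5 a * x 6 1⁆ * w * x 5 a =
          z⁻¹ * (⁅q, w * x 5 a * x 6 1⁆ * (w * x 5 a * x 6 1)) * (x 6 1)⁻¹ := by group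
      rw [h2, h1, mul_inv_cancel]
    have z3 : ∀ z ∈ Zs σ x, z ∈ gen σ x (arc 2 3) := by
      intro z hz
      obtain ⟨t, ht, rfl⟩ := (mem_Zs h).1 hz
      exact x_mem_gen (by rw [mem_arc]; decide) (ok_of_fix _ ht)
    have u1 := h.uniq_last (k := 2) (n := 3) (by norm_num) (b := a) (b' := 0) (ok5 a) (ok5 0)
      (mul_mem (mul_mem (inv_mem (z3 z hz)) (z3 _ hz')) mv) (one_mem _) e5
    have ha : a = 0 := u1.2
    -- `p = q hh(s)` on `x 1 1 * x 6 1 * x 1 1`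
    obtain ⟨z', hz2, ez'⟩ := comm_Zs_iff h h16
    have e6 := h.commS5 (k := 1) (by decide) 1 (map_one σ)
    rw [show (1 : ZMod 12) + 5 = 6 from rfl, show (1 : ZMod 12) + 1 = 2 from rfl, show (1 : ZMod 12) + 2 = 3 from rfl,
      show (1 : ZMod 12) + 3 = 4 from rfl, show (1 : ZMod 12) + 4 = 5 from rfl, one_mul, one_mul, one_pow, one_mul,
      one_mul, nrm_one, shp_one] at e6
    have e7 : x 1 1 * x 6 1 * x 1 1 = x 2 1 * x 3 1 * x 4 1 * x 5 1 * x 6 1 := by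
      rw [← e6, commutatorElement_def, h.x_inv (ok1 1)]; group
    rw [e7] at ez'
    have a2 := hh1_act h hs 2 (a := 1) (ok_one σ _)
    have a3 := hh1_act h hs 3 (a := 1) (ok_one σ _)
    have a4 := hh1_act h hs 4 (a := 1) (ok_one σ _)
    have a5 := hh1_act h hs 5 (a := 1) (ok_one σ _)
    rw [mul_one] at a2 a3 a4 a5
    have c2 : chS σ (2 - 1) s = 1 := nfix s hs
    have c4 : chS σ (4 - 1) s = 1 := rfl
    rw [c2] at a2
    rw [c4] at a4
    set c3 := chS σ (3 - 1) s with hc3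
    set c5 := chS σ (5 - 1) s with hc5
    have e8 : hh x 1 s * (x 2 1 * x 3 1 * x 4 1 * x 5 1 * x 6 1) * (hh x 1 s)⁻¹ =
        x 2 1 * x 3 c3 * x 4 1 * x 5 c5 * x 6 1 := by
      calc hh x 1 s * (x 2 1 * x 3 1 * x 4 1 * x 5 1 * x 6 1) * (hh x 1 s)⁻¹ =
          (hh x 1 s * x 2 1 * (hh x 1 s)⁻¹) * (hh x 1 s * x 3 1 * (hh x 1 s)⁻¹) * (hh x 1 s * x 4 1 * (hh x 1 s)⁻¹) *
            (hh x 1 s * x 5 1 * (hh x 1 s)⁻¹) * (hh x 1 s * x 6 1 * (hh x 1 s)⁻¹) := by group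
        _ = _ := by rw [a2, a3, a4, a5, e1]
    have n2 : x 2 1 ∈ gen σ x (arc 2 3) := x_mem_gen (by rw [mem_arc]; decide) (ok_one σ _)
    have n4 : x 4 1 ∈ gen σ x (arc 2 3) := x_mem_gen (by rw [mem_arc]; decide) (ok_one σ _)
    have n3 : ∀ b, x 3 b ∈ gen σ x (arc 2 3) := fun b => x_mem_gen (by rw [mem_arc]; decide) (ok3 _)
    have mv' : x 2 1 * x 3 c3 * x 4 1 ∈ gen σ x (arc 2 3) := mul_mem (mul_mem n2 (n3 _)) n4
    have mv'' : x 2 1 * x 3 1 * x 4 1 ∈ gen σ x (arc 2 3) := mul_mem (mul_mem n2 (n3 _)) n4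
    set w' := x 2 1 * x 3 c3 * x 4 1 with hw'
    have hwQ' : w' * x 5 c5 * x 6 1 ∈ Q1 σ x := by
      rw [Q1_eq]
      refine mul_mem (mul_mem (gen_mono (arc_mono (by norm_num)) mv') (x_mem_gen (by rw [mem_arc]; decide) (ok5 _)))
        (x_mem_gen (by rw [mem_arc]; decide) (ok_one σ _))
    have e9 : p * (x 2 1 * x 3 1 * x 4 1 * x 5 1 * x 6 1) * p⁻¹ =
        ⁅q, w' * x 5 c5 * x 6 1⁆ * (w' * x 5 c5 * x 6 1) := by
      have : p * (x 2 1 * x 3 1 * x 4 1 * x 5 1 * x 6 1) * p⁻¹ =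
          q * (hh x 1 s * (x 2 1 * x 3 1 * x 4 1 * x 5 1 * x 6 1) * (hh x 1 s)⁻¹) * q⁻¹ := by
        rw [e, ha, h.x_zero, one_mul]; group
      rw [this, e8, commutatorElement_def]; group
    rw [e9] at ez'
    have e10 : (z'⁻¹ * ⁅q, w' * x 5 c5 * x 6 1⁆ * w') * x 5 c5 = (x 2 1 * x 3 1 * x 4 1) * x 5 1 := by
      have h1 : z'⁻¹ * (⁅q, w' * x 5 c5 * x 6 1⁆ * (w' * x 5 c5 * x 6 1)) = x 2 1 * x 3 1 * x 4 1 * x 5 1 * x 6 1 := by
        rw [ez']; group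
      have h2 : z'⁻¹ * ⁅q, w' * x 5 c5 * x 6 1⁆ * w' * x 5 c5 =
          z'⁻¹ * (⁅q, w' * x 5 c5 * x 6 1⁆ * (w' * x 5 c5 * x 6 1)) * (x 6 1)⁻¹ := by group
      rw [h2, h1, mul_inv_cancel_right]
    have u2 := h.uniq_last (k := 2) (n := 3) (by norm_num) (b := c5) (b' := 1) (ok5 _) (ok5 _)
      (mul_mem (mul_mem (inv_mem (z3 z' hz2)) (z3 _ (comm_Q1 h hq hwQ'))) mv') mv'' e10
    have hs1 : s = 1 := by
      refine h.shp_injective hs one_ne_zero ?_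
      have e' : s * (shp σ s)⁻¹ = 1 := u2.2
      have : s⁻¹ * shp σ s = (s * (shp σ s)⁻¹)⁻¹ := by rw [mul_inv, inv_inv]
      rw [this, e', inv_one, shp_one, mul_one]
    rw [e, ha, hs1, h.x_zero, h.hh_one, mul_one, mul_one]
    exact hq
  · exfalso
    obtain ⟨z, hz, ez⟩ := comm_Zs_iff h h2
    have e1 : x 1 c * x 2 1 * (x 1 c)⁻¹ = x 2 1 := by
      have := h.commS1 (k := 1) (by decide) c (map_one σ)
      rw [show (1 : ZMod 12) + 1 = 2 from rfl, commutatorElement_eq_one_iff_mul_comm] at this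
      rw [this, mul_inv_cancel_right]
    have e2 : p * x 2 1 * p⁻¹ = (q * x 1 a) * (hh x 1 s * (nn x 1 * (x 1 c * x 2 1 * (x 1 c)⁻¹) * (nn x 1)⁻¹) *
        (hh x 1 s)⁻¹) * (q * x 1 a)⁻¹ := by
      rw [e]; group
    rw [e1, h.refl 1 2 (ok_one σ 2), show (2 : ZMod 12) * 1 + 6 - 2 = 6 by decide] at e2
    have hzQ : z * x 2 1 ∈ Q2 σ x := by
      refine mul_mem (z4Q2 hz) ?_
      rw [Q2_eq]
      exact x_mem_gen (by rw [mem_arc]; decide) (ok_one σ _)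
    rw [← ez, e2] at hzQ
    have hb : q * x 1 a ∈ Us σ x := mul_mem (Q1_le_Us hq) (hx1 a)
    have h3 := Us_conj_Q2 h (inv_mem hb) hzQ
    have e3 : (q * x 1 a)⁻¹ * (q * x 1 a * (hh x 1 s * x 6 1 * (hh x 1 s)⁻¹) * (q * x 1 a)⁻¹) * ((q * x 1 a)⁻¹)⁻¹ =
        hh x 1 s * x 6 1 * (hh x 1 s)⁻¹ := by group
    rw [e3, Q2_eq] at h3
    have h4 := hh1_conj_gen' h hs _ h3
    have e4 : (hh x 1 s)⁻¹ * (hh x 1 s * x 6 1 * (hh x 1 s)⁻¹) * hh x 1 s = x 6 1 := by group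
    rw [e4, ← Q2_eq] at h4
    exact one_ne_zero (six_not_mem h h4 (map_one σ) rfl)

/-- coordinates in `Q₁` -/
theorem Q1_coord {p : G} (hp : p ∈ Q1 σ x) : ∃ a2 a3 a4 a5 a6 : E, σ a2 = a2 ∧ σ a4 = a4 ∧ σ a6 = a6 ∧
    p = x 2 a2 * (x 3 a3 * (x 4 a4 * (x 5 a5 * x 6 a6))) := by
  rw [Q1_eq] at hp
  obtain ⟨a2, h2, v2, hv2, rfl⟩ := (h.mem_gen_first (k := 2) (n := 4) (by norm_num)).1 hp
  obtain ⟨a3, h3, v3, hv3, rfl⟩ := (h.mem_gen_first (k := 2 + 1) (n := 3) (by norm_num)).1 hv2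
  obtain ⟨a4, h4, v4, hv4, rfl⟩ := (h.mem_gen_first (k := 2 + 1 + 1) (n := 2) (by norm_num)).1 hv3
  obtain ⟨a5, h5, v5, hv5, rfl⟩ := (h.mem_gen_first (k := 2 + 1 + 1 + 1) (n := 1) (by norm_num)).1 hv4
  obtain ⟨a6, h6, v6, hv6, rfl⟩ := (h.mem_gen_first (k := 2 + 1 + 1 + 1 + 1) (n := 0) (by norm_num)).1 hv5
  rw [HexTwo.gen_arc_zero, Subgroup.mem_bot] at hv6
  subst hv6
  exact ⟨a2, a3, a4, a5, a6, h2 (by decide), h4 (by decide), h6 (by decide), by rw [mul_one]; rfl⟩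

/-- `C_{Q₁}(Q₁) = Z` -/
theorem cent_Q1 (hE : Nat.card E = 8) (hfix : ∀ a, σ a = a → a = 0 ∨ a = 1) {p : G} (hp : p ∈ P1 σ x)
    (hc : ∀ q ∈ Q1 σ x, p * q = q * p) : p ∈ Zs σ x := by
  haveI : Finite E := Nat.finite_of_card_ne_zero (by omega)
  have hQP : Q1 σ x ≤ P1 σ x := Q1_le_Us.trans Us_le_P1
  have hx1 : x 1 1 ∈ P1 σ x := x_mem_P1 (by decide) (ok1 1)
  have hcz : ∀ y ∈ Q1 σ x, ⁅p, y⁆ ∈ Zs σ x := fun y hy => by
    rw [(commutatorElement_eq_one_iff_mul_comm).2 (hc y hy)]; exact one_mem _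
  have mk : ∀ k : ZMod 12, (k - 2).val < 5 → ∀ a, Ok σ k a → x k a ∈ Q1 σ x := fun k hk a ha => x_mem_Q1 hk ha
  have hpQ : p ∈ Q1 σ x := by
    refine three h hE hfix hp (hcz _ (mk 2 (by decide) 1 (ok_one σ _))) (hcz _ (mk 6 (by decide) 1 (ok_one σ _)))
      (hcz _ ?_)
    have := P1_conj_Q1 h hx1 (mk 6 (by decide) 1 (ok_one σ _))
    rwa [h.x_inv (ok1 1)] at this
  obtain ⟨a2, a3, a4, a5, a6, f2, f4, f6, e⟩ := Q1_coord h hpQ
  have cm : ∀ y ∈ Q1 σ x, Commute p y := hc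
  -- commuting with `x 6 1`
  have c4 : ∀ {k : ZMod 12}, (k - 1).val < 7 → ∀ {a}, Ok σ k a → Commute (x 4 a4) (x k a) := fun hk _ ha =>
    x4_comm h f4 hk ha
  have C : ∀ {k l : ZMod 12} {a b : E}, ⁅x k a, x l b⁆ = 1 → Commute (x k a) (x l b) := fun e =>
    commutatorElement_eq_one_iff_commute.1 e
  have e36 : ∀ b t, σ t = t → Commute (x 3 b) (x 6 t) := fun b t ht => C (h.commS3 (k := 3) (by decide) b ht)
  have e56 : ∀ b t, σ t = t → Commute (x 5 b) (x 6 t) := fun b t ht => C (h.commS1 (k := 5) (by decide) b ht)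
  have e23 : ∀ t b, σ t = t → Commute (x 2 t) (x 3 b) := fun t b ht => C (h.commL1 (k := 2) (by decide) ht b)
  have e25 : ∀ t b, σ t = t → Commute (x 2 t) (x 5 b) := fun t b ht => C (h.commL3 (k := 2) (by decide) ht b)
  have ha2 : a2 = 0 := by
    have h1 := cm _ (mk 6 (by decide) 1 (ok_one σ _))
    have h2 : Commute (x 3 a3 * (x 4 a4 * (x 5 a5 * x 6 a6))) (x 6 1) :=
      (e36 a3 1 (map_one σ)).mul_left ((c4 (by decide) (ok_one σ _)).mul_left
        ((e56 a5 1 (map_one σ)).mul_left (h.x_comm_same (ok_of_fix _ f6) (ok_one σ _))))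
    have h3 : Commute (x 2 a2) (x 6 1) := by
      have : x 2 a2 = p * (x 3 a3 * (x 4 a4 * (x 5 a5 * x 6 a6)))⁻¹ := by rw [e]; group
      rw [this]
      exact h1.mul_left h2.inv_left
    have h4 := h.commL4 (k := 2) (by decide) f2 (map_one σ)
    rw [show (2 : ZMod 12) + 4 = 6 from rfl, show (2 : ZMod 12) + 2 = 4 from rfl,
      commutatorElement_eq_one_iff_commute.2 h3, mul_one] at h4
    exact h.inj 4 a2 (ok_of_fix _ f2) h4.symm
  have ha6 : a6 = 0 := by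
    have h1 := cm _ (mk 2 (by decide) 1 (ok_one σ _))
    subst ha2
    rw [h.x_zero, one_mul] at e
    have h3 : Commute (x 2 1) (x 6 a6) := by
      have : x 6 a6 = (x 3 a3 * (x 4 a4 * x 5 a5))⁻¹ * p := by rw [e]; group
      rw [this]
      refine Commute.mul_right ?_ h1.symm
      refine Commute.inv_right ?_
      exact (e23 1 a3 (map_one σ)).mul_right ((c4 (by decide) (ok_one σ _)).symm.mul_right (e25 1 a5 (map_one σ)))
    have h4 := h.commL4 (k := 2) (by decide) (map_one σ) f6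
    rw [show (2 : ZMod 12) + 4 = 6 from rfl, show (2 : ZMod 12) + 2 = 4 from rfl,
      commutatorElement_eq_one_iff_commute.2 h3, one_mul] at h4
    exact h.inj 4 a6 (ok_of_fix _ f6) h4.symm
  subst ha2 ha6
  rw [h.x_zero, h.x_zero, one_mul, mul_one] at e
  have ha3 : a3 = 0 := by
    by_contra h0
    have h1 := cm _ (mk 5 (by decide) a3⁻¹ (ok5 _))
    have h3 : Commute (x 3 a3) (x 5 a3⁻¹) := by
      have : x 3 a3 = p * (x 4 a4 * x 5 a5)⁻¹ := by rw [e]; group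
      rw [this]
      exact h1.mul_left ((c4 (by decide) (ok5 _)).mul_left (h.x_comm_same (ok5 _) (ok5 _))).inv_left
    have h4 := h.commS2 (k := 3) (by decide) a3 a3⁻¹
    rw [show (3 : ZMod 12) + 2 = 5 from rfl, show (3 : ZMod 12) + 1 = 4 from rfl,
      commutatorElement_eq_one_iff_commute.2 h3, trc_inv h h0] at h4
    exact one_ne_zero (h.inj 4 1 (ok_one σ _) h4.symm)
  subst ha3
  rw [h.x_zero, one_mul] at e
  have ha5 : a5 = 0 := by
    by_contra h0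
    have h1 := cm _ (mk 3 (by decide) a5⁻¹ (ok3 _))
    have h3 : Commute (x 5 a5) (x 3 a5⁻¹) := by
      have : x 5 a5 = (x 4 a4)⁻¹ * p := by rw [e]; group
      rw [this]
      exact ((c4 (by decide) (ok3 _)).inv_left).mul_left h1
    have h4 := h.commS2 (k := 3) (by decide) a5⁻¹ a5
    have h5 := trc_inv h (inv_ne_zero h0)
    rw [inv_inv] at h5
    rw [show (3 : ZMod 12) + 2 = 5 from rfl, show (3 : ZMod 12) + 1 = 4 from rfl,
      commutatorElement_eq_one_iff_commute.2 h3.symm, h5] at h4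
    exact one_ne_zero (h.inj 4 1 (ok_one σ _) h4.symm)
  subst ha5
  rw [h.x_zero, mul_one] at e
  rw [e]
  exact x4_mem_Zs f4

end PF

/-- **Piece [A].** -/
theorem pfacts {E : Type*} [Field E] {σ : E ≃+* E} {G : Type*} [Group G] {x : ZMod 12 → E → G} (h : Cfsg.Agent.StdRank2.Hex.HexTwo σ x)
    (hE : Nat.card E = 8) (hfix : ∀ a, σ a = a → a = 0 ∨ a = 1) : PFacts σ x where
  perfect := PF.perfect h hE
  two := PF.two_Us h hE hfix
  sylow := PF.sylow_Us h hE hfix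
  borel := fun _ hp hU => PF.borel h hE hp hU
  cent_Q1 := fun _ hp hc => PF.cent_Q1 h hE hfix hp hc
  three := fun _ hp h2 h6 h16 => PF.three h hE hfix hp h2 h6 h16

end Cfsg.Agent.TriTwo
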