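import Cfsg.Agent.TriTwo.Flat
import Cfsg.Agent.TriTwo.SecOne
import Cfsg.Agent.TriTwo.PFacts
import Cfsg.Agent.TriTwo.Dual
import Cfsg.Agent.StdRank2.HexInv

/-!
# S1778, type `³D₄(2)`: facts on `A = ⟨root groups⟩`, `|E| = 8`

`frame : Flat.Frame (AA σ x) (Us σ x) (P1 σ x) (P2 σ x) (Q1 σ x) (Q2 σ x) (x 4 1)`, the centralizers of `Q₁`, `Q₂`, `U` in
`A`, `U` is a Sylow 2-subgroup of `A`, `inner`: a 2-element of `N(A) ⊓ N(U)` induces an inner automorphism of `A`.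
-/

set_option autoImplicit false
set_option linter.unusedSectionVars false
set_option linter.unusedSimpArgs false

namespace Cfsg.Agent.TriTwo.AFacts

open Subgroup Cfsg.Agent.TriTwo Cfsg.Agent.StdRank2.Hex Cfsg.Agent.SplitTwo Cfsg.Agent.StdEven.Syl
open Cfsg.Agent.StdRank2.Hex.HexTwo (ok1 ok3 ok5 AA UU q uu)
open scoped commutatorElement

variable {E : Type*} [Field E] {σ : E ≃+* E} {G : Type*} [Group G] {x : ZMod 12 → E → G}

/-- `P₂ = ⟨U₀, …, U₆⟩` -/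
def P2 (σ : E ≃+* E) (x : ZMod 12 → E → G) : Subgroup G := gens σ x {0, 1, 2, 3, 4, 5, 6}

theorem P2_eq : P2 σ x = gl σ x [0, 1, 2, 3, 4, 5, 6] := by
  unfold P2 gl; congr 1; ext k; simp

theorem Us_UU : Us σ x = UU σ x := PF.Us_eq σ x

theorem x_AA {k : ZMod 12} {a : E} (ha : Ok σ k a) : x k a ∈ AA σ x := HexTwo.x_mem_AA ha

theorem gl_AA (L : List (ZMod 12)) : gl σ x L ≤ AA σ x := gens_mono (Set.subset_univ _)

theorem Us_AA : Us σ x ≤ AA σ x := gens_mono (Set.subset_univ _)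

theorem P1_AA : P1 σ x ≤ AA σ x := gens_mono (Set.subset_univ _)

theorem P2_AA : P2 σ x ≤ AA σ x := gens_mono (Set.subset_univ _)

theorem Q2_Us : Q2 σ x ≤ Us σ x := by
  rw [Q2_eq, Us_eq]; exact gl_mono (by decide)

theorem Us_P2 : Us σ x ≤ P2 σ x := by
  rw [P2_eq, Us_eq]; exact gl_mono (by decide)

variable (h : HexTwo σ x)
include h

theorem P2_norm_Q2 : P2 σ x ≤ normalizer (Q2 σ x : Set G) := by
  rw [P2_eq, Q2_eq]
  exact SecBase.gl_le_normalizer h (by decide)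

/-- `A = ⟨P₁, P₂⟩` -/
theorem AA_le : AA σ x ≤ P1 σ x ⊔ P2 σ x := by
  have m1 : ∀ k ∈ ([1, 2, 3, 4, 5, 6, 7] : List (ZMod 12)), ∀ a, Ok σ k a → x k a ∈ P1 σ x ⊔ P2 σ x := by
    intro k hk a ha
    apply (le_sup_left : P1 σ x ≤ P1 σ x ⊔ P2 σ x)
    rw [P1_eq]; exact mem_gl hk ha
  have m0 : ∀ a, Ok σ (0 : ZMod 12) a → x 0 a ∈ P1 σ x ⊔ P2 σ x := by
    intro a ha
    apply (le_sup_right : P2 σ x ≤ P1 σ x ⊔ P2 σ x)
    rw [P2_eq]; exact mem_gl (by decide) ha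
  have n1 : nn x 1 ∈ P1 σ x ⊔ P2 σ x :=
    mul_mem (mul_mem (m1 1 (by decide) _ (ok_one σ _)) (m1 7 (by decide) _ (ok_one σ _))) (m1 1 (by decide) _ (ok_one σ _))
  have n6 : nn x 6 ∈ P1 σ x ⊔ P2 σ x :=
    mul_mem (mul_mem (m1 6 (by decide) _ (ok_one σ _)) (m0 _ (ok_one σ _))) (m1 6 (by decide) _ (ok_one σ _))
  have c1 : ∀ j : ZMod 12, (∀ a, Ok σ j a → x j a ∈ P1 σ x ⊔ P2 σ x) → ∀ a, Ok σ (8 - j) a →
      x (8 - j) a ∈ P1 σ x ⊔ P2 σ x := by
    intro j hj a ha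
    have ha' : Ok σ j a := ha.congr (val_8_sub j).symm
    rw [← h.refl1 j a ha']
    exact mul_mem (mul_mem n1 (hj a ha')) (inv_mem n1)
  have c6 : ∀ j : ZMod 12, (∀ a, Ok σ j a → x j a ∈ P1 σ x ⊔ P2 σ x) → ∀ a, Ok σ (6 - j) a →
      x (6 - j) a ∈ P1 σ x ⊔ P2 σ x := by
    intro j hj a ha
    have ha' : Ok σ j a := ha.congr (val_6_sub j).symm
    rw [← h.refl6 j a ha']
    exact mul_mem (mul_mem n6 (hj a ha')) (inv_mem n6)
  have h11 : ∀ a, Ok σ (11 : ZMod 12) a → x 11 a ∈ P1 σ x ⊔ P2 σ x := c6 7 (m1 7 (by decide))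
  have h8 : ∀ a, Ok σ (8 : ZMod 12) a → x 8 a ∈ P1 σ x ⊔ P2 σ x := c1 0 m0
  have h10 : ∀ a, Ok σ (10 : ZMod 12) a → x 10 a ∈ P1 σ x ⊔ P2 σ x := c6 8 h8
  have h9 : ∀ a, Ok σ (9 : ZMod 12) a → x 9 a ∈ P1 σ x ⊔ P2 σ x := c1 11 h11
  refine gens_le (S := Set.univ) fun k _ a ha => ?_
  rcases z12 k with rfl | rfl | rfl | rfl | rfl | rfl | rfl | rfl | rfl | rfl | rfl | rfl
  · exact m0 a ha
  · exact m1 1 (by decide) a ha
  · exact m1 2 (by decide) a ha
  · exact m1 3 (by decide) a ha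
  · exact m1 4 (by decide) a ha
  · exact m1 5 (by decide) a ha
  · exact m1 6 (by decide) a ha
  · exact m1 7 (by decide) a ha
  · exact h8 a ha
  · exact h9 a ha
  · exact h10 a ha
  · exact h11 a ha

variable (hc : Nat.card E = 8) (hf : ∀ a, σ a = a → a = 0 ∨ a = 1)
include hc

/-- `P₁ = C_A(z₄)` -/
theorem P1_iff {a : G} : a ∈ P1 σ x ↔ a ∈ AA σ x ∧ a * x 4 1 = x 4 1 * a := by
  have := finE hc
  constructor
  · intro ha
    exact ⟨P1_AA ha, (SecOne.z4_comm h ha).symm⟩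
  · rintro ⟨ha, he⟩
    rw [PF.P1_eq]
    rw [← h.mem_centralizer_x4 ha (map_one σ) one_ne_zero, he, mul_inv_cancel_right]

include hf

/-- an element of `A` centralising `Q₂` is in `W` -/
theorem cent_Q2 {a : G} (ha : a ∈ AA σ x) (hq : ∀ q ∈ Q2 σ x, a * q = q * a) : a ∈ Ws σ x := by
  have := finE hc
  have mQ2 : ∀ k ∈ ([1, 2, 3, 4, 5] : List (ZMod 12)), ∀ b, Ok σ k b → x k b ∈ Q2 σ x := by
    intro k hk b hb
    rw [Q2_eq]; exact mem_gl hk hb
  have z : σ (0 : E) = 0 := map_zero σ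
  have o : σ (1 : E) = 1 := map_one σ
  have hP : a ∈ P1 σ x := (P1_iff h hc).mpr ⟨ha, hq _ (mQ2 4 (by decide) 1 (ok_one σ _))⟩
  -- `a ∈ U`
  have hU : a ∈ Us σ x := by
    rw [PF.P1_eq] at hP
    rcases h.bruhat_P 1 hP with ⟨u, hu, s, -, hs, rfl⟩ | ⟨u, hu, s, b, -, hs, hb, rfl⟩
    · rw [← PF.Us_eq] at hu
      -- the action on `x 1`
      obtain ⟨c, q, hq1, rfl⟩ := SecBase.exists_Us h hu
      have e1 := hq _ (mQ2 1 (by decide) 1 (ok_one σ _))
      have e2 : x 1 c * q * (hh x 1 s * x 1 1 * (hh x 1 s)⁻¹) * (x 1 c * q)⁻¹ = x 1 1 := by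
        calc x 1 c * q * (hh x 1 s * x 1 1 * (hh x 1 s)⁻¹) * (x 1 c * q)⁻¹
            = (x 1 c * q * hh x 1 s * x 1 1) * (x 1 c * q * hh x 1 s)⁻¹ := by group
          _ = x 1 1 := by rw [e1, mul_inv_cancel_right]
      rw [PF.hh1_act h hs 1 (ok1 1)] at e2
      set r : E := chS σ (1 - 1) s * 1 with hr
      have e3 : x 1 (r + 1) ∈ Q1 σ x := by
        rw [h.add 1 r 1 (ok1 r) (ok1 1)]
        have e4 : x 1 r = (x 1 c * q)⁻¹ * x 1 1 * (x 1 c * q) := by rw [← e2]; group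
        have n1 : ∀ p ∈ P1 σ x, ∀ y ∈ Q1 σ x, p * y * p⁻¹ ∈ Q1 σ x := fun p hp y hy =>
          conj_mem_of_mem_normalizer (SecBase.P1_norm_Q1 h hp) hy
        have mx : ∀ b, x 1 b ∈ P1 σ x := fun b => by rw [P1_eq]; exact mem_gl (by decide) (ok1 b)
        have e5 : x 1 r * x 1 1 = q⁻¹ * (x 1 1 * q * (x 1 1)⁻¹) * (x 1 1 * x 1 1) := by
          rw [e4]
          have e6 : (x 1 c)⁻¹ * x 1 1 * x 1 c = x 1 1 := by
            rw [mul_assoc, (h.x_comm_same (ok1 1) (ok1 c)).eq]; group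
          calc (x 1 c * q)⁻¹ * x 1 1 * (x 1 c * q) * x 1 1 = q⁻¹ * ((x 1 c)⁻¹ * x 1 1 * x 1 c) * q * x 1 1 := by group
            _ = q⁻¹ * x 1 1 * q * x 1 1 := by rw [e6]
            _ = q⁻¹ * (x 1 1 * q * (x 1 1)⁻¹) * (x 1 1 * x 1 1) := by group
        rw [e5, h.x_sq (ok1 1), mul_one]
        exact mul_mem (inv_mem hq1) (n1 _ (mx 1) _ hq1)
      have e7 := SecBase.x1_mem_Q1 h e3
      have e8 : r = 1 := by
        have := eq_neg_of_add_eq_zero_left e7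
        rwa [h.neg_eq] at this
      have e9 : s * s = 1 := by
        rw [hr, mul_one] at e8
        have : chS σ (1 - 1) s = s ^ 2 := rfl
        rw [this] at e8
        rw [← pow_two]; exact e8
      have e10 : s = 1 := h.sq_eq_one e9
      rw [e10, h.hh_one, mul_one]
      exact hu
    · exfalso
      rw [← PF.Us_eq] at hu
      have i2 := hq _ (mQ2 2 (by decide) 1 (ok_one σ _))
      have i3 : x 1 b * x 2 1 = x 2 1 * x 1 b := cm h (by decide) (ok1 b) (ok_one σ _)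
      have e1 : u * (hh x 1 s * (nn x 1 * x 2 1 * (nn x 1)⁻¹) * (hh x 1 s)⁻¹) * u⁻¹ = x 2 1 := by
        calc u * (hh x 1 s * (nn x 1 * x 2 1 * (nn x 1)⁻¹) * (hh x 1 s)⁻¹) * u⁻¹
            = (u * hh x 1 s * nn x 1 * x 1 b) * ((x 1 b)⁻¹ * (x 2 1 * x 1 b)) * (u * hh x 1 s * nn x 1 * x 1 b)⁻¹ := by group
          _ = (u * hh x 1 s * nn x 1 * x 1 b) * x 2 1 * (u * hh x 1 s * nn x 1 * x 1 b)⁻¹ := by
            rw [← i3, inv_mul_cancel_left]
          _ = x 2 1 := by rw [i2, mul_inv_cancel_right]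
      rw [h.refl1 2 1 (ok_one σ _), show (8 : ZMod 12) - 2 = 6 by decide] at e1
      have e2 : hh x 1 s * x 6 1 * (hh x 1 s)⁻¹ = u⁻¹ * x 2 1 * u := by rw [← e1]; group
      have e3 : hh x 1 s * x 6 1 * (hh x 1 s)⁻¹ ∈ Q2 σ x := by
        rw [e2]
        have := PF.Us_conj_Q2 h (inv_mem hu) (mQ2 2 (by decide) 1 (ok_one σ _))
        rwa [inv_inv] at this
      rw [PF.Q2_eq] at e3
      have e4 := PF.hh1_conj_gen' h hs _ e3
      have e5 : (hh x 1 s)⁻¹ * (hh x 1 s * x 6 1 * (hh x 1 s)⁻¹) * hh x 1 s = x 6 1 := by group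
      rw [e5, ← PF.Q2_eq] at e4
      exact one_ne_zero (PF.six_not_mem h e4 o rfl)
  rw [Us_UU] at hU
  obtain ⟨a1, b, c, d, e, f, hb, hd, hf', rfl⟩ := h.mem_UU.1 hU
  -- commute with `x 2 1`
  have u2 : x 2 1 = uu x 0 1 0 0 0 0 := by rw [h.uq, h.q2]
  have u3 : ∀ c', x 3 c' = uu x 0 0 c' 0 0 0 := fun c' => by rw [h.uq, h.q3]
  have u1 : ∀ a', x 1 a' = uu x a' 0 0 0 0 0 := fun a' => by rw [h.u1]
  have ef : f = 0 := by
    have e1 := hq _ (mQ2 2 (by decide) 1 (ok_one σ _))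
    rw [u2, h.uu_mul hb hd hf' o z z, h.uu_mul o z z hb hd hf'] at e1
    simp only [trc_zero_left, trc_zero_right, crs_zero_left, crs_zero_right, shp_zero, nrm_zero, zero_mul, mul_zero, add_zero, zero_add, one_mul, mul_one, ne_eq, OfNat.ofNat_ne_zero, not_false_eq_true, zero_pow] at e1
    obtain ⟨-, -, -, r4, -, -⟩ := h.uu_inj (by simp [hb]) (by simp [hd, hf']) (by simp [hf']) (by simp [hb])
      (by simp [hd]) (by simp [hf']) e1
    simpa using r4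
  subst ef
  have key3 : ∀ c', trc σ a1 c' = 0 ∧ trc σ c' e = 0 := by
    intro c'
    have e1 := hq _ (mQ2 3 (by decide) c' (ok3 c'))
    rw [u3, h.uu_mul hb hd z z z z, h.uu_mul z z z hb hd z] at e1
    simp only [trc_zero_left, trc_zero_right, crs_zero_left, crs_zero_right, shp_zero, nrm_zero, zero_mul, mul_zero, add_zero, zero_add, one_mul, mul_one, ne_eq, OfNat.ofNat_ne_zero, not_false_eq_true, zero_pow] at e1
    have t1 := h.fix_trc a1 c'
    have t2 := h.fix_trc c' e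
    obtain ⟨-, r2, -, r4, -, -⟩ := h.uu_inj (by simp [hb]) (by simp [hd, t2]) (by simp) (by simp [hb, t1])
      (by simp [hd]) (by simp) e1
    constructor
    · simpa using r2
    · simpa using r4
  have ea : a1 = 0 := by
    by_contra hne
    have := (key3 a1⁻¹).1
    rw [PF.trc_inv h hne] at this
    exact one_ne_zero this
  have ee : e = 0 := by
    by_contra hne
    have := (key3 e⁻¹).2
    rw [Cfsg.Agent.StdRank2.Hex.trc_comm, PF.trc_inv h hne] at this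
    exact one_ne_zero this
  subst ea ee
  have ec : c = 0 := by
    by_contra hne
    have e1 := hq _ (mQ2 1 (by decide) c⁻¹ (ok1 _))
    rw [u1, h.uu_mul hb hd z z z z, h.uu_mul z z z hb hd z] at e1
    simp only [trc_zero_left, trc_zero_right, crs_zero_left, crs_zero_right, shp_zero, nrm_zero, zero_mul, mul_zero, add_zero, zero_add, one_mul, mul_one, ne_eq, OfNat.ofNat_ne_zero, not_false_eq_true, zero_pow] at e1
    have t1 := h.fix_trc c⁻¹ c
    obtain ⟨-, r2, -, -, -, -⟩ := h.uu_inj (by simp [hb, t1]) (by simp [hd]) (by simp) (by simp [hb])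
      (by simp [hd]) (by simp) e1
    have r3 : trc σ c⁻¹ c = 0 := by simpa using r2
    rw [Cfsg.Agent.StdRank2.Hex.trc_comm, PF.trc_inv h hne] at r3
    exact one_ne_zero r3
  subst ec
  rw [h.uq]
  have : q x b 0 d 0 0 = x 2 b * x 4 d := by
    unfold q
    rw [h.x_zero, h.x_zero, h.x_zero, mul_one, mul_one, mul_one]
  rw [this]
  exact mul_mem (mem_gens (by simp) (ok_of_fix _ hb)) (mem_gens (by simp) (ok_of_fix _ hd))

/-- an element of `A` centralising `Q₁` is in `Z` -/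
theorem cent_Q1 {a : G} (ha : a ∈ AA σ x) (hq : ∀ q ∈ Q1 σ x, a * q = q * a) : a ∈ Zs σ x := by
  have hP : a ∈ P1 σ x := (P1_iff h hc).mpr ⟨ha, hq _ (by rw [Q1_eq]; exact mem_gl (by decide) (ok_one σ _))⟩
  exact (pfacts h hc hf).cent_Q1 a hP hq

omit hc in
/-- elements of `W` -/
theorem Ws_cases {w : G} (hw : w ∈ Ws σ x) : w = 1 ∨ w = x 2 1 ∨ w = x 4 1 ∨ w = x 2 1 * x 4 1 := by
  rw [Ws_eq] at hw
  obtain ⟨b, hb, y, hy, rfl⟩ := split_gl h (k := 2) (L := [4]) (by decide) hw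
  obtain ⟨d, hd, y', hy', rfl⟩ := split_gl h (k := 4) (L := []) (by decide) hy
  rw [gl_nil h hy', mul_one]
  rcases SecOne.ok_zero_or h hf (by decide) hb with rfl | rfl <;> rcases SecOne.ok_zero_or h hf (by decide) hd with rfl | rfl
  · left; rw [h.x_zero, h.x_zero, mul_one]
  · right; right; left; rw [h.x_zero, one_mul]
  · right; left; rw [h.x_zero, mul_one]
  · right; right; right; rfl

/-- `Z(U) = {1, z₄}` -/
theorem center_Us {u : G} (hu : u ∈ Us σ x) (hv : ∀ v ∈ Us σ x, u * v = v * u) : u = 1 ∨ u = x 4 1 := by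
  have hW := cent_Q2 h hc hf (Us_AA hu) (fun q hq => hv q (Q2_Us hq))
  have h6 := hv (x 6 1) (by rw [Us_eq]; exact mem_gl (by decide) (ok_one σ _))
  have c26 : ⁅x 2 1, x 6 1⁆ = x 4 1 := by
    have := h.commL4 (k := 2) (by decide) (map_one σ) (map_one σ)
    rw [one_mul] at this
    exact this
  have c46 : x 4 1 * x 6 1 = x 6 1 * x 4 1 := cm h (by decide) (ok_one σ _) (ok_one σ _)
  have n4 : x 4 (1 : E) ≠ 1 := fun e => one_ne_zero (h.inj 4 1 (ok_one σ _) e)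
  rcases Ws_cases h hf hW with rfl | rfl | rfl | rfl
  · exact Or.inl rfl
  · exfalso
    apply n4
    rw [← c26]
    exact commutatorElement_eq_one_iff_mul_comm.mpr h6
  · exact Or.inr rfl
  · exfalso
    apply n4
    rw [← c26]
    refine commutatorElement_eq_one_iff_mul_comm.mpr (mul_right_cancel (b := x 4 1) ?_)
    calc x 2 1 * x 6 1 * x 4 1 = x 2 1 * x 4 1 * x 6 1 := by rw [mul_assoc, ← c46, mul_assoc]
      _ = x 6 1 * x 2 1 * x 4 1 := by rw [h6, mul_assoc]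

omit hc hf in
theorem c26 : ⁅x 2 1, x 6 1⁆ = x 4 1 := by
  have := h.commL4 (k := 2) (by decide) (map_one σ) (map_one σ)
  rw [one_mul] at this
  exact this

omit hc hf in
theorem z4_mem_comm : x 4 1 ∈ ⁅Us σ x, Us σ x⁆ := by
  rw [← c26 h]
  exact Subgroup.commutator_mem_commutator (by rw [Us_eq]; exact mem_gl (by decide) (ok_one σ _))
    (by rw [Us_eq]; exact mem_gl (by decide) (ok_one σ _))

/-- The frame. -/
theorem frame : Flat.Frame (AA σ x) (Us σ x) (P1 σ x) (P2 σ x) (Q1 σ x) (Q2 σ x) (x 4 1) where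
  U_A := Us_AA
  two := PF.two_Us h hc hf
  z_U := by rw [Us_eq]; exact mem_gl (by decide) (ok_one σ _)
  zz := h.x_sq (ok_one σ _)
  z1 := fun e => one_ne_zero (h.inj 4 1 (ok_one σ _) e)
  P1_iff := fun a => P1_iff h hc
  perf := (pfacts h hc hf).perfect
  gen1 := gens_le fun k hk a ha => Subgroup.subset_closure ⟨mem_gens hk ha, 1, by
    rw [pow_one, pow_two, h.x_sq ha]⟩
  P2_A := P2_AA
  gen := AA_le h
  n1 := SecBase.P1_norm_Q1 h
  n2 := P2_norm_Q2 h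
  Q1_U := SecBase.Q1_le_Us
  Q2_U := Q2_Us
  U_P1 := SecBase.Us_le_P1
  U_P2 := Us_P2
  c1 := fun a ha hq => by
    have : Zs σ x ≤ Q1 σ x := by rw [Zs_eq, Q1_eq]; exact gl_mono (by decide)
    exact this (cent_Q1 h hc hf ha hq)
  c2 := fun a ha hq => by
    have : Ws σ x ≤ Q2 σ x := by rw [Ws_eq, Q2_eq]; exact gl_mono (by decide)
    exact this (cent_Q2 h hc hf ha hq)

omit hf in
/-- `U` is a Sylow 2-subgroup of `A`, conjugation form -/
theorem sylow_conj [Finite G] {Q : Subgroup G} (hQ : IsPGroup 2 Q) (hQA : Q ≤ AA σ x) :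
    ∃ p ∈ AA σ x, ∀ y ∈ Q, p * y * p⁻¹ ∈ Us σ x := by
  have := finE hc
  rw [Us_UU]
  exact h.sylow_conj (HexTwo.gen_le_AA _) le_rfl hQ hQA

theorem isSyl_Us [Finite G] : IsSyl (Us σ x) (AA σ x) := by
  refine ⟨Us_AA, PF.two_Us h hc hf, fun X hX hXA hUX => ?_⟩
  obtain ⟨p, -, hp⟩ := sylow_conj h hc hX hXA
  refine (Subgroup.eq_of_le_of_card_ge hUX ?_).symm
  rw [Nat.card_congr (X.equivMapOfInjective (MulAut.conj p).toMonoidHom (MulAut.conj p).injective).toEquiv]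
  apply Subgroup.card_le_of_le
  rintro _ ⟨y, hy, rfl⟩
  exact hp y hy

omit hc hf in
theorem x4_in : x 4 1 ∈ ⁅Us σ x ⊓ centralizer ({x 4 1} : Set G), Us σ x ⊓ centralizer ({x 4 1} : Set G)⁆ := by
  have hm : ∀ k ∈ ([1, 2, 3, 4, 5, 6] : List (ZMod 12)), ∀ a, Ok σ k a →
      x k a ∈ Us σ x ⊓ centralizer ({x 4 1} : Set G) := by
    intro k hk a ha
    refine mem_inf.mpr ⟨by rw [Us_eq]; exact mem_gl hk ha, ?_⟩
    rw [mem_centralizer_singleton_iff]
    exact (SecOne.z4_comm h (SecBase.Us_le_P1 (by rw [Us_eq]; exact mem_gl hk ha))).symm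
  have e := Subgroup.commutator_mem_commutator (hm 2 (by decide) _ (ok_one σ _)) (hm 6 (by decide) _ (ok_one σ _))
  rwa [c26 h] at e

theorem x3_in : x 3 1 ∈ ⁅Us σ x ⊓ centralizer ({x 3 1} : Set G), Us σ x ⊓ centralizer ({x 3 1} : Set G)⁆ := by
  obtain ⟨η, h0, h1, ht, hti, -⟩ := exists_eta h.two hc hf h.cube
  have hU : ∀ k ∈ ([1, 2, 3, 4, 5, 6] : List (ZMod 12)), ∀ a, Ok σ k a → x k a ∈ Us σ x := fun k hk a ha => by
    rw [Us_eq]; exact mem_gl hk ha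
  have mx3 : ∀ b, x 3 b ∈ Us σ x ⊓ centralizer ({x 3 1} : Set G) := fun b => mem_inf.mpr ⟨hU 3 (by decide) _ (ok3 b), by
    rw [mem_centralizer_singleton_iff]; exact (h.x_comm_same (ok3 b) (ok3 1)).eq⟩
  have mx1 : x 1 η ∈ Us σ x ⊓ centralizer ({x 3 1} : Set G) := mem_inf.mpr ⟨hU 1 (by decide) _ (ok1 η), by
    rw [mem_centralizer_singleton_iff, ← commutatorElement_eq_one_iff_mul_comm]
    have e := h.commS2 (k := 1) (by decide) η 1
    rw [show (1 : ZMod 12) + 2 = 3 by decide, show (1 : ZMod 12) + 1 = 2 by decide] at e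
    rw [e, trc_eq, mul_one, ht, h.x_zero]⟩
  have mx5 : x 5 (η ^ 2) ∈ Us σ x ⊓ centralizer ({x 3 1} : Set G) := mem_inf.mpr ⟨hU 5 (by decide) _ (ok5 _), by
    rw [mem_centralizer_singleton_iff]
    symm
    rw [← commutatorElement_eq_one_iff_mul_comm]
    have e := h.commS2 (k := 3) (by decide) 1 (η ^ 2)
    rw [show (3 : ZMod 12) + 2 = 5 by decide, show (3 : ZMod 12) + 1 = 4 by decide] at e
    rw [e, trc_eq, one_mul, tr_sq h.two, ht, zero_pow (by norm_num), h.x_zero]⟩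
  have m2 : x 2 1 ∈ ⁅Us σ x ⊓ centralizer ({x 3 1} : Set G), Us σ x ⊓ centralizer ({x 3 1} : Set G)⁆ := by
    have e := h.commS2 (k := 1) (by decide) η η⁻¹
    rw [show (1 : ZMod 12) + 2 = 3 by decide, show (1 : ZMod 12) + 1 = 2 by decide, PF.trc_inv h h0] at e
    rw [← e]
    exact Subgroup.commutator_mem_commutator mx1 (mx3 _)
  have m4 : x 4 1 ∈ ⁅Us σ x ⊓ centralizer ({x 3 1} : Set G), Us σ x ⊓ centralizer ({x 3 1} : Set G)⁆ := by
    have e := h.commS2 (k := 3) (by decide) (η ^ 2)⁻¹ (η ^ 2)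
    rw [show (3 : ZMod 12) + 2 = 5 by decide, show (3 : ZMod 12) + 1 = 4 by decide,
      Cfsg.Agent.StdRank2.Hex.trc_comm, PF.trc_inv h (pow_ne_zero 2 h0)] at e
    rw [← e]
    exact Subgroup.commutator_mem_commutator (mx3 _) mx5
  have m2' : ∀ b, σ b = b → x 2 b ∈ ⁅Us σ x ⊓ centralizer ({x 3 1} : Set G), Us σ x ⊓ centralizer ({x 3 1} : Set G)⁆ := by
    intro b hb
    rcases hf b hb with rfl | rfl
    · rw [h.x_zero]; exact one_mem _
    · exact m2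
  have m4' : ∀ b, σ b = b → x 4 b ∈ ⁅Us σ x ⊓ centralizer ({x 3 1} : Set G), Us σ x ⊓ centralizer ({x 3 1} : Set G)⁆ := by
    intro b hb
    rcases hf b hb with rfl | rfl
    · rw [h.x_zero]; exact one_mem _
    · exact m4
  have e := h.commS4 (k := 1) (by decide) η (η ^ 2)
  rw [show (1 : ZMod 12) + 4 = 5 by decide, show (1 : ZMod 12) + 1 = 2 by decide, show (1 : ZMod 12) + 2 = 3 by decide,
    show (1 : ZMod 12) + 3 = 4 by decide] at e
  have ec : crs σ η (η ^ 2) = 1 := by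
    have hn := nrm_one' hf h.cube h0
    have h2 := h.two
    unfold crs
    unfold tr at ht
    unfold nrm at hn
    rw [map_pow, map_pow]
    linear_combination hn - (η * σ η * σ (σ η)) * h2 + (σ η * σ (σ η)) * ht
  rw [ec] at e
  have e1 : x 3 1 = (x 2 (trc σ (shp σ η) (η ^ 2)))⁻¹ * ⁅x 1 η, x 5 (η ^ 2)⁆ * (x 4 (trc σ η (shp σ (η ^ 2))))⁻¹ := by
    rw [e]; group
  have e2 := mul_mem (mul_mem (inv_mem (m2' _ (h.fix_trc (shp σ η) (η ^ 2)))) (Subgroup.commutator_mem_commutator mx1 mx5))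
    (inv_mem (m4' _ (h.fix_trc η (shp σ (η ^ 2)))))
  rwa [← e1] at e2

/-- Every involution of `U` is conjugate in `A` to an involution `u'` in `C_U(u')'`. -/
theorem into [Finite G] {T : Subgroup G} (hTA : T ⊓ AA σ x = Us σ x) : Start.Into (AA σ x) T := by
  have := finE hc
  intro u huT huA h2 h1
  rw [hTA]
  have hu : u ∈ UU σ x := by rw [← Us_UU, ← hTA]; exact mem_inf.mpr ⟨huT, huA⟩
  rcases h.cls_U hu h2 h1 with ⟨a, ha, e⟩ | ⟨a, ha, e⟩
  · refine ⟨a, ha, ?_⟩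
    rw [e]; exact x4_in h
  · refine ⟨a, ha, ?_⟩
    rw [e]; exact x3_in h hc hf

/-- A 2-element of `N(A) ⊓ N(U)` induces an inner automorphism of `A`. -/
theorem inner_of [Finite G] {y : G} (hA : y ∈ normalizer (AA σ x : Set G)) (hU : y ∈ normalizer (Us σ x : Set G))
    {m : ℕ} (hy : y ^ 2 ^ m = 1) : ∃ a ∈ AA σ x, a⁻¹ * y ∈ centralizer (AA σ x : Set G) := by
  have hz4 : x 4 1 ∈ Us σ x := by rw [Us_eq]; exact mem_gl (by decide) (ok_one σ _)
  have hn4 : x 4 (1 : E) ≠ 1 := fun e => one_ne_zero (h.inj 4 1 (ok_one σ _) e)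
  -- `y` centralises `z₄`
  have hyz : y * x 4 1 * y⁻¹ = x 4 1 := by
    rcases center_Us h hc hf (conj_mem_of_mem_normalizer hU hz4) (by
      intro v hv
      have h1 := SecOne.z4_comm h (SecBase.Us_le_P1 (conj_inv_mem_of_mem_normalizer hU hv))
      calc y * x 4 1 * y⁻¹ * v = y * (x 4 1 * (y⁻¹ * v * y)) * y⁻¹ := by group
        _ = y * (y⁻¹ * v * y * x 4 1) * y⁻¹ := by rw [h1]
        _ = v * (y * x 4 1 * y⁻¹) := by group) with h1 | h1
    · exfalso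
      apply hn4
      have : x 4 1 = y⁻¹ * (y * x 4 1 * y⁻¹) * y := by group
      rw [this, h1]; group
    · exact h1
  have hyz' : y⁻¹ * x 4 1 * y = x 4 1 := by nth_rw 1 [← hyz]; group
  -- `y` normalises `P₁`
  have hP : y ∈ normalizer (P1 σ x : Set G) := by
    apply mem_normalizer_of_conj_le
    intro p hp
    obtain ⟨hpA, hpz⟩ := (P1_iff h hc).mp hp
    refine (P1_iff h hc).mpr ⟨conj_mem_of_mem_normalizer hA hpA, ?_⟩
    calc y * p * y⁻¹ * x 4 1 = y * (p * (y⁻¹ * x 4 1 * y)) * y⁻¹ := by group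
      _ = y * (p * x 4 1) * y⁻¹ := by rw [hyz']
      _ = y * (x 4 1 * p) * y⁻¹ := by rw [hpz]
      _ = (y * x 4 1 * y⁻¹) * (y * p * y⁻¹) := by group
      _ = x 4 1 * (y * p * y⁻¹) := by rw [hyz]
  obtain ⟨p, hp, hpy⟩ := SecOne.exists_centralising h hc hf (pfacts h hc hf) hP hy
  set y' := p * y with hy'
  have hA' : y' ∈ normalizer (AA σ x : Set G) := mul_mem (le_normalizer (P1_AA hp)) hA
  -- the commutator with `x 0 1`
  have hx0A : x 0 1 ∈ AA σ x := x_AA (ok_one σ _)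
  have hx0 : x 0 1 ∈ P2 σ x := by rw [P2_eq]; exact mem_gl (by decide) (ok_one σ _)
  have hx0s : x 0 (1 : E) * x 0 1 = 1 := h.x_sq (ok_one σ _)
  have hx0i : (x 0 (1 : E))⁻¹ = x 0 1 := h.x_inv (ok_one σ _)
  set w := y' * x 0 1 * y'⁻¹ * (x 0 1)⁻¹ with hw
  have hwA : w ∈ AA σ x := mul_mem (conj_mem_of_mem_normalizer hA' hx0A) (inv_mem hx0A)
  have hwW : w ∈ Ws σ x := by
    apply cent_Q2 h hc hf hwA
    intro r hr
    have h1 : (x 0 1)⁻¹ * r * x 0 1 ∈ Q2 σ x := conj_inv_mem_of_mem_normalizer (P2_norm_Q2 h hx0) hr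
    have h2 := hpy r (SecBase.Us_le_P1 (Q2_Us hr))
    have h3 := hpy _ (SecBase.Us_le_P1 (Q2_Us h1))
    have h4 : w * r * w⁻¹ = r := by
      have e1 : y'⁻¹ * ((x 0 1)⁻¹ * r * x 0 1) * y' = (x 0 1)⁻¹ * r * x 0 1 := by
        rw [mul_assoc, ← h3, inv_mul_cancel_left]
      have e2 : y' * r * y'⁻¹ = r := by rw [h2, mul_inv_cancel_right]
      calc w * r * w⁻¹ = y' * (x 0 1 * (y'⁻¹ * ((x 0 1)⁻¹ * r * x 0 1) * y') * (x 0 1)⁻¹) * y'⁻¹ := by rw [hw]; group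
        _ = y' * (x 0 1 * ((x 0 1)⁻¹ * r * x 0 1) * (x 0 1)⁻¹) * y'⁻¹ := by rw [e1]
        _ = y' * r * y'⁻¹ := by group
        _ = r := e2
    rwa [mul_inv_eq_iff_eq_mul] at h4
  have hyx : y' * x 0 1 * y'⁻¹ = w * x 0 1 := by rw [hw]; group
  have hww : (w * x 0 1) * (w * x 0 1) = 1 := by
    rw [← hyx]
    calc y' * x 0 1 * y'⁻¹ * (y' * x 0 1 * y'⁻¹) = y' * (x 0 1 * x 0 1) * y'⁻¹ := by group
      _ = 1 := by rw [hx0s]; group
  have c04 : ⁅x 0 1, x 4 1⁆ = x 2 1 := by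
    have := h.commL4 (k := 0) (by decide) (map_one σ) (map_one σ)
    rw [one_mul] at this
    exact this
  have n2 : x 2 (1 : E) ≠ 1 := fun e => one_ne_zero (h.inj 2 1 (ok_one σ _) e)
  have c02 : x 2 1 * x 0 1 = x 0 1 * x 2 1 := cm h (by decide) (ok_one σ _) (ok_one σ _)
  have c24 : x 2 1 * x 4 1 = x 4 1 * x 2 1 := cm h (by decide) (ok_one σ _) (ok_one σ _)
  have s2 : x 2 (1 : E) * x 2 1 = 1 := h.x_sq (ok_one σ _)
  have s4 : x 4 (1 : E) * x 4 1 = 1 := h.x_sq (ok_one σ _)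
  have e04 : x 0 1 * x 4 1 = x 2 1 * x 4 1 * x 0 1 := by
    rw [commutatorElement_def] at c04
    rw [← c04]; group
  -- the end
  have fin : ∀ v : G, v ∈ AA σ x → (∀ r ∈ P1 σ x, v * y * r = r * (v * y)) → v * y * x 0 1 = x 0 1 * (v * y) →
      ∃ a ∈ AA σ x, a⁻¹ * y ∈ centralizer (AA σ x : Set G) := by
    intro v hv h1 h2
    refine ⟨v⁻¹, inv_mem hv, ?_⟩
    rw [inv_inv]
    have h3 : AA σ x ≤ centralizer ({v * y} : Set G) := by
      refine (AA_le h).trans (sup_le (fun r hr => ?_) ?_)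
      · rw [mem_centralizer_singleton_iff]; exact (h1 r hr).symm
      · rw [P2_eq]
        refine gens_le (S := {j | j ∈ ([0, 1, 2, 3, 4, 5, 6] : List (ZMod 12))}) fun k hk a ha => ?_
        rw [mem_centralizer_singleton_iff]
        have hk' : k = 0 ∨ k ∈ ([1, 2, 3, 4, 5, 6] : List (ZMod 12)) := by
          simpa using hk
        rcases hk' with rfl | hk'
        · rcases SecOne.ok_zero_or h hf (by decide) ha with rfl | rfl
          · rw [h.x_zero, one_mul, mul_one]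
          · exact h2.symm
        · exact (h1 _ (SecBase.Us_le_P1 (by rw [Us_eq]; exact mem_gl hk' ha))).symm
    rw [mem_centralizer_iff]
    intro a ha
    have := h3 ha
    rw [mem_centralizer_singleton_iff] at this
    exact this
  rcases Ws_cases h hf hwW with hw1 | hw1 | hw1 | hw1
  · apply fin p (P1_AA hp) hpy
    rw [hw1, one_mul, mul_inv_eq_iff_eq_mul] at hyx
    exact hyx
  · have hz4A : x 4 1 ∈ AA σ x := x_AA (ok_one σ _)
    apply fin (x 4 1 * p) (mul_mem hz4A (P1_AA hp))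
    · intro r hr
      have e1 := SecOne.z4_comm h hr
      calc x 4 1 * p * y * r = x 4 1 * (y' * r) := by rw [hy']; group
        _ = x 4 1 * (r * y') := by rw [hpy r hr]
        _ = x 4 1 * r * y' := by group
        _ = r * x 4 1 * y' := by rw [e1]
        _ = r * (x 4 1 * p * y) := by rw [hy']; group
    · rw [hw1, mul_inv_eq_iff_eq_mul] at hyx
      calc x 4 1 * p * y * x 0 1 = x 4 1 * (y' * x 0 1) := by rw [hy']; group
        _ = x 4 1 * (x 2 1 * x 0 1 * y') := by rw [hyx]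
        _ = (x 2 1 * x 4 1 * x 0 1) * y' := by rw [c24]; group
        _ = (x 0 1 * x 4 1) * y' := by rw [← e04]
        _ = x 0 1 * (x 4 1 * p * y) := by rw [hy']; group
  · exfalso
    apply n2
    rw [hw1] at hww
    have e1 : x 4 1 * x 0 1 * (x 4 1 * x 0 1) = x 2 1 := by
      calc x 4 1 * x 0 1 * (x 4 1 * x 0 1) = x 4 1 * (x 0 1 * x 4 1) * x 0 1 := by group
        _ = x 4 1 * (x 2 1 * x 4 1 * x 0 1) * x 0 1 := by rw [e04]
        _ = (x 4 1 * x 2 1) * x 4 1 * (x 0 1 * x 0 1) := by group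
        _ = x 2 1 * (x 4 1 * x 4 1) * (x 0 1 * x 0 1) := by rw [← c24]; group
        _ = x 2 1 := by rw [s4, hx0s]; group
    rw [← e1, hww]
  · exfalso
    apply n2
    rw [hw1] at hww
    have e1 : x 2 1 * x 4 1 * x 0 1 * (x 2 1 * x 4 1 * x 0 1) = x 2 1 := by
      calc x 2 1 * x 4 1 * x 0 1 * (x 2 1 * x 4 1 * x 0 1)
          = x 0 1 * x 4 1 * (x 0 1 * x 4 1) := by rw [e04]
        _ = x 0 1 * (x 4 1 * (x 0 1 * x 4 1)) := by group
        _ = x 0 1 * (x 4 1 * (x 2 1 * x 4 1 * x 0 1)) := by rw [e04]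
        _ = x 0 1 * ((x 4 1 * x 2 1) * x 4 1 * x 0 1) := by group
        _ = x 0 1 * (x 2 1 * (x 4 1 * x 4 1) * x 0 1) := by rw [← c24]; group
        _ = x 0 1 * (x 2 1 * x 0 1) := by rw [s4, mul_one]
        _ = (x 0 1 * x 0 1) * x 2 1 := by rw [c02]; group
        _ = x 2 1 := by rw [hx0s, one_mul]
    rw [← e1, hww]

theorem inner [Finite G] {T : Subgroup G} (hT : IsPGroup 2 T) (hTN : T ≤ normalizer (AA σ x : Set G))
    (hTA : T ⊓ AA σ x = Us σ x) : Start.Inner (AA σ x) T := by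
  intro y hy
  obtain ⟨m, hm⟩ := hT ⟨y, hy⟩
  refine inner_of h hc hf (hTN hy) ?_ (congrArg Subtype.val hm : y ^ 2 ^ m = 1)
  apply mem_normalizer_of_conj_le
  intro u hu
  rw [← hTA] at hu ⊢
  exact mem_inf.mpr ⟨mul_mem (mul_mem hy hu.1) (inv_mem hy), conj_mem_of_mem_normalizer (hTN hy) hu.2⟩

end Cfsg.Agent.TriTwo.AFacts
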