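import Mathlib
import Cfsg.Agent.TriTwo.SeedFacts

/-!
# S1778, type `³D₄(2)`: isotypic parts of a group `N` with `N / C` elementary abelian (section 4)
-/

set_option autoImplicit false
set_option linter.unusedSectionVars false

namespace Cfsg.Agent.TriTwo.Grow1a

open scoped commutatorElement

variable {G : Type*} [Group G]

/-- conjugation -/
def cj (g n : G) : G := g * n * g⁻¹

/-- `g³ n g⁻³ · g² n g⁻² · n` -/
def ph (g n : G) : G := cj g (cj g (cj g n)) * cj g (cj g n) * n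

theorem cj_mul (g n m : G) : cj g (n * m) = cj g n * cj g m := by unfold cj; group
theorem cj_one (g : G) : cj g 1 = 1 := by unfold cj; group
theorem cj_inv (g n : G) : cj g n⁻¹ = (cj g n)⁻¹ := by unfold cj; group
theorem cj_br (g n m : G) : cj g ⁅n, m⁆ = ⁅cj g n, cj g m⁆ := by
  simp only [cj, commutatorElement_def]; group
theorem cj_of_comm {g n : G} (h : g * n = n * g) : cj g n = n := by
  unfold cj; rw [h, mul_inv_cancel_right]
theorem cj_eq_iff {g n : G} : cj g n = n ↔ g * n = n * g := by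
  unfold cj; exact mul_inv_eq_iff_eq_mul
theorem cj_cj (g k n : G) : cj g (cj k n) = cj (g * k) n := by unfold cj; group
theorem cj_comm {g k : G} (h : g * k = k * g) (n : G) : cj g (cj k n) = cj k (cj g n) := by
  rw [cj_cj, cj_cj, h]
theorem cj_inv_cj (g n : G) : cj g (cj g⁻¹ n) = n := by unfold cj; group

theorem ph_cj {g k : G} (h : g * k = k * g) (n : G) : ph g (cj k n) = cj k (ph g n) := by
  unfold ph
  rw [cj_mul, cj_mul, cj_comm h, cj_comm h, cj_comm h]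

theorem ph_one (g : G) : ph g 1 = 1 := by
  unfold ph
  rw [cj_one, cj_one, cj_one]; group

theorem ph_of_comm {g n : G} (h : g * n = n * g) : ph g n = n * n * n := by
  unfold ph
  rw [cj_of_comm h, cj_of_comm h, cj_of_comm h]

theorem comm_iff {n m : G} : ⁅n, m⁆ = 1 ↔ n * m = m * n := commutatorElement_eq_one_iff_mul_comm

/-- `N / C` elementary abelian, `C` central in `N` of exponent two, `g` acts on `N` and centralises `C` -/
structure Ctx (N C : Subgroup G) (g : G) : Prop where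
  CN : C ≤ N
  cN : ∀ c ∈ C, ∀ n ∈ N, n * c = c * n
  sqC : ∀ c ∈ C, c * c = 1
  gC : ∀ c ∈ C, g * c = c * g
  gN : ∀ n ∈ N, cj g n ∈ N
  gN' : ∀ n ∈ N, cj g⁻¹ n ∈ N
  comm : ∀ n ∈ N, ∀ m ∈ N, ⁅n, m⁆ ∈ C
  sq : ∀ n ∈ N, n * n ∈ C

section

variable {N C : Subgroup G} {g : G} (K : Ctx N C g)
include K

theorem cc {c d : G} (hc : c ∈ C) (hd : d ∈ C) : c * d = d * c := K.cN d hd c (K.CN hc)

theorem br_mul_left {n n' m : G} (hn : n ∈ N) (hn' : n' ∈ N) (hm : m ∈ N) : ⁅n * n', m⁆ = ⁅n, m⁆ * ⁅n', m⁆ := by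
  have h := K.cN _ (K.comm n' hn' m hm) n hn
  calc ⁅n * n', m⁆ = n * ⁅n', m⁆ * n⁻¹ * ⁅n, m⁆ := by simp only [commutatorElement_def]; group
    _ = ⁅n', m⁆ * ⁅n, m⁆ := by rw [h, mul_inv_cancel_right]
    _ = _ := cc K (K.comm n' hn' m hm) (K.comm n hn m hm)

theorem br_mul_right {n m m' : G} (hn : n ∈ N) (hm : m ∈ N) (hm' : m' ∈ N) : ⁅n, m * m'⁆ = ⁅n, m⁆ * ⁅n, m'⁆ := by
  have h := K.cN _ (K.comm n hn m' hm') m hm
  calc ⁅n, m * m'⁆ = ⁅n, m⁆ * (m * ⁅n, m'⁆ * m⁻¹) := by simp only [commutatorElement_def]; group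
    _ = _ := by rw [h, mul_inv_cancel_right]

theorem br_C {c m : G} (hc : c ∈ C) (hm : m ∈ N) : ⁅c, m⁆ = 1 := comm_iff.2 (K.cN c hc m hm).symm
theorem br_C' {c m : G} (hc : c ∈ C) (hm : m ∈ N) : ⁅m, c⁆ = 1 := comm_iff.2 (K.cN c hc m hm)

theorem br_cj {n m : G} (hn : n ∈ N) (hm : m ∈ N) : ⁅cj g n, cj g m⁆ = ⁅n, m⁆ := by
  rw [← cj_br, cj_of_comm (K.gC _ (K.comm n hn m hm))]

theorem phC_cj {n : G} (h : ph g n ∈ C) : ph g (cj g n) ∈ C := by
  rw [ph_cj rfl, cj_of_comm (K.gC _ h)]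
  exact h

theorem phC_cj' {n : G} (h : ph g n ∈ C) : ph g (cj g⁻¹ n) ∈ C := by
  have e : g * g⁻¹ = g⁻¹ * g := by group
  have e2 : g⁻¹ * ph g n = ph g n * g⁻¹ := by
    have := K.gC _ h
    rw [inv_mul_eq_iff_eq_mul, ← mul_assoc, this, mul_inv_cancel_right]
  rw [ph_cj e, cj_of_comm e2]
  exact h

/-- the commutator pairing vanishes on the elements killed by `ph` modulo `C` -/
theorem pair {n m : G} (hn : n ∈ N) (hm : m ∈ N) (pn : ph g n ∈ C) (pm : ph g m ∈ C) : n * m = m * n := by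
  have s1 : ∀ m' ∈ N, ⁅n, m'⁆ * ⁅n, cj g m'⁆ * ⁅n, cj g (cj g (cj g m'))⁆ = 1 := by
    intro m' hm'
    have k1 := K.gN _ hn
    have k2 := K.gN _ k1
    have k3 := K.gN _ k2
    have l1 := K.gN _ hm'
    have l2 := K.gN _ l1
    have l3 := K.gN _ l2
    have h1 := br_C K pn l3
    unfold ph at h1
    rw [br_mul_left K (mul_mem k3 k2) hn l3, br_mul_left K k3 k2 l3, br_cj K k2 l2, br_cj K k1 l1, br_cj K hn hm',
      br_cj K k1 l2, br_cj K hn l1] at h1
    exact h1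
  have s2 : ∀ m' ∈ N, ph g m' ∈ C → ⁅n, cj g (cj g (cj g m'))⁆ * ⁅n, cj g (cj g m')⁆ * ⁅n, m'⁆ = 1 := by
    intro m' hm' pm'
    have l1 := K.gN _ hm'
    have l2 := K.gN _ l1
    have l3 := K.gN _ l2
    have h1 := br_C' K pm' hn
    unfold ph at h1
    rw [br_mul_right K hn (mul_mem l3 l2) hm', br_mul_right K hn l3 l2] at h1
    exact h1
  have s3 : ∀ m' ∈ N, ph g m' ∈ C → ⁅n, cj g (cj g m')⁆ = ⁅n, cj g m'⁆ := by
    intro m' hm' pm'
    have h1 := s1 m' hm'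
    have h2 := s2 m' hm' pm'
    have h3 := eq_inv_of_mul_eq_one_right h1
    rw [h3, mul_inv_rev, mul_assoc, mul_assoc] at h2
    have h4 := inv_mul_eq_iff_eq_mul.1 h2
    rw [mul_one, inv_mul_eq_iff_eq_mul] at h4
    have k1 := K.comm n hn _ (K.gN _ hm')
    have k0 := K.comm n hn _ hm'
    rw [← cc K k1 k0] at h4
    exact mul_right_cancel h4
  have s4 : ∀ m' ∈ N, ph g m' ∈ C → ⁅n, cj g m'⁆ = ⁅n, m'⁆ := by
    intro m' hm' pm'
    have := s3 _ (K.gN' _ hm') (phC_cj' K pm')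
    rwa [cj_inv_cj] at this
  have h1 := s2 m hm pm
  have l1 := K.gN _ hm
  rw [s3 _ l1 (phC_cj K pm), s3 _ hm pm, s4 _ hm pm, K.sqC _ (K.comm n hn m hm), one_mul] at h1
  exact comm_iff.1 h1

theorem ph_mul {n m : G} (hn : n ∈ N) (hm : m ∈ N) (pn : ph g n ∈ C) (pm : ph g m ∈ C) :
    ph g (n * m) = ph g n * ph g m := by
  have k1 := K.gN _ hn
  have k2 := K.gN _ k1
  have l1 := K.gN _ hm
  have l2 := K.gN _ l1
  have l3 := K.gN _ l2
  have q1 := phC_cj K pn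
  have q2 := phC_cj K q1
  have r1 := phC_cj K pm
  have r2 := phC_cj K r1
  have r3 := phC_cj K r2
  have c1 := pair K k2 l3 q2 r3
  have c2 := pair K hn l3 pn r3
  have c3 := pair K hn l2 pn r2
  unfold ph
  rw [cj_mul, cj_mul, cj_mul]
  generalize cj g (cj g (cj g n)) = n3
  generalize cj g (cj g (cj g m)) = m3 at *
  generalize cj g (cj g n) = n2 at *
  generalize cj g (cj g m) = m2 at *
  calc n3 * m3 * (n2 * m2) * (n * m) = n3 * (m3 * n2) * (m2 * n) * m := by group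
    _ = n3 * n2 * (m3 * n) * m2 * m := by rw [← c1, ← c3]; group
    _ = n3 * n2 * n * (m3 * m2 * m) := by rw [← c2]; group

theorem ph_C {c : G} (hc : c ∈ C) : ph g c = c := by
  rw [ph_of_comm (K.gC c hc), K.sqC c hc, one_mul]

theorem sq_one {n : G} (hn : n ∈ N) (pn : ph g n = 1) : n * n = 1 := by
  have pn' : ph g n ∈ C := by rw [pn]; exact one_mem _
  have k1 := K.gN _ hn
  have k2 := K.gN _ k1
  have k3 := K.gN _ k2
  have q1 := phC_cj K pn'
  have q2 := phC_cj K q1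
  have q3 := phC_cj K q2
  have c1 := pair K hn k2 pn' q2
  have c2 := pair K hn k3 pn' q3
  have c3 := pair K k2 k3 q2 q3
  have s1 : cj g n * cj g n = n * n := by rw [← cj_mul, cj_of_comm (K.gC _ (K.sq n hn))]
  have s2 : cj g (cj g n) * cj g (cj g n) = n * n := by rw [← cj_mul, s1, cj_of_comm (K.gC _ (K.sq n hn))]
  have s3 : cj g (cj g (cj g n)) * cj g (cj g (cj g n)) = n * n := by
    rw [← cj_mul, s2, cj_of_comm (K.gC _ (K.sq n hn))]
  have h : ph g n * ph g n = 1 := by rw [pn, one_mul]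
  have e : ph g n * ph g n = n * n := by
    unfold ph
    have s0 := K.sqC _ (K.sq n hn)
    generalize cj g (cj g (cj g n)) = n3 at *
    generalize cj g (cj g n) = n2 at *
    calc n3 * n2 * n * (n3 * n2 * n) = n3 * n2 * (n * n3) * n2 * n := by group
      _ = n3 * (n2 * n3) * (n * n2) * n := by rw [c2]; group
      _ = (n3 * n3) * (n2 * n2) * (n * n) := by rw [c1, c3]; group
      _ = _ := by rw [s2, s3, s0, one_mul]
  rw [← e, h]

theorem cen_one {n y : G} (hn : n ∈ N) (pn : ph g n = 1) (hy : y ∈ N) (gy : g * y = y * g) : n * y = y * n := by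
  have pn' : ph g n ∈ C := by rw [pn]; exact one_mem _
  have k1 := K.gN _ hn
  have k2 := K.gN _ k1
  have k3 := K.gN _ k2
  have e : ∀ n ∈ N, ⁅cj g n, y⁆ = ⁅n, y⁆ := fun n hn => by
    have := br_cj K hn hy
    rwa [cj_of_comm gy] at this
  have h := br_C K pn' hy
  unfold ph at h
  rw [br_mul_left K (mul_mem k3 k2) hn hy, br_mul_left K k3 k2 hy, e _ k2, e _ k1, e _ hn,
    K.sqC _ (K.comm n hn y hy), one_mul] at h
  exact comm_iff.1 h

end

/-- the subgroup killed by `ph` -/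
def VV {N C : Subgroup G} {g : G} (K : Ctx N C g) : Subgroup G where
  carrier := {n | n ∈ N ∧ ph g n = 1}
  mul_mem' := by
    rintro n m ⟨hn, pn⟩ ⟨hm, pm⟩
    refine ⟨mul_mem hn hm, ?_⟩
    rw [ph_mul K hn hm (by rw [pn]; exact one_mem _) (by rw [pm]; exact one_mem _), pn, pm, one_mul]
  one_mem' := ⟨one_mem _, ph_one g⟩
  inv_mem' := by
    rintro n ⟨hn, pn⟩
    have : n⁻¹ = n := inv_eq_of_mul_eq_one_left (sq_one K hn pn)
    rw [this]
    exact ⟨hn, pn⟩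

section

variable {N C : Subgroup G} {g : G} (K : Ctx N C g)

theorem mem_VV {n : G} : n ∈ VV K ↔ n ∈ N ∧ ph g n = 1 := Iff.rfl

theorem VV_le : VV K ≤ N := fun _ hn => hn.1

theorem VV_sq {n : G} (hn : n ∈ VV K) : n * n = 1 := sq_one K hn.1 hn.2

theorem VV_comm {n m : G} (hn : n ∈ VV K) (hm : m ∈ VV K) : n * m = m * n :=
  pair K hn.1 hm.1 (by rw [hn.2]; exact one_mem _) (by rw [hm.2]; exact one_mem _)

theorem VV_cen {n y : G} (hn : n ∈ VV K) (hy : y ∈ N) (gy : g * y = y * g) : n * y = y * n :=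
  cen_one K hn.1 hn.2 hy gy

theorem VV_C {c : G} (hc : c ∈ C) (h : c ∈ VV K) : c = 1 := by
  rw [← ph_C K hc]; exact h.2

theorem VV_of {n : G} (hn : n ∈ N) (pn : ph g n ∈ C) : n * ph g n ∈ VV K := by
  refine ⟨mul_mem hn (K.CN pn), ?_⟩
  rw [ph_mul K hn (K.CN pn) pn (by rw [ph_C K pn]; exact pn), ph_C K pn, K.sqC _ pn]

theorem VV_cj {k n : G} (hk : g * k = k * g) (kN : ∀ n ∈ N, cj k n ∈ N) (hn : n ∈ VV K) : cj k n ∈ VV K := by
  refine ⟨kN n hn.1, ?_⟩
  rw [ph_cj hk, hn.2, cj_one]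

end

end Cfsg.Agent.TriTwo.Grow1a
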