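import Mathlib
import Cfsg.Agent.TriTwo.Grow1a

/-!
# S1778, type `³D₄(2)`: the doubled short root groups `V₃`, `V₅` (section 4)
-/

set_option autoImplicit false
set_option linter.unusedSectionVars false

namespace Cfsg.Agent.TriTwo.Grow1b

open Cfsg.Agent.StdRank2.Hex Cfsg.Agent.SplitTwo Cfsg.Agent.TriTwo Cfsg.Agent.TriTwo.Grow1a
open scoped commutatorElement

section Gen

variable {G : Type*} [Group G]

theorem comm_left_of_mul {y z c : G} (h : (y * z) * c = c * (y * z)) (hy : y * c = c * y) : z * c = c * z := by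
  have e : y * (z * c) = y * (c * z) := by
    calc y * (z * c) = (y * z) * c := by group
      _ = c * (y * z) := h
      _ = (c * y) * z := by group
      _ = y * (c * z) := by rw [← hy]; group
  exact mul_left_cancel e

theorem comm_right_of_mul {y z c : G} (h : (y * z) * c = c * (y * z)) (hz : z * c = c * z) : y * c = c * y := by
  have e : (y * c) * z = (c * y) * z := by
    calc (y * c) * z = y * (c * z) := by group
      _ = y * (z * c) := by rw [hz]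
      _ = (y * z) * c := by group
      _ = c * (y * z) := h
      _ = (c * y) * z := by group
  exact mul_right_cancel e

end Gen

section Env

variable {E : Type*} [Field E] {σ : E ≃+* E} {G : Type*} [Group G] {x : ZMod 12 → E → G} {t : G} (v : Env σ x t)

include v

/-! ### Normal forms -/

theorem nf_J {y : G} (hy : y ∈ gl σ x [2, 3, 4]) :
    ∃ α b δ, Ok σ 2 α ∧ Ok σ 4 δ ∧ y = x 2 α * x 3 b * x 4 δ := by
  obtain ⟨α, hα, z, hz, rfl⟩ := split_gl v.hex (k := 2) (L := [3, 4]) (by decide) hy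
  obtain ⟨b, -, z1, hz1, rfl⟩ := split_gl v.hex (k := 3) (L := [4]) (by decide) hz
  obtain ⟨δ, hδ, z2, hz2, rfl⟩ := split_gl v.hex (k := 4) (L := []) (by decide) hz1
  refine ⟨α, b, δ, hα, hδ, ?_⟩
  rw [gl_nil v.hex hz2]; group

theorem nf_J5 {y : G} (hy : y ∈ gl σ x [2, 3, 4, 5]) :
    ∃ α b δ c, Ok σ 2 α ∧ Ok σ 4 δ ∧ y = x 2 α * x 3 b * x 4 δ * x 5 c := by
  obtain ⟨α, hα, z, hz, rfl⟩ := split_gl v.hex (k := 2) (L := [3, 4, 5]) (by decide) hy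
  obtain ⟨b, -, z1, hz1, rfl⟩ := split_gl v.hex (k := 3) (L := [4, 5]) (by decide) hz
  obtain ⟨δ, hδ, z2, hz2, rfl⟩ := split_gl v.hex (k := 4) (L := [5]) (by decide) hz1
  obtain ⟨c, -, z3, hz3, rfl⟩ := split_gl v.hex (k := 5) (L := []) (by decide) hz2
  refine ⟨α, b, δ, c, hα, hδ, ?_⟩
  rw [gl_nil v.hex hz3]; group

theorem nf_Q1 {y : G} (hy : y ∈ Q1 σ x) :
    ∃ α b δ c ε, Ok σ 2 α ∧ Ok σ 4 δ ∧ Ok σ 6 ε ∧ y = x 2 α * x 3 b * x 4 δ * x 5 c * x 6 ε := by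
  rw [Q1_eq] at hy
  obtain ⟨α, hα, z, hz, rfl⟩ := split_gl v.hex (k := 2) (L := [3, 4, 5, 6]) (by decide) hy
  obtain ⟨b, -, z1, hz1, rfl⟩ := split_gl v.hex (k := 3) (L := [4, 5, 6]) (by decide) hz
  obtain ⟨δ, hδ, z2, hz2, rfl⟩ := split_gl v.hex (k := 4) (L := [5, 6]) (by decide) hz1
  obtain ⟨c, -, z3, hz3, rfl⟩ := split_gl v.hex (k := 5) (L := [6]) (by decide) hz2
  obtain ⟨ε, hε, z4, hz4, rfl⟩ := split_gl v.hex (k := 6) (L := []) (by decide) hz3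
  refine ⟨α, b, δ, c, ε, hα, hδ, hε, ?_⟩
  rw [gl_nil v.hex hz4]; group

theorem nf_U {y : G} (hy : y ∈ Us σ x) :
    ∃ d α b δ c ε, Ok σ 2 α ∧ Ok σ 4 δ ∧ Ok σ 6 ε ∧ y = x 1 d * (x 2 α * x 3 b * x 4 δ * x 5 c * x 6 ε) := by
  rw [Us_eq] at hy
  obtain ⟨d, hd, z, hz, rfl⟩ := split_gl v.hex (k := 1) (L := [2, 3, 4, 5, 6]) (by decide) hy
  obtain ⟨α, b, δ, c, ε, h1, h2, h3, rfl⟩ := nf_Q1 v (by rw [Q1_eq]; exact hz)
  exact ⟨d, α, b, δ, c, ε, h1, h2, h3, rfl⟩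

/-- `x₂(α)` commutes with `x₆(1)` only if `α = 0` -/
theorem c26 {α ε : E} (hα : Ok σ 2 α) (hε : Ok σ 6 ε) (h : x 2 α * x 6 ε = x 6 ε * x 2 α) : α * ε = 0 := by
  have e := v.hex.commL4 (k := 2) (by decide) (hα (by decide)) (hε (by decide))
  rw [show (2 : ZMod 12) + 4 = 6 from rfl, show (2 : ZMod 12) + 2 = 4 from rfl, comm_iff.2 h] at e
  refine v.hex.inj 4 _ (ok_of_fix 4 ?_) e.symm
  rw [map_mul, hα (by decide), hε (by decide)]

/-- the trace form is non degenerate -/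
theorem tr_nd {b : E} (h : ∀ c, trc σ c b = 0) : b = 0 := by
  by_contra hb
  have := h b⁻¹
  rw [trc_eq, inv_mul_cancel₀ hb, tr_one v.hex.two] at this
  exact one_ne_zero this

theorem c35 {b : E} (h : ∀ c, x 3 c * x 5 b = x 5 b * x 3 c) : b = 0 := by
  refine tr_nd v fun c => ?_
  have e := v.hex.commS2 (k := 3) (by decide) c b
  rw [show (3 : ZMod 12) + 2 = 5 from rfl, show (3 : ZMod 12) + 1 = 4 from rfl, comm_iff.2 (h c)] at e
  exact v.hex.inj 4 _ (ok_of_fix 4 (trc_fix v.hex.cube c b)) e.symm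

theorem trc_symm (b c : E) : trc σ b c = trc σ c b := by rw [trc_eq, trc_eq, mul_comm]

theorem c53 {b : E} (h : ∀ c, x 5 c * x 3 b = x 3 b * x 5 c) : b = 0 := by
  refine tr_nd v fun c => ?_
  have e := v.hex.commS2 (k := 3) (by decide) b c
  rw [show (3 : ZMod 12) + 2 = 5 from rfl, show (3 : ZMod 12) + 1 = 4 from rfl, comm_iff.2 (h c).symm] at e
  rw [trc_symm v]
  exact v.hex.inj 4 _ (ok_of_fix 4 (trc_fix v.hex.cube b c)) e.symm

theorem c13 {b : E} (h : ∀ c, x 1 b * x 3 c = x 3 c * x 1 b) : b = 0 := by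
  refine tr_nd v fun c => ?_
  have e := v.hex.commS2 (k := 1) (by decide) b c
  rw [show (1 : ZMod 12) + 2 = 3 from rfl, show (1 : ZMod 12) + 1 = 2 from rfl, comm_iff.2 (h c)] at e
  rw [trc_symm v]
  exact v.hex.inj 2 _ (ok_of_fix 2 (trc_fix v.hex.cube b c)) e.symm

theorem t_tau (ζ : E) : t * tau x ζ = tau x ζ * t := t_gens v (tau_P1 v ζ)

theorem k_of {k k' : ZMod 12} (kk : (k = 3 ∧ k' = 5) ∨ (k = 5 ∧ k' = 3)) : k.val % 2 = 1 ∧ k ≠ 4 := by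
  rcases kk with ⟨rfl, -⟩ | ⟨rfl, -⟩ <;> decide

theorem xk_Q1 {k k' : ZMod 12} (kk : (k = 3 ∧ k' = 5) ∨ (k = 5 ∧ k' = 3)) (b : E) : x k b ∈ Q1 σ x := by
  rw [Q1_eq]
  rcases kk with ⟨rfl, -⟩ | ⟨rfl, -⟩
  · exact mem_gl (by decide) (ok_odd (by decide) b)
  · exact mem_gl (by decide) (ok_odd (by decide) b)

/-- elements of `Q₁` centralising `x₂`, `x₆` and `x k` lie in `x k · Z` -/
theorem cent_k {k k' : ZMod 12} (kk : (k = 3 ∧ k' = 5) ∨ (k = 5 ∧ k' = 3)) {y : G} (hy : y ∈ Q1 σ x)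
    (h2 : y * x 2 1 = x 2 1 * y) (h6 : y * x 6 1 = x 6 1 * y) (hk : ∀ b, y * x k b = x k b * y) :
    ∃ b δ, Ok σ 4 δ ∧ y = x k b * x 4 δ := by
  obtain ⟨α, b, δ, c, ε, hα, hδ, hε, rfl⟩ := nf_Q1 v hy
  have o3 : ∀ b : E, Ok σ 3 b := ok_odd (by decide)
  have o5 : ∀ b : E, Ok σ 5 b := ok_odd (by decide)
  have o1 := ok_one σ (k := 2)
  have o1' := ok_one σ (k := 6)
  have a0 : α = 0 := by
    have e1 : x 3 b * x 4 δ * x 5 c * x 6 ε * x 6 1 = x 6 1 * (x 3 b * x 4 δ * x 5 c * x 6 ε) :=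
      mul_comm_of (mul_comm_of (mul_comm_of (cm v.hex (by decide) (o3 b) o1') (cm v.hex (by decide) hδ o1'))
        (cm v.hex (by decide) (o5 c) o1')) (cm v.hex (by decide) hε o1')
    have e2 := comm_right_of_mul (y := x 2 α) (z := x 3 b * x 4 δ * x 5 c * x 6 ε) (c := x 6 1)
      (by simpa [mul_assoc] using h6) e1
    have := c26 v hα o1' e2
    rwa [mul_one] at this
  have e0 : ε = 0 := by
    have e1 : x 2 α * x 3 b * x 4 δ * x 5 c * x 2 1 = x 2 1 * (x 2 α * x 3 b * x 4 δ * x 5 c) :=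
      mul_comm_of (mul_comm_of (mul_comm_of (cm v.hex (by decide) hα o1) (cm v.hex (by decide) (o3 b) o1))
        (cm v.hex (by decide) hδ o1)) (cm v.hex (by decide) (o5 c) o1)
    have e2 := comm_left_of_mul h2 e1
    have := c26 v o1 hε e2.symm
    rwa [one_mul] at this
  subst a0 e0
  rw [v.hex.x_zero, v.hex.x_zero, one_mul, mul_one] at hk ⊢
  rcases kk with ⟨rfl, -⟩ | ⟨rfl, -⟩
  · have c0 : c = 0 := c35 v fun d => by
      have e1 : x 3 b * x 4 δ * x 3 d = x 3 d * (x 3 b * x 4 δ) :=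
        mul_comm_of (cm v.hex (by decide) (o3 b) (o3 d)) (cm v.hex (by decide) hδ (o3 d))
      exact (comm_left_of_mul (hk d) e1).symm
    subst c0
    exact ⟨b, δ, hδ, by rw [v.hex.x_zero, mul_one]⟩
  · have b0 : b = 0 := c53 v fun d => by
      have e1 : x 4 δ * x 5 c * x 5 d = x 5 d * (x 4 δ * x 5 c) :=
        mul_comm_of (cm v.hex (by decide) hδ (o5 d)) (cm v.hex (by decide) (o5 c) (o5 d))
      have e2 : x 3 b * (x 4 δ * x 5 c) * x 5 d = x 5 d * (x 3 b * (x 4 δ * x 5 c)) := by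
        have := hk d
        rwa [mul_assoc (x 3 b)] at this
      exact (comm_right_of_mul e2 e1).symm
    subst b0
    refine ⟨c, δ, hδ, ?_⟩
    rw [v.hex.x_zero, one_mul]
    exact cm v.hex (by decide) hδ (o5 c)

end Env

/-- `tau ζ` acts on `x k` by `η⁻¹`, on `x k'` by `η` -/
structure Kd {E : Type*} [Field E] {G : Type*} [Group G] (x : ZMod 12 → E → G) (η ζ : E) (k k' : ZMod 12) : Prop where
  kk : (k = 3 ∧ k' = 5) ∨ (k = 5 ∧ k' = 3)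
  z0 : ζ ≠ 0
  e0 : η ≠ 0
  e1 : η ≠ 1
  e3 : η ^ 3 = η + 1
  act : ∀ b, cj (tau x ζ) (x k b) = x k (η⁻¹ * b)

section Seed

variable {E : Type*} [Field E] {σ : E ≃+* E} {G : Type*} [Group G] {x : ZMod 12 → E → G} {t a : G}

theorem kd3 (v : Env σ x t) {η : E} (e0 : η ≠ 0) (e1 : η ≠ 1) (e3 : η ^ 3 = η + 1) : Kd x η η 3 5 where
  kk := Or.inl ⟨rfl, rfl⟩
  z0 := e0
  e0 := e0
  e1 := e1
  e3 := e3
  act b := by
    unfold cj
    rw [tau_act v.hex v.card v.fix e0 3 (ok_odd (by decide) b)]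
    congr 2

theorem kd5 (v : Env σ x t) {η : E} (e0 : η ≠ 0) (e1 : η ≠ 1) (e3 : η ^ 3 = η + 1) : Kd x η η⁻¹ 5 3 where
  kk := Or.inr ⟨rfl, rfl⟩
  z0 := inv_ne_zero e0
  e0 := e0
  e1 := e1
  e3 := e3
  act b := by
    unfold cj
    rw [tau_act v.hex v.card v.fix (inv_ne_zero e0) 5 (ok_odd (by decide) b)]
    congr 2

variable (v : Env σ x t) (s : Seed σ x t a) (q : QOne σ x t a)

include v s q

theorem ctx {ζ : E} (hζ : ζ ≠ 0) : Ctx (N1 σ x t a) (Zh x a) (tau x ζ) where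
  CN := q.Z_le
  cN c hc n hn := hn.1 c hc
  sqC c hc := Zh_sq v s hc
  gC c hc := P1_Zh v s (tau_P1 v ζ) hc
  gN n hn := q.P_N1 _ (tau_P1 v ζ) n hn
  gN' n hn := q.P_N1 _ (inv_mem (tau_P1 v ζ)) n hn
  comm := q.comm
  sq := q.sq

theorem cN {c n : G} (hc : c ∈ Zh x a) (hn : n ∈ N1 σ x t a) : n * c = c * n := hn.1 c hc

/-- `q` represents `⁅n, t⁆` modulo `Ẑ` -/
def Nu (σ : E ≃+* E) (x : ZMod 12 → E → G) (t a n r : G) : Prop :=
  n ∈ N1 σ x t a ∧ r ∈ N1 σ x t a ∧ ⁅n, t⁆ * r⁻¹ ∈ Zh x a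

theorem Nu.mul {n r n' r' : G} (h : Nu σ x t a n r) (h' : Nu σ x t a n' r') : Nu σ x t a (n * n') (r * r') := by
  obtain ⟨hn, hr, hc⟩ := h
  obtain ⟨hn', hr', hc'⟩ := h'
  refine ⟨mul_mem hn hn', mul_mem hr hr', ?_⟩
  have e1 : ⁅n * n', t⁆ = n * ⁅n', t⁆ * n⁻¹ * ⁅n, t⁆ := by simp only [commutatorElement_def]; group
  obtain ⟨c, rfl⟩ : ∃ c, c = ⁅n, t⁆ * r⁻¹ := ⟨_, rfl⟩
  obtain ⟨c', rfl⟩ : ∃ c', c' = ⁅n', t⁆ * r'⁻¹ := ⟨_, rfl⟩
  have k1 : ⁅n, t⁆ = (⁅n, t⁆ * r⁻¹) * r := by group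
  have k2 : ⁅n', t⁆ = (⁅n', t⁆ * r'⁻¹) * r' := by group
  generalize ⁅n, t⁆ * r⁻¹ = c at *
  generalize ⁅n', t⁆ * r'⁻¹ = c' at *
  have k3 := cN v s q hc' hn
  have k4 := q.comm n hn r' hr'
  have k5 := q.comm r' hr' r hr
  have k6 := cN v s q hc hr'
  have e2 : n * ⁅n', t⁆ * n⁻¹ * ⁅n, t⁆ * (r * r')⁻¹ = c' * (⁅n, r'⁆ * (c * ⁅r', r⁆)) := by
    rw [k1, k2]
    calc n * (c' * r') * n⁻¹ * (c * r) * (r * r')⁻¹ = (n * c') * r' * n⁻¹ * c * r * r'⁻¹ * r⁻¹ := by group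
      _ = c' * (n * r' * n⁻¹ * r'⁻¹) * (r' * c) * r * r'⁻¹ * r⁻¹ := by rw [k3]; group
      _ = _ := by rw [k6]; simp only [commutatorElement_def]; group
  rw [e1, e2]
  exact mul_mem hc' (mul_mem k4 (mul_mem hc k5))

theorem Nu.of_Zh {c r : G} (hc : c ∈ Zh x a) (hr : r ∈ Zh x a) : Nu σ x t a c r := by
  refine ⟨q.Z_le hc, q.Z_le hr, mul_mem ?_ (inv_mem hr)⟩
  have : ⁅c, t⁆ = c * (t * c * t⁻¹)⁻¹ := by rw [commutatorElement_def]; group
  rw [this]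
  refine mul_mem hc (inv_mem ?_)
  have hta := t_a v s
  have htz : t * x 4 1 * t⁻¹ = x 4 1 := by rw [v.tx 4 1 (ok_one σ 4), mul_inv_cancel_right]
  have hz := z_mem_Zh v s
  have ha := a_mem_Zh v s
  rcases (mem_Zh v s).1 hc with rfl | rfl | rfl | rfl
  · simp
  · rw [htz]; exact hz
  · rw [hta]; exact mul_mem ha hz
  · have e : t * (a * x 4 1) * t⁻¹ = (t * a * t⁻¹) * (t * x 4 1 * t⁻¹) := by group
    rw [e, hta, htz]
    exact mul_mem (mul_mem ha hz) hz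

theorem Nu.congr {n r r' : G} (h : Nu σ x t a n r) (hr' : r' ∈ N1 σ x t a) (hc : r * r'⁻¹ ∈ Zh x a) :
    Nu σ x t a n r' := by
  refine ⟨h.1, hr', ?_⟩
  have : ⁅n, t⁆ * r'⁻¹ = (⁅n, t⁆ * r⁻¹) * (r * r'⁻¹) := by group
  rw [this]
  exact mul_mem h.2.2 hc

theorem Nu.inv {n r : G} (h : Nu σ x t a n r) : Nu σ x t a n⁻¹ r⁻¹ := by
  -- `n⁻¹ = n · n⁻²`
  have h1 : Nu σ x t a (n * n)⁻¹ 1 := Nu.of_Zh v s q (inv_mem (q.sq n h.1)) (one_mem _)
  have h2 := Nu.mul v s q h h1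
  have e : n * (n * n)⁻¹ = n⁻¹ := by group
  rw [e, mul_one] at h2
  refine Nu.congr v s q h2 (inv_mem h.2.1) ?_
  rw [inv_inv]
  exact q.sq r h.2.1

theorem Nu.conj {n r p : G} (hp : p ∈ P1 σ x) (h : Nu σ x t a n r) : Nu σ x t a (cj p n) (cj p r) := by
  refine ⟨q.P_N1 p hp n h.1, q.P_N1 p hp r h.2.1, ?_⟩
  have ht : cj p t = t := cj_of_comm (t_gens v hp).symm
  have e : ⁅cj p n, t⁆ * (cj p r)⁻¹ = cj p (⁅n, t⁆ * r⁻¹) := by
    rw [cj_mul, cj_inv, cj_br, ht]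
  rw [e, cj_of_comm (P1_Zh v s hp h.2.2)]
  exact h.2.2

theorem Nu.ph {n r : G} (ζ : E) (h : Nu σ x t a n r) : Nu σ x t a (ph (tau x ζ) n) (ph (tau x ζ) r) := by
  have hp := tau_P1 v ζ
  have h1 := Nu.conj v s q hp h
  have h2 := Nu.conj v s q hp h1
  have h3 := Nu.conj v s q hp h2
  exact Nu.mul v s q (Nu.mul v s q h3 h2) h

theorem Nu.br {n r p : G} (hp : p ∈ P1 σ x) (h : Nu σ x t a n r) : Nu σ x t a ⁅p, n⁆ ⁅p, r⁆ := by
  have h1 := Nu.mul v s q (Nu.conj v s q hp h) (Nu.inv v s q h)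
  exact h1

theorem Nu.inj {n : G} (hn : n ∈ Ec x a) (h : Nu σ x t a n 1) : n ∈ Zh x a := by
  refine q.E_inj n hn ?_
  have := h.2.2
  rwa [inv_one, mul_one] at this

/-- two elements of `E` with the same image are congruent -/
theorem Nu.eq {n n' r : G} (hn : n ∈ Ec x a) (hn' : n' ∈ Ec x a) (h : Nu σ x t a n r) (h' : Nu σ x t a n' r) :
    n * n'⁻¹ ∈ Zh x a := by
  refine Nu.inj v s q (mul_mem hn (inv_mem hn')) ?_
  have := Nu.mul v s q h (Nu.inv v s q h')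
  rwa [mul_inv_cancel] at this

end Seed

section VVs

variable {E : Type*} [Field E] {σ : E ≃+* E} {G : Type*} [Group G] {x : ZMod 12 → E → G} {t a : G}
  (v : Env σ x t) (s : Seed σ x t a) (q : QOne σ x t a) {η ζ : E} {k k' : ZMod 12} (K : Kd x η ζ k k')

/-- the doubled root group -/
def V : Subgroup G := VV (ctx v s q K.z0)

include K

theorem pol : η⁻¹ * (η⁻¹ * η⁻¹) + η⁻¹ * η⁻¹ + 1 = 0 ∨ (2 : E) ≠ 0 := by
  by_cases h2 : (2 : E) = 0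
  · left
    have h0 := K.e0
    have h3 := K.e3
    field_simp
    linear_combination h3 + (η + 1) * h2
  · right; exact h2

include v s q

theorem ph_x (b : E) : ph (tau x ζ) (x k b) = 1 := by
  have ok : ∀ b : E, Ok σ k b := ok_odd (k_of v K.kk).1
  have h := (pol K).resolve_right (fun h => h v.hex.two)
  unfold ph
  rw [K.act, K.act, K.act, ← v.hex.add k _ _ (ok _) (ok _), ← v.hex.add k _ _ (ok _) (ok _)]
  have e : η⁻¹ * (η⁻¹ * (η⁻¹ * b)) + η⁻¹ * (η⁻¹ * b) + b = 0 := by linear_combination b * h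
  rw [e, v.hex.x_zero]

theorem x_mem (b : E) : x k b ∈ V v s q K := ⟨q.Q_le (xk_Q1 v K.kk b), ph_x v s q K b⟩

theorem even_N {l : ZMod 12} (hl : l = 2 ∨ l = 4 ∨ l = 6) {b : E} (hb : Ok σ l b) : x l b ∈ N1 σ x t a := by
  refine q.Q_le ?_
  rw [Q1_eq]
  rcases hl with rfl | rfl | rfl
  · exact mem_gl (by decide) hb
  · exact mem_gl (by decide) hb
  · exact mem_gl (by decide) hb

theorem V_even {l : ZMod 12} (hl : l = 2 ∨ l = 4 ∨ l = 6) {b : E} (hb : Ok σ l b) {y : G} (hy : y ∈ V v s q K) :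
    y * x l b = x l b * y := by
  refine VV_cen _ hy (even_N v s q K hl hb) (tau_even v.hex v.card v.fix K.z0 ?_ hb)
  rcases hl with rfl | rfl | rfl <;> decide

theorem V_a2 {y : G} (hy : y ∈ V v s q K) : y * a2 x a = a2 x a * y :=
  VV_cen _ hy q.a2_mem (a2_tau v s K.z0).symm

theorem V_a6 {y : G} (hy : y ∈ V v s q K) : y * a6 x a = a6 x a * y :=
  VV_cen _ hy q.a6_mem (a6_tau v s K.z0).symm

theorem V_Zh {y c : G} (hy : y ∈ V v s q K) (hc : c ∈ Zh x a) : y * c = c * y := cN v s q hc hy.1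

/-- `V ∩ Q₁Ẑ = x k` -/
theorem V_Q1 {y : G} (hy : y ∈ V v s q K) (hQ : y ∈ Q1 σ x ⊔ Zh x a) : ∃ b, y = x k b := by
  obtain ⟨r, hr, c, hc, rfl⟩ := mem_sup_norm (A := Q1 σ x) (B := Zh x a) (fun p hp c hc => by
    rw [P1_Zh v s (Q1_le_P1 v hp) hc, mul_inv_cancel_right]; exact hc) hQ
  have cP : ∀ p ∈ P1 σ x, c * p = p * c := fun p hp => (P1_Zh v s hp hc).symm
  have mP : ∀ {l : ZMod 12}, l ∈ ([1, 2, 3, 4, 5, 6, 7] : List (ZMod 12)) → ∀ {b : E}, Ok σ l b → x l b ∈ P1 σ x :=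
    fun hl _ hb => by rw [P1_eq]; exact mem_gl hl hb
  have h2 := V_even v s q K (Or.inl rfl) (ok_one σ 2) hy
  have h6 := V_even v s q K (Or.inr (Or.inr rfl)) (ok_one σ 6) hy
  have hk := fun b => VV_comm _ hy (x_mem v s q K b)
  obtain ⟨b, δ, hδ, rfl⟩ := cent_k v K.kk hr (comm_right_of_mul h2 (cP _ (mP (by decide) (ok_one σ 2))))
    (comm_right_of_mul h6 (cP _ (mP (by decide) (ok_one σ 6))))
    (fun b => comm_right_of_mul (hk b) (cP _ (Q1_le_P1 v (xk_Q1 v K.kk b))))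
  have hz : x 4 δ * c ∈ Zh x a := by
    refine mul_mem (Zs_le_Zh v s ?_) hc
    rw [Zs_eq]
    exact mem_gl (by decide) hδ
  have hd : x 4 δ * c ∈ V v s q K := by
    have := mul_mem (inv_mem (x_mem v s q K b)) hy
    have e : (x k b)⁻¹ * (x k b * x 4 δ * c) = x 4 δ * c := by group
    rwa [e] at this
  have := VV_C _ hz hd
  exact ⟨b, by rw [mul_assoc, this, mul_one]⟩

theorem V_conj_t {y : G} (hy : y ∈ V v s q K) : cj t y ∈ V v s q K :=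
  VV_cj _ (t_tau v ζ).symm q.t_N1 hy

theorem V_tau {r : E} (hr : r ≠ 0) {y : G} (hy : y ∈ V v s q K) : cj (tau x r) y ∈ V v s q K := by
  refine VV_cj _ ?_ (q.P_N1 _ (tau_P1 v r)) hy
  rw [← tau_mul v.hex v.card v.fix K.z0 hr, ← tau_mul v.hex v.card v.fix hr K.z0, mul_comm]

theorem V_br {y : G} (hy : y ∈ V v s q K) : ∃ b, ⁅t, y⁆ = x k b := by
  refine V_Q1 v s q K ?_ ?_
  · exact mul_mem (V_conj_t v s q K hy) (inv_mem hy)
  · rw [← commutatorElement_inv]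
    exact inv_mem hy.1.2.2.2.1

theorem V_fix {y : G} (hy : y ∈ V v s q K) (h : y * t = t * y) : ∃ b, y = x k b := by
  refine V_Q1 v s q K hy (q.ker y hy.1 ?_)
  rw [comm_iff.2 h]
  exact one_mem _

theorem x_Zh {b : E} (h : x k b ∈ Zh x a) : b = 0 :=
  v.hex.inj k b (ok_odd (k_of v K.kk).1 b) (VV_C (ctx v s q K.z0) h (x_mem v s q K b))

/-- lifting inside `E` -/
theorem V_lift (b : E) : ∃ y ∈ V v s q K, y ∈ Ec x a ∧ ⁅t, y⁆ = x k b ∧ Nu σ x t a y (x k b) := by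
  obtain ⟨e, he, hc⟩ := q.E_onto (x k b) (xk_Q1 v K.kk b)
  have h0 : Nu σ x t a e (x k b) := ⟨q.E_le he, q.Q_le (xk_Q1 v K.kk b), hc⟩
  have h1 := Nu.ph v s q ζ h0
  rw [ph_x v s q K] at h1
  have hE : ph (tau x ζ) e ∈ Ec x a := by
    have k1 := q.H_E ζ K.z0 e he
    have k2 := q.H_E ζ K.z0 _ k1
    have k3 := q.H_E ζ K.z0 _ k2
    exact mul_mem (mul_mem k3 k2) he
  have h2 := Nu.inj v s q hE h1
  have h3 := VV_of (ctx v s q K.z0) (q.E_le he) h2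
  have h4 : Nu σ x t a (e * ph (tau x ζ) e) (x k b) := by
    have := Nu.mul v s q h0 (Nu.of_Zh v s q h2 (one_mem _))
    rwa [mul_one] at this
  refine ⟨_, h3, mul_mem he hE, ?_, h4⟩
  obtain ⟨b', hb'⟩ := V_br v s q K h3
  rw [hb']
  have ok : ∀ b : E, Ok σ k b := ok_odd (k_of v K.kk).1
  have h5 := h4.2.2
  rw [← commutatorElement_inv, hb', v.hex.x_inv (ok b'), v.hex.x_inv (ok b), ← v.hex.add k _ _ (ok _) (ok _)] at h5
  have h6 := x_Zh v s q K h5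
  rw [← v.hex.sub_eq] at h6
  rw [sub_eq_zero.1 h6]

/-- `V = (V ∩ E) · x k` -/
theorem V_split {y : G} (hy : y ∈ V v s q K) :
    ∃ e ∈ V v s q K, e ∈ Ec x a ∧ ∃ b c, Nu σ x t a e (x k b) ∧ y = e * x k c := by
  obtain ⟨b, hb⟩ := V_br v s q K hy
  obtain ⟨e, he, heE, hb', hN⟩ := V_lift v s q K b
  obtain ⟨c, hc⟩ := V_fix v s q K (y := e⁻¹ * y) (mul_mem (inv_mem he) hy) (by
    rw [← hb'] at hb
    simp only [commutatorElement_def] at hb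
    have h3 : e⁻¹ * y = t * (e⁻¹ * y) * t⁻¹ := by
      calc e⁻¹ * y = e⁻¹ * (t * y * t⁻¹ * y⁻¹)⁻¹ * (t * y * t⁻¹) := by group
        _ = e⁻¹ * (t * e * t⁻¹ * e⁻¹)⁻¹ * (t * y * t⁻¹) := by rw [hb]
        _ = t * (e⁻¹ * y) * t⁻¹ := by group
    calc e⁻¹ * y * t = (t * (e⁻¹ * y) * t⁻¹) * t := by rw [← h3]
      _ = t * (e⁻¹ * y) := by group)
  exact ⟨e, he, heE, b, c, hN, by rw [← hc]; group⟩

theorem V_fpf {r : E} (h0 : r ≠ 0) (h1 : r ≠ 1) {y : G} (hy : y ∈ V v s q K) (h : tau x r * y = y * tau x r) :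
    y = 1 := by
  have ok : ∀ b : E, Ok σ k b := ok_odd (k_of v K.kk).1
  have fp : ∀ b : E, tau x r * x k b = x k b * tau x r → b = 0 := by
    intro b hb
    have e := tau_act v.hex v.card v.fix h0 k (ok b)
    rw [hb, mul_inv_cancel_right, v.hex.x_inj (ok _) (ok _)] at e
    have hw : wt k r ≠ 1 := by
      rcases K.kk with ⟨rfl, -⟩ | ⟨rfl, -⟩
      · show r⁻¹ ≠ 1
        intro h; exact h1 (inv_eq_one.1 h)
      · exact h1
    by_contra hb0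
    exact hw (mul_right_cancel₀ hb0 (by rw [one_mul]; exact e.symm))
  obtain ⟨b, hb⟩ := V_br v s q K hy
  have hb0 : b = 0 := by
    refine fp b ?_
    rw [← cj_eq_iff, ← hb, cj_br, cj_eq_iff.2 h, cj_of_comm (t_tau v r).symm]
  rw [hb0, v.hex.x_zero] at hb
  obtain ⟨c, rfl⟩ := V_fix v s q K hy (comm_iff.1 hb).symm
  rw [fp c h, v.hex.x_zero]

end VVs

end Cfsg.Agent.TriTwo.Grow1b
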