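import Mathlib
import Cfsg.Agent.TriTwo.Grow1b

/-!
# S1778, type `³D₄(2)`: commutators with `U₁` (section 4)
-/

set_option autoImplicit false
set_option linter.unusedSectionVars false

namespace Cfsg.Agent.TriTwo.Grow1c

open Cfsg.Agent.StdRank2.Hex Cfsg.Agent.SplitTwo Cfsg.Agent.TriTwo Cfsg.Agent.TriTwo.Grow1a Cfsg.Agent.TriTwo.Grow1b
open scoped commutatorElement

section Defs

variable {E : Type*} [Field E] {G : Type*} [Group G] (x : ZMod 12 → E → G) (a : G)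

/-- `V₂ = ⟨z₂, a₂⟩` -/
def W2 : Subgroup G := (Zh x a).comap (MulAut.conj (nn x 6)).toMonoidHom

/-- `V₆ = ⟨z₆, a₆⟩` -/
def W6 : Subgroup G := (W2 x a).comap (MulAut.conj (nn x 1)).toMonoidHom

end Defs

section Seed

variable {E : Type*} [Field E] {σ : E ≃+* E} {G : Type*} [Group G] {x : ZMod 12 → E → G} {t a : G}

theorem mem_W2 {y : G} : y ∈ W2 x a ↔ cj (nn x 6) y ∈ Zh x a := Iff.rfl
theorem mem_W6 {y : G} : y ∈ W6 x a ↔ cj (nn x 1) y ∈ W2 x a := Iff.rfl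

variable (v : Env σ x t)

include v

theorem cj_nn (k : ZMod 12) (y : G) : cj (nn x k) (cj (nn x k) y) = y := by
  rw [cj_cj, v.hex.nn_sq]; unfold cj; group

variable (s : Seed σ x t a)

include s

theorem W2_cases {y : G} : y ∈ W2 x a ↔ y = 1 ∨ y = x 2 1 ∨ y = a2 x a ∨ y = a2 x a * x 2 1 := by
  have e1 : cj (nn x 6) (x 4 1) = x 2 1 := v.hex.refl6 4 1 (ok_one σ 4)
  have e2 : cj (nn x 6) a = a2 x a := rfl
  have e3 : cj (nn x 6) (a * x 4 1) = a2 x a * x 2 1 := by rw [cj_mul, e1, e2]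
  have f1 : cj (nn x 6) (x 2 1) = x 4 1 := v.hex.refl6 2 1 (ok_one σ 2)
  have f2 : cj (nn x 6) (a2 x a) = a := by rw [← e2, cj_nn v]
  have f3 : cj (nn x 6) (a2 x a * x 2 1) = a * x 4 1 := by rw [cj_mul, f1, f2]
  rw [mem_W2, mem_Zh v s]
  constructor
  · rintro (h | h | h | h)
    · left; rw [← cj_nn v 6 y, h, cj_one]
    · right; left; rw [← cj_nn v 6 y, h, e1]
    · right; right; left; rw [← cj_nn v 6 y, h, e2]
    · right; right; right; rw [← cj_nn v 6 y, h, e3]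
  · rintro (rfl | rfl | rfl | rfl)
    · left; exact cj_one _
    · right; left; exact f1
    · right; right; left; exact f2
    · right; right; right; exact f3

theorem W6_cases {y : G} : y ∈ W6 x a ↔ y = 1 ∨ y = x 6 1 ∨ y = a6 x a ∨ y = a6 x a * x 6 1 := by
  have e1 : cj (nn x 1) (x 2 1) = x 6 1 := v.hex.refl1 2 1 (ok_one σ 2)
  have e2 : cj (nn x 1) (a2 x a) = a6 x a := rfl
  have e3 : cj (nn x 1) (a2 x a * x 2 1) = a6 x a * x 6 1 := by rw [cj_mul, e1, e2]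
  have f1 : cj (nn x 1) (x 6 1) = x 2 1 := v.hex.refl1 6 1 (ok_one σ 6)
  have f2 : cj (nn x 1) (a6 x a) = a2 x a := by rw [← e2, cj_nn v]
  have f3 : cj (nn x 1) (a6 x a * x 6 1) = a2 x a * x 2 1 := by rw [cj_mul, f1, f2]
  rw [mem_W6, W2_cases v s]
  constructor
  · rintro (h | h | h | h)
    · left; rw [← cj_nn v 1 y, h, cj_one]
    · right; left; rw [← cj_nn v 1 y, h, e1]
    · right; right; left; rw [← cj_nn v 1 y, h, e2]
    · right; right; right; rw [← cj_nn v 1 y, h, e3]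
  · rintro (rfl | rfl | rfl | rfl)
    · left; exact cj_one _
    · right; left; exact f1
    · right; right; left; exact f2
    · right; right; right; exact f3

variable (q : QOne σ x t a)

include q

theorem even01 {k : ZMod 12} (hk : k.val % 2 = 0) {α : E} (hα : Ok σ k α) : α = 0 ∨ α = 1 := v.fix α (hα hk)

theorem Nu_a2 : Nu σ x t a (a2 x a) (x 2 1) := by
  refine ⟨q.a2_mem, q.Q_le (by rw [Q1_eq]; exact mem_gl (by decide) (ok_one σ 2)), ?_⟩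
  have h := a2_t v s
  have ht := v.tx 2 1 (ok_one σ 2)
  have e : ⁅a2 x a, t⁆ = x 2 1 := by
    rw [commutatorElement_def, h, ht, mul_inv_cancel_right]
  rw [e, mul_inv_cancel]
  exact one_mem _

theorem Nu_a6 : Nu σ x t a (a6 x a) (x 6 1) := by
  refine ⟨q.a6_mem, q.Q_le (by rw [Q1_eq]; exact mem_gl (by decide) (ok_one σ 6)), ?_⟩
  have h := a6_t v s
  have ht := v.tx 6 1 (ok_one σ 6)
  have e : ⁅a6 x a, t⁆ = x 6 1 := by
    rw [commutatorElement_def, h, ht, mul_inv_cancel_right]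
  rw [e, mul_inv_cancel]
  exact one_mem _

theorem xN {l : ZMod 12} (hl : l ∈ ([2, 3, 4, 5, 6] : List (ZMod 12))) {b : E} (hb : Ok σ l b) :
    x l b ∈ N1 σ x t a := q.Q_le (by rw [Q1_eq]; exact mem_gl hl hb)

theorem x_P1 {l : ZMod 12} (hl : l ∈ ([1, 2, 3, 4, 5, 6, 7] : List (ZMod 12))) {b : E} (hb : Ok σ l b) :
    x l b ∈ P1 σ x := by rw [P1_eq]; exact mem_gl hl hb

theorem x4_Zh {δ : E} (hδ : Ok σ 4 δ) : x 4 δ ∈ Zh x a := Zs_le_Zh v s (by rw [Zs_eq]; exact mem_gl (by decide) hδ)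

theorem x2_W2 {α : E} (hα : Ok σ 2 α) : x 2 α ∈ W2 x a := by
  rw [W2_cases v s]
  rcases even_val v (by decide) hα with h | h
  · left; exact h
  · right; left; exact h

variable {η : E} (K3 : Kd x η η 3 5) (K5 : Kd x η η⁻¹ 5 3)

include K3 K5

/-- an element of `E` above `z₂` -/
theorem lift2 : ∃ e ∈ Ec x a, e ∈ W2 x a ⊔ Zh x a ∧ Nu σ x t a e (x 2 1) := by
  have o3 : ∀ b : E, Ok σ 3 b := ok_odd (by decide)
  have o5 : ∀ b : E, Ok σ 5 b := ok_odd (by decide)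
  have o1 : ∀ b : E, Ok σ 1 b := ok_odd (by decide)
  have q2 : x 2 1 ∈ Q1 σ x := by rw [Q1_eq]; exact mem_gl (by decide) (ok_one σ 2)
  obtain ⟨e, he, hc⟩ := q.E_onto (x 2 1) q2
  have h0 : Nu σ x t a e (x 2 1) := ⟨q.E_le he, q.Q_le q2, hc⟩
  -- (i)
  have i0 : ∀ ζ : E, ζ ≠ 0 → cj (tau x ζ) e * e⁻¹ ∈ Zh x a := by
    intro ζ hζ
    have h1 := Nu.conj v s q (tau_P1 v ζ) h0
    rw [cj_of_comm (tau_even v.hex v.card v.fix hζ (by decide) (ok_one σ 2))] at h1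
    exact Nu.eq v s q (q.H_E ζ hζ e he) he h1 h0
  have i1 : ∀ ζ : E, ζ ≠ 0 → tau x ζ * e = e * tau x ζ := by
    intro ζ hζ
    have hξ : ζ ^ 4 ≠ 0 := pow_ne_zero _ hζ
    have h1 := i0 _ hξ
    have e1 : cj (tau x (ζ ^ 4)) e = (cj (tau x (ζ ^ 4)) e * e⁻¹) * e := by group
    have e2 : cj (tau x (ζ ^ 4)) (cj (tau x (ζ ^ 4)) e * e⁻¹) = cj (tau x (ζ ^ 4)) e * e⁻¹ :=
      cj_of_comm (P1_Zh v s (tau_P1 v _) h1)
    have e3 : cj (tau x (ζ ^ 4)) (cj (tau x (ζ ^ 4)) e) = e := by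
      have e4 := Zh_sq v s h1
      calc cj (tau x (ζ ^ 4)) (cj (tau x (ζ ^ 4)) e)
          = cj (tau x (ζ ^ 4)) ((cj (tau x (ζ ^ 4)) e * e⁻¹) * e) := by rw [← e1]
        _ = (cj (tau x (ζ ^ 4)) e * e⁻¹) * cj (tau x (ζ ^ 4)) e := by rw [cj_mul, e2]
        _ = (cj (tau x (ζ ^ 4)) e * e⁻¹) * ((cj (tau x (ζ ^ 4)) e * e⁻¹) * e) := by rw [← e1]
        _ = e := by rw [← mul_assoc, e4, one_mul]
    rw [cj_cj, ← tau_mul v.hex v.card v.fix hξ hξ, ← pow_add] at e3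
    have e5 : ζ ^ (4 + 4) = ζ := pow_eight v.card ζ
    rw [e5] at e3
    exact cj_eq_iff.1 e3
  -- (ii)
  have i2 : ∀ b : E, cj (x 1 b) e * e⁻¹ ∈ Zh x a := by
    intro b
    have hE : cj (x 1 b) e ∈ Ec x a := by
      have := q.U1_E b e he
      have e1 : cj (x 1 b) e = x 1 b * e * x 1 b := by unfold cj; rw [xinv v (o1 b)]
      rw [e1]; exact this
    have h1 := Nu.conj v s q (x_P1 v s q (l := 1) (by decide) (o1 b)) h0
    rw [cj_of_comm (cm v.hex (by decide) (o1 b) (ok_one σ 2))] at h1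
    exact Nu.eq v s q hE he h1 h0
  -- (iii)
  have h3 : Nu σ x t a (a2 x a * e) 1 := by
    have := Nu.mul v s q (Nu_a2 v s q) h0
    rwa [xx v (ok_one σ 2)] at this
  have h4 := q.ker _ h3.1 (by have := h3.2.2; rwa [inv_one, mul_one] at this)
  obtain ⟨r, hr, c, hc', he'⟩ := mem_sup_norm (A := Q1 σ x) (B := Zh x a) (fun p hp c hc => by
    rw [P1_Zh v s (Q1_le_P1 v hp) hc, mul_inv_cancel_right]; exact hc) h4
  have er : r = a2 x a * e * c⁻¹ := by rw [he']; group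
  have hrt : ∀ ζ : E, ζ ≠ 0 → tau x ζ * r = r * tau x ζ := by
    intro ζ hζ
    have k1 := (a2_tau v s hζ)
    have k2 := (i1 ζ hζ).symm
    have k3 := (P1_Zh v s (tau_P1 v ζ) (inv_mem hc')).symm
    rw [er]
    exact (mul_comm_of (mul_comm_of k1 k2) k3).symm
  have hrN : r ∈ N1 σ x t a := q.Q_le hr
  have r3 : ∀ d, x 3 d * r = r * x 3 d := fun d => VV_cen _ (x_mem v s q K3 d) hrN (hrt η K3.z0)
  have r5 : ∀ d, x 5 d * r = r * x 5 d := fun d => VV_cen _ (x_mem v s q K5 d) hrN (hrt η⁻¹ K5.z0)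
  have hru : cj (x 1 1) r * r⁻¹ ∈ Zh x a := by
    have k1 : cj (x 1 1) r = a2 x a * cj (x 1 1) e * c⁻¹ := by
      rw [er, cj_mul, cj_mul, cj_of_comm (a2_x v s (k := 1) (by decide) (o1 1)).symm,
        cj_of_comm (P1_Zh v s (x_P1 v s q (l := 1) (by decide) (o1 1)) (inv_mem hc'))]
    have k2 : cj (x 1 1) r * r⁻¹ = cj (a2 x a) (cj (x 1 1) e * e⁻¹) := by
      rw [k1, er]; unfold cj; group
    rw [k2, cj_of_comm (cN v s q (i2 1) q.a2_mem)]
    exact i2 1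
  obtain ⟨α, b, δ, c', ε, hα, hδ, hε, rfl⟩ := nf_Q1 v hr
  have c0 : c' = 0 := c35 v fun d => by
    have e1 : x 2 α * x 3 b * x 4 δ * x 3 d = x 3 d * (x 2 α * x 3 b * x 4 δ) :=
      mul_comm_of (mul_comm_of (cm v.hex (by decide) hα (o3 d)) (cm v.hex (by decide) (o3 b) (o3 d)))
        (cm v.hex (by decide) hδ (o3 d))
    have e2 := comm_right_of_mul (r3 d).symm (cm v.hex (by decide) hε (o3 d))
    exact (comm_left_of_mul e2 e1).symm
  have b0 : b = 0 := c53 v fun d => by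
    have e1 : x 4 δ * x 5 c' * x 6 ε * x 5 d = x 5 d * (x 4 δ * x 5 c' * x 6 ε) :=
      mul_comm_of (mul_comm_of (cm v.hex (by decide) hδ (o5 d)) (cm v.hex (by decide) (o5 c') (o5 d)))
        (cm v.hex (by decide) hε (o5 d))
    have e2 : x 2 α * x 3 b * x 5 d = x 5 d * (x 2 α * x 3 b) := by
      refine comm_right_of_mul ?_ e1
      have := (r5 d).symm
      simpa [mul_assoc] using this
    exact (comm_left_of_mul e2 (cm v.hex (by decide) hα (o5 d))).symm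
  subst c0 b0
  rw [v.hex.x_zero, v.hex.x_zero, mul_one, mul_one] at hru he' hr
  have e0 : ε = 0 := by
    rcases even01 v s q (by decide) hε with h | h
    · exact h
    · exfalso
      subst h
      have hz : x 2 α * x 4 δ ∈ P1 σ x := mul_mem (x_P1 v s q (by decide) hα) (x_P1 v s q (by decide) hδ)
      have k1 : x 1 1 * (x 2 α * x 4 δ) = (x 2 α * x 4 δ) * x 1 1 :=
        (mul_comm_of (cm v.hex (by decide) hα (o1 1)) (cm v.hex (by decide) hδ (o1 1))).symm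
      have k2 : cj (x 1 1) (x 2 α * x 4 δ * x 6 1) * (x 2 α * x 4 δ * x 6 1)⁻¹ =
          cj (x 2 α * x 4 δ) ⁅x 1 1, x 6 1⁆ := by
        rw [cj_mul, cj_of_comm k1]
        simp only [cj, commutatorElement_def]; group
      rw [k2] at hru
      have k3 : ⁅x 1 1, x 6 1⁆ ∈ Zh x a := by
        have h5 := P1_Zh v s (inv_mem hz) hru
        have h6 := cj_of_comm h5
        have h7 : cj (x 2 α * x 4 δ)⁻¹ (cj (x 2 α * x 4 δ) ⁅x 1 1, x 6 1⁆) = ⁅x 1 1, x 6 1⁆ := by unfold cj; group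
        rw [h7] at h6
        rw [h6]; exact hru
      have k4 := (P1_Zh v s (x_P1 v s q (l := 6) (by decide) (ok_one σ 6)) k3).symm
      have k5 := v.hex.commS5 (k := 1) (by decide) 1 (map_one σ)
      rw [show (1 : ZMod 12) + 5 = 6 from rfl, show (1 : ZMod 12) + 1 = 2 from rfl,
        show (1 : ZMod 12) + 2 = 3 from rfl, show (1 : ZMod 12) + 3 = 4 from rfl,
        show (1 : ZMod 12) + 4 = 5 from rfl, nrm_one, one_mul, one_mul, one_pow, one_mul] at k5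
      rw [k5] at k4
      have l1 := comm_right_of_mul k4 (cm v.hex (by decide) (o5 _) (ok_one σ 6))
      have l2 := comm_right_of_mul l1 (cm v.hex (by decide) (ok_one σ 4) (ok_one σ 6))
      have l3 := comm_right_of_mul l2 (cm v.hex (by decide) (o3 _) (ok_one σ 6))
      have := c26 v (ok_one σ 2) (ok_one σ 6) l3
      rw [one_mul] at this
      exact one_ne_zero this
  subst e0
  rw [v.hex.x_zero, mul_one] at he'
  refine ⟨e, he, ?_, h0⟩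
  have e6 : e = (a2 x a * x 2 α) * (x 4 δ * c) := by
    calc e = a2 x a * (a2 x a * e) := by rw [← mul_assoc, a2_a2 v s, one_mul]
      _ = _ := by rw [he']; group
  rw [e6]
  refine mul_mem ((le_sup_left : W2 x a ≤ _) (mul_mem ?_ (x2_W2 v s q hα)))
    ((le_sup_right : Zh x a ≤ _) (mul_mem (x4_Zh v s q hδ) hc'))
  rw [W2_cases v s]; right; right; left; rfl

theorem lift2' {α : E} (hα : Ok σ 2 α) : ∃ e ∈ Ec x a, e ∈ W2 x a ⊔ Zh x a ∧ Nu σ x t a e (x 2 α) := by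
  rcases even01 v s q (by decide) hα with rfl | rfl
  · refine ⟨1, one_mem _, one_mem _, ?_⟩
    rw [v.hex.x_zero]
    exact Nu.of_Zh v s q (one_mem _) (one_mem _)
  · exact lift2 v s q K3 K5

theorem Nu_z4 {e r : G} (h : Nu σ x t a e r) {δ : E} (hδ : Ok σ 4 δ) : Nu σ x t a e (r * x 4 δ) := by
  have h1 := Nu.mul v s q h (Nu.of_Zh v s q (one_mem _) (x4_Zh v s q hδ))
  rwa [mul_one] at h1

theorem lift2g {r : G} (hr : r ∈ gl σ x [2]) : ∃ e ∈ Ec x a, e ∈ W2 x a ⊔ Zh x a ∧ Nu σ x t a e r := by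
  obtain ⟨α, hα, z, hz, rfl⟩ := split_gl v.hex (k := 2) (L := []) (by decide) hr
  rw [gl_nil v.hex hz, mul_one]
  exact lift2' v s q K3 K5 hα

theorem liftJ {r : G} (hr : r ∈ gl σ x [2, 3, 4]) :
    ∃ e ∈ Ec x a, e ∈ W2 x a ⊔ V v s q K3 ⊔ Zh x a ∧ Nu σ x t a e r := by
  obtain ⟨α, b, δ, hα, hδ, rfl⟩ := nf_J v hr
  obtain ⟨e2, h2, h2', h2''⟩ := lift2' v s q K3 K5 hα
  obtain ⟨e3, h3, h3', -, h3''⟩ := V_lift v s q K3 b
  refine ⟨e2 * e3, mul_mem h2 h3', mul_mem ?_ ?_, Nu_z4 v s q K3 K5 (Nu.mul v s q h2'' h3'') hδ⟩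
  · exact (sup_le (le_sup_left.trans le_sup_left) le_sup_right : W2 x a ⊔ Zh x a ≤ _) h2'
  · exact (le_sup_right.trans le_sup_left : V v s q K3 ≤ W2 x a ⊔ V v s q K3 ⊔ Zh x a) h3

theorem liftJ5 {r : G} (hr : r ∈ gl σ x [2, 3, 4, 5]) :
    ∃ e ∈ Ec x a, e ∈ W2 x a ⊔ V v s q K3 ⊔ Zh x a ⊔ V v s q K5 ∧ Nu σ x t a e r := by
  obtain ⟨α, b, δ, c, hα, hδ, rfl⟩ := nf_J5 v hr
  obtain ⟨e, h2, h2', h2''⟩ := liftJ v s q K3 K5 (r := x 2 α * x 3 b * x 4 δ)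
    (mul_mem (mul_mem (mem_gl (by decide) hα) (mem_gl (by decide) (ok_odd (by decide) b))) (mem_gl (by decide) hδ))
  obtain ⟨e5, h3, h3', -, h3''⟩ := V_lift v s q K5 c
  exact ⟨e * e5, mul_mem h2 h3', mul_mem ((le_sup_left : W2 x a ⊔ V v s q K3 ⊔ Zh x a ≤ _) h2')
    ((le_sup_right : V v s q K5 ≤ _) h3), Nu.mul v s q h2'' h3''⟩

omit K3 K5 in
theorem Ubr {L : List (ZMod 12)} {W : Subgroup G} (hL : ∀ i ∈ L, i ∈ ([2, 3, 4, 5, 6] : List (ZMod 12)))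
    (hZ : Zh x a ≤ W) (hW : gl σ x L ≤ W) (lift : ∀ r ∈ gl σ x L, ∃ e ∈ Ec x a, e ∈ W ∧ Nu σ x t a e r)
    {b : E} {e r r' : G} (he : e ∈ Ec x a) (hN : Nu σ x t a e r) (hr : ⁅x 1 b, r⁆ ∈ gl σ x L)
    (hr' : ⁅x 1 b, r'⁆ ∈ gl σ x L) : ⁅x 1 b, e * r'⁆ ∈ W := by
  have o1 : ∀ b : E, Ok σ 1 b := ok_odd (by decide)
  have e1 : ⁅x 1 b, e * r'⁆ = ⁅x 1 b, e⁆ * (⁅e, ⁅x 1 b, r'⁆⁆ * ⁅x 1 b, r'⁆) := by
    simp only [commutatorElement_def]; group
  have hN' : ⁅x 1 b, r'⁆ ∈ N1 σ x t a := q.Q_le (by rw [Q1_eq]; exact gl_mono hL hr')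
  rw [e1]
  refine mul_mem ?_ (mul_mem (hZ (q.comm _ hN.1 _ hN')) (hW hr'))
  have hE : ⁅x 1 b, e⁆ ∈ Ec x a := by
    have k1 := mul_mem (q.U1_E b e he) (inv_mem he)
    rw [commutatorElement_def, xinv v (o1 b)]
    exact k1
  obtain ⟨e', he', heW, hN'⟩ := lift _ hr
  have h1 := Nu.eq v s q hE he' (Nu.br v s q (x_P1 v s q (l := 1) (by decide) (o1 b)) hN) hN'
  have e2 : ⁅x 1 b, e⁆ = (⁅x 1 b, e⁆ * e'⁻¹) * e' := by group
  rw [e2]
  exact mul_mem (hZ h1) heW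

/-- `[U₁, V₃] ≤ V₂V₄` -/
theorem u13 (b : E) {y : G} (hy : y ∈ V v s q K3) : ⁅x 1 b, y⁆ ∈ W2 x a ⊔ Zh x a := by
  obtain ⟨e, -, he, b', c, hN, rfl⟩ := V_split v s q K3 hy
  have o1 : ∀ b : E, Ok σ 1 b := ok_odd (by decide)
  have o3 : ∀ b : E, Ok σ 3 b := ok_odd (by decide)
  have hb : betw 1 3 = [2] := by decide
  have key : ∀ c, ⁅x 1 b, x 3 c⁆ ∈ gl σ x [2] := fun c => by
    rw [← hb]; exact comm_betw v.hex (o1 b) (o3 c) (by decide)
  refine Ubr v s q (L := [2]) (by decide) le_sup_right ?_ (fun r hr => lift2g v s q K3 K5 hr) he hN (key b') (key c)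
  refine gl_le v fun k hk α hα => ?_
  obtain rfl := List.mem_singleton.1 hk
  exact (le_sup_left : W2 x a ≤ _) (x2_W2 v s q hα)

theorem gl234_le : gl σ x [2, 3, 4] ≤ W2 x a ⊔ V v s q K3 ⊔ Zh x a := by
  refine gl_le v fun k hk α hα => ?_
  have : k = 2 ∨ k = 3 ∨ k = 4 := by simpa using hk
  rcases this with rfl | rfl | rfl
  · exact (le_sup_left.trans le_sup_left : W2 x a ≤ W2 x a ⊔ V v s q K3 ⊔ Zh x a) (x2_W2 v s q hα)
  · exact (le_sup_right.trans le_sup_left : V v s q K3 ≤ W2 x a ⊔ V v s q K3 ⊔ Zh x a) (x_mem v s q K3 α)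
  · exact (le_sup_right : Zh x a ≤ _) (x4_Zh v s q hα)

/-- `[U₁, V₅] ≤ V₂V₃V₄` -/
theorem u15 (b : E) {y : G} (hy : y ∈ V v s q K5) : ⁅x 1 b, y⁆ ∈ W2 x a ⊔ V v s q K3 ⊔ Zh x a := by
  obtain ⟨e, -, he, b', c, hN, rfl⟩ := V_split v s q K5 hy
  have o1 : ∀ b : E, Ok σ 1 b := ok_odd (by decide)
  have o5 : ∀ b : E, Ok σ 5 b := ok_odd (by decide)
  have hb : betw 1 5 = [2, 3, 4] := by decide
  have key : ∀ c, ⁅x 1 b, x 5 c⁆ ∈ gl σ x [2, 3, 4] := fun c => by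
    rw [← hb]; exact comm_betw v.hex (o1 b) (o5 c) (by decide)
  exact Ubr v s q (L := [2, 3, 4]) (by decide) le_sup_right (gl234_le v s q K3 K5)
    (fun r hr => liftJ v s q K3 K5 hr) he hN (key b') (key c)

/-- `[U₁, V₆] ≤ V₂V₃V₄V₅` -/
theorem u16 (b : E) {y : G} (hy : y ∈ W6 x a) : ⁅x 1 b, y⁆ ∈ W2 x a ⊔ V v s q K3 ⊔ Zh x a ⊔ V v s q K5 := by
  have o1 : ∀ b : E, Ok σ 1 b := ok_odd (by decide)
  have hb : betw 1 6 = [2, 3, 4, 5] := by decide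
  have key : ∀ c, Ok σ 6 c → ⁅x 1 b, x 6 c⁆ ∈ gl σ x [2, 3, 4, 5] := fun c hc => by
    rw [← hb]; exact comm_betw v.hex (o1 b) hc (by decide)
  have k0 := key 0 (ok_zero σ 6)
  have k1 := key 1 (ok_one σ 6)
  rw [v.hex.x_zero] at k0
  have hW : gl σ x [2, 3, 4, 5] ≤ W2 x a ⊔ V v s q K3 ⊔ Zh x a ⊔ V v s q K5 := by
    refine gl_le v fun k hk α hα => ?_
    have : k ∈ ([2, 3, 4] : List (ZMod 12)) ∨ k = 5 := by
      have : k = 2 ∨ k = 3 ∨ k = 4 ∨ k = 5 := by simpa using hk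
      rcases this with rfl | rfl | rfl | rfl <;> simp
    rcases this with h | rfl
    · exact (le_sup_left : W2 x a ⊔ V v s q K3 ⊔ Zh x a ≤ _) (gl234_le v s q K3 K5 (mem_gl h hα))
    · exact (le_sup_right : V v s q K5 ≤ _) (x_mem v s q K5 α)
  have U := fun {e r r' : G} => Ubr v s q (L := [2, 3, 4, 5]) (W := W2 x a ⊔ V v s q K3 ⊔ Zh x a ⊔ V v s q K5) (by decide)
    (le_sup_right.trans le_sup_left) hW (fun r hr => liftJ5 v s q K3 K5 hr) (b := b) (e := e) (r := r) (r' := r')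
  have a6E : a6 x a ∈ Ec x a := by
    refine (le_sup_right : Subgroup.closure {y | ∃ b : E, y = x 1 b * a6 x a * x 1 b} ≤ _)
      (Subgroup.subset_closure ⟨0, ?_⟩)
    rw [v.hex.x_zero]; group
  have n1 : Nu σ x t a 1 1 := Nu.of_Zh v s q (one_mem _) (one_mem _)
  have n6 := Nu_a6 v s q
  rcases (W6_cases v s).1 hy with rfl | rfl | rfl | rfl
  · have := U (one_mem _) n1 k0 k0
    rwa [mul_one] at this
  · have := U (one_mem _) n1 k0 k1
    rwa [one_mul] at this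
  · have := U a6E n6 k1 k0
    rwa [mul_one] at this
  · exact U a6E n6 k1 k1

end Seed

end Cfsg.Agent.TriTwo.Grow1c
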