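import Mathlib
import Cfsg.Agent.TriTwo.Grow1c

/-!
# S1778, type `³D₄(2)`: `nn x 6` normalises `V₃` (section 4)
-/

set_option autoImplicit false
set_option linter.unusedSectionVars false

namespace Cfsg.Agent.TriTwo.Grow1d

open Cfsg.Agent.StdRank2.Hex Cfsg.Agent.SplitTwo Cfsg.Agent.TriTwo Cfsg.Agent.TriTwo.Grow1a Cfsg.Agent.TriTwo.Grow1b
  Cfsg.Agent.TriTwo.Grow1c
open scoped commutatorElement

theorem Js_eq {E : Type*} [Field E] {σ : E ≃+* E} {G : Type*} [Group G] {x : ZMod 12 → E → G} :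
    Js σ x = gl σ x [2, 3, 4] := by unfold Js gl; congr 1; ext i; simp

section Env

variable {E : Type*} [Field E] {σ : E ≃+* E} {G : Type*} [Group G] {x : ZMod 12 → E → G} {t : G} (v : Env σ x t)

include v

theorem Ws_le_Js : Ws σ x ≤ Js σ x := by
  rw [Ws_eq, Js_eq]; exact gl_mono (by decide)

theorem Js_le_Q2 : Js σ x ≤ Q2 σ x := by
  rw [Q2_eq, Js_eq]; exact gl_mono (by decide)

theorem Js_le_Q1 : Js σ x ≤ Q1 σ x := by
  rw [Q1_eq, Js_eq]; exact gl_mono (by decide)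

theorem Js_le_Us : Js σ x ≤ Us σ x := by
  rw [Us_eq, Js_eq]; exact gl_mono (by decide)

/-- `W` is centralised by `Q₂` -/
theorem Q2_Ws {r w : G} (hr : r ∈ Q2 σ x) (hw : w ∈ Ws σ x) : r * w = w * r := by
  rw [Q2_eq] at hr
  rw [Ws_eq] at hw
  have key : ∀ k ∈ ([1, 2, 3, 4, 5] : List (ZMod 12)), ∀ l ∈ ([2, 4] : List (ZMod 12)), adj l k = true := by decide
  refine gl_comm v.hex (g := r) (fun l hl b hb => ?_) hw
  exact (gl_comm v.hex (g := x l b) (fun k hk c hc => cm v.hex (key k hk l hl) hb hc) hr).symm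

theorem Ws_cases {w : G} (hw : w ∈ Ws σ x) : ∃ α δ, Ok σ 2 α ∧ Ok σ 4 δ ∧ w = x 2 α * x 4 δ := by
  rw [Ws_eq] at hw
  obtain ⟨α, hα, z, hz, rfl⟩ := split_gl v.hex (k := 2) (L := [4]) (by decide) hw
  obtain ⟨δ, hδ, z1, hz1, rfl⟩ := split_gl v.hex (k := 4) (L := []) (by decide) hz
  exact ⟨α, δ, hα, hδ, by rw [gl_nil v.hex hz1, mul_one]⟩

theorem Ws_sq {w : G} (hw : w ∈ Ws σ x) : w * w = 1 := by
  obtain ⟨α, δ, hα, hδ, rfl⟩ := Ws_cases v hw
  have h := cm v.hex (k := 4) (l := 2) (by decide) hδ hα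
  calc x 2 α * x 4 δ * (x 2 α * x 4 δ) = x 2 α * (x 4 δ * x 2 α) * x 4 δ := by group
    _ = (x 2 α * x 2 α) * (x 4 δ * x 4 δ) := by rw [h]; group
    _ = 1 := by rw [xx v hα, xx v hδ, one_mul]

/-- `U` normalises -/
theorem U_gl {L : List (ZMod 12)} (hL : ∀ k ∈ ([1, 2, 3, 4, 5, 6] : List (ZMod 12)), stable k L = true) {u y : G}
    (hu : u ∈ Us σ x) (hy : y ∈ gl σ x L) : cj u y ∈ gl σ x L := by
  have hK : Us σ x ≤ Subgroup.normalizer (gl σ x L : Set G) := by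
    rw [Us_eq]
    exact gl_le v fun k hk a ha => x_norm v (hL k hk) ha
  exact (Subgroup.mem_normalizer_iff.1 (hK hu) y).1 hy

theorem t_Us {u : G} (hu : u ∈ Us σ x) : t * u = u * t := t_gens v hu

/-- elements of `C(t)` centralising `J₀` and `Q₂ / W` -/
def DD : Subgroup G where
  carrier := {c | c * t = t * c ∧ (∀ j ∈ Js σ x, c * j = j * c) ∧ ∀ r ∈ Q2 σ x, ⁅c, r⁆ ∈ Ws σ x}
  mul_mem' := by
    rintro c c' ⟨h1, h2, h3⟩ ⟨h1', h2', h3'⟩
    refine ⟨mul_comm_of h1 h1', fun j hj => mul_comm_of (h2 j hj) (h2' j hj), fun r hr => ?_⟩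
    have e : ⁅c * c', r⁆ = c * ⁅c', r⁆ * c⁻¹ * ⁅c, r⁆ := by simp only [commutatorElement_def]; group
    rw [e, h2 _ (Ws_le_Js v (h3' r hr)), mul_inv_cancel_right]
    exact mul_mem (h3' r hr) (h3 r hr)
  one_mem' := ⟨by group, fun j _ => by group, fun r _ => by simp [one_mem]⟩
  inv_mem' := by
    rintro c ⟨h1, h2, h3⟩
    refine ⟨inv_comm_of h1, fun j hj => inv_comm_of (h2 j hj), fun r hr => ?_⟩
    have e : ⁅c⁻¹, r⁆ = c⁻¹ * (⁅c, r⁆)⁻¹ * c := by simp only [commutatorElement_def]; group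
    rw [e, inv_comm_of (h2 _ (Ws_le_Js v (inv_mem (h3 r hr)))), inv_mul_cancel_right]
    exact inv_mem (h3 r hr)

theorem mem_DD {c : G} : c ∈ DD v ↔ c * t = t * c ∧ (∀ j ∈ Js σ x, c * j = j * c) ∧ ∀ r ∈ Q2 σ x, ⁅c, r⁆ ∈ Ws σ x :=
  Iff.rfl

theorem DD_four {c : G} (hc : c ∈ DD v) : (c * c) * (c * c) = 1 := by
  obtain ⟨h1, h2, h3⟩ := (mem_DD v).1 hc
  have k1 : ∀ r ∈ Q2 σ x, (c * c) * r = r * (c * c) := by
    intro r hr
    have e : ⁅c * c, r⁆ = c * ⁅c, r⁆ * c⁻¹ * ⁅c, r⁆ := by simp only [commutatorElement_def]; group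
    rw [h2 _ (Ws_le_Js v (h3 r hr)), mul_inv_cancel_right, Ws_sq v (h3 r hr)] at e
    exact comm_iff.1 e
  rcases v.c0 _ (mul_comm_of h1 h1) k1 with h | h
  · exact Ws_sq v h
  · have h4 := Ws_sq v h
    have h5 : (c * c) * t = t * (c * c) := mul_comm_of h1 h1
    calc (c * c) * (c * c) = (t * t) * ((c * c) * (c * c)) := by rw [v.tt, one_mul]
      _ = t * ((t * (c * c)) * (c * c)) := by group
      _ = t * (((c * c) * t) * (c * c)) := by rw [h5]
      _ = t * (c * c) * (t * (c * c)) := by group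
      _ = 1 := h4

theorem DD_two : IsPGroup 2 (DD v) := by
  intro c
  refine ⟨2, ?_⟩
  apply Subtype.ext
  have := DD_four v c.2
  simp only [Subgroup.coe_pow, Subgroup.coe_one]
  calc (c : G) ^ 2 ^ 2 = ((c : G) * c) * (c * c) := by
        rw [show (2 : ℕ) ^ 2 = 4 by norm_num]; simp only [pow_succ, pow_zero, one_mul, mul_assoc]
    _ = 1 := this

theorem cj_inv' {u y : G} : cj u (cj u⁻¹ y) = y := by unfold cj; group

theorem U_DD {u c : G} (hu : u ∈ Us σ x) (hc : c ∈ DD v) : cj u c ∈ DD v := by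
  obtain ⟨h1, h2, h3⟩ := (mem_DD v).1 hc
  have hu' := inv_mem hu
  have sJ : ∀ k ∈ ([1, 2, 3, 4, 5, 6] : List (ZMod 12)), stable k [2, 3, 4] = true := by decide
  have sQ : ∀ k ∈ ([1, 2, 3, 4, 5, 6] : List (ZMod 12)), stable k [1, 2, 3, 4, 5] = true := by decide
  have sW : ∀ k ∈ ([1, 2, 3, 4, 5, 6] : List (ZMod 12)), stable k [2, 4] = true := by decide
  have ht : cj u t = t := cj_of_comm (t_Us v hu).symm
  refine ⟨?_, fun j hj => ?_, fun r hr => ?_⟩
  · have := conj_comm_iff (g := u) h1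
    change cj u c * cj u t = cj u t * cj u c at this
    rwa [ht] at this
  · have hj' : cj u⁻¹ j ∈ Js σ x := by
      rw [Js_eq] at *
      exact U_gl v sJ hu' hj
    have := conj_comm_iff (g := u) (h2 _ hj')
    change cj u c * cj u (cj u⁻¹ j) = cj u (cj u⁻¹ j) * cj u c at this
    rwa [cj_inv' v] at this
  · have hr' : cj u⁻¹ r ∈ Q2 σ x := by
      rw [Q2_eq] at *
      exact U_gl v sQ hu' hr
    have h4 := h3 _ hr'
    have h5 : cj u ⁅c, cj u⁻¹ r⁆ ∈ Ws σ x := by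
      rw [Ws_eq] at *
      exact U_gl v sW hu h4
    rwa [cj_br, cj_inv' v] at h5

theorem U_norm : Us σ x ≤ Subgroup.normalizer (DD v : Set G) := by
  intro u hu
  rw [Subgroup.mem_normalizer_iff]
  intro c
  refine ⟨fun hc => U_DD v hu hc, fun hc => ?_⟩
  have h := U_DD v (inv_mem hu) hc
  have e : cj u⁻¹ (u * c * u⁻¹) = c := by unfold cj; group
  rwa [e] at h

theorem DD_U {c : G} (hc : c ∈ DD v) : c ∈ Us σ x ∨ t * c ∈ Us σ x := by
  have p1 : IsPGroup 2 (DD v ⊔ Us σ x : Subgroup G) :=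
    IsPGroup.to_sup_of_normal_left' (DD_two v) v.pf.two (U_norm v)
  have pt : IsPGroup 2 (Subgroup.zpowers t) := by
    intro g
    refine ⟨1, ?_⟩
    obtain ⟨n, hn⟩ := Subgroup.mem_zpowers_iff.1 g.2
    apply Subtype.ext
    simp only [Subgroup.coe_pow, Subgroup.coe_one]
    rw [← hn, pow_one, ← zpow_natCast, ← zpow_mul, mul_comm, zpow_mul, zpow_natCast, pow_two, v.tt, one_zpow]
  have cen : DD v ⊔ Us σ x ≤ Subgroup.centralizer {t} := by
    refine sup_le (fun g hg => ?_) (fun g hg => ?_)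
    · rw [Subgroup.mem_centralizer_singleton_iff]; exact hg.1
    · rw [Subgroup.mem_centralizer_singleton_iff]; exact (t_Us v hg).symm
  have nt : Subgroup.zpowers t ≤ Subgroup.normalizer ((DD v ⊔ Us σ x : Subgroup G) : Set G) := by
    rw [Subgroup.zpowers_le, Subgroup.mem_normalizer_iff]
    intro g
    constructor
    · intro hg
      rw [← Subgroup.mem_centralizer_singleton_iff.1 (cen hg), mul_inv_cancel_right]; exact hg
    · intro hg
      have h1 := Subgroup.mem_centralizer_singleton_iff.1 (cen hg)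
      have h2 : t * g * t⁻¹ * t = t * g := by group
      rw [h2] at h1
      have h3 : g = t * g * t⁻¹ := by
        have h4 : t * g = t * (t * g * t⁻¹) := by rw [← h1]
        exact mul_left_cancel h4
      rw [h3]; exact hg
  have p2 : IsPGroup 2 ((DD v ⊔ Us σ x) ⊔ Subgroup.zpowers t : Subgroup G) :=
    IsPGroup.to_sup_of_normal_left' p1 pt nt
  refine v.syl _ p2 (fun g hg => ?_) ((le_sup_right : Subgroup.zpowers t ≤ _) (Subgroup.mem_zpowers t))
    (le_sup_right.trans le_sup_left) c ((le_sup_left.trans le_sup_left : DD v ≤ _) hc)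
  have cen2 : (DD v ⊔ Us σ x) ⊔ Subgroup.zpowers t ≤ Subgroup.centralizer {t} := by
    refine sup_le cen ?_
    rw [Subgroup.zpowers_le, Subgroup.mem_centralizer_singleton_iff]
  exact Subgroup.mem_centralizer_singleton_iff.1 (cen2 hg)

/-- `C_U(J₀) = J₀` -/
theorem U_cent {u : G} (hu : u ∈ Us σ x) (h : ∀ j ∈ Js σ x, u * j = j * u) : u ∈ Js σ x := by
  obtain ⟨d, α, b, δ, c, ε, hα, hδ, hε, rfl⟩ := nf_U v hu
  have o1 : ∀ b : E, Ok σ 1 b := ok_odd (by decide)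
  have o3 : ∀ b : E, Ok σ 3 b := ok_odd (by decide)
  have o5 : ∀ b : E, Ok σ 5 b := ok_odd (by decide)
  have J2 := h (x 2 1) (by rw [Js_eq]; exact mem_gl (by decide) (ok_one σ 2))
  have J3 := fun e => h (x 3 e) (by rw [Js_eq]; exact mem_gl (by decide) (o3 e))
  have e0 : ε = 0 := by
    have o2 := ok_one σ (k := 2)
    have k1 := comm_left_of_mul J2 (cm v.hex (by decide) (o1 d) o2)
    have k2 : x 2 α * x 3 b * x 4 δ * x 5 c * x 2 1 = x 2 1 * (x 2 α * x 3 b * x 4 δ * x 5 c) :=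
      mul_comm_of (mul_comm_of (mul_comm_of (cm v.hex (by decide) hα o2) (cm v.hex (by decide) (o3 b) o2))
        (cm v.hex (by decide) hδ o2)) (cm v.hex (by decide) (o5 c) o2)
    have k3 := comm_left_of_mul k1 k2
    have := c26 v o2 hε k3.symm
    rwa [one_mul] at this
  subst e0
  rw [v.hex.x_zero, mul_one] at J3
  have key : ∀ e, trc σ d e = 0 ∧ trc σ c e = 0 := by
    intro e
    have f1 : σ (trc σ d e) = trc σ d e := trc_fix v.hex.cube d e
    have f2 : σ (trc σ c e) = trc σ c e := trc_fix v.hex.cube c e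
    have a1 : cj (x 1 d) (x 3 e) = x 2 (trc σ d e) * x 3 e := by
      have := v.hex.commS2 (k := 1) (by decide) d e
      rw [show (1 : ZMod 12) + 2 = 3 from rfl, show (1 : ZMod 12) + 1 = 2 from rfl] at this
      rw [← this]; simp only [cj, commutatorElement_def]; group
    have a2 : cj (x 5 c) (x 3 e) = x 4 (trc σ c e) * x 3 e := by
      have := v.hex.commS2 (k := 3) (by decide) e c
      rw [show (3 : ZMod 12) + 2 = 5 from rfl, show (3 : ZMod 12) + 1 = 4 from rfl] at this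
      have h4 : ⁅x 5 c, x 3 e⁆ = x 4 (trc σ c e) := by
        rw [← commutatorElement_inv, this, xinv v (ok_of_fix 4 (trc_fix v.hex.cube e c)), trc_symm v]
      rw [← h4]; simp only [cj, commutatorElement_def]; group
    have m1 : cj (x 2 α * x 3 b * x 4 δ) (x 3 e) = x 3 e := cj_of_comm
      (mul_comm_of (mul_comm_of (cm v.hex (by decide) hα (o3 e)) (cm v.hex (by decide) (o3 b) (o3 e)))
        (cm v.hex (by decide) hδ (o3 e)))
    have o4 := ok_of_fix (4 : ZMod 12) f2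
    have m2 : cj (x 2 α * x 3 b * x 4 δ) (x 4 (trc σ c e)) = x 4 (trc σ c e) := cj_of_comm
      (mul_comm_of (mul_comm_of (cm v.hex (by decide) hα o4) (cm v.hex (by decide) (o3 b) o4))
        (cm v.hex (by decide) hδ o4))
    have m3 : cj (x 1 d) (x 4 (trc σ c e)) = x 4 (trc σ c e) := cj_of_comm (cm v.hex (by decide) (o1 d) o4)
    have h5 := cj_eq_iff.2 (J3 e)
    have h6 : cj (x 1 d * (x 2 α * x 3 b * x 4 δ * x 5 c)) (x 3 e) =
        x 4 (trc σ c e) * (x 2 (trc σ d e) * x 3 e) := by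
      rw [← cj_cj, ← cj_cj, a2, cj_mul, m1, m2, cj_mul, m3, a1]
    rw [h6] at h5
    have o2 := ok_of_fix (2 : ZMod 12) f1
    have h7 : x 4 (trc σ c e) * x 2 (trc σ d e) = 1 := by
      have : x 4 (trc σ c e) * x 2 (trc σ d e) * x 3 e = 1 * x 3 e := by rw [one_mul, mul_assoc]; exact h5
      exact mul_right_cancel this
    have h8 : x 4 (trc σ c e) * x 2 (trc σ d e) * x 6 1 = x 6 1 * (x 4 (trc σ c e) * x 2 (trc σ d e)) := by
      rw [h7]; group
    have h9 := comm_left_of_mul h8 (cm v.hex (by decide) o4 (ok_one σ 6))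
    have d0 := c26 v o2 (ok_one σ 6) h9
    rw [mul_one] at d0
    rw [d0, v.hex.x_zero, mul_one] at h7
    exact ⟨d0, v.hex.inj 4 _ o4 h7⟩
  have d0 : d = 0 := tr_nd v fun e => by rw [trc_symm v]; exact (key e).1
  have c0 : c = 0 := tr_nd v fun e => by rw [trc_symm v]; exact (key e).2
  subst d0 c0
  rw [v.hex.x_zero, v.hex.x_zero, v.hex.x_zero, one_mul, mul_one, mul_one, Js_eq]
  exact mul_mem (mul_mem (mem_gl (by decide) hα) (mem_gl (by decide) (o3 b))) (mem_gl (by decide) hδ)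

theorem DD_J {c : G} (hc : c ∈ DD v) : c ∈ Js σ x ∨ t * c ∈ Js σ x := by
  rcases DD_U v hc with h | h
  · left; exact U_cent v h hc.2.1
  · right
    refine U_cent v h fun j hj => mul_comm_of (t_gens v hj) (hc.2.1 j hj)

end Env

section Seed

variable {E : Type*} [Field E] {σ : E ≃+* E} {G : Type*} [Group G] {x : ZMod 12 → E → G} {t a : G}
  (v : Env σ x t) (s : Seed σ x t a) (q : QOne σ x t a)

include v s q

theorem z24 : x 2 1 ≠ x 4 1 := by
  intro e
  have h := cm v.hex (k := 4) (l := 6) (by decide) (ok_one σ 4) (ok_one σ 6)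
  rw [← e] at h
  have := c26 v (ok_one σ 2) (ok_one σ 6) h
  rw [one_mul] at this
  exact one_ne_zero this

theorem z2_ne : x 2 1 ≠ 1 := fun e => one_ne_zero (v.hex.inj 2 1 (ok_one σ 2) e)

/-- `Ŵ = V₂V₄` -/
theorem WW_cases {y : G} (hy : y ∈ W2 x a ⊔ Zh x a) :
    ∃ w ∈ Ws σ x, y = w ∨ y = a2 x a * w ∨ y = a * w ∨ y = a2 x a * a * w := by
  have hZ2 : ∀ c ∈ Zh x a, c * x 2 1 = x 2 1 * c := fun c hc =>
    (P1_Zh v s (x_P1 v s q (l := 2) (by decide) (ok_one σ 2)) hc).symm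
  obtain ⟨w2, h2, c, hc, rfl⟩ := mem_sup_norm (A := W2 x a) (B := Zh x a) (fun p hp c hc => by
    have : p * c = c * p := by
      have k1 := hZ2 c hc
      have k2 := cN v s q hc q.a2_mem
      rcases (W2_cases v s).1 hp with rfl | rfl | rfl | rfl
      · group
      · exact k1.symm
      · exact k2
      · exact mul_comm_of k2 k1.symm
    rw [this, mul_inv_cancel_right]; exact hc) hy
  have z2 : x 2 1 ∈ Ws σ x := by rw [Ws_eq]; exact mem_gl (by decide) (ok_one σ 2)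
  have z4 : x 4 1 ∈ Ws σ x := by rw [Ws_eq]; exact mem_gl (by decide) (ok_one σ 4)
  have ka : x 2 1 * a = a * x 2 1 := (hZ2 a (a_mem_Zh v s)).symm
  rcases (W2_cases v s).1 h2 with rfl | rfl | rfl | rfl <;> rcases (mem_Zh v s).1 hc with rfl | rfl | rfl | rfl
  · exact ⟨1, one_mem _, Or.inl (by group)⟩
  · exact ⟨x 4 1, z4, Or.inl (by group)⟩
  · exact ⟨1, one_mem _, Or.inr (Or.inr (Or.inl (by group)))⟩
  · exact ⟨x 4 1, z4, Or.inr (Or.inr (Or.inl (by group)))⟩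
  · exact ⟨x 2 1, z2, Or.inl (by group)⟩
  · exact ⟨x 2 1 * x 4 1, mul_mem z2 z4, Or.inl (by group)⟩
  · exact ⟨x 2 1, z2, Or.inr (Or.inr (Or.inl ka))⟩
  · exact ⟨x 2 1 * x 4 1, mul_mem z2 z4, Or.inr (Or.inr (Or.inl (by rw [← mul_assoc, ka, mul_assoc])))⟩
  · exact ⟨1, one_mem _, Or.inr (Or.inl (by group))⟩
  · exact ⟨x 4 1, z4, Or.inr (Or.inl (by group))⟩
  · exact ⟨1, one_mem _, Or.inr (Or.inr (Or.inr (by group)))⟩
  · exact ⟨x 4 1, z4, Or.inr (Or.inr (Or.inr (by group)))⟩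
  · exact ⟨x 2 1, z2, Or.inr (Or.inl (by group))⟩
  · exact ⟨x 2 1 * x 4 1, mul_mem z2 z4, Or.inr (Or.inl (by group))⟩
  · exact ⟨x 2 1, z2, Or.inr (Or.inr (Or.inr (by rw [mul_assoc, ka]; group)))⟩
  · refine ⟨x 2 1 * x 4 1, mul_mem z2 z4, Or.inr (Or.inr (Or.inr ?_))⟩
    calc a2 x a * x 2 1 * (a * x 4 1) = a2 x a * (x 2 1 * a) * x 4 1 := by group
      _ = _ := by rw [ka]; group

/-- `C_Ŵ(t) = W` -/
theorem WW_t {y : G} (hy : y ∈ W2 x a ⊔ Zh x a) (h : y * t = t * y) : y ∈ Ws σ x := by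
  obtain ⟨w, hw, h'⟩ := WW_cases v s q hy
  have tw : w * t = t * w := (t_gens v hw).symm
  have a2t : ¬ a2 x a * t = t * a2 x a := by
    intro e
    have := a2_t v s
    rw [e, mul_inv_cancel_right, left_eq_mul] at this
    exact z2_ne v s q this
  rcases h' with rfl | rfl | rfl | rfl
  · exact hw
  · exact absurd (comm_right_of_mul h tw) a2t
  · exact absurd (comm_right_of_mul h tw) (a_not_comm v s)
  · exfalso
    have h1 := comm_right_of_mul h tw
    have h2 : (a2 x a * a) * t * (a2 x a * a)⁻¹ = t * x 2 1 * x 4 1 := by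
      have k1 := s.at'
      have k2 := a2_t v s
      have k3 := a2_x v s (k := 4) (by decide) (ok_one σ 4)
      calc (a2 x a * a) * t * (a2 x a * a)⁻¹ = a2 x a * (a * t * a⁻¹) * (a2 x a)⁻¹ := by group
        _ = (a2 x a * t * (a2 x a)⁻¹) * (a2 x a * x 4 1 * (a2 x a)⁻¹) := by rw [k1]; group
        _ = _ := by rw [k2, k3, mul_inv_cancel_right]
    rw [h1, mul_inv_cancel_right, mul_assoc, left_eq_mul] at h2
    have h3 := xinv v (ok_one σ 4)
    exact z24 v s q (by rw [mul_eq_one_iff_eq_inv] at h2; rw [h2, h3])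

variable {η : E} (K3 : Kd x η η 3 5) (K5 : Kd x η η⁻¹ 5 3)

include K3 K5

/-- `V₃` centralises `Ŵ` -/
theorem V3_WW {y w : G} (hy : y ∈ V v s q K3) (hw : w ∈ W2 x a ⊔ Zh x a) : y * w = w * y := by
  obtain ⟨w', hw', h⟩ := WW_cases v s q hw
  have k1 := V_a2 v s q K3 hy
  have k2 := V_Zh v s q K3 hy (a_mem_Zh v s)
  have k3 : y * w' = w' * y := by
    obtain ⟨α, δ, hα, hδ, rfl⟩ := Ws_cases v hw'
    exact (mul_comm_of (V_even v s q K3 (Or.inl rfl) hα hy).symm (V_even v s q K3 (Or.inr (Or.inl rfl)) hδ hy).symm).symm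
  rcases h with rfl | rfl | rfl | rfl
  · exact k3
  · exact (mul_comm_of k1.symm k3.symm).symm
  · exact (mul_comm_of k2.symm k3.symm).symm
  · exact (mul_comm_of (mul_comm_of k1.symm k2.symm) k3.symm).symm

omit K3 K5 in
theorem cj6_WW {w : G} (hw : w ∈ W2 x a ⊔ Zh x a) : cj (nn x 6) w ∈ W2 x a ⊔ Zh x a := by
  have : W2 x a ⊔ Zh x a ≤ (W2 x a ⊔ Zh x a).comap (MulAut.conj (nn x 6)).toMonoidHom := by
    refine sup_le (fun y hy => ?_) (fun y hy => ?_)
    · exact (le_sup_right : Zh x a ≤ _) hy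
    · refine (le_sup_left : W2 x a ≤ _) ?_
      show cj (nn x 6) (cj (nn x 6) y) ∈ Zh x a
      rw [cj_nn v]; exact hy
  exact this hw

/-- `V₃` centralises `J₀` -/
theorem V3_J {y j : G} (hy : y ∈ V v s q K3) (hj : j ∈ Js σ x) : y * j = j * y := by
  rw [Js_eq] at hj
  refine gl_comm v.hex (g := y) (fun k hk b hb => ?_) hj
  have : k = 2 ∨ k = 3 ∨ k = 4 := by simpa using hk
  rcases this with rfl | rfl | rfl
  · exact V_even v s q K3 (Or.inl rfl) hb hy
  · exact VV_comm _ hy (x_mem v s q K3 b)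
  · exact V_even v s q K3 (Or.inr (Or.inl rfl)) hb hy

theorem V3_J' {y j : G} (hy : y ∈ V v s q K3) (hj : j ∈ Js σ x) : cj (nn x 6) y * j = j * cj (nn x 6) y := by
  have hj' : cj (nn x 6) j ∈ Js σ x := by
    rw [Js_eq] at *
    exact gl_nn v.hex 6 (by decide) hj
  have := conj_comm_iff (g := nn x 6) (V3_J v s q K3 K5 hy hj')
  change cj (nn x 6) y * cj (nn x 6) (cj (nn x 6) j) = cj (nn x 6) (cj (nn x 6) j) * cj (nn x 6) y at this
  rwa [cj_nn v] at this

/-- `[V₃, Q₂] ≤ Ŵ` on generators -/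
theorem V3_Q2 {y : G} (hy : y ∈ V v s q K3) {k : ZMod 12} (hk : k ∈ ([1, 2, 3, 4, 5] : List (ZMod 12))) {b : E}
    (hb : Ok σ k b) : ⁅y, x k b⁆ ∈ W2 x a ⊔ Zh x a := by
  by_cases h1 : k = 1
  · subst h1
    rw [← commutatorElement_inv]
    exact inv_mem (u13 v s q K3 K5 b hy)
  · by_cases h5 : k = 5
    · subst h5
      exact (le_sup_right : Zh x a ≤ _) (q.comm _ hy.1 _ (xN v s q (l := 5) (by decide) hb))
    · have : k = 2 ∨ k = 3 ∨ k = 4 := by
        have : k = 1 ∨ k = 2 ∨ k = 3 ∨ k = 4 ∨ k = 5 := by simpa using hk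
        tauto
      rw [comm_iff.2 (V3_J v s q K3 K5 hy (j := x k b) (by
        rw [Js_eq]
        refine mem_gl ?_ hb
        rcases this with rfl | rfl | rfl <;> simp))]
      exact one_mem _

theorem V3_Q2' {y : G} (hy : y ∈ V v s q K3) {k : ZMod 12} (hk : k ∈ ([1, 2, 3, 4, 5] : List (ZMod 12))) {b : E}
    (hb : Ok σ k b) : ⁅cj (nn x 6) y, x k b⁆ ∈ W2 x a ⊔ Zh x a := by
  have key : ∀ k ∈ ([1, 2, 3, 4, 5] : List (ZMod 12)), 6 - k ∈ ([1, 2, 3, 4, 5] : List (ZMod 12)) := by decide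
  have h1 := cj6_WW v s q (V3_Q2 v s q K3 K5 hy (key k hk) (b := b) (hb.congr (val_6_sub k)))
  have e : cj (nn x 6) (x (6 - k) b) = x k b := by
    have := v.hex.refl6 (6 - k) b (hb.congr (val_6_sub k))
    rwa [sub_sub_cancel] at this
  rwa [cj_br, e] at h1

theorem V3_WW' {y w : G} (hy : y ∈ V v s q K3) (hw : w ∈ W2 x a ⊔ Zh x a) :
    cj (nn x 6) y * w = w * cj (nn x 6) y := by
  have := conj_comm_iff (g := nn x 6) (V3_WW v s q K3 K5 hy (cj6_WW v s q hw))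
  change cj (nn x 6) y * cj (nn x 6) (cj (nn x 6) w) = cj (nn x 6) (cj (nn x 6) w) * cj (nn x 6) y at this
  rwa [cj_nn v] at this

/-- **`nn x 6` normalises `V₃`.** -/
theorem nn6_V3 {y : G} (hy : y ∈ V v s q K3) : cj (nn x 6) y ∈ V v s q K3 := by
  have o3 : ∀ b : E, Ok σ 3 b := ok_odd (by decide)
  obtain ⟨b, hb⟩ := V_br v s q K3 hy
  have ht : cj (nn x 6) t = t := cj_of_comm (t_nn v 6).symm
  have hb' : ⁅t, cj (nn x 6) y⁆ = x 3 b := by
    have e : cj (nn x 6) ⁅t, y⁆ = x 3 b := by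
      rw [hb]
      have := v.hex.refl6 3 b (o3 b)
      exact this
    rw [cj_br, ht] at e
    exact e
  obtain ⟨y', hy'⟩ : ∃ y', y' = cj (nn x 6) y := ⟨_, rfl⟩
  have yJ : ∀ j ∈ Js σ x, y' * j = j * y' := fun j hj => by rw [hy']; exact V3_J' v s q K3 K5 hy hj
  have yW : ∀ w ∈ W2 x a ⊔ Zh x a, y' * w = w * y' := fun w hw => by rw [hy']; exact V3_WW' v s q K3 K5 hy hw
  have yQ : ∀ k ∈ ([1, 2, 3, 4, 5] : List (ZMod 12)), ∀ b, Ok σ k b → ⁅y', x k b⁆ ∈ W2 x a ⊔ Zh x a :=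
    fun k hk b hb => by rw [hy']; exact V3_Q2' v s q K3 K5 hy hk hb
  -- `y'⁻¹ y ∈ D`
  have dt : (y'⁻¹ * y) * t = t * (y'⁻¹ * y) := by
    rw [← hy'] at hb'
    simp only [commutatorElement_def] at hb hb'
    have h3 : y'⁻¹ * y = t * (y'⁻¹ * y) * t⁻¹ := by
      calc y'⁻¹ * y = y'⁻¹ * (t * y * t⁻¹ * y⁻¹)⁻¹ * (t * y * t⁻¹) := by group
        _ = y'⁻¹ * (t * y' * t⁻¹ * y'⁻¹)⁻¹ * (t * y * t⁻¹) := by rw [hb, hb']
        _ = t * (y'⁻¹ * y) * t⁻¹ := by group
    calc y'⁻¹ * y * t = (t * (y'⁻¹ * y) * t⁻¹) * t := by rw [← h3]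
      _ = t * (y'⁻¹ * y) := by group
  have dJ : ∀ j ∈ Js σ x, (y'⁻¹ * y) * j = j * (y'⁻¹ * y) := fun j hj =>
    mul_comm_of (inv_comm_of (yJ j hj)) (V3_J v s q K3 K5 hy hj)
  have dQ : ∀ r ∈ Q2 σ x, ⁅y'⁻¹ * y, r⁆ ∈ Ws σ x := by
    have gen : ∀ k ∈ ([1, 2, 3, 4, 5] : List (ZMod 12)), ∀ b, Ok σ k b → ⁅y'⁻¹ * y, x k b⁆ ∈ Ws σ x := by
      intro k hk b hb
      refine WW_t v s q ?_ ?_
      · have e2 : ⁅y'⁻¹ * y, x k b⁆ = (y'⁻¹ * ⁅y, x k b⁆ * y') * (y'⁻¹ * (⁅y', x k b⁆)⁻¹ * y') := by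
          simp only [commutatorElement_def]; group
        have h1 := V3_Q2 v s q K3 K5 hy hk hb
        have h2 := inv_mem (yQ k hk b hb)
        rw [e2, inv_comm_of (yW _ h1), inv_mul_cancel_right, inv_comm_of (yW _ h2), inv_mul_cancel_right]
        exact mul_mem h1 h2
      · have h1 : (x k b)⁻¹ * t = t * (x k b)⁻¹ := inv_comm_of (v.tx k b hb).symm
        have h2 : (y'⁻¹ * y)⁻¹ * t = t * (y'⁻¹ * y)⁻¹ := inv_comm_of dt
        rw [commutatorElement_def]
        exact mul_comm_of (mul_comm_of (mul_comm_of dt (v.tx k b hb).symm) h2) h1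
    intro r hr
    have h1 : gl σ x [1, 2, 3, 4, 5] ≤
        ({ carrier := {r | r ∈ Q2 σ x ∧ ⁅y'⁻¹ * y, r⁆ ∈ Ws σ x}
           mul_mem' := by
            rintro r r' ⟨h1, h2⟩ ⟨h1', h2'⟩
            refine ⟨mul_mem h1 h1', ?_⟩
            have e : ⁅y'⁻¹ * y, r * r'⁆ = ⁅y'⁻¹ * y, r⁆ * (r * ⁅y'⁻¹ * y, r'⁆ * r⁻¹) := by
              simp only [commutatorElement_def]; group
            rw [e, Q2_Ws v h1 h2', mul_inv_cancel_right]
            exact mul_mem h2 h2'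
           one_mem' := ⟨one_mem _, by simp [one_mem]⟩
           inv_mem' := by
            rintro r ⟨h1, h2⟩
            refine ⟨inv_mem h1, ?_⟩
            have e : ⁅y'⁻¹ * y, r⁻¹⁆ = r⁻¹ * (⁅y'⁻¹ * y, r⁆)⁻¹ * r := by
              simp only [commutatorElement_def]; group
            rw [e, Q2_Ws v (inv_mem h1) (inv_mem h2), inv_mul_cancel_right]
            exact inv_mem h2 } : Subgroup G) :=
      gl_le v fun k hk b hb => ⟨by rw [Q2_eq]; exact mem_gl hk hb, gen k hk b hb⟩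
    rw [Q2_eq] at hr
    exact (h1 hr).2
  have hD : y'⁻¹ * y ∈ DD v := ⟨dt, dJ, dQ⟩
  have daY : y' * a = a * y' := yW a ((le_sup_right : Zh x a ≤ _) (a_mem_Zh v s))
  have hJ : y'⁻¹ * y ∈ Js σ x := by
    rcases DD_J v hD with h | h
    · exact h
    · exfalso
      have da : (y'⁻¹ * y) * a = a * (y'⁻¹ * y) :=
        mul_comm_of (inv_comm_of daY) (V_Zh v s q K3 hy (a_mem_Zh v s))
      have ja := s.aP _ (Q1_le_P1 v (Js_le_Q1 v h))
      have := comm_right_of_mul ja.symm da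
      exact a_not_comm v s this.symm
  have hJ' := hJ
  rw [Js_eq] at hJ'
  obtain ⟨α, b', δ, hα, hδ, e⟩ := nf_J v hJ'
  -- `y' z ∈ V₃`, `z = x₂(α) x₄(δ)`
  have h23 := cm v.hex (k := 4) (l := 3) (by decide) hδ (o3 b')
  have hz : y' * (x 2 α * x 4 δ) ∈ V v s q K3 := by
    have e1 : y' * (x 2 α * x 4 δ) = y * (x 3 b')⁻¹ := by
      have : y = y' * (x 2 α * x 3 b' * x 4 δ) := by rw [← e]; group
      rw [this]
      calc y' * (x 2 α * x 4 δ) = y' * (x 2 α * (x 4 δ * x 3 b') * (x 3 b')⁻¹) := by group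
        _ = _ := by rw [h23]; group
    rw [e1]
    exact mul_mem hy (inv_mem (x_mem v s q K3 b'))
  have o2x := tau_even v.hex v.card v.fix K3.z0 (k := 2) (by decide) hα
  have o4x := tau_even v.hex v.card v.fix K3.z0 (k := 4) (by decide) hδ
  have zg : tau x η * (x 2 α * x 4 δ) = (x 2 α * x 4 δ) * tau x η := (mul_comm_of o2x.symm o4x.symm).symm
  have zJ : x 2 α * x 4 δ ∈ Js σ x := by
    rw [Js_eq]; exact mul_mem (mem_gl (by decide) hα) (mem_gl (by decide) hδ)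
  have zW : x 2 α * x 4 δ ∈ Ws σ x := by
    rw [Ws_eq]; exact mul_mem (mem_gl (by decide) hα) (mem_gl (by decide) hδ)
  have z2 := Ws_sq v zW
  have yp : ph (tau x η) y' = 1 := by
    have e1 : tau x η * nn x 6 = nn x 6 * tau x η := tau_nn v.hex v.card v.fix K3.z0 (by decide)
    rw [hy', ph_cj e1, hy.2, cj_one]
  generalize x 2 α * x 4 δ = z at hz zg zJ zW z2
  have cz := cj_of_comm zg
  have c0 : y' * z = z * y' := yJ z zJ
  have c1 : cj (tau x η) y' * z = z * cj (tau x η) y' := by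
    have := conj_comm_iff (g := tau x η) c0
    change cj (tau x η) y' * cj (tau x η) z = cj (tau x η) z * cj (tau x η) y' at this
    rwa [cz] at this
  have c2 : cj (tau x η) (cj (tau x η) y') * z = z * cj (tau x η) (cj (tau x η) y') := by
    have := conj_comm_iff (g := tau x η) c1
    change cj (tau x η) (cj (tau x η) y') * cj (tau x η) z = cj (tau x η) z * cj (tau x η) (cj (tau x η) y') at this
    rwa [cz] at this
  have hp : ph (tau x η) (y' * z) = ph (tau x η) y' * (z * z * z) := by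
    unfold ph
    rw [cj_mul, cj_mul, cj_mul, cz, cz, cz]
    generalize cj (tau x η) (cj (tau x η) (cj (tau x η) y')) = y3
    generalize cj (tau x η) (cj (tau x η) y') = y2 at *
    calc y3 * z * (y2 * z) * (y' * z) = y3 * (z * y2) * (z * y') * z := by group
      _ = y3 * (y2 * z) * (y' * z) * z := by rw [c2, c0]
      _ = y3 * y2 * (z * y') * z * z := by group
      _ = y3 * y2 * (y' * z) * z * z := by rw [← c0]
      _ = y3 * y2 * y' * (z * z * z) := by group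
  have hz1 : z = 1 := by
    have h1 := hz.2
    rw [hp, yp, z2, one_mul, one_mul] at h1
    exact h1
  rw [hz1, mul_one] at hz
  rw [← hy']
  exact hz

end Seed

end Cfsg.Agent.TriTwo.Grow1d
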