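import Mathlib
import Cfsg.Agent.TriTwo.Grow1d

/-!
# S1778, type `³D₄(2)`: the twelve doubled root groups (section 4)
-/

set_option autoImplicit false
set_option linter.unusedSectionVars false

namespace Cfsg.Agent.TriTwo.Grow1e

open Cfsg.Agent.StdRank2.Hex Cfsg.Agent.SplitTwo Cfsg.Agent.TriTwo Cfsg.Agent.TriTwo.Grow1a Cfsg.Agent.TriTwo.Grow1b
  Cfsg.Agent.TriTwo.Grow1c Cfsg.Agent.TriTwo.Grow1d
open scoped commutatorElement

section Gen

variable {G : Type*} [Group G]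

theorem cj_inj {g y z : G} (h : cj g y = cj g z) : y = z := by
  have h2 := congrArg (cj g⁻¹) h
  have e : ∀ y, cj g⁻¹ (cj g y) = y := fun y => by unfold cj; group
  rwa [e, e] at h2

theorem comm_of_cj {g y z : G} (h : cj g y * cj g z = cj g z * cj g y) : y * z = z * y := by
  rw [← cj_mul, ← cj_mul] at h
  exact cj_inj h

theorem cj_gi (g y : G) : cj g (cj g⁻¹ y) = y := cj_inv_cj g y

theorem cj_ig (g y : G) : cj g⁻¹ (cj g y) = y := by unfold cj; group

theorem ph_cj2 (k g n : G) : ph (cj k g) (cj k n) = cj k (ph g n) := by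
  unfold ph cj; group

theorem sup_tr {g z : G} {A A' : Subgroup G} (hA : ∀ y ∈ A', cj g y ∈ A) (h : cj g⁻¹ z ∈ A') : z ∈ A := by
  have := hA _ h
  rwa [cj_gi] at this

theorem sup_cj {g : G} {A A' B B' : Subgroup G} (hA : ∀ y ∈ A', cj g y ∈ A) (hB : ∀ y ∈ B', cj g y ∈ B) :
    ∀ y ∈ A' ⊔ B', cj g y ∈ A ⊔ B := by
  have : A' ⊔ B' ≤ (A ⊔ B).comap (MulAut.conj g).toMonoidHom :=
    sup_le (fun y hy => (le_sup_left : A ≤ _) (hA y hy)) (fun y hy => (le_sup_right : B ≤ _) (hB y hy))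
  exact fun y hy => this hy

end Gen

section Defs

variable {E : Type*} [Field E] {G : Type*} [Group G] (x : ZMod 12 → E → G)

/-- the rotation -/
def ww : G := nn x 1 * nn x 6

/-- number of rotations from the base -/
def ex (r : ZMod 12) : ℕ := if r.val % 2 = 0 then (r - 4).val / 2 else (r - 3).val / 2

/-- the twelve groups obtained from `V₄ = Z`, `V₃ = V` -/
def VR (Z V : Subgroup G) (r : ZMod 12) : Subgroup G :=
  (if r.val % 2 = 0 then Z else V).comap (MulAut.conj (ww x ^ ex r)⁻¹).toMonoidHom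

end Defs

section Rot

variable {E : Type*} [Field E] {σ : E ≃+* E} {G : Type*} [Group G] {x : ZMod 12 → E → G} {t : G} (v : Env σ x t)
  {Z V : Subgroup G}

omit v in
theorem mem_VR {r : ZMod 12} {y : G} : y ∈ VR x Z V r ↔ cj (ww x ^ ex r)⁻¹ y ∈ (if r.val % 2 = 0 then Z else V) := Iff.rfl

include v

theorem ww6 : ww x ^ 6 = 1 := by
  have e1 : nn x 1 * nn x 6 * (nn x 1)⁻¹ = nn x 2 := by
    rw [v.hex.conj_nn_nn 1 6]; congr 1
  have e2 : nn x 6 * nn x 1 * (nn x 6)⁻¹ = nn x 5 := by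
    rw [v.hex.conj_nn_nn 6 1]; congr 1
  have e3 : nn x 2 * nn x 5 * (nn x 2)⁻¹ = nn x 5 := by
    rw [v.hex.conj_nn_nn 2 5]; congr 1
  have s2 := v.hex.nn_sq 2
  have s5 := v.hex.nn_sq 5
  rw [v.hex.nn_inv] at e1 e2 e3
  have e4 : nn x 2 * nn x 5 = nn x 5 * nn x 2 := by
    calc nn x 2 * nn x 5 = nn x 2 * nn x 5 * (nn x 2 * nn x 2) := by rw [s2, mul_one]
      _ = (nn x 2 * nn x 5 * nn x 2) * nn x 2 := by group
      _ = _ := by rw [e3]
  have w3 : ww x ^ 3 = nn x 2 * nn x 5 := by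
    unfold ww
    calc (nn x 1 * nn x 6) ^ 3 = (nn x 1 * nn x 6 * nn x 1) * (nn x 6 * nn x 1 * nn x 6) := by
          simp only [pow_succ, pow_zero, one_mul, mul_assoc]
      _ = _ := by rw [e1, e2]
  calc ww x ^ 6 = ww x ^ 3 * ww x ^ 3 := by rw [← pow_add]
    _ = nn x 2 * (nn x 5 * nn x 2) * nn x 5 := by rw [w3]; group
    _ = (nn x 2 * nn x 2) * (nn x 5 * nn x 5) := by rw [← e4]; group
    _ = 1 := by rw [s2, s5, one_mul]

omit v in
theorem ex_succ (r : ZMod 12) : ex (r + 2) = ex r + 1 ∨ (ex (r + 2) = 0 ∧ ex r = 5) := by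
  revert r; decide

omit v in
theorem par2 (r : ZMod 12) : (r + 2).val % 2 = r.val % 2 := by revert r; decide

theorem ww_ex (r : ZMod 12) : (ww x ^ ex (r + 2))⁻¹ * ww x = (ww x ^ ex r)⁻¹ := by
  rcases ex_succ r with h | ⟨h, h'⟩
  · rw [h, pow_succ', mul_inv_rev, mul_assoc, inv_mul_cancel, mul_one]
  · rw [h, h', pow_zero, inv_one, one_mul]
    refine eq_inv_of_mul_eq_one_left ?_
    rw [← pow_succ']
    exact ww6 v

theorem rot1 (r : ZMod 12) {y : G} : cj (ww x) y ∈ VR x Z V (r + 2) ↔ y ∈ VR x Z V r := by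
  rw [mem_VR, mem_VR, cj_cj, ww_ex v, par2]

theorem rotm (m : ℕ) (r : ZMod 12) {y : G} : cj (ww x ^ m) y ∈ VR x Z V (r + 2 * m) ↔ y ∈ VR x Z V r := by
  induction m with
  | zero => simp [cj]
  | succ m ih =>
    have e : r + 2 * ((m + 1 : ℕ) : ZMod 12) = r + 2 * (m : ZMod 12) + 2 := by push_cast; ring
    rw [e, pow_succ', ← cj_cj, rot1 v, ih]

theorem ww_t : ww x * t = t * ww x := by
  unfold ww
  exact mul_comm_of (t_nn v 1).symm (t_nn v 6).symm

theorem ww_tau {ζ : E} (hζ : ζ ≠ 0) : cj (ww x) (tau x ζ) = tau x ζ⁻¹ := by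
  unfold ww
  rw [← cj_cj, cj_of_comm (tau_nn v.hex v.card v.fix hζ (k := 6) (by decide)).symm]
  exact tau_nn1 v.hex v.card v.fix hζ

theorem wm_tau (m : ℕ) : ∀ {ζ : E}, ζ ≠ 0 → ∃ ξ : E, (ξ = ζ ∨ ξ = ζ⁻¹) ∧ cj (ww x ^ m) (tau x ξ) = tau x ζ := by
  induction m with
  | zero => exact fun {ζ} _ => ⟨ζ, Or.inl rfl, by simp [cj]⟩
  | succ m ih =>
    intro ζ hζ
    obtain ⟨ξ, h, e⟩ := ih (inv_ne_zero hζ)
    refine ⟨ξ, ?_, ?_⟩
    · rcases h with h | h
      · right; exact h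
      · left; rw [h, inv_inv]
    · rw [pow_succ', ← cj_cj, e, ww_tau v (inv_ne_zero hζ), inv_inv]

/-- rotation -/
theorem exists_g {r r0 : ZMod 12} (h : r.val % 2 = r0.val % 2) : ∃ g : G,
    (∀ c y, cj g y ∈ VR x Z V (r + c) ↔ y ∈ VR x Z V (r0 + c)) ∧
    (∀ c b, Ok σ (r + c) b → cj g (x (r0 + c) b) = x (r + c) b) ∧ g * t = t * g ∧
    (∀ ζ : E, ζ ≠ 0 → ∃ ξ : E, (ξ = ζ ∨ ξ = ζ⁻¹) ∧ cj g (tau x ξ) = tau x ζ) := by
  have key : ∃ m : Fin 6, r = r0 + 2 * ((m : ℕ) : ZMod 12) := by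
    revert r0 r; decide
  obtain ⟨m, hm⟩ := key
  refine ⟨ww x ^ (m : ℕ), fun c y => ?_, fun c b hb => ?_, ?_, fun ζ hζ => wm_tau v _ hζ⟩
  · have := rotm (x := x) v (Z := Z) (V := V) (m : ℕ) (r0 + c) (y := y)
    rwa [show r0 + c + 2 * ((m : ℕ) : ZMod 12) = r + c by rw [hm]; ring] at this
  · have ok : Ok σ (r0 + c) b := hb.congr (by
      have : ∀ (r r0 c : ZMod 12), r.val % 2 = r0.val % 2 → (r0 + c).val % 2 = (r + c).val % 2 := by decide
      exact this r r0 c h)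
    have := v.hex.rot_pow (m : ℕ) (r0 + c) ok
    rw [show r0 + c + 2 * ((m : ℕ) : ZMod 12) = r + c by rw [hm]; ring] at this
    exact this
  · have : Commute (ww x ^ (m : ℕ)) t := Commute.pow_left (ww_t v) _
    exact this

end Rot

section Main

variable {E : Type*} [Field E] {σ : E ≃+* E} {G : Type*} [Group G] {x : ZMod 12 → E → G} {t a : G}
  (v : Env σ x t) (s : Seed σ x t a) (q : QOne σ x t a)

include v s q

theorem W2_N {y : G} (hy : y ∈ W2 x a) : y ∈ N1 σ x t a := by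
  have h2 := xN v s q (l := 2) (by decide) (ok_one σ 2)
  rcases (W2_cases v s).1 hy with rfl | rfl | rfl | rfl
  · exact one_mem _
  · exact h2
  · exact q.a2_mem
  · exact mul_mem q.a2_mem h2

theorem W6_N {y : G} (hy : y ∈ W6 x a) : y ∈ N1 σ x t a := by
  have h6 := xN v s q (l := 6) (by decide) (ok_one σ 6)
  rcases (W6_cases v s).1 hy with rfl | rfl | rfl | rfl
  · exact one_mem _
  · exact h6
  · exact q.a6_mem
  · exact mul_mem q.a6_mem h6

omit v s q in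
theorem even_or_odd (r : ZMod 12) : r.val % 2 = 0 ∨ r.val % 2 = 1 := Nat.mod_two_eq_zero_or_one _

theorem Z_br {y : G} (hy : y ∈ Zh x a) : ∃ b, Ok σ 4 b ∧ ⁅t, y⁆ = x 4 b := by
  have hta := t_a v s
  have htz : t * x 4 1 * t⁻¹ = x 4 1 := by rw [v.tx 4 1 (ok_one σ 4), mul_inv_cancel_right]
  have haz := a_x v s (k := 4) (by decide) (ok_one σ 4)
  rcases (mem_Zh v s).1 hy with rfl | rfl | rfl | rfl
  · exact ⟨0, ok_zero σ 4, by rw [v.hex.x_zero]; simp⟩
  · exact ⟨0, ok_zero σ 4, by rw [v.hex.x_zero, commutatorElement_def, htz, mul_inv_cancel]⟩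
  · exact ⟨1, ok_one σ 4, by rw [commutatorElement_def, hta, haz, mul_inv_cancel_right]⟩
  · refine ⟨1, ok_one σ 4, ?_⟩
    have e : ⁅t, a * x 4 1⁆ = (t * a * t⁻¹) * (t * x 4 1 * t⁻¹) * (x 4 1)⁻¹ * a⁻¹ := by
      rw [commutatorElement_def]; group
    rw [e, hta, htz, mul_inv_cancel_right, haz, mul_inv_cancel_right]

theorem Z_onto {b : E} (hb : Ok σ 4 b) : ∃ y ∈ Zh x a, ⁅t, y⁆ = x 4 b := by
  have hta := t_a v s
  have haz := a_x v s (k := 4) (by decide) (ok_one σ 4)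
  rcases even01 v s q (by decide) hb with rfl | rfl
  · exact ⟨1, one_mem _, by rw [v.hex.x_zero]; simp⟩
  · exact ⟨a, a_mem_Zh v s, by rw [commutatorElement_def, hta, haz, mul_inv_cancel_right]⟩

theorem Z_fix {y : G} (hy : y ∈ Zh x a) (h : y * t = t * y) : ∃ b, Ok σ 4 b ∧ y = x 4 b := by
  have tz := v.tx 4 1 (ok_one σ 4)
  rcases (mem_Zh v s).1 hy with rfl | rfl | rfl | rfl
  · exact ⟨0, ok_zero σ 4, by rw [v.hex.x_zero]⟩
  · exact ⟨1, ok_one σ 4, rfl⟩
  · exact absurd h (a_not_comm v s)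
  · exact absurd (comm_right_of_mul h tz.symm) (a_not_comm v s)

variable {η : E} (K3 : Kd x η η 3 5)

/-- the twelve groups -/
def V12 (r : ZMod 12) : Subgroup G := VR x (Zh x a) (V v s q K3) r

include K3

theorem V4_iff {y : G} : y ∈ V12 v s q K3 4 ↔ y ∈ Zh x a := by
  have e0 : ex 4 = 0 := by decide
  unfold V12
  rw [mem_VR, e0, pow_zero, inv_one, if_pos (by decide)]
  have : cj 1 y = y := by unfold cj; group
  rw [this]

theorem V3_iff {y : G} : y ∈ V12 v s q K3 3 ↔ y ∈ V v s q K3 := by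
  have e0 : ex 3 = 0 := by decide
  unfold V12
  rw [mem_VR, e0, pow_zero, inv_one, if_neg (by decide)]
  have : cj 1 y = y := by unfold cj; group
  rw [this]

theorem V2_iff {y : G} : y ∈ V12 v s q K3 2 ↔ y ∈ W2 x a := by
  have h := rot1 (x := x) v (Z := Zh x a) (V := V v s q K3) 2 (y := y)
  have h4 := V4_iff v s q K3 (y := cj (ww x) y)
  have h' : y ∈ V12 v s q K3 2 ↔ cj (ww x) y ∈ Zh x a := by
    unfold V12
    rw [← h, show (2 : ZMod 12) + 2 = 4 from rfl]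
    exact h4
  rw [h', mem_W2]
  unfold ww
  rw [← cj_cj]
  constructor
  · intro hy
    have h1 := cj_of_comm (P1_Zh v s (nn_P1 v) hy)
    rw [cj_nn v] at h1
    rw [h1]; exact hy
  · intro hy
    rw [cj_of_comm (P1_Zh v s (nn_P1 v) hy)]; exact hy

variable (K5 : Kd x η η⁻¹ 5 3)

include K5

/-- `nn x 6` -/
theorem n6 (r : ZMod 12) {y : G} (hy : y ∈ V12 v s q K3 r) : cj (nn x 6) y ∈ V12 v s q K3 (6 - r) := by
  -- base cases
  have b3 : ∀ y ∈ V12 v s q K3 3, cj (nn x 6) y ∈ V12 v s q K3 (6 - 3) := fun y hy => by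
    rw [show (6 : ZMod 12) - 3 = 3 from rfl, V3_iff]
    exact nn6_V3 v s q K3 K5 ((V3_iff v s q K3).1 hy)
  have b4 : ∀ y ∈ V12 v s q K3 4, cj (nn x 6) y ∈ V12 v s q K3 (6 - 4) := fun y hy => by
    rw [show (6 : ZMod 12) - 4 = 2 from rfl, V2_iff, mem_W2, cj_nn v]
    exact (V4_iff v s q K3).1 hy
  have inv1 : nn x 6 * ww x = (ww x)⁻¹ * nn x 6 := by
    unfold ww
    rw [mul_inv_rev, v.hex.nn_inv, v.hex.nn_inv]; group
  have invm : ∀ m : ℕ, nn x 6 * ww x ^ m = (ww x ^ m)⁻¹ * nn x 6 := by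
    intro m
    induction m with
    | zero => simp
    | succ m ih =>
      rw [pow_succ, ← mul_assoc, ih, mul_assoc, inv1, ← mul_assoc, ← mul_inv_rev, ← pow_succ', pow_succ]
  have step : ∀ (r0 : ZMod 12) (m : ℕ), (∀ y ∈ V12 v s q K3 r0, cj (nn x 6) y ∈ V12 v s q K3 (6 - r0)) →
      ∀ y ∈ V12 v s q K3 (r0 + 2 * m), cj (nn x 6) y ∈ V12 v s q K3 (6 - (r0 + 2 * m)) := by
    intro r0 m h0 y hy
    have h1 : cj (ww x ^ m)⁻¹ y ∈ V12 v s q K3 r0 := by
      refine (rotm v m r0).1 ?_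
      rw [cj_gi]; exact hy
    have h2 := h0 _ h1
    have h3 : cj (nn x 6) (cj (ww x ^ m)⁻¹ y) = cj (ww x ^ m) (cj (nn x 6) y) := by
      rw [cj_cj, cj_cj]
      congr 1
      have := invm m
      rw [eq_inv_mul_iff_mul_eq] at this
      rw [mul_inv_eq_iff_eq_mul, mul_assoc]
      exact this.symm
    rw [h3] at h2
    have h4 := (rotm v m (6 - (r0 + 2 * (m : ZMod 12))) (y := cj (nn x 6) y)).1 (by
      rw [show 6 - (r0 + 2 * (m : ZMod 12)) + 2 * (m : ZMod 12) = 6 - r0 by ring]; exact h2)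
    exact h4
  have key : ∀ r : ZMod 12, ∃ m : Fin 6, r = 3 + 2 * ((m : ℕ) : ZMod 12) ∨ r = 4 + 2 * ((m : ℕ) : ZMod 12) := by
    decide
  obtain ⟨m, hm | hm⟩ := key r
  · rw [hm] at hy ⊢
    exact step 3 m b3 y hy
  · rw [hm] at hy ⊢
    exact step 4 m b4 y hy

/-- `nn x 1` -/
theorem n1 (r : ZMod 12) {y : G} (hy : y ∈ V12 v s q K3 r) : cj (nn x 1) y ∈ V12 v s q K3 (8 - r) := by
  have h := n6 v s q K3 K5 r hy
  have h2 := (rot1 (x := x) v (Z := Zh x a) (V := V v s q K3) (6 - r) (y := cj (nn x 6) y)).2 h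
  have e : cj (ww x) (cj (nn x 6) y) = cj (nn x 1) y := by
    unfold ww
    rw [cj_cj, mul_assoc, v.hex.nn_sq, mul_one]
  rw [e, show 6 - r + 2 = 8 - r by ring] at h2
  exact h2

theorem nk (k r : ZMod 12) {y : G} (hy : y ∈ V12 v s q K3 r) : cj (nn x k) y ∈ V12 v s q K3 (2 * k + 6 - r) := by
  have P6 : ∀ r, ∀ y ∈ V12 v s q K3 r, cj (nn x 6) y ∈ V12 v s q K3 (2 * 6 + 6 - r) := fun r y hy => by
    rw [show (2 : ZMod 12) * 6 + 6 - r = 6 - r by
      rw [show (2 : ZMod 12) * 6 + 6 = 6 from rfl]]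
    exact n6 v s q K3 K5 r hy
  have P1 : ∀ r, ∀ y ∈ V12 v s q K3 r, cj (nn x 1) y ∈ V12 v s q K3 (2 * 1 + 6 - r) := fun r y hy => by
    rw [show (2 : ZMod 12) * 1 + 6 - r = 8 - r by
      rw [show (2 : ZMod 12) * 1 + 6 = 8 from rfl]]
    exact n1 v s q K3 K5 r hy
  have step : ∀ (k0 : ZMod 12) (m : ℕ), (∀ r, ∀ y ∈ V12 v s q K3 r, cj (nn x k0) y ∈ V12 v s q K3 (2 * k0 + 6 - r)) →
      ∀ r, ∀ y ∈ V12 v s q K3 r, cj (nn x (k0 + 2 * m)) y ∈ V12 v s q K3 (2 * (k0 + 2 * m) + 6 - r) := by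
    intro k0 m
    induction m with
    | zero =>
      intro h0 r y hy
      simpa using h0 r y hy
    | succ m ih =>
      intro h0 r y hy
      have e0 : k0 + 2 * ((m + 1 : ℕ) : ZMod 12) = k0 + 2 * (m : ZMod 12) + 2 := by push_cast; ring
      rw [e0]
      set k1 := k0 + 2 * (m : ZMod 12) with hk1
      have e1 : nn x (k1 + 2) = cj (ww x) (nn x k1) := by
        unfold ww
        rw [← cj_cj]
        have a1 : cj (nn x 6) (nn x k1) = nn x (2 * 6 + 6 - k1) := v.hex.conj_nn_nn 6 k1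
        have a2 : cj (nn x 1) (nn x (2 * 6 + 6 - k1)) = nn x (2 * 1 + 6 - (2 * 6 + 6 - k1)) := v.hex.conj_nn_nn 1 _
        rw [a1, a2]
        congr 1
        have : ∀ k : ZMod 12, k + 2 = 2 * 1 + 6 - (2 * 6 + 6 - k) := by decide
        exact this k1
      have h1 : cj (ww x)⁻¹ y ∈ V12 v s q K3 (r - 2) := by
        refine (rot1 v (r - 2)).1 ?_
        rw [cj_gi, sub_add_cancel]; exact hy
      have h2 := ih h0 _ _ h1
      have h3 := (rot1 (x := x) v (Z := Zh x a) (V := V v s q K3) (2 * k1 + 6 - (r - 2))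
        (y := cj (nn x k1) (cj (ww x)⁻¹ y))).2 h2
      have e2 : cj (ww x) (cj (nn x k1) (cj (ww x)⁻¹ y)) = cj (nn x (k1 + 2)) y := by
        rw [e1]; unfold cj; group
      rw [e2, show 2 * k1 + 6 - (r - 2) + 2 = 2 * (k1 + 2) + 6 - r by ring] at h3
      exact h3
  have key : ∀ k : ZMod 12, ∃ m : Fin 6, k = 6 + 2 * ((m : ℕ) : ZMod 12) ∨ k = 1 + 2 * ((m : ℕ) : ZMod 12) := by
    decide
  obtain ⟨m, hm | hm⟩ := key k
  · rw [hm]; exact step 6 m P6 r y hy
  · rw [hm]; exact step 1 m P1 r y hy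

theorem V6_iff {y : G} : y ∈ V12 v s q K3 6 ↔ y ∈ W6 x a := by
  rw [mem_W6, ← V2_iff v s q K3]
  constructor
  · intro hy
    have := n1 v s q K3 K5 6 hy
    rwa [show (8 : ZMod 12) - 6 = 2 from rfl] at this
  · intro hy
    have := n1 v s q K3 K5 2 hy
    rwa [show (8 : ZMod 12) - 2 = 6 from rfl, cj_nn v] at this

theorem V5_iff {y : G} : y ∈ V12 v s q K3 5 ↔ y ∈ V v s q K5 := by
  have h1 : y ∈ V12 v s q K3 5 ↔ cj (nn x 1) y ∈ V12 v s q K3 3 := by
    constructor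
    · intro hy
      have := n1 v s q K3 K5 5 hy
      rwa [show (8 : ZMod 12) - 5 = 3 from rfl] at this
    · intro hy
      have := n1 v s q K3 K5 3 hy
      rwa [show (8 : ZMod 12) - 3 = 5 from rfl, cj_nn v] at this
  have e1 : cj (nn x 1) (tau x η⁻¹) = tau x η := by
    have := tau_nn1 v.hex v.card v.fix K5.z0
    rwa [inv_inv] at this
  have e2 : ph (tau x η) (cj (nn x 1) y) = cj (nn x 1) (ph (tau x η⁻¹) y) := by
    rw [← e1, ph_cj2]
  rw [h1, V3_iff]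
  constructor
  · rintro ⟨hN, hp⟩
    refine ⟨?_, ?_⟩
    · have := q.P_N1 _ (nn_P1 v) _ hN
      change cj (nn x 1) (cj (nn x 1) y) ∈ _ at this
      rwa [cj_nn v] at this
    · rw [e2] at hp
      exact cj_inj (g := nn x 1) (by rw [hp, cj_one])
  · rintro ⟨hN, hp⟩
    refine ⟨q.P_N1 _ (nn_P1 v) _ hN, ?_⟩
    rw [e2, hp, cj_one]

/-- **Output of [E1].** -/
theorem lev : Lev σ x t (V12 v s q K3) := by
  -- rotation
  have R : ∀ {r r0 : ZMod 12}, r.val % 2 = r0.val % 2 → ∃ g : G,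
      (∀ c y, cj g y ∈ V12 v s q K3 (r + c) ↔ y ∈ V12 v s q K3 (r0 + c)) ∧
      (∀ c b, Ok σ (r + c) b → cj g (x (r0 + c) b) = x (r + c) b) ∧ g * t = t * g ∧
      (∀ ζ : E, ζ ≠ 0 → ∃ ξ : E, (ξ = ζ ∨ ξ = ζ⁻¹) ∧ cj g (tau x ξ) = tau x ζ) :=
    fun h => exists_g (x := x) v (Z := Zh x a) (V := V v s q K3) h
  have o3 : ∀ b : E, Ok σ 3 b := ok_odd (by decide)
  -- every element of `V12 r` is `cj g y`, `y ∈ V12 r0`
  refine
    { le := ?_, sq := ?_, br := ?_, onto := ?_, fix := ?_, TV := ?_, cen := ?_, fpf := ?_, nV := ?_, c1 := ?_, c3 := ?_,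
      l2 := ?_, l4 := ?_, s2 := ?_, h4 := ?_, h4' := ?_, h5 := ?_ }
  · -- le
    intro r b hb
    rcases even_or_odd r with hr | hr
    · obtain ⟨g, g1, g2, -, -⟩ := R (r := r) (r0 := 4) (by rw [hr]; decide)
      have e := g2 0 b (by rw [add_zero]; exact hb)
      rw [add_zero, add_zero] at e
      have h1 := (g1 0 (x 4 b)).2
      rw [add_zero, add_zero, e] at h1
      exact h1 ((V4_iff v s q K3).2 (x4_Zh v s q (ok_of_fix 4 (hb hr))))
    · obtain ⟨g, g1, g2, -, -⟩ := R (r := r) (r0 := 3) (by rw [hr]; decide)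
      have e := g2 0 b (by rw [add_zero]; exact hb)
      rw [add_zero, add_zero] at e
      have h1 := (g1 0 (x 3 b)).2
      rw [add_zero, add_zero, e] at h1
      exact h1 ((V3_iff v s q K3).2 (x_mem v s q K3 b))
  · -- sq
    intro r y hy
    rcases even_or_odd r with hr | hr
    · obtain ⟨g, g1, g2, -, -⟩ := R (r := r) (r0 := 4) (by rw [hr]; decide)
      have h1 := (g1 0 (cj g⁻¹ y)).1
      rw [add_zero, add_zero, cj_gi] at h1
      have h2 := Zh_sq v s ((V4_iff v s q K3).1 (h1 hy))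
      rw [← cj_mul] at h2
      exact cj_inj (g := g⁻¹) (by rw [h2, cj_one])
    · obtain ⟨g, g1, g2, -, -⟩ := R (r := r) (r0 := 3) (by rw [hr]; decide)
      have h1 := (g1 0 (cj g⁻¹ y)).1
      rw [add_zero, add_zero, cj_gi] at h1
      have h2 := VV_sq _ ((V3_iff v s q K3).1 (h1 hy))
      rw [← cj_mul] at h2
      exact cj_inj (g := g⁻¹) (by rw [h2, cj_one])
  · -- br
    intro r y hy
    rcases even_or_odd r with hr | hr
    · obtain ⟨g, g1, g2, g3, -⟩ := R (r := r) (r0 := 4) (by rw [hr]; decide)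
      have h1 := (g1 0 (cj g⁻¹ y)).1
      rw [add_zero, add_zero, cj_gi] at h1
      obtain ⟨b, hb, h2⟩ := Z_br v s q ((V4_iff v s q K3).1 (h1 hy))
      have hb' : Ok σ r b := hb.congr (by rw [hr]; decide)
      refine ⟨b, hb', ?_⟩
      have e := g2 0 b (by rw [add_zero]; exact hb')
      rw [add_zero, add_zero] at e
      rw [← e, ← h2, cj_br, cj_gi, cj_of_comm g3]
    · obtain ⟨g, g1, g2, g3, -⟩ := R (r := r) (r0 := 3) (by rw [hr]; decide)
      have h1 := (g1 0 (cj g⁻¹ y)).1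
      rw [add_zero, add_zero, cj_gi] at h1
      obtain ⟨b, h2⟩ := V_br v s q K3 ((V3_iff v s q K3).1 (h1 hy))
      have hb' : Ok σ r b := ok_odd hr b
      refine ⟨b, hb', ?_⟩
      have e := g2 0 b (by rw [add_zero]; exact hb')
      rw [add_zero, add_zero] at e
      rw [← e, ← h2, cj_br, cj_gi, cj_of_comm g3]
  · -- onto
    intro r b hb
    rcases even_or_odd r with hr | hr
    · obtain ⟨g, g1, g2, g3, -⟩ := R (r := r) (r0 := 4) (by rw [hr]; decide)
      obtain ⟨y, hy, h2⟩ := Z_onto v s q (b := b) (ok_of_fix 4 (hb hr))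
      have h1 := (g1 0 y).2
      rw [add_zero, add_zero] at h1
      refine ⟨cj g y, h1 ((V4_iff v s q K3).2 hy), ?_⟩
      have e := g2 0 b (by rw [add_zero]; exact hb)
      rw [add_zero, add_zero] at e
      rw [← e, ← h2, cj_br, cj_of_comm g3]
    · obtain ⟨g, g1, g2, g3, -⟩ := R (r := r) (r0 := 3) (by rw [hr]; decide)
      obtain ⟨y, hy, -, h2, -⟩ := V_lift v s q K3 b
      have h1 := (g1 0 y).2
      rw [add_zero, add_zero] at h1
      refine ⟨cj g y, h1 ((V3_iff v s q K3).2 hy), ?_⟩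
      have e := g2 0 b (by rw [add_zero]; exact hb)
      rw [add_zero, add_zero] at e
      rw [← e, ← h2, cj_br, cj_of_comm g3]
  · -- fix
    intro r y hy hyt
    rcases even_or_odd r with hr | hr
    · obtain ⟨g, g1, g2, g3, -⟩ := R (r := r) (r0 := 4) (by rw [hr]; decide)
      have h1 := (g1 0 (cj g⁻¹ y)).1
      rw [add_zero, add_zero, cj_gi] at h1
      obtain ⟨b, hb, h2⟩ := Z_fix v s q ((V4_iff v s q K3).1 (h1 hy)) (by
        refine comm_of_cj (g := g) ?_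
        rw [cj_gi, cj_of_comm g3]; exact hyt)
      have hb' : Ok σ r b := hb.congr (by rw [hr]; decide)
      refine ⟨b, hb', ?_⟩
      have e := g2 0 b (by rw [add_zero]; exact hb')
      rw [add_zero, add_zero] at e
      rw [← e, ← h2, cj_gi]
    · obtain ⟨g, g1, g2, g3, -⟩ := R (r := r) (r0 := 3) (by rw [hr]; decide)
      have h1 := (g1 0 (cj g⁻¹ y)).1
      rw [add_zero, add_zero, cj_gi] at h1
      obtain ⟨b, h2⟩ := V_fix v s q K3 ((V3_iff v s q K3).1 (h1 hy)) (by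
        refine comm_of_cj (g := g) ?_
        rw [cj_gi, cj_of_comm g3]; exact hyt)
      have hb' : Ok σ r b := ok_odd hr b
      refine ⟨b, hb', ?_⟩
      have e := g2 0 b (by rw [add_zero]; exact hb')
      rw [add_zero, add_zero] at e
      rw [← e, ← h2, cj_gi]
  · -- TV
    intro ζ hζ r y hy
    change cj (tau x ζ) y ∈ _
    have main : ∀ r0 : ZMod 12, r.val % 2 = r0.val % 2 → (∀ ζ : E, ζ ≠ 0 → ∀ y ∈ V12 v s q K3 r0,
        cj (tau x ζ) y ∈ V12 v s q K3 r0) → cj (tau x ζ) y ∈ V12 v s q K3 r := by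
      intro r0 h0 hb
      obtain ⟨g, g1, g2, g3, g4⟩ := R (r := r) (r0 := r0) h0
      have h1 := (g1 0 (cj g⁻¹ y)).1
      rw [add_zero, add_zero, cj_gi] at h1
      have h2 := h1 hy
      obtain ⟨ξ, hξ, e⟩ : ∃ ξ : E, ξ ≠ 0 ∧ cj g (tau x ξ) = tau x ζ := by
        obtain ⟨ξ, h, e⟩ := g4 ζ hζ
        refine ⟨ξ, ?_, e⟩
        rcases h with rfl | rfl
        · exact hζ
        · exact inv_ne_zero hζ
      have h3 := hb ξ hξ _ h2
      have h4 := (g1 0 _).2 (by rw [add_zero]; exact h3)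
      rw [add_zero] at h4
      have e5 : cj g (cj (tau x ξ) (cj g⁻¹ y)) = cj (tau x ζ) y := by
        rw [← e]; unfold cj; group
      rwa [e5] at h4
    rcases even_or_odd r with hr | hr
    · refine main 4 (by rw [hr]; decide) fun ζ hζ y hy => ?_
      rw [V4_iff] at hy ⊢
      rw [cj_of_comm (P1_Zh v s (tau_P1 v ζ) hy)]; exact hy
    · refine main 3 (by rw [hr]; decide) fun ζ hζ y hy => ?_
      rw [V3_iff] at hy ⊢
      exact V_tau v s q K3 hζ hy
  · -- cen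
    intro ζ hζ r hr y hy
    obtain ⟨g, g1, g2, g3, g4⟩ := R (r := r) (r0 := 4) (by rw [hr]; decide)
    have h1 := (g1 0 (cj g⁻¹ y)).1
    rw [add_zero, add_zero, cj_gi] at h1
    have h2 := (V4_iff v s q K3).1 (h1 hy)
    obtain ⟨ξ, -, e⟩ := g4 ζ hζ
    have h3 := conj_comm_iff (g := g) (P1_Zh v s (tau_P1 v ξ) h2)
    change cj g (tau x ξ) * cj g (cj g⁻¹ y) = cj g (cj g⁻¹ y) * cj g (tau x ξ) at h3
    rwa [e, cj_gi] at h3
  · -- fpf
    intro ζ hζ hζ1 r hr y hy h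
    obtain ⟨g, g1, g2, g3, g4⟩ := R (r := r) (r0 := 3) (by rw [hr]; decide)
    have h1 := (g1 0 (cj g⁻¹ y)).1
    rw [add_zero, add_zero, cj_gi] at h1
    have h2 := (V3_iff v s q K3).1 (h1 hy)
    obtain ⟨ξ, hξ, e⟩ := g4 ζ hζ
    have h3 : tau x ξ * cj g⁻¹ y = cj g⁻¹ y * tau x ξ := by
      refine comm_of_cj (g := g) ?_
      rw [e, cj_gi]; exact h
    have hξ0 : ξ ≠ 0 ∧ ξ ≠ 1 := by
      rcases hξ with rfl | rfl
      · exact ⟨hζ, hζ1⟩
      · exact ⟨inv_ne_zero hζ, fun h => hζ1 (inv_eq_one.1 h)⟩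
    have h4 := V_fpf v s q K3 hξ0.1 hξ0.2 h2 h3
    exact cj_inj (g := g⁻¹) (by rw [h4, cj_one])
  · -- nV
    intro k r y hy
    exact nk v s q K3 K5 k r hy
  · -- c1
    intro r y hy y' hy'
    rcases even_or_odd r with hr | hr
    · obtain ⟨g, g1, g2, g3, g4⟩ := R (r := r) (r0 := 4) (by rw [hr]; decide)
      have h1 := (g1 0 (cj g⁻¹ y)).1
      rw [add_zero, add_zero, cj_gi] at h1
      have h2 := (g1 1 (cj g⁻¹ y')).1
      rw [cj_gi] at h2
      have k1 := (V4_iff v s q K3).1 (h1 hy)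
      have k2 := (V5_iff v s q K3 K5).1 (h2 hy')
      exact comm_of_cj (g := g⁻¹) (V_Zh v s q K5 k2 k1).symm
    · obtain ⟨g, g1, g2, g3, g4⟩ := R (r := r) (r0 := 3) (by rw [hr]; decide)
      have h1 := (g1 0 (cj g⁻¹ y)).1
      rw [add_zero, add_zero, cj_gi] at h1
      have h2 := (g1 1 (cj g⁻¹ y')).1
      rw [cj_gi] at h2
      have k1 := (V3_iff v s q K3).1 (h1 hy)
      have k2 := (V4_iff v s q K3).1 (h2 hy')
      exact comm_of_cj (g := g⁻¹) (V_Zh v s q K3 k1 k2)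
  · -- c3
    intro r y hy y' hy'
    rcases even_or_odd r with hr | hr
    · obtain ⟨g, g1, g2, g3, g4⟩ := R (r := r) (r0 := 2) (by rw [hr]; decide)
      have h1 := (g1 0 (cj g⁻¹ y)).1
      rw [add_zero, add_zero, cj_gi] at h1
      have h2 := (g1 3 (cj g⁻¹ y')).1
      rw [cj_gi] at h2
      have k1 := (V2_iff v s q K3).1 (h1 hy)
      have k2 := (V5_iff v s q K3 K5).1 (h2 hy')
      refine comm_of_cj (g := g⁻¹) ?_
      have m1 := V_even v s q K5 (Or.inl rfl) (ok_one σ 2) k2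
      have m2 := V_a2 v s q K5 k2
      rcases (W2_cases v s).1 k1 with h | h | h | h <;> rw [h]
      · group
      · exact m1.symm
      · exact m2.symm
      · exact mul_comm_of m2.symm m1.symm
    · obtain ⟨g, g1, g2, g3, g4⟩ := R (r := r) (r0 := 3) (by rw [hr]; decide)
      have h1 := (g1 0 (cj g⁻¹ y)).1
      rw [add_zero, add_zero, cj_gi] at h1
      have h2 := (g1 3 (cj g⁻¹ y')).1
      rw [cj_gi] at h2
      have k1 := (V3_iff v s q K3).1 (h1 hy)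
      have k2 := (V6_iff v s q K3 K5).1 (h2 hy')
      refine comm_of_cj (g := g⁻¹) ?_
      have m1 := V_even v s q K3 (Or.inr (Or.inr rfl)) (ok_one σ 6) k1
      have m2 := V_a6 v s q K3 k1
      rcases (W6_cases v s).1 k2 with h | h | h | h <;> rw [h]
      · group
      · exact m1
      · exact m2
      · exact (mul_comm_of m2.symm m1.symm).symm
  · -- l2
    intro r hr y hy y' hy'
    obtain ⟨g, g1, g2, g3, g4⟩ := R (r := r) (r0 := 2) (by rw [hr]; decide)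
    have h1 := (g1 0 (cj g⁻¹ y)).1
    rw [add_zero, add_zero, cj_gi] at h1
    have h2 := (g1 2 (cj g⁻¹ y')).1
    rw [cj_gi] at h2
    have k1 := (V2_iff v s q K3).1 (h1 hy)
    have k2 := (V4_iff v s q K3).1 (h2 hy')
    exact comm_of_cj (g := g⁻¹) (cN v s q k2 (W2_N v s q k1))
  · -- l4
    intro r hr y hy y' hy'
    obtain ⟨g, g1, g2, g3, g4⟩ := R (r := r) (r0 := 2) (by rw [hr]; decide)
    have h1 := (g1 0 (cj g⁻¹ y)).1
    rw [add_zero, add_zero, cj_gi] at h1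
    have h2 := (g1 4 (cj g⁻¹ y')).1
    rw [cj_gi] at h2
    have k1 := (V2_iff v s q K3).1 (h1 hy)
    have k2 := (V6_iff v s q K3 K5).1 (h2 hy')
    have h3 := (g1 2 _).2 ((V4_iff v s q K3).2 (q.comm _ (W2_N v s q k1) _ (W6_N v s q k2)))
    rwa [cj_br, cj_gi, cj_gi] at h3
  · -- s2
    intro r hr y hy y' hy'
    obtain ⟨g, g1, g2, g3, g4⟩ := R (r := r) (r0 := 3) (by rw [hr]; decide)
    have h1 := (g1 0 (cj g⁻¹ y)).1
    rw [add_zero, add_zero, cj_gi] at h1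
    have h2 := (g1 2 (cj g⁻¹ y')).1
    rw [cj_gi] at h2
    have k1 := (V3_iff v s q K3).1 (h1 hy)
    have k2 := (V5_iff v s q K3 K5).1 (h2 hy')
    have h3 := (g1 1 _).2 ((V4_iff v s q K3).2 (q.comm _ k1.1 _ k2.1))
    rwa [cj_br, cj_gi, cj_gi] at h3
  · -- h4
    intro r hr b y hy
    obtain ⟨g, g1, g2, g3, g4⟩ := R (r := r) (r0 := 1) (by rw [hr]; decide)
    have h1 := (g1 4 (cj g⁻¹ y)).1
    rw [cj_gi] at h1
    have k1 := (V5_iff v s q K3 K5).1 (h1 hy)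
    have e := g2 0 b (by rw [add_zero]; exact ok_odd hr b)
    rw [add_zero, add_zero] at e
    have h2 := u15 v s q K3 K5 b k1
    have h3 := sup_cj (sup_cj (g := g) (A' := W2 x a) (A := V12 v s q K3 (r + 1)) (fun y hy => (g1 1 y).2 ((V2_iff v s q K3).2 hy))
      (B' := V v s q K3) (B := V12 v s q K3 (r + 2)) (fun y hy => (g1 2 y).2 ((V3_iff v s q K3).2 hy)))
      (B' := Zh x a) (B := V12 v s q K3 (r + 3)) (fun y hy => (g1 3 y).2 ((V4_iff v s q K3).2 hy)) _ h2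
    rwa [cj_br, e, cj_gi] at h3
  · -- h4'
    intro r hr b y hy
    obtain ⟨g, g1, g2, g3, g4⟩ := R (r := r) (r0 := 1) (by rw [hr]; decide)
    have h1 := (g1 0 (cj g⁻¹ y)).1
    rw [add_zero, add_zero, cj_gi] at h1
    have k0 := n6 v s q K3 K5 1 (h1 hy)
    rw [show (6 : ZMod 12) - 1 = 5 from rfl] at k0
    have k1 := (V5_iff v s q K3 K5).1 k0
    have hr4 : (r + 4).val % 2 = 1 := by
      have : ∀ r : ZMod 12, r.val % 2 = 1 → (r + 4).val % 2 = 1 := by decide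
      exact this r hr
    have e := g2 4 b (ok_odd hr4 b)
    rw [show (1 : ZMod 12) + 4 = 5 from rfl] at e
    have h2 := u15 v s q K3 K5 b k1
    -- apply `nn x 6`
    have e6 : cj (nn x 6) (x 1 b) = x 5 b := v.hex.refl6 1 b (ok_odd (by decide) b)
    have h3 := sup_cj (sup_cj (g := nn x 6) (A' := W2 x a) (A := V12 v s q K3 4)
        (fun y hy => by
          have := n6 v s q K3 K5 2 ((V2_iff v s q K3).2 hy)
          rwa [show (6 : ZMod 12) - 2 = 4 from rfl] at this)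
      (B' := V v s q K3) (B := V12 v s q K3 3) (fun y hy => by
          have := n6 v s q K3 K5 3 ((V3_iff v s q K3).2 hy)
          rwa [show (6 : ZMod 12) - 3 = 3 from rfl] at this))
      (B' := Zh x a) (B := V12 v s q K3 2) (fun y hy => by
          have := n6 v s q K3 K5 4 ((V4_iff v s q K3).2 hy)
          rwa [show (6 : ZMod 12) - 4 = 2 from rfl] at this) _ h2
    rw [cj_br, e6, cj_nn v] at h3
    have h4 := sup_cj (sup_cj (g := g) (A' := V12 v s q K3 4) (A := V12 v s q K3 (r + 3)) (fun y hy => (g1 3 y).2 hy)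
      (B' := V12 v s q K3 3) (B := V12 v s q K3 (r + 2)) (fun y hy => (g1 2 y).2 hy))
      (B' := V12 v s q K3 2) (B := V12 v s q K3 (r + 1)) (fun y hy => (g1 1 y).2 hy) _ h3
    rw [cj_br, e, cj_gi] at h4
    rw [sup_comm (V12 v s q K3 (r + 1)), sup_assoc, sup_comm (V12 v s q K3 (r + 1)), ← sup_assoc,
      sup_comm (V12 v s q K3 (r + 2)) (V12 v s q K3 (r + 3))]
    exact h4
  · -- h5
    intro r hr b y hy
    obtain ⟨g, g1, g2, g3, g4⟩ := R (r := r) (r0 := 1) (by rw [hr]; decide)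
    have h1 := (g1 5 (cj g⁻¹ y)).1
    rw [cj_gi] at h1
    have k1 := (V6_iff v s q K3 K5).1 (h1 hy)
    have e := g2 0 b (by rw [add_zero]; exact ok_odd hr b)
    rw [add_zero, add_zero] at e
    have h2 := u16 v s q K3 K5 b k1
    have h3 := sup_cj (sup_cj (sup_cj (g := g) (A' := W2 x a) (A := V12 v s q K3 (r + 1))
      (fun y hy => (g1 1 y).2 ((V2_iff v s q K3).2 hy))
      (B' := V v s q K3) (B := V12 v s q K3 (r + 2)) (fun y hy => (g1 2 y).2 ((V3_iff v s q K3).2 hy)))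
      (B' := Zh x a) (B := V12 v s q K3 (r + 3)) (fun y hy => (g1 3 y).2 ((V4_iff v s q K3).2 hy)))
      (B' := V v s q K5) (B := V12 v s q K3 (r + 4)) (fun y hy => (g1 4 y).2 ((V5_iff v s q K3 K5).2 hy)) _ h2
    rwa [cj_br, e, cj_gi] at h3

omit K3 K5 in
/-- **[E1]** -/
theorem exists_lev : ∃ V : ZMod 12 → Subgroup G, Lev σ x t V := by
  obtain ⟨η, h0, h1, -, -, h3⟩ := exists_eta v.hex.two v.card v.fix v.hex.cube
  exact ⟨_, lev v s q (kd3 v h0 h1 h3) (kd5 v h0 h1 h3)⟩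

end Main

end Cfsg.Agent.TriTwo.Grow1e
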