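import Mathlib
import Cfsg.Agent.TriTwo.SeedFacts

/-!
# S1778, type `³D₄(2)`, piece [E2]: the commutators of short root groups at `120` degrees

`Grow2.shortFour : Env σ x t → Lev σ x t V → ShortFour V` (in `Grow2Main.lean`); here: the abstract argument and
`Ĵ = V₂V₃V₄`.
-/

set_option autoImplicit false
set_option linter.unusedSectionVars false

namespace Cfsg.Agent.TriTwo.Grow2

open Cfsg.Agent.StdRank2.Hex Cfsg.Agent.SplitTwo
open Cfsg.Agent.TriTwo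
open scoped commutatorElement

/-! ### The abstract argument -/

section Abs

variable {Q : Type*} [Group Q] {t g : Q} {D Om V1 V5 U1 U5 : Subgroup Q}

/-- `y ↦ y t y⁻¹ t⁻¹` is a homomorphism of `D` into the central subgroup `Om` with kernel contained in `Om`: then
`⁅V₁, V₅⁆ ≤ U₅`. -/
theorem comm_mem (hOmD : Om ≤ D) (hOm : ∀ y ∈ D, ∀ o ∈ Om, y * o = o * y)
    (hφ : ∀ y ∈ D, y * t * y⁻¹ * t⁻¹ ∈ Om)
    (hker : ∀ y ∈ D, y * t = t * y → y ∈ Om)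
    (hV1 : V1 ≤ D) (hV5 : V5 ≤ D) (hU5 : U5 ≤ Om)
    (onto5 : ∀ u ∈ U5, ∃ v ∈ V5, v * t * v⁻¹ * t⁻¹ = u)
    (img1 : ∀ v ∈ V1, v * t * v⁻¹ * t⁻¹ ∈ U1)
    (ab5 : ∀ v ∈ V5, ∀ v' ∈ V5, v * v' = v' * v)
    (gt : g * t = t * g) (gD : ∀ y ∈ D, g * y * g⁻¹ ∈ D)
    (g5 : ∀ v ∈ V5, g * v = v * g)
    (gU1 : ∀ u ∈ U1, g * u * g⁻¹ * u⁻¹ ∈ U5)
    (fix : ∀ o ∈ Om, g * o = o * g → o ∈ U5) {v w : Q} (hv : v ∈ V1) (hw : w ∈ V5) : ⁅v, w⁆ ∈ U5 := by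
  have hvD := hV1 hv
  have hwD := hV5 hw
  have cj : ∀ y ∈ D, ∀ o ∈ Om, y * o * y⁻¹ = o := fun y hy o ho => by rw [hOm y hy o ho, mul_inv_cancel_right]
  -- `φ (y z) = φ z φ y`
  have mulφ : ∀ y ∈ D, ∀ z ∈ D, y * z * t * (y * z)⁻¹ * t⁻¹ = (z * t * z⁻¹ * t⁻¹) * (y * t * y⁻¹ * t⁻¹) := by
    intro y hy z hz
    have e : y * z * t * (y * z)⁻¹ * t⁻¹ = y * (z * t * z⁻¹ * t⁻¹) * y⁻¹ * (y * t * y⁻¹ * t⁻¹) := by group
    rw [e, cj y hy _ (hφ z hz)]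
  -- commutators of `D` are in `Om`
  have comm : ∀ y ∈ D, ∀ z ∈ D, ⁅y, z⁆ ∈ Om := by
    intro y hy z hz
    have e1 := mulφ y hy z hz
    have e2 := mulφ z hz y hy
    have e3 : y * z * t * (y * z)⁻¹ = z * y * t * (z * y)⁻¹ := by
      have : y * z * t * (y * z)⁻¹ * t⁻¹ = z * y * t * (z * y)⁻¹ * t⁻¹ := by
        rw [e1, e2]
        exact (hOm _ (hOmD (hφ z hz)) _ (hφ y hy))
      exact mul_right_cancel this
    have e4 : (z * y)⁻¹ * (y * z) * t = t * ((z * y)⁻¹ * (y * z)) := by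
      calc (z * y)⁻¹ * (y * z) * t = (z * y)⁻¹ * (y * z * t * (y * z)⁻¹) * (y * z) := by group
        _ = (z * y)⁻¹ * (z * y * t * (z * y)⁻¹) * (y * z) := by rw [e3]
        _ = _ := by group
    have hm := hker _ (mul_mem (inv_mem (mul_mem hz hy)) (mul_mem hy hz)) e4
    have e5 : ⁅y, z⁆ = (z * y) * ((z * y)⁻¹ * (y * z)) * (z * y)⁻¹ := by
      rw [commutatorElement_def]; group
    rw [e5, cj _ (mul_mem hz hy) _ hm]
    exact hm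
  -- `δ = g v g⁻¹ v⁻¹`
  set δ := g * v * g⁻¹ * v⁻¹ with hδ
  have hδD : δ ∈ D := mul_mem (gD v hvD) (inv_mem hvD)
  have hgt : g⁻¹ * t * g = t := by rw [mul_assoc, ← gt, inv_mul_cancel_left]
  have hu := img1 v hv
  set u := v * t * v⁻¹ * t⁻¹ with hu'
  have huO : u ∈ Om := hφ v hvD
  have e6 : δ * t * δ⁻¹ * t⁻¹ = g * u * g⁻¹ * u⁻¹ := by
    have e7 := mulφ δ hδD v hvD
    have e8 : δ * v = g * v * g⁻¹ := by rw [hδ]; group
    have e9 : g * v * g⁻¹ * t * (g * v * g⁻¹)⁻¹ * t⁻¹ = g * u * g⁻¹ := by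
      calc g * v * g⁻¹ * t * (g * v * g⁻¹)⁻¹ * t⁻¹ = g * v * (g⁻¹ * t * g) * v⁻¹ * g⁻¹ * t⁻¹ := by group
        _ = g * v * t * v⁻¹ * (g⁻¹ * t⁻¹) := by rw [hgt]; group
        _ = g * v * t * v⁻¹ * (t⁻¹ * g⁻¹) := by
          have : g⁻¹ * t⁻¹ = t⁻¹ * g⁻¹ := by rw [← mul_inv_rev, ← mul_inv_rev, gt]
          rw [this]
        _ = g * u * g⁻¹ := by rw [hu']; group
    rw [e8, e9] at e7
    -- `g u g⁻¹ = u (φ δ)`
    have e10 : δ * t * δ⁻¹ * t⁻¹ = u⁻¹ * (g * u * g⁻¹) := by rw [e7, inv_mul_cancel_left]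
    have hgu : g * u * g⁻¹ * u⁻¹ ∈ Om := hU5 (gU1 u hu)
    have e11 := cj _ (inv_mem (hOmD huO)) _ hgu
    rw [e10]
    calc u⁻¹ * (g * u * g⁻¹) = u⁻¹ * (g * u * g⁻¹ * u⁻¹) * u⁻¹⁻¹ := by group
      _ = _ := e11
  obtain ⟨v5, hv5, e12⟩ := onto5 _ (gU1 u hu)
  rw [← e6] at e12
  have e13 : v5 * t * v5⁻¹ = δ * t * δ⁻¹ := mul_right_cancel e12
  have e14 : v5⁻¹ * δ * t = t * (v5⁻¹ * δ) := by
    calc v5⁻¹ * δ * t = v5⁻¹ * (δ * t * δ⁻¹) * δ := by group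
      _ = v5⁻¹ * (v5 * t * v5⁻¹) * δ := by rw [e13]
      _ = _ := by group
  have ho : v5⁻¹ * δ ∈ Om := hker _ (mul_mem (inv_mem (hV5 hv5)) hδD) e14
  -- `δ` commutes with `w`
  have e15 : δ * w = w * δ := by
    calc δ * w = v5 * ((v5⁻¹ * δ) * w) := by group
      _ = v5 * (w * (v5⁻¹ * δ)) := by rw [← hOm w hwD _ ho]
      _ = (v5 * w) * (v5⁻¹ * δ) := by group
      _ = (w * v5) * (v5⁻¹ * δ) := by rw [ab5 v5 hv5 w hw]
      _ = _ := by group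
  have hκ := comm v hvD w hwD
  refine fix _ hκ ?_
  have e16 : g * ⁅v, w⁆ * g⁻¹ = ⁅v, w⁆ := by
    have e17 : g * ⁅v, w⁆ * g⁻¹ = ⁅g * v * g⁻¹, g * w * g⁻¹⁆ := by
      rw [commutatorElement_def, commutatorElement_def]; group
    have e18 : g * w * g⁻¹ = w := by rw [g5 w hw, mul_inv_cancel_right]
    have e19 : g * v * g⁻¹ = δ * v := by rw [hδ]; group
    rw [e17, e18, e19]
    calc ⁅δ * v, w⁆ = δ * ⁅v, w⁆ * (w * δ⁻¹ * w⁻¹) := by rw [commutatorElement_def, commutatorElement_def]; group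
      _ = δ * ⁅v, w⁆ * δ⁻¹ := by
        have : w * δ⁻¹ * w⁻¹ = δ⁻¹ := by
          have e20 : w * δ⁻¹ = δ⁻¹ * w := by
            rw [eq_inv_mul_iff_mul_eq, ← mul_assoc, e15, mul_inv_cancel_right]
          rw [e20, mul_inv_cancel_right]
        rw [this]
      _ = ⁅v, w⁆ := cj δ hδD _ hκ
  calc g * ⁅v, w⁆ = g * ⁅v, w⁆ * g⁻¹ * g := by group
    _ = _ := by rw [e16]

end Abs

/-- the same modulo a subgroup `J` which is normalised by everything -/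
theorem comm_mem_mod {G : Type*} [Group G] {t g : G} {D Om V1 V5 U1 U5 J : Subgroup G}
    (hJD : J ≤ D) (hOmD : Om ≤ D) (hOm : ∀ y ∈ D, ∀ o ∈ Om, (y * o)⁻¹ * (o * y) ∈ J)
    (nD : ∀ y ∈ D, ∀ j ∈ J, y * j * y⁻¹ ∈ J) (nt : ∀ j ∈ J, t * j * t⁻¹ ∈ J) (nt' : ∀ j ∈ J, t⁻¹ * j * t ∈ J)
    (ng : ∀ j ∈ J, g * j * g⁻¹ ∈ J) (ng' : ∀ j ∈ J, g⁻¹ * j * g ∈ J)
    (hφ : ∀ y ∈ D, y * t * y⁻¹ * t⁻¹ ∈ Om)
    (hker : ∀ y ∈ D, (y * t)⁻¹ * (t * y) ∈ J → ∃ o ∈ Om, o⁻¹ * y ∈ J)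
    (hV1 : V1 ≤ D) (hV5 : V5 ≤ D) (hU1 : U1 ≤ Om) (hU5 : U5 ≤ Om)
    (onto5 : ∀ u ∈ U5, ∃ v ∈ V5, v * t * v⁻¹ * t⁻¹ = u)
    (img1 : ∀ v ∈ V1, v * t * v⁻¹ * t⁻¹ ∈ U1)
    (ab5 : ∀ v ∈ V5, ∀ v' ∈ V5, v * v' = v' * v)
    (gt : g * t = t * g) (gD : ∀ y ∈ D, g * y * g⁻¹ ∈ D)
    (g5 : ∀ v ∈ V5, g * v = v * g)
    (gU1 : ∀ u ∈ U1, ∃ u' ∈ U5, (g * u * g⁻¹ * u⁻¹)⁻¹ * u' ∈ J)
    (fix : ∀ o ∈ Om, (g * o)⁻¹ * (o * g) ∈ J → ∃ u ∈ U5, o⁻¹ * u ∈ J) {v w : G} (hv : v ∈ V1) (hw : w ∈ V5) :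
    ∃ u ∈ U5, ⁅v, w⁆⁻¹ * u ∈ J := by
  classical
  set N := Subgroup.normalizer (J : Set G) with hN
  have memN : ∀ y : G, (∀ j ∈ J, y * j * y⁻¹ ∈ J) → (∀ j ∈ J, y⁻¹ * j * y ∈ J) → y ∈ N := by
    intro y h1 h2
    rw [hN, Subgroup.mem_normalizer_iff]
    refine fun j => ⟨h1 j, fun hj => ?_⟩
    have := h2 _ hj
    have e : y⁻¹ * (y * j * y⁻¹) * y = j := by group
    rwa [e] at this
  have DN : D ≤ N := fun y hy => memN y (nD y hy) (fun j hj => by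
    have := nD y⁻¹ (inv_mem hy) j hj
    rwa [inv_inv] at this)
  have tN : t ∈ N := memN t nt nt'
  have gN : g ∈ N := memN g ng ng'
  haveI : (J.subgroupOf N).Normal := by
    refine ⟨fun j hj y => ?_⟩
    rw [Subgroup.mem_subgroupOf] at hj ⊢
    exact (Subgroup.mem_normalizer_iff.1 y.2 j).1 hj
  let π := QuotientGroup.mk' (J.subgroupOf N)
  let im : Subgroup G → Subgroup (N ⧸ J.subgroupOf N) := fun A => (A.subgroupOf N).map π
  have eqπ : ∀ a b : N, π a = π b ↔ (a : G)⁻¹ * b ∈ J := by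
    intro a b
    show (QuotientGroup.mk a : N ⧸ J.subgroupOf N) = QuotientGroup.mk b ↔ _
    rw [QuotientGroup.eq, Subgroup.mem_subgroupOf]
    rfl
  have memim : ∀ {A : Subgroup G} (a : N), (a : G) ∈ A → π a ∈ im A := fun a ha =>
    Subgroup.mem_map_of_mem π (Subgroup.mem_subgroupOf.2 ha)
  have eim : ∀ {A : Subgroup G} {z : N ⧸ J.subgroupOf N}, z ∈ im A → ∃ a : N, (a : G) ∈ A ∧ π a = z := by
    intro A z hz
    obtain ⟨a, ha, rfl⟩ := Subgroup.mem_map.1 hz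
    exact ⟨a, Subgroup.mem_subgroupOf.1 ha, rfl⟩
  have OmN : Om ≤ N := hOmD.trans DN
  have key := comm_mem (Q := N ⧸ J.subgroupOf N) (t := π ⟨t, tN⟩) (g := π ⟨g, gN⟩) (D := im D) (Om := im Om)
    (V1 := im V1) (V5 := im V5) (U1 := im U1) (U5 := im U5)
    (by
      intro z hz
      obtain ⟨a, ha, rfl⟩ := eim hz
      exact memim a (hOmD ha))
    (by
      intro y hy o ho
      obtain ⟨a, ha, rfl⟩ := eim hy
      obtain ⟨b, hb, rfl⟩ := eim ho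
      rw [← map_mul, ← map_mul, eqπ]
      exact hOm a ha b hb)
    (by
      intro y hy
      obtain ⟨a, ha, rfl⟩ := eim hy
      rw [← map_inv, ← map_inv, ← map_mul, ← map_mul, ← map_mul]
      exact memim _ (hφ a ha))
    (by
      intro y hy e
      obtain ⟨a, ha, rfl⟩ := eim hy
      rw [← map_mul, ← map_mul, eqπ] at e
      obtain ⟨o, ho, hoj⟩ := hker a ha e
      have : π a = π ⟨o, OmN ho⟩ := ((eqπ _ _).2 hoj).symm
      rw [this]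
      exact memim _ ho)
    (by
      intro z hz
      obtain ⟨a, ha, rfl⟩ := eim hz
      exact memim a (hV1 ha))
    (by
      intro z hz
      obtain ⟨a, ha, rfl⟩ := eim hz
      exact memim a (hV5 ha))
    (by
      intro z hz
      obtain ⟨a, ha, rfl⟩ := eim hz
      exact memim a (hU5 ha))
    (by
      intro z hz
      obtain ⟨a, ha, rfl⟩ := eim hz
      obtain ⟨b, hb, e⟩ := onto5 a ha
      refine ⟨π ⟨b, DN (hV5 hb)⟩, memim _ hb, ?_⟩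
      rw [← map_inv, ← map_inv, ← map_mul, ← map_mul, ← map_mul]
      congr 1
      exact Subtype.ext e)
    (by
      intro z hz
      obtain ⟨a, ha, rfl⟩ := eim hz
      rw [← map_inv, ← map_inv, ← map_mul, ← map_mul, ← map_mul]
      exact memim _ (img1 a ha))
    (by
      intro y hy z hz
      obtain ⟨a, ha, rfl⟩ := eim hy
      obtain ⟨b, hb, rfl⟩ := eim hz
      rw [← map_mul, ← map_mul]
      congr 1
      exact Subtype.ext (ab5 a ha b hb))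
    (by
      rw [← map_mul, ← map_mul]
      congr 1
      exact Subtype.ext gt)
    (by
      intro y hy
      obtain ⟨a, ha, rfl⟩ := eim hy
      rw [← map_inv, ← map_mul, ← map_mul]
      exact memim _ (gD a ha))
    (by
      intro y hy
      obtain ⟨a, ha, rfl⟩ := eim hy
      rw [← map_mul, ← map_mul]
      congr 1
      exact Subtype.ext (g5 a ha))
    (by
      intro y hy
      obtain ⟨a, ha, rfl⟩ := eim hy
      rw [← map_inv, ← map_inv, ← map_mul, ← map_mul, ← map_mul]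
      obtain ⟨u', hu', hj⟩ := gU1 a ha
      have : π (⟨g, gN⟩ * a * ⟨g, gN⟩⁻¹ * a⁻¹) = π ⟨u', OmN (hU5 hu')⟩ := (eqπ _ _).2 hj
      rw [this]
      exact memim _ hu')
    (by
      intro y hy e
      obtain ⟨a, ha, rfl⟩ := eim hy
      rw [← map_mul, ← map_mul, eqπ] at e
      obtain ⟨u, hu, hj⟩ := fix a ha e
      have : π a = π ⟨u, OmN (hU5 hu)⟩ := (eqπ _ _).2 hj
      rw [this]
      exact memim _ hu)
    (memim ⟨v, DN (hV1 hv)⟩ hv) (memim ⟨w, DN (hV5 hw)⟩ hw)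
  rw [commutatorElement_def, ← map_inv, ← map_inv, ← map_mul, ← map_mul, ← map_mul] at key
  obtain ⟨u, hu, e⟩ := eim key
  refine ⟨u, hu, ?_⟩
  rw [commutatorElement_def]
  exact (eqπ _ _).1 e.symm

end Cfsg.Agent.TriTwo.Grow2
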