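import Mathlib
import Cfsg.Agent.TriTwo.Grow2

/-!
# S1778, type `³D₄(2)`, piece [E2]: the groups `Ĵ = V₂V₃V₄` and `D̂`
-/

set_option autoImplicit false
set_option linter.unusedSectionVars false

namespace Cfsg.Agent.TriTwo.Grow2

open Cfsg.Agent.StdRank2.Hex Cfsg.Agent.SplitTwo
open Cfsg.Agent.TriTwo
open scoped commutatorElement

/-- the other six cuts -/
theorem disj_nn {E : Type*} [Field E] {σ : E ≃+* E} {G : Type*} [Group G] {x : ZMod 12 → E → G} (h : HexTwo σ x)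
    {L M : List (ZMod 12)} (k : ZMod 12) (hLM : opps (L.map fun j => 2 * k + 6 - j) (M.map fun j => 2 * k + 6 - j) = true)
    {y : G} (hy : y ∈ gl σ x L) (hy' : y ∈ gl σ x M) : y = 1 := by
  have := disj_of_opps h hLM (y := nn x k * y * (nn x k)⁻¹)
    (gl_nn h k (fun j hj => List.mem_map.2 ⟨j, hj, rfl⟩) hy) (gl_nn h k (fun j hj => List.mem_map.2 ⟨j, hj, rfl⟩) hy')
  rwa [mul_inv_eq_one, mul_eq_left] at this

section J

variable {E : Type*} [Field E] {σ : E ≃+* E} {G : Type*} [Group G] {x : ZMod 12 → E → G} {t : G}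
  {V : ZMod 12 → Subgroup G} (env : Env σ x t) (L : Lev σ x t V)

/-- `Ĵ` -/
def Jh (V : ZMod 12 → Subgroup G) : Subgroup G := V 2 ⊔ V 3 ⊔ V 4

/-- `Ŵ` -/
def Wh (V : ZMod 12 → Subgroup G) : Subgroup G := V 2 ⊔ V 4

omit env in
include L in
theorem V_inv {r : ZMod 12} {y : G} (hy : y ∈ V r) : y⁻¹ = y := inv_eq_of_mul_eq_one_left (L.sq r y hy)

omit env in
include L in
theorem V_comm {r : ZMod 12} {y z : G} (hy : y ∈ V r) (hz : z ∈ V r) : y * z = z * y := by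
  have h1 := L.sq r _ (mul_mem hy hz)
  have h2 : (y * z)⁻¹ = y * z := inv_eq_of_mul_eq_one_left h1
  rw [mul_inv_rev, V_inv L hy, V_inv L hz] at h2
  exact h2.symm

theorem V_Wh {r : ZMod 12} (hr : r = 2 ∨ r = 4) {y : G} (hy : y ∈ V r) : y ∈ Wh V := by
  rcases hr with rfl | rfl
  · exact (le_sup_left : V 2 ≤ _) hy
  · exact (le_sup_right : V 4 ≤ _) hy

theorem V_Jh {r : ZMod 12} (hr : r = 2 ∨ r = 3 ∨ r = 4) {y : G} (hy : y ∈ V r) : y ∈ Jh V := by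
  rcases hr with rfl | rfl | rfl
  · exact ((le_sup_left : V 2 ≤ V 2 ⊔ V 3).trans le_sup_left) hy
  · exact ((le_sup_right : V 3 ≤ V 2 ⊔ V 3).trans le_sup_left) hy
  · exact (le_sup_right : V 4 ≤ _) hy

theorem Wh_le_Jh : Wh V ≤ Jh V :=
  sup_le (fun _ h => V_Jh (Or.inl rfl) h) (fun _ h => V_Jh (Or.inr (Or.inr rfl)) h)

/-- to prove something for a closed family on `Jh` -/
theorem Jh_le {K : Subgroup G} (h : ∀ r, r = 2 ∨ r = 3 ∨ r = 4 → V r ≤ K) : Jh V ≤ K :=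
  sup_le (sup_le (h 2 (Or.inl rfl)) (h 3 (Or.inr (Or.inl rfl)))) (h 4 (Or.inr (Or.inr rfl)))

theorem Wh_le {K : Subgroup G} (h : ∀ r, r = 2 ∨ r = 4 → V r ≤ K) : Wh V ≤ K :=
  sup_le (h 2 (Or.inl rfl)) (h 4 (Or.inr rfl))

theorem Jh_comm_of {g : G} (h : ∀ r, r = 2 ∨ r = 3 ∨ r = 4 → ∀ y ∈ V r, g * y = y * g) {y : G} (hy : y ∈ Jh V) :
    g * y = y * g := by
  have : Jh V ≤ Subgroup.centralizer {g} := Jh_le fun r hr y hy => by
    rw [Subgroup.mem_centralizer_singleton_iff]; exact (h r hr y hy).symm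
  exact (Subgroup.mem_centralizer_singleton_iff.1 (this hy)).symm

theorem Wh_comm_of {g : G} (h : ∀ r, r = 2 ∨ r = 4 → ∀ y ∈ V r, g * y = y * g) {y : G} (hy : y ∈ Wh V) :
    g * y = y * g := by
  have : Wh V ≤ Subgroup.centralizer {g} := Wh_le fun r hr y hy => by
    rw [Subgroup.mem_centralizer_singleton_iff]; exact (h r hr y hy).symm
  exact (Subgroup.mem_centralizer_singleton_iff.1 (this hy)).symm

theorem Jh_conj_of {g : G} {K : Subgroup G} (h : ∀ r, r = 2 ∨ r = 3 ∨ r = 4 → ∀ y ∈ V r, g * y * g⁻¹ ∈ K) {y : G}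
    (hy : y ∈ Jh V) : g * y * g⁻¹ ∈ K := by
  have : Jh V ≤ K.comap (MulAut.conj g).toMonoidHom := Jh_le fun r hr y hy => by simpa using h r hr y hy
  simpa using this hy

theorem Wh_conj_of {g : G} {K : Subgroup G} (h : ∀ r, r = 2 ∨ r = 4 → ∀ y ∈ V r, g * y * g⁻¹ ∈ K) {y : G}
    (hy : y ∈ Wh V) : g * y * g⁻¹ ∈ K := by
  have : Wh V ≤ K.comap (MulAut.conj g).toMonoidHom := Wh_le fun r hr y hy => by simpa using h r hr y hy
  simpa using this hy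

omit env in
include L in
/-- the three groups commute -/
theorem VJ_comm {r s : ZMod 12} (hr : r = 2 ∨ r = 3 ∨ r = 4) (hs : s = 2 ∨ s = 3 ∨ s = 4) {y z : G} (hy : y ∈ V r)
    (hz : z ∈ V s) : y * z = z * y := by
  rcases hr with rfl | rfl | rfl <;> rcases hs with rfl | rfl | rfl
  · exact V_comm L hy hz
  · exact L.c1 2 y hy z hz
  · exact L.l2 2 (by decide) y hy z hz
  · exact (L.c1 2 z hz y hy).symm
  · exact V_comm L hy hz
  · exact L.c1 3 y hy z hz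
  · exact (L.l2 2 (by decide) z hz y hy).symm
  · exact (L.c1 3 z hz y hy).symm
  · exact V_comm L hy hz

omit env in
include L in
theorem Jh_comm {y z : G} (hy : y ∈ Jh V) (hz : z ∈ Jh V) : y * z = z * y :=
  Jh_comm_of (fun _ hs z hz => (Jh_comm_of (fun _ hr y hy => (VJ_comm L hr hs hy hz).symm) hy).symm) hz

omit env in
include L in
theorem Jh_form {y : G} (hy : y ∈ Jh V) : ∃ a ∈ V 2, ∃ b ∈ V 3, ∃ c ∈ V 4, y = a * b * c := by
  unfold Jh at hy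
  obtain ⟨ab, hab, c, hc, rfl⟩ := mem_sup_norm (A := V 2 ⊔ V 3) (B := V 4) (fun p hp q hq => by
    have hp' : p ∈ Jh V := (le_sup_left : V 2 ⊔ V 3 ≤ _) hp
    rw [Jh_comm L hp' (V_Jh (Or.inr (Or.inr rfl)) hq), mul_inv_cancel_right]
    exact hq) hy
  obtain ⟨a, ha, b, hb, rfl⟩ := mem_sup_norm (A := V 2) (B := V 3) (fun p hp q hq => by
    rw [Jh_comm L (V_Jh (Or.inl rfl) hp) (V_Jh (Or.inr (Or.inl rfl)) hq), mul_inv_cancel_right]
    exact hq) hab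
  exact ⟨a, ha, b, hb, c, hc, rfl⟩

omit env in
include L in
theorem Jh_sq {y : G} (hy : y ∈ Jh V) : y * y = 1 := by
  obtain ⟨a, ha, b, hb, c, hc, rfl⟩ := Jh_form L hy
  have ha' : a ∈ Jh V := V_Jh (Or.inl rfl) ha
  have hb' : b ∈ Jh V := V_Jh (Or.inr (Or.inl rfl)) hb
  have hc' : c ∈ Jh V := V_Jh (Or.inr (Or.inr rfl)) hc
  calc a * b * c * (a * b * c) = a * b * (c * (a * b)) * c := by group
    _ = a * b * ((a * b) * c) * c := by rw [Jh_comm L hc' (mul_mem ha' hb')]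
    _ = a * (b * a) * b * (c * c) := by group
    _ = a * (a * b) * b * (c * c) := by rw [Jh_comm L hb' ha']
    _ = (a * a) * (b * b) * (c * c) := by group
    _ = 1 := by rw [L.sq 2 a ha, L.sq 3 b hb, L.sq 4 c hc]; group

omit env in
include L in
theorem Jh_inv {y : G} (hy : y ∈ Jh V) : y⁻¹ = y := inv_eq_of_mul_eq_one_left (Jh_sq L hy)

omit env in
include L in
/-- `t` normalises `V r` -/
theorem t_V {r : ZMod 12} {y : G} (hy : y ∈ V r) : t * y * t⁻¹ ∈ V r := by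
  obtain ⟨b, hb, e⟩ := L.br r y hy
  have e2 : t * y * t⁻¹ = ⁅t, y⁆ * y := by rw [commutatorElement_def]; group
  rw [e2, e]
  exact mul_mem (L.le r b hb) hy

omit env in
include L in
theorem t_Jh {y : G} (hy : y ∈ Jh V) : t * y * t⁻¹ ∈ Jh V :=
  Jh_conj_of (fun _ hr _ hy => V_Jh hr (t_V L hy)) hy

theorem xJ {k : ZMod 12} (hk : k = 2 ∨ k = 3 ∨ k = 4) {a : E} (ha : Ok σ k a) (L : Lev σ x t V) : x k a ∈ Jh V :=
  V_Jh hk (L.le k a ha)

theorem gJ (L : Lev σ x t V) : gl σ x [2, 3, 4] ≤ Jh V := by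
  refine gens_le (S := {j | j ∈ [2, 3, 4]}) fun k hk a ha => xJ ?_ ha L
  simpa using hk

include env L

/-- fixed points of `t` on `Ĵ` -/
theorem J_fix {y : G} (hy : y ∈ Jh V) (ht : y * t = t * y) :
    y ∈ gl σ x [2, 3, 4] ∧ ∃ v ∈ Jh V, t * v * t⁻¹ * v⁻¹ = y := by
  obtain ⟨a, ha, b, hb, c, hc, rfl⟩ := Jh_form L hy
  have ha' : a ∈ Jh V := V_Jh (Or.inl rfl) ha
  have hb' : b ∈ Jh V := V_Jh (Or.inr (Or.inl rfl)) hb
  have hc' : c ∈ Jh V := V_Jh (Or.inr (Or.inr rfl)) hc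
  obtain ⟨α, hα, eα⟩ := L.br 2 a ha
  obtain ⟨β, hβ, eβ⟩ := L.br 3 b hb
  obtain ⟨γ, hγ, eγ⟩ := L.br 4 c hc
  have Jα : x 2 α ∈ Jh V := xJ (Or.inl rfl) hα L
  have Jβ : x 3 β ∈ Jh V := xJ (Or.inr (Or.inl rfl)) hβ L
  have Jγ : x 4 γ ∈ Jh V := xJ (Or.inr (Or.inr rfl)) hγ L
  have ea : t * a * t⁻¹ = x 2 α * a := by rw [← eα, commutatorElement_def]; group
  have eb : t * b * t⁻¹ = x 3 β * b := by rw [← eβ, commutatorElement_def]; group
  have ec : t * c * t⁻¹ = x 4 γ * c := by rw [← eγ, commutatorElement_def]; group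
  have e1 : t * (a * b * c) * t⁻¹ = a * b * c := by rw [← ht, mul_inv_cancel_right]
  have e2 : x 2 α * (x 3 β * x 4 γ) = 1 := by
    have e3 : x 2 α * a * (x 3 β * b) * (x 4 γ * c) = a * b * c := by
      rw [← ea, ← eb, ← ec]
      calc t * a * t⁻¹ * (t * b * t⁻¹) * (t * c * t⁻¹) = t * (a * b * c) * t⁻¹ := by group
        _ = _ := e1
    have e4 : x 2 α * a * (x 3 β * b) * (x 4 γ * c) = x 2 α * (x 3 β * x 4 γ) * (a * b * c) := by
      calc x 2 α * a * (x 3 β * b) * (x 4 γ * c) = x 2 α * (a * x 3 β) * b * x 4 γ * c := by group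
        _ = x 2 α * x 3 β * ((a * b) * x 4 γ) * c := by rw [Jh_comm L ha' Jβ]; group
        _ = x 2 α * x 3 β * (x 4 γ * (a * b)) * c := by rw [Jh_comm L (mul_mem ha' hb') Jγ]
        _ = _ := by group
    rw [e4] at e3
    exact mul_eq_right.1 e3
  have f2 : x 2 α = 1 := by
    refine disj_of_opps env.hex (L := [2]) (M := [3, 4]) (by decide) (mem_gl (by decide) hα) ?_
    rw [eq_inv_of_mul_eq_one_left e2]
    exact inv_mem (mul_mem (mem_gl (by decide) hβ) (mem_gl (by decide) hγ))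
  rw [f2, one_mul] at e2
  have f3 : x 3 β = 1 := by
    refine disj_nn env.hex (L := [3]) (M := [4]) 1 (by decide) (mem_gl (by decide) hβ) ?_
    rw [eq_inv_of_mul_eq_one_left e2]
    exact inv_mem (mem_gl (by decide) hγ)
  rw [f3, one_mul] at e2
  rw [f2, one_mul] at ea
  rw [f3, one_mul] at eb
  rw [e2, one_mul] at ec
  obtain ⟨a', oa, rfl⟩ := L.fix 2 a ha (mul_inv_eq_iff_eq_mul.1 ea).symm
  obtain ⟨b', ob, rfl⟩ := L.fix 3 b hb (mul_inv_eq_iff_eq_mul.1 eb).symm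
  obtain ⟨c', oc, rfl⟩ := L.fix 4 c hc (mul_inv_eq_iff_eq_mul.1 ec).symm
  refine ⟨mul_mem (mul_mem (mem_gl (by decide) oa) (mem_gl (by decide) ob)) (mem_gl (by decide) oc), ?_⟩
  obtain ⟨p, hp, ep⟩ := L.onto 2 a' oa
  obtain ⟨q, hq, eq⟩ := L.onto 3 b' ob
  obtain ⟨r, hr, er⟩ := L.onto 4 c' oc
  have hpJ : p ∈ Jh V := V_Jh (Or.inl rfl) hp
  have hqJ : q ∈ Jh V := V_Jh (Or.inr (Or.inl rfl)) hq
  have hrJ : r ∈ Jh V := V_Jh (Or.inr (Or.inr rfl)) hr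
  have hbJ : x 3 b' ∈ Jh V := xJ (Or.inr (Or.inl rfl)) ob L
  have hcJ : x 4 c' ∈ Jh V := xJ (Or.inr (Or.inr rfl)) oc L
  have ep' : t * p * t⁻¹ = x 2 a' * p := by rw [← ep, commutatorElement_def]; group
  have eq' : t * q * t⁻¹ = x 3 b' * q := by rw [← eq, commutatorElement_def]; group
  have er' : t * r * t⁻¹ = x 4 c' * r := by rw [← er, commutatorElement_def]; group
  refine ⟨p * q * r, mul_mem (mul_mem hpJ hqJ) hrJ, ?_⟩
  calc t * (p * q * r) * t⁻¹ * (p * q * r)⁻¹ = (t * p * t⁻¹) * (t * q * t⁻¹) * (t * r * t⁻¹) * (p * q * r)⁻¹ := by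
        group
    _ = x 2 a' * p * (x 3 b' * q) * (x 4 c' * r) * (p * q * r)⁻¹ := by rw [ep', eq', er']
    _ = x 2 a' * (p * x 3 b') * q * x 4 c' * r * (p * q * r)⁻¹ := by group
    _ = x 2 a' * x 3 b' * ((p * q) * x 4 c') * r * (p * q * r)⁻¹ := by rw [Jh_comm L hpJ hbJ]; group
    _ = x 2 a' * x 3 b' * (x 4 c' * (p * q)) * r * (p * q * r)⁻¹ := by rw [Jh_comm L (mul_mem hpJ hqJ) hcJ]
    _ = _ := by group

end J

end Cfsg.Agent.TriTwo.Grow2
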