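import Mathlib
import Cfsg.Agent.TriTwo.Grow2J

/-!
# S1778, type `³D₄(2)`, piece [E2]: the group `D̂`
-/

set_option autoImplicit false
set_option linter.unusedSectionVars false

namespace Cfsg.Agent.TriTwo.Grow2

open Cfsg.Agent.StdRank2.Hex Cfsg.Agent.SplitTwo
open Cfsg.Agent.TriTwo
open scoped commutatorElement

section Gen

variable {G : Type*} [Group G]

theorem mem_norm_of_invol {J : Subgroup G} {g : G} (hg : g * g = 1) (h : ∀ j ∈ J, g * j * g⁻¹ ∈ J) :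
    g ∈ Subgroup.normalizer (J : Set G) := by
  rw [Subgroup.mem_normalizer_iff]
  refine fun j => ⟨h j, fun hj => ?_⟩
  have h1 := h _ hj
  have e : g⁻¹ = g := inv_eq_of_mul_eq_one_left hg
  have e2 : g * (g * j * g⁻¹) * g⁻¹ = j := by
    rw [e]
    calc g * (g * j * g) * g = (g * g) * j * (g * g) := by group
      _ = j := by rw [hg]; group
  rwa [e2] at h1

theorem norm_conj {J : Subgroup G} {g j : G} (hg : g ∈ Subgroup.normalizer (J : Set G)) (hj : j ∈ J) :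
    g * j * g⁻¹ ∈ J := (Subgroup.mem_normalizer_iff.1 hg j).1 hj

theorem norm_conj' {J : Subgroup G} {g j : G} (hg : g ∈ Subgroup.normalizer (J : Set G)) (hj : j ∈ J) :
    g⁻¹ * j * g ∈ J := by
  have := norm_conj (inv_mem hg) hj
  rwa [inv_inv] at this

end Gen

section D

variable {E : Type*} [Field E] {σ : E ≃+* E} {G : Type*} [Group G] {x : ZMod 12 → E → G} {t : G}
  {V : ZMod 12 → Subgroup G} (env : Env σ x t) (L : Lev σ x t V)

theorem five {k : ZMod 12} (hk : k ∈ ([1, 2, 3, 4, 5] : List (ZMod 12))) :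
    (k = 1 ∨ k = 5) ∨ (k = 2 ∨ k = 3 ∨ k = 4) := by
  revert k; decide

omit env in
include L in
/-- `V₁`, …, `V₅` centralise `Ŵ` -/
theorem V_cW {k : ZMod 12} (hk : k ∈ ([1, 2, 3, 4, 5] : List (ZMod 12))) {y w : G} (hy : y ∈ V k) (hw : w ∈ Wh V) :
    y * w = w * y := by
  rcases five hk with (rfl | rfl) | hk
  · refine Wh_comm_of (fun r hr z hz => ?_) hw
    rcases hr with rfl | rfl
    · exact L.c1 1 y hy z hz
    · exact L.c3 1 y hy z hz
  · refine Wh_comm_of (fun r hr z hz => ?_) hw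
    rcases hr with rfl | rfl
    · exact (L.c3 2 z hz y hy).symm
    · exact (L.c1 4 z hz y hy).symm
  · exact Jh_comm L (V_Jh hk hy) (Wh_le_Jh hw)

omit env in
include L in
/-- and `Ĵ / Ŵ` -/
theorem V_cJ {k : ZMod 12} (hk : k ∈ ([1, 2, 3, 4, 5] : List (ZMod 12))) {y j : G} (hy : y ∈ V k) (hj : j ∈ Jh V) :
    y * j * y⁻¹ * j⁻¹ ∈ Wh V := by
  have key : ∀ b ∈ V 3, y * b * y⁻¹ * b⁻¹ ∈ Wh V := by
    intro b hb
    rcases five hk with (rfl | rfl) | hk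
    · have := L.s2 1 (by decide) y hy b hb
      rw [commutatorElement_def] at this
      exact V_Wh (Or.inl rfl) this
    · have := inv_mem (L.s2 3 (by decide) b hb y hy)
      rw [commutatorElement_inv, commutatorElement_def] at this
      exact V_Wh (Or.inr rfl) this
    · rw [Jh_comm L (V_Jh hk hy) (V_Jh (Or.inr (Or.inl rfl)) hb)]
      have : b * y * y⁻¹ * b⁻¹ = 1 := by group
      rw [this]
      exact one_mem _
  obtain ⟨a, ha, b, hb, c, hc, rfl⟩ := Jh_form L hj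
  have haW : a ∈ Wh V := V_Wh (Or.inl rfl) ha
  have hcW : c ∈ Wh V := V_Wh (Or.inr rfl) hc
  have ea : y * a = a * y := V_cW L hk hy haW
  have ec : c * y⁻¹ = y⁻¹ * c := by
    have := V_cW L hk hy hcW
    rw [eq_inv_mul_iff_mul_eq, ← mul_assoc, this, mul_inv_cancel_right]
  have e : y * (a * b * c) * y⁻¹ * (a * b * c)⁻¹ = a * (y * b * y⁻¹ * b⁻¹) * a⁻¹ := by
    calc y * (a * b * c) * y⁻¹ * (a * b * c)⁻¹ = (y * a) * b * (c * y⁻¹) * (a * b * c)⁻¹ := by group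
      _ = (a * y) * b * (y⁻¹ * c) * (a * b * c)⁻¹ := by rw [ea, ec]
      _ = _ := by group
  rw [e]
  exact mul_mem (mul_mem haW (key b hb)) (inv_mem haW)

omit env in
include L in
theorem V_norm {k : ZMod 12} (hk : k ∈ ([1, 2, 3, 4, 5] : List (ZMod 12))) {y : G} (hy : y ∈ V k) :
    y ∈ Subgroup.normalizer (Jh V : Set G) :=
  mem_norm_of_invol (L.sq k y hy) (fun j hj => by
    have e : y * j * y⁻¹ = (y * j * y⁻¹ * j⁻¹) * j := by group
    rw [e]
    exact mul_mem (Wh_le_Jh (V_cJ L hk hy hj)) hj)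

omit env in
include L in
theorem Q2_norm : Q2 σ x ≤ Subgroup.normalizer (Jh V : Set G) := by
  rw [Q2_eq]
  exact gens_le (S := {j | j ∈ [1, 2, 3, 4, 5]}) fun k hk a ha => V_norm L hk (L.le k a ha)

include env L in
theorem t_norm : t ∈ Subgroup.normalizer (Jh V : Set G) := mem_norm_of_invol env.tt fun _ hj => t_Jh L hj

variable (σ x t V)

/-- `Q₂Ĵ` -/
def QJ : Subgroup G := Q2 σ x ⊔ Jh V

/-- the elements of `D̂` -/
structure InD (y : G) : Prop where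
  cW : ∀ w ∈ Wh V, y * w = w * y
  cJ : ∀ j ∈ Jh V, y * j * y⁻¹ * j⁻¹ ∈ Wh V
  cQ : ∀ q ∈ Q2 σ x, y * q * y⁻¹ * q⁻¹ ∈ Jh V
  ct : y * t * y⁻¹ * t⁻¹ ∈ QJ σ x V

variable {σ x t V}

theorem InD.nJ {y : G} (hy : InD σ x t V y) {j : G} (hj : j ∈ Jh V) : y * j * y⁻¹ ∈ Jh V := by
  have e : y * j * y⁻¹ = (y * j * y⁻¹ * j⁻¹) * j := by group
  rw [e]
  exact mul_mem (Wh_le_Jh (hy.cJ j hj)) hj

theorem InD.nQJ {y : G} (hy : InD σ x t V y) {j : G} (hj : j ∈ QJ σ x V) : y * j * y⁻¹ ∈ QJ σ x V := by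
  have : QJ σ x V ≤ (QJ σ x V).comap (MulAut.conj y).toMonoidHom := by
    refine sup_le (fun q hq => ?_) (fun j hj => ?_)
    · show y * q * y⁻¹ ∈ QJ σ x V
      have e : y * q * y⁻¹ = (y * q * y⁻¹ * q⁻¹) * q := by group
      rw [e]
      exact mul_mem ((le_sup_right : Jh V ≤ _) (hy.cQ q hq)) ((le_sup_left : Q2 σ x ≤ _) hq)
    · show y * j * y⁻¹ ∈ QJ σ x V
      exact (le_sup_right : Jh V ≤ _) (hy.nJ hj)
  simpa using this hj

theorem InD.mul {y z : G} (hy : InD σ x t V y) (hz : InD σ x t V z) : InD σ x t V (y * z) where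
  cW w hw := by rw [mul_assoc, hz.cW w hw, ← mul_assoc, hy.cW w hw, mul_assoc]
  cJ j hj := by
    have e : y * z * j * (y * z)⁻¹ * j⁻¹ = y * (z * j * z⁻¹ * j⁻¹) * y⁻¹ * (y * j * y⁻¹ * j⁻¹) := by group
    rw [e, hy.cW _ (hz.cJ j hj), mul_inv_cancel_right]
    exact mul_mem (hz.cJ j hj) (hy.cJ j hj)
  cQ q hq := by
    have e : y * z * q * (y * z)⁻¹ * q⁻¹ = y * (z * q * z⁻¹ * q⁻¹) * y⁻¹ * (y * q * y⁻¹ * q⁻¹) := by group
    rw [e]
    exact mul_mem (hy.nJ (hz.cQ q hq)) (hy.cQ q hq)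
  ct := by
    have e : y * z * t * (y * z)⁻¹ * t⁻¹ = y * (z * t * z⁻¹ * t⁻¹) * y⁻¹ * (y * t * y⁻¹ * t⁻¹) := by group
    rw [e]
    exact mul_mem (hy.nQJ hz.ct) hy.ct

theorem InD.one : InD σ x t V (1 : G) where
  cW w _ := by simp
  cJ j _ := by simp [one_mem]
  cQ q _ := by simp [one_mem]
  ct := by simp [one_mem]

theorem InD.pow {y : G} (hy : InD σ x t V y) (n : ℕ) : InD σ x t V (y ^ n) := by
  induction n with
  | zero => rw [pow_zero]; exact InD.one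
  | succ n ih => rw [pow_succ]; exact ih.mul hy

variable (σ x t V)

/-- `D̂` -/
def Dh [Finite G] : Subgroup G where
  carrier := {y | InD σ x t V y}
  mul_mem' hy hz := InD.mul hy hz
  one_mem' := InD.one
  inv_mem' {y} hy := by
    have h1 : y ^ (orderOf y - 1) * y = 1 := by
      rw [← pow_succ, Nat.sub_add_cancel (orderOf_pos y), pow_orderOf_eq_one]
    rw [← eq_inv_of_mul_eq_one_left h1]
    exact InD.pow hy _

variable {σ x t V}

variable [Finite G]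

theorem mem_Dh {y : G} : y ∈ Dh σ x t V ↔ InD σ x t V y := Iff.rfl

omit env in
include L in
/-- generators suffice for `cQ` -/
theorem cQ_of {y : G} (h : ∀ k ∈ ([1, 2, 3, 4, 5] : List (ZMod 12)), ∀ a, Ok σ k a →
    y * x k a * y⁻¹ * (x k a)⁻¹ ∈ Jh V) : ∀ q ∈ Q2 σ x, y * q * y⁻¹ * q⁻¹ ∈ Jh V := by
  let K : Subgroup G :=
    { carrier := {q | q ∈ Subgroup.normalizer (Jh V : Set G) ∧ y * q * y⁻¹ * q⁻¹ ∈ Jh V}
      mul_mem' := by
        rintro q r ⟨q1, q2⟩ ⟨r1, r2⟩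
        refine ⟨mul_mem q1 r1, ?_⟩
        have e : y * (q * r) * y⁻¹ * (q * r)⁻¹ = (y * q * y⁻¹ * q⁻¹) * (q * (y * r * y⁻¹ * r⁻¹) * q⁻¹) := by group
        rw [e]
        exact mul_mem q2 (norm_conj q1 r2)
      one_mem' := ⟨one_mem _, by simp [one_mem]⟩
      inv_mem' := by
        rintro q ⟨q1, q2⟩
        refine ⟨inv_mem q1, ?_⟩
        have e : y * q⁻¹ * y⁻¹ * q⁻¹⁻¹ = q⁻¹ * (y * q * y⁻¹ * q⁻¹)⁻¹ * q := by group
        rw [e]
        exact norm_conj' q1 (inv_mem q2) }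
  have hK : Q2 σ x ≤ K := by
    rw [Q2_eq]
    exact gens_le (S := {j | j ∈ [1, 2, 3, 4, 5]}) fun k hk a ha => ⟨V_norm L hk (L.le k a ha), h k hk a ha⟩
  exact fun q hq => (hK hq).2

include L in
theorem Jh_le_Dh : Jh V ≤ Dh σ x t V := by
  intro y hy
  refine ⟨fun w hw => Jh_comm L hy (Wh_le_Jh hw), fun j hj => ?_, fun q hq => ?_, ?_⟩
  · rw [Jh_comm L hy hj, mul_inv_cancel_right, mul_inv_cancel]
    exact one_mem _
  · have e : y * q * y⁻¹ * q⁻¹ = y * (q * y⁻¹ * q⁻¹) := by group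
    rw [e]
    exact mul_mem hy (norm_conj (Q2_norm L hq) (inv_mem hy))
  · have e : y * t * y⁻¹ * t⁻¹ = y * (t * y⁻¹ * t⁻¹) := by group
    rw [e]
    exact (le_sup_right : Jh V ≤ _) (mul_mem hy (t_Jh L (inv_mem hy)))

include env L in
theorem V_le_Dh {k : ZMod 12} (hk : k ∈ ([1, 2, 3, 4, 5] : List (ZMod 12))) : V k ≤ Dh σ x t V := by
  rcases five hk with hk' | hk'
  swap
  · exact fun y hy => Jh_le_Dh L (V_Jh hk' hy)
  intro y hy
  refine ⟨fun w hw => V_cW L hk hy hw, fun j hj => V_cJ L hk hy hj, cQ_of L fun l hl a ha => ?_, ?_⟩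
  · rcases five hl with hl' | hl'
    swap
    · exact Wh_le_Jh (V_cJ L hk hy (xJ hl' ha L))
    have same : ∀ {k : ZMod 12}, y ∈ V k → Ok σ k a → y * x k a * y⁻¹ * (x k a)⁻¹ ∈ Jh V := by
      intro k hy ha
      rw [V_comm L hy (L.le k a ha), mul_inv_cancel_right, mul_inv_cancel]
      exact one_mem _
    rcases hk' with rfl | rfl <;> rcases hl' with rfl | rfl
    · exact same hy ha
    · have := inv_mem (L.h4' 1 (by decide) a y hy)
      rw [commutatorElement_inv, commutatorElement_def] at this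
      exact this
    · have := inv_mem (L.h4 1 (by decide) a y hy)
      rw [commutatorElement_inv, commutatorElement_def] at this
      exact this
    · exact same hy ha
  · obtain ⟨b, hb, e⟩ := L.br k y hy
    have e2 : y * t * y⁻¹ * t⁻¹ = (x k b)⁻¹ := by rw [← e, commutatorElement_def]; group
    rw [e2]
    refine (le_sup_left : Q2 σ x ≤ _) (inv_mem ?_)
    rw [Q2_eq]
    exact mem_gl hk hb

include env L in
theorem Q2_le_Dh : Q2 σ x ≤ Dh σ x t V := by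
  rw [Q2_eq]
  exact gens_le (S := {j | j ∈ [1, 2, 3, 4, 5]}) fun k hk a ha => V_le_Dh env L hk (L.le k a ha)

include env L in
theorem QJ_le_Dh : QJ σ x V ≤ Dh σ x t V := sup_le (Q2_le_Dh env L) (Jh_le_Dh L)

include env L in
/-- `D̂` centralises `Q₂Ĵ/Ĵ` -/
theorem InD.cQJ {y : G} (hy : InD σ x t V y) {o : G} (ho : o ∈ QJ σ x V) : y * o * y⁻¹ * o⁻¹ ∈ Jh V := by
  obtain ⟨q, hq, j, hj, rfl⟩ := mem_sup_norm (fun q hq j hj => norm_conj (Q2_norm L hq) hj) ho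
  have e : y * (q * j) * y⁻¹ * (q * j)⁻¹ = (y * q * y⁻¹ * q⁻¹) * (q * (y * j * y⁻¹ * j⁻¹) * q⁻¹) := by group
  rw [e]
  exact mul_mem (hy.cQ q hq) (norm_conj (Q2_norm L hq) (Wh_le_Jh (hy.cJ j hj)))

/-! ### `z₆` -/

include env L in
theorem g_V {r : ZMod 12} (hr : r = 2 ∨ r = 3 ∨ r = 4) {y : G} (hy : y ∈ V r) :
    x 6 1 * y * (x 6 1)⁻¹ * y⁻¹ ∈ V 4 := by
  have g6 : x 6 1 ∈ V 6 := L.le 6 1 (ok_one σ 6)
  rcases hr with rfl | rfl | rfl
  · have := inv_mem (L.l4 2 (by decide) y hy _ g6)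
    rw [commutatorElement_inv, commutatorElement_def] at this
    exact this
  · rw [← L.c3 3 y hy _ g6]
    have : y * x 6 1 * (x 6 1)⁻¹ * y⁻¹ = 1 := by group
    rw [this]
    exact one_mem _
  · rw [← L.l2 4 (by decide) y hy _ g6]
    have : y * x 6 1 * (x 6 1)⁻¹ * y⁻¹ = 1 := by group
    rw [this]
    exact one_mem _

include env L in
theorem g_Wh {y : G} (hy : y ∈ Wh V) : x 6 1 * y * (x 6 1)⁻¹ ∈ Wh V := by
  refine Wh_conj_of (fun r hr y hy => ?_) hy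
  have e : x 6 1 * y * (x 6 1)⁻¹ = (x 6 1 * y * (x 6 1)⁻¹ * y⁻¹) * y := by group
  rw [e]
  exact mul_mem (V_Wh (Or.inr rfl) (g_V env L (by rcases hr with h | h <;> simp [h]) hy)) (V_Wh hr hy)

include env L in
theorem g_Jh {y : G} (hy : y ∈ Jh V) : x 6 1 * y * (x 6 1)⁻¹ ∈ Jh V := by
  refine Jh_conj_of (fun r hr y hy => ?_) hy
  have e : x 6 1 * y * (x 6 1)⁻¹ = (x 6 1 * y * (x 6 1)⁻¹ * y⁻¹) * y := by group
  rw [e]
  exact mul_mem (V_Jh (Or.inr (Or.inr rfl)) (g_V env L hr hy)) (V_Jh hr hy)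

include env in
theorem g_inv : (x 6 1)⁻¹ = x 6 1 := xinv env (ok_one σ 6)

include env in
theorem g_Q2 {y : G} (hy : y ∈ Q2 σ x) : x 6 1 * y * (x 6 1)⁻¹ ∈ Q2 σ x := by
  rw [Q2_eq] at *
  exact conj_gl env.hex (by decide) (ok_one σ 6) hy

include env in
theorem g_t : x 6 1 * t = t * x 6 1 := (env.tx 6 1 (ok_one σ 6)).symm

include env L in
theorem g_QJ {y : G} (hy : y ∈ QJ σ x V) : x 6 1 * y * (x 6 1)⁻¹ ∈ QJ σ x V := by
  have : QJ σ x V ≤ (QJ σ x V).comap (MulAut.conj (x 6 1)).toMonoidHom := by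
    refine sup_le (fun q hq => ?_) (fun j hj => ?_)
    · exact (le_sup_left : Q2 σ x ≤ _) (g_Q2 env hq)
    · exact (le_sup_right : Jh V ≤ _) (g_Jh env L hj)
  simpa using this hy

include env L in
theorem g_Dh {y : G} (hy : y ∈ Dh σ x t V) : x 6 1 * y * (x 6 1)⁻¹ ∈ Dh σ x t V := by
  have gi := g_inv env
  have gg : x 6 1 * x 6 1 = 1 := xx env (ok_one σ 6)
  have nW : ∀ w ∈ Wh V, (x 6 1)⁻¹ * w * x 6 1 ∈ Wh V := fun w hw => by
    have := g_Wh env L hw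
    rwa [gi] at this ⊢
  have nJ : ∀ w ∈ Jh V, (x 6 1)⁻¹ * w * x 6 1 ∈ Jh V := fun w hw => by
    have := g_Jh env L hw
    rwa [gi] at this ⊢
  have nQ : ∀ w ∈ Q2 σ x, (x 6 1)⁻¹ * w * x 6 1 ∈ Q2 σ x := fun w hw => by
    have := g_Q2 env hw
    rwa [gi] at this ⊢
  refine ⟨fun w hw => ?_, fun j hj => ?_, fun q hq => ?_, ?_⟩
  · calc x 6 1 * y * (x 6 1)⁻¹ * w = x 6 1 * (y * ((x 6 1)⁻¹ * w * x 6 1)) * (x 6 1)⁻¹ := by group
      _ = x 6 1 * (((x 6 1)⁻¹ * w * x 6 1) * y) * (x 6 1)⁻¹ := by rw [hy.cW _ (nW w hw)]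
      _ = _ := by group
  · have e : x 6 1 * y * (x 6 1)⁻¹ * j * (x 6 1 * y * (x 6 1)⁻¹)⁻¹ * j⁻¹ =
        x 6 1 * (y * ((x 6 1)⁻¹ * j * x 6 1) * y⁻¹ * ((x 6 1)⁻¹ * j * x 6 1)⁻¹) * (x 6 1)⁻¹ := by group
    rw [e]
    exact g_Wh env L (hy.cJ _ (nJ j hj))
  · have e : x 6 1 * y * (x 6 1)⁻¹ * q * (x 6 1 * y * (x 6 1)⁻¹)⁻¹ * q⁻¹ =
        x 6 1 * (y * ((x 6 1)⁻¹ * q * x 6 1) * y⁻¹ * ((x 6 1)⁻¹ * q * x 6 1)⁻¹) * (x 6 1)⁻¹ := by group
    rw [e]
    exact g_Jh env L (hy.cQ _ (nQ q hq))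
  · have ht : (x 6 1)⁻¹ * t * x 6 1 = t := by rw [mul_assoc, ← g_t env, inv_mul_cancel_left]
    have e : x 6 1 * y * (x 6 1)⁻¹ * t * (x 6 1 * y * (x 6 1)⁻¹)⁻¹ * t⁻¹ =
        x 6 1 * (y * ((x 6 1)⁻¹ * t * x 6 1) * y⁻¹ * ((x 6 1)⁻¹ * t * x 6 1)⁻¹) * (x 6 1)⁻¹ := by
      rw [ht]
      calc x 6 1 * y * (x 6 1)⁻¹ * t * (x 6 1 * y * (x 6 1)⁻¹)⁻¹ * t⁻¹
          = x 6 1 * y * ((x 6 1)⁻¹ * t * x 6 1) * y⁻¹ * (x 6 1)⁻¹ * t⁻¹ := by group
        _ = x 6 1 * y * t * y⁻¹ * ((x 6 1)⁻¹ * t⁻¹) := by rw [ht]; group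
        _ = x 6 1 * y * t * y⁻¹ * (t⁻¹ * (x 6 1)⁻¹) := by
          have : (x 6 1)⁻¹ * t⁻¹ = t⁻¹ * (x 6 1)⁻¹ := by rw [← mul_inv_rev, ← mul_inv_rev, g_t env]
          rw [this]
        _ = _ := by group
    rw [e, ht]
    exact g_QJ env L hy.ct

/-! ### `D̂ ∩ C(t) = Q₂` -/

include env L in
/-- elements of `D̂ ∩ C(t)` have order dividing `8` -/
theorem pow_eight {y : G} (hy : InD σ x t V y) (ht : y * t = t * y) : y ^ 8 = 1 := by
  -- `y²` centralises `Ĵ`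
  have h2 : ∀ j ∈ Jh V, (y * y) * j = j * (y * y) := by
    intro j hj
    set w := y * j * y⁻¹ * j⁻¹ with hw
    have hwW : w ∈ Wh V := hy.cJ j hj
    have hw2 : w * w = 1 := Jh_sq L (Wh_le_Jh hwW)
    have e1 : y * j = w * j * y := by rw [hw]; group
    calc y * y * j = y * (y * j) := by group
      _ = (y * w) * j * y := by rw [e1]; group
      _ = w * (y * j) * y := by rw [hy.cW w hwW]; group
      _ = (w * w) * j * y * y := by rw [e1]; group
      _ = _ := by rw [hw2]; group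
  have hyy := hy.mul hy
  -- `y⁴` centralises `Q₂`
  have h4 : ∀ q ∈ Q2 σ x, (y * y) * (y * y) * q = q * ((y * y) * (y * y)) := by
    intro q hq
    set z := y * y with hz
    set c := z * q * z⁻¹ * q⁻¹ with hc
    have hcJ : c ∈ Jh V := hyy.cQ q hq
    have hc2 : c * c = 1 := Jh_sq L hcJ
    have e1 : z * q = c * q * z := by rw [hc]; group
    calc z * z * q = z * (z * q) := by group
      _ = (z * c) * q * z := by rw [e1]; group
      _ = c * (z * q) * z := by rw [h2 c hcJ]; group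
      _ = (c * c) * q * z * z := by rw [e1]; group
      _ = _ := by rw [hc2]; group
  have ht2 : (y * y) * (y * y) * t = t * ((y * y) * (y * y)) :=
    mul_comm_of (mul_comm_of ht ht) (mul_comm_of ht ht)
  have hW : ∀ c ∈ Ws σ x, c * c = 1 := by
    intro c hc
    rw [Ws_eq] at hc
    refine Jh_sq L (V := V) (gJ L (gl_mono (by decide) hc))
  have e8 : y ^ 8 = ((y * y) * (y * y)) * ((y * y) * (y * y)) := by
    simp only [← sq, ← pow_mul]
    norm_num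
  rw [e8]
  rcases env.c0 _ ht2 h4 with hc | hc
  · exact hW _ hc
  · have := hW _ hc
    calc y * y * (y * y) * (y * y * (y * y)) = (t * t) * (y * y * (y * y)) * (y * y * (y * y)) := by
          rw [env.tt]; group
      _ = t * (t * (y * y * (y * y))) * (y * y * (y * y)) := by group
      _ = t * ((y * y * (y * y)) * t) * (y * y * (y * y)) := by rw [ht2]
      _ = t * (y * y * (y * y)) * (t * (y * y * (y * y))) := by group
      _ = 1 := this

end D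

end Cfsg.Agent.TriTwo.Grow2
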