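import Mathlib
import Cfsg.Agent.TriTwo.Grow2D

/-!
# S1778, type `³D₄(2)`, piece [E2]: `Env` and `Lev` imply `ShortFour`
-/

set_option autoImplicit false
set_option linter.unusedSectionVars false

namespace Cfsg.Agent.TriTwo.Grow2

open Cfsg.Agent.StdRank2.Hex Cfsg.Agent.SplitTwo
open Cfsg.Agent.TriTwo
open scoped commutatorElement

section Main

variable {E : Type*} [Field E] {σ : E ≃+* E} {G : Type*} [Group G] {x : ZMod 12 → E → G} {t : G}
  {V : ZMod 12 → Subgroup G} (env : Env σ x t) (L : Lev σ x t V) [Finite G]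

include env in
theorem Q2_t {q : G} (hq : q ∈ Q2 σ x) : q * t = t * q := (t_gens env hq).symm

include env in
theorem x21_ne : x 2 1 ≠ 1 := fun e => one_ne_zero (env.hex.inj 2 1 (ok_one σ 2) e)

include env in
theorem x41_ne : x 4 1 ≠ 1 := fun e => one_ne_zero (env.hex.inj 4 1 (ok_one σ 4) e)

include env L in
theorem two_D1 : IsPGroup 2 (Dh σ x t V ⊓ Subgroup.centralizer {t} : Subgroup G) := by
  rintro ⟨y, hy, hyt⟩
  refine ⟨3, ?_⟩
  have := pow_eight env L hy (Subgroup.mem_centralizer_singleton_iff.1 hyt)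
  exact Subtype.ext (by simpa using this)

include env L in
/-- `D̂ ∩ C(t) ≤ ⟨t⟩ U` -/
theorem D1_le_T {y : G} (hy : InD σ x t V y) (ht : y * t = t * y) : y ∈ Us σ x ∨ t * y ∈ Us σ x := by
  set D1 : Subgroup G := Dh σ x t V ⊓ Subgroup.centralizer {t} with hD1
  have memD1 : ∀ z, z ∈ D1 ↔ (InD σ x t V z ∧ z * t = t * z) := fun z => by
    rw [hD1, Subgroup.mem_inf, Subgroup.mem_centralizer_singleton_iff, mem_Dh]
  have tD1 : IsPGroup 2 D1 := two_D1 env L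
  have tU : IsPGroup 2 (Us σ x) := env.pf.two
  have tt2 : IsPGroup 2 (Subgroup.zpowers t) := by
    rintro ⟨z, hz⟩
    refine ⟨1, ?_⟩
    obtain ⟨k, rfl⟩ := Subgroup.mem_zpowers_iff.1 hz
    refine Subtype.ext ?_
    show (t ^ k) ^ (2 ^ 1) = 1
    rw [pow_one, ← zpow_natCast, ← zpow_mul, mul_comm, zpow_mul]
    have : t ^ ((2 : ℕ) : ℤ) = 1 := by rw [zpow_natCast, pow_two, env.tt]
    rw [this, one_zpow]
  have n1 : Us σ x ≤ Subgroup.normalizer ((Subgroup.zpowers t : Subgroup G) : Set G) := by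
    intro u hu
    rw [Subgroup.mem_normalizer_iff]
    have hc : Commute u t := (t_gens env hu).symm
    intro z
    constructor
    · rintro ⟨k, rfl⟩
      refine ⟨k, ?_⟩
      show t ^ k = u * t ^ k * u⁻¹
      rw [(hc.zpow_right k).eq, mul_inv_cancel_right]
    · rintro ⟨k, hk⟩
      refine ⟨k, ?_⟩
      have hk' : t ^ k = u * z * u⁻¹ := hk
      show t ^ k = z
      have : z = u⁻¹ * t ^ k * u := by rw [hk']; group
      rw [this, mul_assoc, (hc.zpow_right k).symm.eq, inv_mul_cancel_left]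
  have tUt : IsPGroup 2 (Us σ x ⊔ Subgroup.zpowers t : Subgroup G) := tU.to_sup_of_normal_right' tt2 n1
  have nU : Us σ x ≤ Subgroup.normalizer (D1 : Set G) := by
    rw [Us_eq]
    refine gens_le (S := {j | j ∈ [1, 2, 3, 4, 5, 6]}) fun k hk a ha => ?_
    have key : ∀ k ∈ ([1, 2, 3, 4, 5, 6] : List (ZMod 12)), k ∈ ([1, 2, 3, 4, 5] : List (ZMod 12)) ∨ k = 6 := by
      decide
    rcases key k hk with h5 | rfl
    · refine Subgroup.le_normalizer ((memD1 _).2 ⟨V_le_Dh env L h5 (L.le k a ha), (env.tx k a ha).symm⟩)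
    · rcases even_val env (k := 6) (by decide) ha with e | e
      · rw [e]; exact one_mem _
      · rw [e]
        refine mem_norm_of_invol (xx env (ok_one σ 6)) fun j hj => ?_
        obtain ⟨j1, j2⟩ := (memD1 j).1 hj
        refine (memD1 _).2 ⟨g_Dh env L j1, ?_⟩
        exact mul_comm_of (mul_comm_of (g_t env) j2) (by
          have := g_t env
          rw [inv_mul_eq_iff_eq_mul, ← mul_assoc, this, mul_inv_cancel_right])
  have nt : Subgroup.zpowers t ≤ Subgroup.normalizer (D1 : Set G) := by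
    rw [Subgroup.zpowers_le]
    refine mem_norm_of_invol env.tt fun j hj => ?_
    obtain ⟨j1, j2⟩ := (memD1 j).1 hj
    rw [← j2, mul_inv_cancel_right]
    exact hj
  have tP : IsPGroup 2 ((Us σ x ⊔ Subgroup.zpowers t) ⊔ D1 : Subgroup G) :=
    tUt.to_sup_of_normal_right' tD1 (sup_le nU nt)
  refine env.syl _ tP (fun g hg => ?_) ?_ ?_ y ?_
  · have : (Us σ x ⊔ Subgroup.zpowers t) ⊔ D1 ≤ Subgroup.centralizer {t} := by
      refine sup_le (sup_le (fun u hu => ?_) ?_) inf_le_right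
      · rw [Subgroup.mem_centralizer_singleton_iff]; exact (t_gens env hu).symm
      · rw [Subgroup.zpowers_le, Subgroup.mem_centralizer_singleton_iff]
    exact Subgroup.mem_centralizer_singleton_iff.1 (this hg)
  · exact ((le_sup_right : Subgroup.zpowers t ≤ Us σ x ⊔ Subgroup.zpowers t).trans le_sup_left)
      (Subgroup.mem_zpowers t)
  · exact (le_sup_left : Us σ x ≤ Us σ x ⊔ Subgroup.zpowers t).trans le_sup_left
  · exact (le_sup_right : D1 ≤ _) ((memD1 y).2 ⟨hy, ht⟩)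

include env L in
/-- `D̂ ∩ C(t) = Q₂` -/
theorem D1_le {y : G} (hy : InD σ x t V y) (ht : y * t = t * y) : y ∈ Q2 σ x := by
  have hsplit : ∀ u ∈ Us σ x, ∃ z ∈ Q2 σ x, u = z ∨ u = x 6 1 * z := by
    intro u hu
    rw [Us_eq] at hu
    obtain ⟨a, ha, z, hz, rfl⟩ := split_gl env.hex (L := [1, 2, 3, 4, 5]) (k := 6) (by decide)
      (gl_mono (by decide) hu)
    refine ⟨z, by rw [Q2_eq]; exact hz, ?_⟩
    rcases even_val env (k := 6) (by decide) ha with e | e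
    · left; rw [e, one_mul]
    · right; rw [e]
  have qW : ∀ z ∈ Q2 σ x, ∀ w ∈ Wh V, z * w = w * z := fun z hz w hw => (Q2_le_Dh env L hz : InD σ x t V z).cW w hw
  rcases D1_le_T env L hy ht with hu | hu
  · obtain ⟨z, hz, e | e⟩ := hsplit y hu
    · rw [e]; exact hz
    · exfalso
      have hw : x 2 1 ∈ Wh V := V_Wh (Or.inl rfl) (L.le 2 1 (ok_one σ 2))
      have e1 := hy.cW _ hw
      rw [e, mul_assoc, qW z hz _ hw, ← mul_assoc, ← mul_assoc] at e1
      have e2 : x 6 1 * x 2 1 = x 2 1 * x 6 1 := mul_right_cancel e1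
      have e3 := env.hex.commL4 (k := 2) (by decide) (map_one σ) (map_one σ)
      have e4 : ⁅x 2 1, x (2 + 4) 1⁆ = 1 := commutatorElement_eq_one_iff_mul_comm.2 e2.symm
      rw [e4] at e3
      have e5 : x 4 1 = 1 := by
        have : x (2 + 2) (1 * 1) = x 4 1 := by rw [mul_one]; rfl
        rw [← this]
        exact e3.symm
      exact x41_ne env e5
  · exfalso
    obtain ⟨v, hv, ev⟩ := L.onto 2 1 (ok_one σ 2)
    have hw : v ∈ Wh V := V_Wh (Or.inl rfl) hv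
    have e0 : t * v * t⁻¹ = x 2 1 * v := by rw [← ev, commutatorElement_def]; group
    have e1 : (t * y) * v * (t * y)⁻¹ = x 2 1 * v := by
      have := hy.cW v hw
      calc (t * y) * v * (t * y)⁻¹ = t * (y * v) * y⁻¹ * t⁻¹ := by group
        _ = t * (v * y) * y⁻¹ * t⁻¹ := by rw [this]
        _ = t * v * t⁻¹ := by group
        _ = _ := e0
    obtain ⟨z, hz, e | e⟩ := hsplit _ hu
    · rw [e, qW z hz v hw, mul_inv_cancel_right] at e1
      have : x 2 1 = 1 := by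
        have e2 := e1.symm
        rwa [mul_eq_right] at e2
      exact x21_ne env this
    · have e2 : (x 6 1 * z) * v * (x 6 1 * z)⁻¹ = x 6 1 * v * (x 6 1)⁻¹ := by
        calc (x 6 1 * z) * v * (x 6 1 * z)⁻¹ = x 6 1 * (z * v) * z⁻¹ * (x 6 1)⁻¹ := by group
          _ = x 6 1 * (v * z) * z⁻¹ * (x 6 1)⁻¹ := by rw [qW z hz v hw]
          _ = _ := by group
      rw [e, e2] at e1
      have e3 : x 6 1 * v * (x 6 1)⁻¹ * v⁻¹ = x 2 1 := by rw [e1, mul_inv_cancel_right]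
      have h4 := g_V env L (Or.inl rfl) hv
      rw [e3] at h4
      obtain ⟨b, hb, e5⟩ := L.fix 4 _ h4 (env.tx 2 1 (ok_one σ 2)).symm
      have : x 2 1 = 1 := by
        refine disj_of_opps env.hex (L := [2]) (M := [4, 3]) (by decide) (mem_gl (by decide) (ok_one σ 2)) ?_
        rw [e5]
        exact mem_gl (by decide) hb
      exact x21_ne env this

include env L in
/-- the kernel of `y ↦ ⁅y, t⁆` modulo `Ĵ` -/
theorem ker {y : G} (hy : InD σ x t V y) (hj : y * t * y⁻¹ * t⁻¹ ∈ Jh V) : ∃ o ∈ QJ σ x V, o⁻¹ * y ∈ Jh V := by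
  set j := y * t * y⁻¹ * t⁻¹ with hjd
  have e1 : j * t = y * t * y⁻¹ := by rw [hjd]; group
  have e2 : (j * t) * (j * t) = 1 := by
    rw [e1]
    calc y * t * y⁻¹ * (y * t * y⁻¹) = y * (t * t) * y⁻¹ := by group
      _ = 1 := by rw [env.tt]; group
  have e3 : j * t = t * j := by
    have h1 : (j * t)⁻¹ = j * t := inv_eq_of_mul_eq_one_left e2
    rw [mul_inv_rev, Jh_inv L hj, tinv env] at h1
    exact h1.symm
  obtain ⟨-, v, hv, ev⟩ := J_fix env L hj e3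
  have vi := Jh_inv L hv
  have ji := Jh_inv L hj
  -- `v t v⁻¹ = j t`
  have e4 : v * t * v⁻¹ = j * t := by
    have h1 : (t * v * t⁻¹ * v⁻¹)⁻¹ = j⁻¹ := by rw [ev]
    rw [ji] at h1
    have h2 : v * t * v⁻¹ * t⁻¹ = j := by rw [← h1]; group
    rw [← h2]; group
  have e5 : v⁻¹ * y * t = t * (v⁻¹ * y) := by
    calc v⁻¹ * y * t = v⁻¹ * (y * t * y⁻¹) * y := by group
      _ = v⁻¹ * (v * t * v⁻¹) * y := by rw [← e1, ← e4]
      _ = _ := by group
  have hvD : v ∈ Dh σ x t V := Jh_le_Dh L hv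
  have h6 : InD σ x t V (v⁻¹ * y) := mul_mem (inv_mem hvD) (mem_Dh.2 hy)
  have h7 := D1_le env L h6 e5
  refine ⟨v * (v⁻¹ * y), mul_mem ((le_sup_right : Jh V ≤ _) hv) ((le_sup_left : Q2 σ x ≤ _) h7), ?_⟩
  have : (v * (v⁻¹ * y))⁻¹ * y = 1 := by group
  rw [this]
  exact one_mem _

include env L in
/-- elements of `Q₂Ĵ` -/
theorem QJ_form {o : G} (ho : o ∈ QJ σ x V) : ∃ a c : E, ∃ j ∈ Jh V, o = x 1 a * x 5 c * j := by
  obtain ⟨q, hq, j, hj, rfl⟩ := mem_sup_norm (fun q hq j hj => norm_conj (Q2_norm L hq) hj) ho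
  rw [Q2_eq] at hq
  obtain ⟨a, -, z, hz, rfl⟩ := split_gl env.hex (L := [5, 2, 3, 4]) (k := 1) (by decide) (gl_mono (by decide) hq)
  obtain ⟨c, -, w, hw, rfl⟩ := split_gl env.hex (L := [2, 3, 4]) (k := 5) (by decide) hz
  exact ⟨a, c, w * j, mul_mem (gJ L hw) hj, by group⟩

include env L in
/-- `x₁(a) x₅(c) ∈ Ĵ` forces `c = 0` -/
theorem QJ_five {a c : E} (h : x 1 a * x 5 c ∈ Jh V) : x 5 c = 1 := by
  have o1 : Ok σ (1 : ZMod 12) a := ok_odd (by decide) a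
  have o5 : Ok σ (5 : ZMod 12) c := ok_odd (by decide) c
  have ht : (x 1 a * x 5 c) * t = t * (x 1 a * x 5 c) := mul_comm_of (env.tx 1 a o1).symm (env.tx 5 c o5).symm
  obtain ⟨h1, -⟩ := J_fix env L h ht
  refine disj_of_opps env.hex (L := [5]) (M := [1, 2, 3, 4]) (by decide) (mem_gl (by decide) o5) ?_
  have e : x 5 c = (x 1 a)⁻¹ * (x 1 a * x 5 c) := by group
  rw [e]
  exact mul_mem (inv_mem (mem_gl (by decide) o1)) (gl_mono (by decide) h1)

include env L in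
theorem comm_g1 (b : E) : ∃ j ∈ Jh V, x 6 1 * x 1 b * (x 6 1)⁻¹ * (x 1 b)⁻¹ = x 5 b * j := by
  have e1 := env.hex.commS5 (k := 1) (by decide) b (t := 1) (map_one σ)
  have e2 : x 6 1 * x 1 b * (x 6 1)⁻¹ * (x 1 b)⁻¹ = ⁅x 1 b, x (1 + 5) 1⁆⁻¹ := by
    rw [commutatorElement_inv, commutatorElement_def]
    rfl
  rw [e2, e1]
  have n1 : σ (nrm σ b) = nrm σ b := nrm_fix env.hex.cube b
  have j2 : x (1 + 1) (1 * nrm σ b) ∈ Jh V :=
    xJ (Or.inl rfl) (ok_of_fix _ (by rw [one_mul]; exact n1)) L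
  have j3 : x (1 + 2) (1 * shp σ b) ∈ Jh V := xJ (Or.inr (Or.inl rfl)) (ok_odd (by decide) _) L
  have j4 : x (1 + 3) (1 ^ 2 * nrm σ b) ∈ Jh V :=
    xJ (Or.inr (Or.inr rfl)) (ok_of_fix _ (by rw [one_pow, one_mul]; exact n1)) L
  have e5 : x (1 + 4) (1 * b) = x 5 b := by rw [one_mul]; rfl
  rw [e5]
  refine ⟨(x (1 + 1) (1 * nrm σ b) * x (1 + 2) (1 * shp σ b) * x (1 + 3) (1 ^ 2 * nrm σ b))⁻¹,
    inv_mem (mul_mem (mul_mem j2 j3) j4), ?_⟩
  rw [mul_inv_rev, xinv env (k := 5) (ok_odd (by decide) b)]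

include env L in
/-- `⁅V₁, V₅⁆ ≤ U₅Ĵ` -/
theorem comm_five {v w : G} (hv : v ∈ V 1) (hw : w ∈ V 5) : ∃ c : E, ∃ j ∈ Jh V, ⁅v, w⁆ = x 5 c * j := by
  have o1 : ∀ a : E, Ok σ (1 : ZMod 12) a := fun a => ok_odd (by decide) a
  have o5 : ∀ a : E, Ok σ (5 : ZMod 12) a := fun a => ok_odd (by decide) a
  have Q1' : ∀ a : E, x 1 a ∈ Q2 σ x := fun a => by rw [Q2_eq]; exact mem_gl (by decide) (o1 a)
  have Q5' : ∀ a : E, x 5 a ∈ Q2 σ x := fun a => by rw [Q2_eq]; exact mem_gl (by decide) (o5 a)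
  have tN := t_norm env L
  have gN : x 6 1 ∈ Subgroup.normalizer (Jh V : Set G) :=
    mem_norm_of_invol (xx env (ok_one σ 6)) fun _ hj => g_Jh env L hj
  obtain ⟨u, ⟨c, -, rfl⟩, hj⟩ := comm_mem_mod (t := t) (g := x 6 1) (D := Dh σ x t V) (Om := QJ σ x V) (V1 := V 1)
    (V5 := V 5) (U1 := rt env.hex 1) (U5 := rt env.hex 5) (J := Jh V) (Jh_le_Dh L) (QJ_le_Dh env L)
    (fun y hy o ho => by
      have h1 := InD.cQJ env L hy ho
      have h2 : (y * o)⁻¹ * (o * y) = (y * o)⁻¹ * (y * o * y⁻¹ * o⁻¹)⁻¹ * (y * o) := by group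
      rw [h2]
      have nyo : y * o ∈ Dh σ x t V := mul_mem hy (QJ_le_Dh env L ho)
      have := InD.nJ (inv_mem nyo : (y * o)⁻¹ ∈ Dh σ x t V) (inv_mem h1)
      rwa [inv_inv] at this)
    (fun y hy j hj => InD.nJ hy hj)
    (fun j hj => norm_conj tN hj) (fun j hj => norm_conj' tN hj)
    (fun j hj => norm_conj gN hj) (fun j hj => norm_conj' gN hj)
    (fun y hy => InD.ct hy)
    (fun y hy h => by
      refine ker env L hy ?_
      -- `(y t)⁻¹ (t y) ∈ J`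
      have h2 : y * t * y⁻¹ * t⁻¹ = (t * y) * ((y * t)⁻¹ * (t * y))⁻¹ * (t * y)⁻¹ := by group
      rw [h2]
      have h3 := norm_conj tN (InD.nJ hy (inv_mem h))
      have h4 : t * y * ((y * t)⁻¹ * (t * y))⁻¹ * (t * y)⁻¹ = t * (y * ((y * t)⁻¹ * (t * y))⁻¹ * y⁻¹) * t⁻¹ := by group
      rw [h4]
      exact h3)
    (V_le_Dh env L (by decide)) (V_le_Dh env L (by decide))
    (by rintro _ ⟨a, -, rfl⟩; exact (le_sup_left : Q2 σ x ≤ _) (Q1' a))
    (by rintro _ ⟨a, -, rfl⟩; exact (le_sup_left : Q2 σ x ≤ _) (Q5' a))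
    (by
      rintro _ ⟨a, ha, rfl⟩
      obtain ⟨v, hv, e⟩ := L.onto 5 a ha
      refine ⟨v, hv, ?_⟩
      rw [← xinv env ha, ← e, commutatorElement_def]
      group)
    (by
      intro v hv
      obtain ⟨b, hb, e⟩ := L.br 1 v hv
      refine ⟨b, hb, ?_⟩
      rw [← xinv env hb, ← e, commutatorElement_def]
      group)
    (fun v hv v' hv' => V_comm L hv hv') (g_t env) (fun y hy => g_Dh env L hy)
    (fun v hv => (L.c1 5 v hv _ (L.le 6 1 (ok_one σ 6))).symm)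
    (by
      rintro _ ⟨a, -, rfl⟩
      obtain ⟨j, hj, e⟩ := comm_g1 env L a
      refine ⟨x 5 a, ⟨a, o5 a, rfl⟩, ?_⟩
      rw [e, mul_inv_rev, inv_mul_cancel_right]
      exact inv_mem hj)
    (by
      intro o ho h
      obtain ⟨a, c, j, hj, rfl⟩ := QJ_form env L ho
      obtain ⟨j', hj', e⟩ := comm_g1 env L a
      -- the commutator of `g` and `x₁(a) x₅(c) j`
      have gc : x 6 1 * x 5 c = x 5 c * x 6 1 := cm env.hex (by decide) (ok_one σ 6) (o5 c)
      set g := x 6 1 with hg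
      set p := x 1 a with hp
      set q := x 5 c with hq
      have hpN : p ∈ Subgroup.normalizer (Jh V : Set G) := Q2_norm L (Q1' a)
      have hqN : q ∈ Subgroup.normalizer (Jh V : Set G) := Q2_norm L (Q5' c)
      have hjN : j ∈ Subgroup.normalizer (Jh V : Set G) := Subgroup.le_normalizer hj
      have h1 : g * (p * q * j) * g⁻¹ * (p * q * j)⁻¹ ∈ Jh V := by
        have hN : g * (p * q * j) ∈ Subgroup.normalizer (Jh V : Set G) := mul_mem gN (mul_mem (mul_mem hpN hqN) hjN)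
        have h2 := norm_conj hN (inv_mem h)
        have h3 : g * (p * q * j) * ((g * (p * q * j))⁻¹ * (p * q * j * g))⁻¹ * (g * (p * q * j))⁻¹ =
            g * (p * q * j) * g⁻¹ * (p * q * j)⁻¹ := by group
        rwa [h3] at h2
      have h4 : g * (p * q * j) * g⁻¹ * (p * q * j)⁻¹ =
          (g * p * g⁻¹ * p⁻¹) * ((p * q) * ((g * j * g⁻¹) * j⁻¹) * (p * q)⁻¹) := by
        have : g * q * g⁻¹ = q := by rw [gc, mul_inv_cancel_right]
        calc g * (p * q * j) * g⁻¹ * (p * q * j)⁻¹ = (g * p * g⁻¹ * p⁻¹) * p * (g * q * g⁻¹) * (g * j * g⁻¹) * (p * q * j)⁻¹ := by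
              group
          _ = (g * p * g⁻¹ * p⁻¹) * p * q * (g * j * g⁻¹) * (p * q * j)⁻¹ := by rw [this]
          _ = _ := by group
      have h5 : (p * q) * ((g * j * g⁻¹) * j⁻¹) * (p * q)⁻¹ ∈ Jh V :=
        norm_conj (mul_mem hpN hqN) (mul_mem (norm_conj gN hj) (inv_mem hj))
      rw [h4] at h1
      have h6 : g * p * g⁻¹ * p⁻¹ ∈ Jh V := (Subgroup.mul_mem_cancel_right _ h5).1 h1
      rw [e] at h6
      have h7 : x 5 a ∈ Jh V := (Subgroup.mul_mem_cancel_right _ hj').1 h6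
      have h8 : x 5 a = 1 := QJ_five env L (a := 0) (by rw [env.hex.x_zero, one_mul]; exact h7)
      have h9 : a = 0 := env.hex.inj 5 a (o5 a) h8
      have h10 : p = 1 := by rw [hp, h9, env.hex.x_zero]
      refine ⟨q, ⟨c, o5 c, rfl⟩, ?_⟩
      rw [h10]
      have : (1 * q * j)⁻¹ * q = j⁻¹ := by group
      rw [this]
      exact inv_mem hj)
    hv hw
  refine ⟨c, (⁅v, w⁆⁻¹ * x 5 c)⁻¹, inv_mem hj, ?_⟩
  rw [mul_inv_rev, inv_inv, mul_inv_cancel_left]

omit env in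
include L in
theorem nn6_Jh {y : G} (hy : y ∈ Jh V) : nn x 6 * y * (nn x 6)⁻¹ ∈ Jh V := by
  refine Jh_conj_of (fun r hr y hy => ?_) hy
  have := L.nV 6 r y hy
  refine V_Jh (r := 2 * 6 + 6 - r) ?_ this
  rcases hr with rfl | rfl | rfl
  · right; right; rfl
  · right; left; rfl
  · left; rfl

include env in
theorem nn_inv (k : ZMod 12) : (nn x k)⁻¹ = nn x k := by
  have h1 := xinv env (ok_one σ k)
  have h2 := xinv env (ok_one σ (k + 6))
  unfold nn
  rw [mul_inv_rev, mul_inv_rev, h1, h2, mul_assoc]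

include env L in
/-- `⁅V₁, V₅⁆ ≤ Ĵ` -/
theorem comm_J {v w : G} (hv : v ∈ V 1) (hw : w ∈ V 5) : ⁅v, w⁆ ∈ Jh V := by
  obtain ⟨c, j, hj, e⟩ := comm_five env L hv hw
  have hv' : nn x 6 * v * (nn x 6)⁻¹ ∈ V 5 := L.nV 6 1 v hv
  have hw' : nn x 6 * w * (nn x 6)⁻¹ ∈ V 1 := L.nV 6 5 w hw
  obtain ⟨c', j', hj', e'⟩ := comm_five env L hw' hv'
  have ni := nn_inv env (k := 6)
  -- pull back
  have e1 : nn x 6 * ⁅w, v⁆ * (nn x 6)⁻¹ = x 5 c' * j' := by
    rw [← e', commutatorElement_def, commutatorElement_def]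
    group
  have e2 : ⁅w, v⁆ = (nn x 6 * x 5 c' * (nn x 6)⁻¹) * (nn x 6 * j' * (nn x 6)⁻¹) := by
    calc ⁅w, v⁆ = (nn x 6)⁻¹ * (nn x 6 * ⁅w, v⁆ * (nn x 6)⁻¹) * nn x 6 := by group
      _ = (nn x 6)⁻¹ * (x 5 c' * j') * nn x 6 := by rw [e1]
      _ = nn x 6 * (x 5 c' * j') * (nn x 6)⁻¹ := by rw [ni]
      _ = _ := by group
  rw [env.hex.refl 6 5 (ok_odd (by decide) _)] at e2
  have e3 : (2 * 6 + 6 - 5 : ZMod 12) = 1 := by decide
  rw [e3] at e2
  have hj2 : nn x 6 * j' * (nn x 6)⁻¹ ∈ Jh V := nn6_Jh L hj'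
  set k := nn x 6 * j' * (nn x 6)⁻¹ with hk
  -- `x₅(c) j = (x₁(c') k)⁻¹`
  have e4 : x 1 c' * k * (x 5 c * j) = 1 := by
    rw [← e, ← e2, ← commutatorElement_inv, inv_mul_cancel]
  have o1 : Ok σ (1 : ZMod 12) c' := ok_odd (by decide) c'
  have o5 : Ok σ (5 : ZMod 12) c := ok_odd (by decide) c
  have hq : x 5 c ∈ Q2 σ x := by rw [Q2_eq]; exact mem_gl (by decide) o5
  have e5 : x 1 c' * x 5 c = ((x 5 c)⁻¹ * k * x 5 c * j)⁻¹ := by
    have e6 : x 1 c' * x 5 c * ((x 5 c)⁻¹ * k * x 5 c * j) = 1 := by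
      rw [← e4]; group
    exact eq_inv_of_mul_eq_one_left e6
  have h6 : x 1 c' * x 5 c ∈ Jh V := by
    rw [e5]
    exact inv_mem (mul_mem (norm_conj' (Q2_norm L hq) hj2) hj)
  rw [e, QJ_five env L h6, one_mul]
  exact hj

include env L in
/-- **[E2]** -/
theorem shortFour : ShortFour V := by
  intro r hr y hy y' hy'
  obtain ⟨k, rfl⟩ : ∃ k : ZMod 12, r = 2 * k + 1 := by
    revert hr; clear hy hy'; revert r; decide
  have a1 : (2 * k + 6 - (2 * k + 1) : ZMod 12) = 5 := by ring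
  have a2 : (2 * k + 6 - (2 * k + 1 + 4) : ZMod 12) = 1 := by ring
  have h1 := L.nV k _ y hy
  have h2 := L.nV k _ y' hy'
  rw [a1] at h1
  rw [a2] at h2
  have h3 := inv_mem (comm_J env L h2 h1)
  rw [commutatorElement_inv] at h3
  have ni := nn_inv env (k := k)
  have e1 : ⁅y, y'⁆ = nn x k * ⁅nn x k * y * (nn x k)⁻¹, nn x k * y' * (nn x k)⁻¹⁆ * (nn x k)⁻¹ := by
    have : ⁅nn x k * y * (nn x k)⁻¹, nn x k * y' * (nn x k)⁻¹⁆ = nn x k * ⁅y, y'⁆ * (nn x k)⁻¹ := by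
      rw [commutatorElement_def, commutatorElement_def]; group
    rw [this]
    have nk : nn x k * nn x k = 1 := by
      rw [← ni]
      nth_rewrite 2 [ni]
      rw [inv_mul_cancel]
    calc ⁅y, y'⁆ = (nn x k * nn x k) * ⁅y, y'⁆ * (nn x k * nn x k) := by rw [nk]; group
      _ = nn x k * (nn x k * ⁅y, y'⁆ * nn x k) * nn x k := by group
      _ = _ := by rw [ni]
  rw [e1]
  refine Jh_conj_of (fun s hs z hz => ?_) h3
  have h4 := L.nV k s z hz
  rcases hs with rfl | rfl | rfl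
  · have : (2 * k + 6 - 2 : ZMod 12) = 2 * k + 1 + 3 := by ring
    rw [this] at h4
    exact (le_sup_right : V (2 * k + 1 + 3) ≤ _) h4
  · have : (2 * k + 6 - 3 : ZMod 12) = 2 * k + 1 + 2 := by ring
    rw [this] at h4
    exact ((le_sup_right : V (2 * k + 1 + 2) ≤ V (2 * k + 1 + 1) ⊔ V (2 * k + 1 + 2)).trans le_sup_left) h4
  · have : (2 * k + 6 - 4 : ZMod 12) = 2 * k + 1 + 1 := by ring
    rw [this] at h4
    exact ((le_sup_left : V (2 * k + 1 + 1) ≤ V (2 * k + 1 + 1) ⊔ V (2 * k + 1 + 2)).trans le_sup_left) h4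

end Main

end Cfsg.Agent.TriTwo.Grow2
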