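import Cfsg.Agent.TriTwo.KappaA

/-!
# S1778, type `³D₄(2)`, piece [C2]: the constant `κ` is zero

`seed_of` : in the environment, every `a` with `a² = 1`, `[a, P₁] = 1`, `t^a = t z₄` gives `Seed σ x t a`.
-/

set_option autoImplicit false
set_option linter.style.haveILetI false
set_option linter.unusedSectionVars false

namespace Cfsg.Agent.TriTwo.Kappa

open Cfsg.Agent.StdRank2.Hex Cfsg.Agent.SplitTwo
open Cfsg.Agent.TriTwo
open scoped commutatorElement

section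

variable {E : Type*} [Field E] {σ : E ≃+* E} {G : Type*} [Group G] {x : ZMod 12 → E → G} {t : G}
  (e : Env σ x t)

include e

theorem okk (k : ZMod 12) : Ok σ k (1 : E) := ok_one σ k

theorem tP {p : G} (hp : p ∈ P1 σ x) : t * p = p * t := gens_comm (fun k _ a ha => e.tx k a ha) hp

theorem tnn (k : ZMod 12) : t * nn x k = nn x k * t := by
  have h1 := e.tx k 1 (ok_one σ _)
  have h2 := e.tx (k + 6) 1 (ok_one σ _)
  unfold nn
  calc t * (x k 1 * x (k + 6) 1 * x k 1) = (t * x k 1) * x (k + 6) 1 * x k 1 := by group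
    _ = x k 1 * (t * x (k + 6) 1) * x k 1 := by rw [h1]; group
    _ = x k 1 * x (k + 6) 1 * (t * x k 1) := by rw [h2]; group
    _ = x k 1 * x (k + 6) 1 * x k 1 * t := by rw [h1]; group

theorem sq1 (k : ZMod 12) : x k 1 * x k 1 = 1 := e.hex.x_sq (ok_one σ _)

theorem inv1 (k : ZMod 12) : (x k 1)⁻¹ = x k 1 := e.hex.x_inv (ok_one σ _)

/-- `[z₂, z₆] = z₄` -/
theorem c26 : x 6 1 * x 2 1 = x 2 1 * x 6 1 * x 4 1 := by
  have h := e.hex.commL4 (k := 2) (by decide) (map_one σ) (map_one σ)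
  rw [show (2 : ZMod 12) + 4 = 6 from rfl, show (2 : ZMod 12) + 2 = 4 from rfl, mul_one, commutatorElement_def,
    inv1 e, inv1 e] at h
  have h4 : x 4 1 * x 6 1 = x 6 1 * x 4 1 := cm e.hex (by decide) (ok_one σ _) (ok_one σ _)
  have h42 : x 4 1 * x 2 1 = x 2 1 * x 4 1 := cm e.hex (by decide) (ok_one σ _) (ok_one σ _)
  have h2 := sq1 e 2
  have h6 := sq1 e 6
  -- `z₂ z₆ z₂ z₆ = z₄`, so `z₆ z₂ = z₂ z₄ z₆`
  calc x 6 1 * x 2 1 = x 2 1 * (x 2 1 * x 6 1 * x 2 1 * x 6 1) * x 6 1 := by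
        calc x 6 1 * x 2 1 = 1 * (x 6 1 * x 2 1) * 1 := by group
          _ = (x 2 1 * x 2 1) * (x 6 1 * x 2 1) * (x 6 1 * x 6 1) := by rw [h2, h6]
          _ = _ := by group
    _ = x 2 1 * (x 4 1 * x 6 1) := by rw [h]; group
    _ = _ := by rw [h4]; group

theorem z62 : x 6 1 * x 2 1 * x 6 1 = x 2 1 * x 4 1 := by
  have h4 : x 4 1 * x 6 1 = x 6 1 * x 4 1 := cm e.hex (by decide) (ok_one σ _) (ok_one σ _)
  have h6 := sq1 e 6
  calc x 6 1 * x 2 1 * x 6 1 = x 2 1 * x 6 1 * (x 4 1 * x 6 1) := by rw [c26 e]; group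
    _ = x 2 1 * (x 6 1 * x 6 1) * x 4 1 := by rw [h4]; group
    _ = _ := by rw [h6, mul_one]

theorem Ws_form {w : G} (hw : w ∈ Ws σ x) : ∃ u v : E, σ u = u ∧ σ v = v ∧ w = x 2 u * x 4 v := by
  rw [Ws_eq] at hw
  obtain ⟨u, hu, w1, hw1, rfl⟩ := split_gl e.hex (k := 2) (L := [4]) (by decide) hw
  obtain ⟨v, hv, w2, hw2, rfl⟩ := split_gl e.hex (k := 4) (L := []) (by decide) hw1
  rw [gl_nil e.hex hw2, mul_one]
  exact ⟨u, v, hu (by decide), hv (by decide), rfl⟩

variable {a : G} (aa : a * a = 1) (aP : ∀ p ∈ P1 σ x, a * p = p * a) (at' : a * t * a⁻¹ = t * x 4 1)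

include aa aP at'

theorem a_inv : a⁻¹ = a := inv_eq_of_mul_eq_one_left aa

theorem t_inv : t⁻¹ = t := inv_eq_of_mul_eq_one_left e.tt

theorem a_x {k : ZMod 12} (hk : (k - 1).val < 7) {b : E} (hb : Ok σ k b) : a * x k b = x k b * a :=
  aP _ (PF.x_mem_P1 hk hb)

theorem tat : t * a * t = x 4 1 * a := by
  have h1 : a * t = t * x 4 1 * a := by rw [← at']; group
  calc t * a * t = t * (a * t) := by group
    _ = (t * t) * x 4 1 * a := by rw [h1]; group
    _ = _ := by rw [e.tt, one_mul]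

/-! ### `a₂` -/

theorem A_inv : (a2 x a)⁻¹ = a2 x a := by
  refine inv_eq_of_mul_eq_one_left ?_
  unfold a2
  calc nn x 6 * a * (nn x 6)⁻¹ * (nn x 6 * a * (nn x 6)⁻¹) = nn x 6 * (a * a) * (nn x 6)⁻¹ := by group
    _ = 1 := by rw [aa]; group

theorem A_x {k : ZMod 12} (hk : (6 - k - 1).val < 7) {b : E} (hb : Ok σ k b) : a2 x a * x k b = x k b * a2 x a := by
  have hb' : Ok σ (6 - k) b := hb.congr (val_6_sub k)
  have h1 := a_x e aa aP at' hk hb'
  have h2 : x k b = nn x 6 * x (6 - k) b * (nn x 6)⁻¹ := by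
    rw [e.hex.refl6 _ _ hb', sub_sub_cancel]
  rw [h2]
  unfold a2
  calc nn x 6 * a * (nn x 6)⁻¹ * (nn x 6 * x (6 - k) b * (nn x 6)⁻¹) = nn x 6 * (a * x (6 - k) b) * (nn x 6)⁻¹ := by
        group
    _ = nn x 6 * (x (6 - k) b * a) * (nn x 6)⁻¹ := by rw [h1]
    _ = _ := by group

theorem A_t : a2 x a * t * (a2 x a)⁻¹ = t * x 2 1 := by
  have h1 := tnn e 6
  have h2 : (nn x 6)⁻¹ * t * nn x 6 = t := by rw [mul_assoc, h1, inv_mul_cancel_left]
  have h3 : nn x 6 * x 4 1 * (nn x 6)⁻¹ = x 2 1 := by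
    rw [e.hex.refl6 _ _ (ok_one σ _)]; congr 1
  have h4 : nn x 6 * t * (nn x 6)⁻¹ = t := by rw [← h1, mul_inv_cancel_right]
  unfold a2
  calc nn x 6 * a * (nn x 6)⁻¹ * t * (nn x 6 * a * (nn x 6)⁻¹)⁻¹ =
      nn x 6 * (a * ((nn x 6)⁻¹ * t * nn x 6) * a⁻¹) * (nn x 6)⁻¹ := by group
    _ = (nn x 6 * t * (nn x 6)⁻¹) * (nn x 6 * x 4 1 * (nn x 6)⁻¹) := by rw [h2, at']; group
    _ = _ := by rw [h3, h4]

theorem tAt : t * a2 x a * t = x 2 1 * a2 x a := by
  have h1 : a2 x a * t = t * x 2 1 * a2 x a := by rw [← A_t e aa aP at']; group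
  calc t * a2 x a * t = t * (a2 x a * t) := by group
    _ = (t * t) * x 2 1 * a2 x a := by rw [h1]; group
    _ = _ := by rw [e.tt, one_mul]

/-! ### The element `c = a₂ a₄ a₂₄` -/

/-- `a₂₄` -/
def a24 (x : ZMod 12 → E → G) (a : G) : G := x 6 1 * a2 x a * x 6 1

theorem C_inv : (a24 x a)⁻¹ = a24 x a := by
  unfold a24
  rw [mul_inv_rev, mul_inv_rev, inv1 e, A_inv e aa aP at', mul_assoc]

theorem C_x {k : ZMod 12} (hk : (k - 1).val < 5) {b : E} (hb : Ok σ k b) : a24 x a * x k b = x k b * a24 x a := by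
  -- `x 6 1` normalises `Q₂`, centralised by `a₂`
  have hAQ : ∀ q ∈ Q2 σ x, a2 x a * q = q * a2 x a := fun q hq => by
    rw [Q2_eq] at hq
    refine gl_comm e.hex (fun j hj b hb => A_x e aa aP at' ?_ hb) hq
    have : ∀ j : ZMod 12, j ∈ ([1, 2, 3, 4, 5] : List (ZMod 12)) → (6 - j - 1).val < 7 := by decide
    exact this j hj
  have hx : x k b ∈ Q2 σ x := by
    rw [PF.Q2_eq]; exact x_mem_gen hk hb
  have hq : x 6 1 * x k b * x 6 1 ∈ Q2 σ x := by
    have := PF.Us_conj_Q2 e.hex (PF.x_mem_Us (k := 6) (by decide) (ok_one σ _)) hx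
    rwa [inv1 e] at this
  have h1 := hAQ _ hq
  have h6 := sq1 e 6
  unfold a24
  calc x 6 1 * a2 x a * x 6 1 * x k b = x 6 1 * a2 x a * x 6 1 * x k b * 1 := by group
    _ = x 6 1 * a2 x a * x 6 1 * x k b * (x 6 1 * x 6 1) := by rw [h6]
    _ = x 6 1 * (a2 x a * (x 6 1 * x k b * x 6 1)) * x 6 1 := by group
    _ = (x 6 1 * x 6 1) * x k b * x 6 1 * a2 x a * x 6 1 := by rw [h1]; group
    _ = _ := by rw [h6]; group

theorem C_t : a24 x a * t * (a24 x a)⁻¹ = t * x 2 1 * x 4 1 := by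
  have h1 := e.tx 6 1 (ok_one σ _)
  have h6 := sq1 e 6
  rw [C_inv e aa aP at']
  have h2 := A_t e aa aP at'
  rw [A_inv e aa aP at'] at h2
  unfold a24
  calc x 6 1 * a2 x a * x 6 1 * t * (x 6 1 * a2 x a * x 6 1) =
      x 6 1 * a2 x a * x 6 1 * (t * x 6 1) * a2 x a * x 6 1 := by group
    _ = x 6 1 * a2 x a * (x 6 1 * x 6 1) * t * a2 x a * x 6 1 := by rw [h1]; group
    _ = x 6 1 * (a2 x a * t * a2 x a) * x 6 1 := by rw [h6]; group
    _ = (x 6 1 * t) * x 2 1 * x 6 1 := by rw [h2]; group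
    _ = t * (x 6 1 * x 2 1 * x 6 1) := by rw [← h1]; group
    _ = _ := by rw [z62 e]; group

/-- `c` centralises `Q₂` -/
theorem c_Q2 {q : G} (hq : q ∈ Q2 σ x) : a2 x a * a * a24 x a * q = q * (a2 x a * a * a24 x a) := by
  rw [Q2_eq] at hq
  refine gl_comm e.hex (fun j hj b hb => ?_) hq
  have j1 : (6 - j - 1).val < 7 := by
    have : ∀ j : ZMod 12, j ∈ ([1, 2, 3, 4, 5] : List (ZMod 12)) → (6 - j - 1).val < 7 := by decide
    exact this j hj
  have j2 : (j - 1).val < 7 := by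
    have : ∀ j : ZMod 12, j ∈ ([1, 2, 3, 4, 5] : List (ZMod 12)) → (j - 1).val < 7 := by decide
    exact this j hj
  have j3 : (j - 1).val < 5 := by
    have : ∀ j : ZMod 12, j ∈ ([1, 2, 3, 4, 5] : List (ZMod 12)) → (j - 1).val < 5 := by decide
    exact this j hj
  have h1 := A_x e aa aP at' j1 hb
  have h2 := a_x e aa aP at' j2 hb
  have h3 := C_x e aa aP at' j3 hb
  rw [mul_assoc, h3, ← mul_assoc, mul_assoc (a2 x a), h2, ← mul_assoc, h1, mul_assoc, mul_assoc, mul_assoc]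

theorem c_t : a2 x a * a * a24 x a * t = t * (a2 x a * a * a24 x a) := by
  have h1 : a24 x a * t = t * x 2 1 * x 4 1 * a24 x a := by rw [← C_t e aa aP at']; group
  have h2 : a * t = t * x 4 1 * a := by rw [← at']; group
  have h3 : a2 x a * t = t * x 2 1 * a2 x a := by rw [← A_t e aa aP at']; group
  have a2' := a_x e aa aP at' (k := 2) (by decide) (ok_one σ _)
  have a4' := a_x e aa aP at' (k := 4) (by decide) (ok_one σ _)
  have A2' := A_x e aa aP at' (k := 2) (by decide) (ok_one σ _)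
  have A4' := A_x e aa aP at' (k := 4) (by decide) (ok_one σ _)
  have h42 : x 4 1 * x 2 1 = x 2 1 * x 4 1 := cm e.hex (by decide) (ok_one σ _) (ok_one σ _)
  have s2 := sq1 e 2
  have s4 := sq1 e 4
  calc a2 x a * a * a24 x a * t = a2 x a * a * (a24 x a * t) := by group
    _ = a2 x a * (a * t) * x 2 1 * x 4 1 * a24 x a := by rw [h1]; group
    _ = a2 x a * t * x 4 1 * (a * x 2 1) * x 4 1 * a24 x a := by rw [h2]; group
    _ = a2 x a * t * x 4 1 * x 2 1 * (a * x 4 1) * a24 x a := by rw [a2']; group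
    _ = a2 x a * t * x 4 1 * x 2 1 * x 4 1 * a * a24 x a := by rw [a4']; group
    _ = (a2 x a * t) * (x 4 1 * x 2 1) * x 4 1 * a * a24 x a := by group
    _ = (a2 x a * t) * x 2 1 * (x 4 1 * x 4 1) * a * a24 x a := by rw [h42]; group
    _ = t * x 2 1 * (a2 x a * x 2 1) * a * a24 x a := by rw [s4, h3]; group
    _ = t * (x 2 1 * x 2 1) * a2 x a * a * a24 x a := by rw [A2']; group
    _ = _ := by rw [s2]; group

/-- `κ = 0`: then `a` and `a₂` commute. -/
theorem case_zero (hc : a2 x a * a * a24 x a ∈ Ws σ x) : a * a2 x a = a2 x a * a := by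
  obtain ⟨u, v, hu, hv, hw⟩ := Ws_form e hc
  set C := a24 x a with hC
  have C1 := C_inv e aa aP at'
  rw [← hC] at C1
  have hCx2 : C * x 2 u = x 2 u * C := C_x e aa aP at' (k := 2) (by decide) (ok_of_fix _ hu)
  have hCx4 : C * x 4 v = x 4 v * C := C_x e aa aP at' (k := 4) (by decide) (ok_of_fix _ hv)
  have h24 : x 4 v * x 2 u = x 2 u * x 4 v := cm e.hex (by decide) (ok_of_fix _ hv) (ok_of_fix _ hu)
  have s2 := e.hex.x_sq (ok_of_fix 2 hu)
  have s4 := e.hex.x_sq (ok_of_fix 4 hv)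
  have CC : C * C = 1 := by rw [← C1, C1]; nth_rw 1 [← C1]; group
  have h1 : a2 x a * a = x 2 u * x 4 v * C := by
    calc a2 x a * a = a2 x a * a * C * C⁻¹ := by group
      _ = _ := by rw [hw, C1]
  have h2 : (a2 x a * a) * (a2 x a * a) = 1 := by
    calc (a2 x a * a) * (a2 x a * a) = x 2 u * x 4 v * (C * x 2 u) * x 4 v * C := by rw [h1]; group
      _ = x 2 u * x 4 v * x 2 u * (C * x 4 v) * C := by rw [hCx2]; group
      _ = x 2 u * (x 4 v * x 2 u) * x 4 v * (C * C) := by rw [hCx4]; group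
      _ = (x 2 u * x 2 u) * (x 4 v * x 4 v) := by rw [h24, CC]; group
      _ = 1 := by rw [s2, s4, one_mul]
  have h3 : (a2 x a * a)⁻¹ = a2 x a * a := inv_eq_of_mul_eq_one_left h2
  rw [mul_inv_rev, A_inv e aa aP at', a_inv e aa aP at'] at h3
  exact h3

/-! ### `κ = 1` -/

theorem one_AB (hc : t * (a2 x a * a * a24 x a) ∈ Ws σ x) : a2 x a * a = x 2 1 * x 4 1 * (a * a2 x a) := by
  obtain ⟨u, v, hu, hv, hw⟩ := Ws_form e hc
  set C := a24 x a with hC
  have C1 := C_inv e aa aP at'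
  rw [← hC] at C1
  have hCt := C_t e aa aP at'
  rw [← hC, C1] at hCt
  have hCx2 : C * x 2 u = x 2 u * C := C_x e aa aP at' (k := 2) (by decide) (ok_of_fix _ hu)
  have hCx4 : C * x 4 v = x 4 v * C := C_x e aa aP at' (k := 4) (by decide) (ok_of_fix _ hv)
  have h24 : x 4 v * x 2 u = x 2 u * x 4 v := cm e.hex (by decide) (ok_of_fix _ hv) (ok_of_fix _ hu)
  have s2 := e.hex.x_sq (ok_of_fix 2 hu)
  have s4 := e.hex.x_sq (ok_of_fix 4 hv)
  have tt := e.tt
  have t2 := e.tx 2 u (ok_of_fix _ hu)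
  have t4 := e.tx 4 v (ok_of_fix _ hv)
  have h1 : a2 x a * a = t * (x 2 u * x 4 v) * C := by
    calc a2 x a * a = (t * t) * (a2 x a * a * C) * C⁻¹ := by rw [tt]; group
      _ = t * (t * (a2 x a * a * C)) * C⁻¹ := by group
      _ = _ := by rw [hw, C1]
  have h2 : (a2 x a * a) * (a2 x a * a) = x 2 1 * x 4 1 := by
    calc (a2 x a * a) * (a2 x a * a) = t * x 2 u * x 4 v * C * t * x 2 u * x 4 v * C := by rw [h1]; group
      _ = t * x 2 u * x 4 v * C * (t * x 2 u) * x 4 v * C := by group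
      _ = t * x 2 u * x 4 v * (C * x 2 u) * (t * x 4 v) * C := by rw [t2]; group
      _ = t * x 2 u * x 4 v * x 2 u * (C * x 4 v) * t * C := by rw [hCx2, t4]; group
      _ = t * x 2 u * (x 4 v * x 2 u) * x 4 v * C * t * C := by rw [hCx4]; group
      _ = t * (x 2 u * x 2 u) * (x 4 v * x 4 v) * (C * t * C) := by rw [h24]; group
      _ = (t * t) * x 2 1 * x 4 1 := by rw [s2, s4, hCt]; group
      _ = _ := by rw [tt, one_mul]
  have h3 : (a2 x a * a)⁻¹ = a * a2 x a := by rw [mul_inv_rev, A_inv e aa aP at', a_inv e aa aP at']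
  rw [← h3, ← h2]
  group

/-- `Y = a t` -/
theorem YY : (a * t) * (a * t) = x 4 1 := by
  have h1 := tat e aa aP at'
  have a4' := a_x e aa aP at' (k := 4) (by decide) (ok_one σ _)
  calc (a * t) * (a * t) = a * (t * a * t) := by group
    _ = (a * x 4 1) * a := by rw [h1]; group
    _ = x 4 1 * (a * a) := by rw [a4']; group
    _ = _ := by rw [aa, mul_one]

theorem PY {p : G} (hp : p ∈ P1 σ x) : p * (a * t) = a * t * p := by
  rw [← mul_assoc, ← aP p hp, mul_assoc, ← tP e hp, mul_assoc]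

/-- `y₂ = a₂ t` commutes with `Y` -/
theorem yY (hc : t * (a2 x a * a * a24 x a) ∈ Ws σ x) : (a2 x a * t) * (a * t) = (a * t) * (a2 x a * t) := by
  have h1 := one_AB e aa aP at' hc
  have h2 := tat e aa aP at'
  have h3 := tAt e aa aP at'
  have a4' := a_x e aa aP at' (k := 4) (by decide) (ok_one σ _)
  have a2' := a_x e aa aP at' (k := 2) (by decide) (ok_one σ _)
  have A4' := A_x e aa aP at' (k := 4) (by decide) (ok_one σ _)
  have s4 := sq1 e 4
  have h42 : x 4 1 * x 2 1 = x 2 1 * x 4 1 := cm e.hex (by decide) (ok_one σ _) (ok_one σ _)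
  calc (a2 x a * t) * (a * t) = a2 x a * (t * a * t) := by group
    _ = (a2 x a * x 4 1) * a := by rw [h2]; group
    _ = x 4 1 * (a2 x a * a) := by rw [A4']; group
    _ = (x 4 1 * x 2 1) * x 4 1 * (a * a2 x a) := by rw [h1]; group
    _ = x 2 1 * (x 4 1 * x 4 1) * (a * a2 x a) := by rw [h42]; group
    _ = (a * x 2 1) * a2 x a := by rw [s4, a2']; group
    _ = a * (t * a2 x a * t) := by rw [h3]; group
    _ = _ := by group

/-- action of `y₂` on `z₆` -/
theorem act6 (hc : t * (a2 x a * a * a24 x a) ∈ Ws σ x) :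
    Md (a * t) ((a2 x a * t) * x 6 1 * (a2 x a * t)⁻¹) (x 6 1 * x 2 1) := by
  obtain ⟨u, v, hu, hv, hw⟩ := Ws_form e hc
  have h1 := one_AB e aa aP at' hc
  have hyY := yY e aa aP at' hc
  have hYY := YY e aa aP at'
  have h2 := tat e aa aP at'
  have h3 := tAt e aa aP at'
  have tt := e.tt
  have s2 := sq1 e 2
  have s4 := sq1 e 4
  have s6 := sq1 e 6
  have t6 := e.tx 6 1 (ok_one σ _)
  have P6 := PY e aa aP at' (PF.x_mem_P1 (x := x) (k := 6) (by decide) (ok_one σ _))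
  have a4' := a_x e aa aP at' (k := 4) (by decide) (ok_one σ _)
  have a2' := a_x e aa aP at' (k := 2) (by decide) (ok_one σ _)
  have A4' := A_x e aa aP at' (k := 4) (by decide) (ok_one σ _)
  have A2' := A_x e aa aP at' (k := 2) (by decide) (ok_one σ _)
  set A := a2 x a with hA
  set y := A * t with hy
  set Y := a * t with hY
  -- `w' = z₂ w₀`
  set w := x 2 (1 + u) * x 4 v with hwdef
  have hu1 : σ (1 + u) = 1 + u := by rw [map_add, map_one, hu]
  have hwP : w ∈ P1 σ x := mul_mem (PF.x_mem_P1 (by decide) (ok_of_fix _ hu1)) (PF.x_mem_P1 (by decide) (ok_of_fix _ hv))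
  have hwY := PY e aa aP at' hwP
  rw [← hY] at hwY
  have hw0 : x 2 1 * (x 2 u * x 4 v) = w := by
    rw [hwdef, e.hex.add 2 1 u (ok_one σ _) (ok_of_fix _ hu)]; group
  have A1 := A_inv e aa aP at'
  rw [← hA] at A1
  -- `z₆ y z₆ = y Y w`
  have e1 : x 6 1 * y * x 6 1 = y * Y * w := by
    have hC : a24 x a = a * A * (t * (x 2 u * x 4 v)) := by
      have : A * a * a24 x a = t * (x 2 u * x 4 v) := by
        calc A * a * a24 x a = (t * t) * (A * a * a24 x a) := by rw [tt, one_mul]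
          _ = t * (t * (A * a * a24 x a)) := by group
          _ = _ := by rw [hw]
      rw [← this]
      calc a24 x a = (a * a) * a24 x a := by rw [aa, one_mul]
        _ = a * (A * A⁻¹) * a * a24 x a := by group
        _ = a * A * A * a * a24 x a := by rw [A1]; group
        _ = _ := by group
    have htw : t * (x 2 u * x 4 v) * t = x 2 u * x 4 v := by
      have t2 := e.tx 2 u (ok_of_fix _ hu)
      have t4 := e.tx 4 v (ok_of_fix _ hv)
      calc t * (x 2 u * x 4 v) * t = t * x 2 u * (x 4 v * t) := by group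
        _ = (t * x 2 u) * t * x 4 v := by rw [← t4]; group
        _ = x 2 u * (t * t) * x 4 v := by rw [t2]; group
        _ = _ := by rw [tt]; group
    have hBA : a * A = x 2 1 * (y * Y) := by
      -- `y Y = A B z₄ = z₂ B A`
      have : y * Y = x 2 1 * (a * A) := by
        calc y * Y = A * (t * a * t) := by rw [hy, hY]; group
          _ = (A * x 4 1) * a := by rw [h2]; group
          _ = x 4 1 * (A * a) := by rw [A4']; group
          _ = (x 4 1 * x 2 1) * x 4 1 * (a * A) := by rw [h1]; group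
          _ = x 2 1 * (x 4 1 * x 4 1) * (a * A) := by
            rw [show x 4 1 * x 2 1 = x 2 1 * x 4 1 from cm e.hex (by decide) (ok_one σ _) (ok_one σ _)]; group
          _ = _ := by rw [s4]; group
      rw [this, ← mul_assoc, s2, one_mul]
    have hz2 : x 2 1 * (y * Y) = y * Y * x 2 1 := by
      have t2 := e.tx 2 1 (ok_one σ _)
      rw [hy, hY]
      calc x 2 1 * (A * t * (a * t)) = (x 2 1 * A) * t * a * t := by group
        _ = A * (x 2 1 * t) * a * t := by rw [← A2']; group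
        _ = A * t * (x 2 1 * a) * t := by rw [← t2]; group
        _ = A * t * a * (x 2 1 * t) := by rw [← a2']; group
        _ = _ := by rw [← t2]; group
    calc x 6 1 * y * x 6 1 = x 6 1 * A * (t * x 6 1) := by rw [hy]; group
      _ = a24 x a * t := by rw [t6, a24, ← hA]; group
      _ = a * A * (t * (x 2 u * x 4 v) * t) := by rw [hC]; group
      _ = (x 2 1 * (y * Y)) * (x 2 u * x 4 v) := by rw [htw, hBA]
      _ = y * Y * (x 2 1 * (x 2 u * x 4 v)) := by rw [hz2]; group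
      _ = _ := by rw [hw0]
  -- `z₄ w w^{z₆} = 1`
  have e2 : x 4 1 * (w * (x 6 1 * w * x 6 1)) = 1 := by
    have h5 : y = (y * Y * w) * Y * (x 6 1 * w * x 6 1) := by
      calc y = (x 6 1 * x 6 1) * y * (x 6 1 * x 6 1) := by rw [s6]; group
        _ = x 6 1 * (x 6 1 * y * x 6 1) * x 6 1 := by group
        _ = x 6 1 * y * Y * w * x 6 1 := by rw [e1]; group
        _ = x 6 1 * y * (1 * Y * 1 * w) * x 6 1 := by group
        _ = x 6 1 * y * ((x 6 1 * x 6 1) * Y * (x 6 1 * x 6 1) * w) * x 6 1 := by rw [s6]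
        _ = (x 6 1 * y * x 6 1) * (x 6 1 * Y) * x 6 1 * (x 6 1 * w * x 6 1) := by group
        _ = (y * Y * w) * Y * (x 6 1 * x 6 1) * (x 6 1 * w * x 6 1) := by rw [e1, P6]; group
        _ = _ := by rw [s6]; group
    have h6 : Y * Y * (w * (x 6 1 * w * x 6 1)) = 1 := by
      have h7 : y = y * (Y * (w * Y) * (x 6 1 * w * x 6 1)) := by
        calc y = (y * Y * w) * Y * (x 6 1 * w * x 6 1) := h5
          _ = _ := by group
      have h8 := left_eq_mul.1 h7
      rw [hwY] at h8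
      rw [← h8]; group
    rwa [hYY] at h6
  -- so `u = 0`
  have hu0 : u = 0 := by
    rcases e.fix u hu with h0 | h0
    · exact h0
    · exfalso
      have hw4 : w = x 4 v := by
        rw [hwdef, h0, e.hex.add_self, e.hex.x_zero, one_mul]
      have h64 : x 6 1 * x 4 v = x 4 v * x 6 1 := cm e.hex (by decide) (ok_one σ _) (ok_of_fix _ hv)
      have sv := e.hex.x_sq (ok_of_fix 4 hv)
      rw [hw4] at e2
      have : x 4 1 = 1 := by
        calc x 4 1 = x 4 1 * (x 4 v * x 4 v) := by rw [sv, mul_one]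
          _ = x 4 1 * (x 4 v * (x 4 v * (x 6 1 * x 6 1))) := by rw [s6, mul_one]
          _ = x 4 1 * (x 4 v * ((x 4 v * x 6 1) * x 6 1)) := by group
          _ = 1 := by rw [← h64, e2]
      exact one_ne_zero (e.hex.inj 4 1 (ok_one σ _) this)
  rw [hu0, add_zero] at hwdef
  -- conclusion
  have hzv : x 4 v ∈ Subgroup.zpowers Y := by
    rcases e.fix v hv with h0 | h0
    · rw [h0, e.hex.x_zero]; exact one_mem _
    · rw [h0, ← hYY]
      exact mul_mem (Subgroup.mem_zpowers Y) (Subgroup.mem_zpowers Y)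
  have hz4 : x 4 1 ∈ Subgroup.zpowers Y := by
    rw [← hYY]
    exact mul_mem (Subgroup.mem_zpowers Y) (Subgroup.mem_zpowers Y)
  -- `y z₆ y⁻¹ = w⁻¹ Y⁻¹ z₆`
  have e3 : y * x 6 1 * y⁻¹ = w⁻¹ * Y⁻¹ * x 6 1 := by
    have h5 : x 6 1 * y = y * Y * w * x 6 1 := by
      calc x 6 1 * y = x 6 1 * y * (x 6 1 * x 6 1) := by rw [s6]; group
        _ = (x 6 1 * y * x 6 1) * x 6 1 := by group
        _ = _ := by rw [e1]
    have hyw : y * w = w * y := by
      have t2 := e.tx 2 1 (ok_one σ _)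
      have t4 := e.tx 4 v (ok_of_fix _ hv)
      have A4v := A_x e aa aP at' (k := 4) (by decide) (ok_of_fix _ hv)
      rw [← hA] at A4v
      rw [hy, hwdef]
      calc A * t * (x 2 1 * x 4 v) = A * (t * x 2 1) * x 4 v := by group
        _ = (A * x 2 1) * (t * x 4 v) := by rw [t2]; group
        _ = x 2 1 * (A * x 4 v) * t := by rw [A2', t4]; group
        _ = _ := by rw [A4v]; group
    have h6 : x 6 1 = Y * w * (y * x 6 1 * y⁻¹) := by
      have hYy : y * Y = Y * y := hyY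
      calc x 6 1 = (x 6 1 * y) * y⁻¹ := by group
        _ = (y * Y) * w * x 6 1 * y⁻¹ := by rw [h5]
        _ = Y * (y * w) * x 6 1 * y⁻¹ := by rw [hYy]; group
        _ = _ := by rw [hyw]; group
    calc y * x 6 1 * y⁻¹ = (Y * w)⁻¹ * (Y * w * (y * x 6 1 * y⁻¹)) := by group
      _ = (Y * w)⁻¹ * x 6 1 := by rw [← h6]
      _ = _ := by group
  have h42 : x 4 v * x 2 1 = x 2 1 * x 4 v := cm e.hex (by decide) (ok_of_fix _ hv) (ok_one σ _)
  have hwinv : w⁻¹ = x 2 1 * x 4 v := by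
    rw [hwdef, mul_inv_rev, inv1 e, e.hex.x_inv (ok_of_fix 4 hv), h42]
  refine ⟨x 4 1 * (x 4 v * Y⁻¹), mul_mem hz4 (mul_mem hzv (inv_mem (Subgroup.mem_zpowers Y))), ?_⟩
  have h6c : x 6 1 * (x 4 v * Y⁻¹) = (x 4 v * Y⁻¹) * x 6 1 :=
    comm_zp P6 (mul_mem hzv (inv_mem (Subgroup.mem_zpowers Y)))
  rw [e3, hwinv]
  calc x 2 1 * x 4 v * Y⁻¹ * x 6 1 = x 2 1 * ((x 4 v * Y⁻¹) * x 6 1) := by group
    _ = x 2 1 * x 6 1 * (x 4 v * Y⁻¹) := by rw [← h6c]; group
    _ = (x 2 1 * x 6 1) * (x 4 1 * x 4 1) * (x 4 v * Y⁻¹) := by rw [s4]; group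
    _ = (x 2 1 * x 6 1 * x 4 1) * (x 4 1 * (x 4 v * Y⁻¹)) := by group
    _ = _ := by rw [← c26 e]

/-- `y₂` acts on `Q₁` as a transvection mod `⟨Y⟩` -/
theorem act_Q1 (hc : t * (a2 x a * a * a24 x a) ∈ Ws σ x) {q : G} (hq : q ∈ Q1 σ x) (hn : q * x 2 1 ≠ x 2 1 * q) :
    Md (a * t) ((a2 x a * t) * q * (a2 x a * t)⁻¹) (q * x 2 1) := by
  obtain ⟨b2, b3, b4, b5, b6, f2, f4, f6, eq⟩ := PF.Q1_coord e.hex hq
  set v := x 2 b2 * (x 3 b3 * (x 4 b4 * x 5 b5)) with hv
  have eq' : q = v * x 6 b6 := by rw [eq, hv]; group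
  -- `v` commutes with `y₂` and `z₂`
  have key : ∀ k : ZMod 12, (k = 2 ∨ k = 3 ∨ k = 4 ∨ k = 5) → ∀ b, Ok σ k b → (a2 x a * t) * x k b = x k b * (a2 x a * t) ∧
      x k b * x 2 1 = x 2 1 * x k b := by
    intro k hk b hb
    have h1 : a2 x a * x k b = x k b * a2 x a := A_x e aa aP at' (by rcases hk with rfl | rfl | rfl | rfl <;> decide) hb
    have h2 := e.tx k b hb
    refine ⟨by rw [mul_assoc, h2, ← mul_assoc, h1, mul_assoc], ?_⟩
    rcases hk with rfl | rfl | rfl | rfl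
    · exact cm e.hex (by decide) hb (ok_one σ _)
    · exact cm e.hex (by decide) hb (ok_one σ _)
    · exact cm e.hex (by decide) hb (ok_one σ _)
    · exact cm e.hex (by decide) hb (ok_one σ _)
  have k2 := key 2 (by tauto) b2 (ok_of_fix _ f2)
  have k3 := key 3 (by tauto) b3 (ok_odd (by decide) _)
  have k4 := key 4 (by tauto) b4 (ok_of_fix _ f4)
  have k5 := key 5 (by tauto) b5 (ok_odd (by decide) _)
  have C : ∀ {g h : G}, g * h = h * g → Commute g h := fun h => h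
  have hvy : (a2 x a * t) * v = v * (a2 x a * t) :=
    ((C k2.1).mul_right ((C k3.1).mul_right ((C k4.1).mul_right (C k5.1)))).eq
  have hv2 : v * x 2 1 = x 2 1 * v :=
    ((C k2.2).mul_left ((C k3.2).mul_left ((C k4.2).mul_left (C k5.2)))).eq
  rcases e.fix b6 f6 with h0 | h0
  · exfalso
    apply hn
    rw [eq', h0, e.hex.x_zero, mul_one, hv2]
  · obtain ⟨c, hc', ec⟩ := act6 e aa aP at' hc
    refine ⟨c, hc', ?_⟩
    rw [eq', h0]
    calc (a2 x a * t) * (v * x 6 1) * (a2 x a * t)⁻¹ = (a2 x a * t * v) * x 6 1 * (a2 x a * t)⁻¹ := by group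
      _ = v * ((a2 x a * t) * x 6 1 * (a2 x a * t)⁻¹) := by rw [hvy]; group
      _ = v * (x 6 1 * x 2 1 * c) := by rw [ec]
      _ = _ := by group

/-! ### The family -/

/-- conjugators -/
def pp (x : ZMod 12 → E → G) : Option E → G
  | none => 1
  | some b => x 1 b * nn x 1

/-- the lines `w_u` -/
def ww (x : ZMod 12 → E → G) (u : Option E) : G := pp x u * x 2 1 * (pp x u)⁻¹

/-- the elements `y_u` -/
def yy (x : ZMod 12 → E → G) (a t : G) (u : Option E) : G := pp x u * (a2 x a * t) * (pp x u)⁻¹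

theorem pp_mem (u : Option E) : pp x u ∈ P1 σ x := by
  cases u with
  | none => exact one_mem _
  | some b => exact mul_mem (PF.x_mem_P1 (by decide) (ok_odd (by decide) _)) PF.nn1_mem_P1

theorem ww_none : ww x none = x 2 1 := by unfold ww pp; group

theorem ww_some (b : E) : ww x (some b) = x 1 b * x 6 1 * x 1 b := by
  have h1 : nn x 1 * x 2 1 * (nn x 1)⁻¹ = x 6 1 := by
    rw [e.hex.refl1 _ _ (ok_one σ _)]; congr 1
  have h2 : (x 1 b)⁻¹ = x 1 b := e.hex.x_inv (ok_odd (by decide) _)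
  unfold ww pp
  calc x 1 b * nn x 1 * x 2 1 * (x 1 b * nn x 1)⁻¹ = x 1 b * (nn x 1 * x 2 1 * (nn x 1)⁻¹) * (x 1 b)⁻¹ := by group
    _ = _ := by rw [h1, h2]

/-- `[w_0, w_c] = z₄`, `c ≠ 0` -/
theorem cw0 {b : E} (hb : b ≠ 0) : x 6 1 * (x 1 b * x 6 1 * x 1 b) = (x 1 b * x 6 1 * x 1 b) * x 6 1 * x 4 1 := by
  have nb : nrm σ b = 1 := (e.fix _ (nrm_fix e.hex.cube b)).resolve_left (nrm_ne_zero hb)
  have h1 := e.hex.commS5 (k := 1) (by decide) b (map_one σ)
  rw [show (1 : ZMod 12) + 5 = 6 from rfl, show (1 : ZMod 12) + 1 = 2 from rfl, show (1 : ZMod 12) + 2 = 3 from rfl,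
      show (1 : ZMod 12) + 3 = 4 from rfl, show (1 : ZMod 12) + 4 = 5 from rfl, one_mul, one_mul, one_pow, one_mul,
      one_mul, nb, commutatorElement_def, e.hex.x_inv (ok_odd (by decide) b), inv1 e] at h1
  have s6 := sq1 e 6
  have h2 : x 1 b * x 6 1 * x 1 b = x 2 1 * x 3 (shp σ b) * x 4 1 * x 5 b * x 6 1 := by
    calc x 1 b * x 6 1 * x 1 b = x 1 b * x 6 1 * x 1 b * (x 6 1 * x 6 1) := by rw [s6, mul_one]
      _ = (x 1 b * x 6 1 * x 1 b * x 6 1) * x 6 1 := by group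
      _ = _ := by rw [h1]
  have h63 : x 6 1 * x 3 (shp σ b) = x 3 (shp σ b) * x 6 1 := cm e.hex (by decide) (ok_one σ _) (ok_odd (by decide) _)
  have h64 : x 6 1 * x 4 1 = x 4 1 * x 6 1 := cm e.hex (by decide) (ok_one σ _) (ok_one σ _)
  have h65 : x 6 1 * x 5 b = x 5 b * x 6 1 := cm e.hex (by decide) (ok_one σ _) (ok_odd (by decide) _)
  have h43 : x 4 1 * x 3 (shp σ b) = x 3 (shp σ b) * x 4 1 := cm e.hex (by decide) (ok_one σ _) (ok_odd (by decide) _)
  have h45 : x 4 1 * x 5 b = x 5 b * x 4 1 := cm e.hex (by decide) (ok_one σ _) (ok_odd (by decide) _)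
  have h62 := c26 e
  rw [h2]
  set p3 := x 3 (shp σ b)
  calc x 6 1 * (x 2 1 * p3 * x 4 1 * x 5 b * x 6 1) = (x 6 1 * x 2 1) * p3 * x 4 1 * x 5 b * x 6 1 := by group
    _ = x 2 1 * x 6 1 * (x 4 1 * p3) * x 4 1 * x 5 b * x 6 1 := by rw [h62]; group
    _ = x 2 1 * (x 6 1 * p3) * x 4 1 * x 4 1 * x 5 b * x 6 1 := by rw [h43]; group
    _ = x 2 1 * p3 * (x 6 1 * x 4 1) * (x 4 1 * x 5 b) * x 6 1 := by rw [h63]; group
    _ = x 2 1 * p3 * x 4 1 * x 6 1 * x 5 b * (x 4 1 * x 6 1) := by rw [h64, h45]; group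
    _ = x 2 1 * p3 * x 4 1 * (x 6 1 * x 5 b) * x 6 1 * x 4 1 := by rw [← h64]; group
    _ = _ := by rw [h65]; group

theorem cww {u v : Option E} (h : u ≠ v) : ww x u * ww x v = ww x v * ww x u * x 4 1 := by
  have s4 := sq1 e 4
  have h64 : x 6 1 * x 4 1 = x 4 1 * x 6 1 := cm e.hex (by decide) (ok_one σ _) (ok_one σ _)
  have h24 : x 2 1 * x 4 1 = x 4 1 * x 2 1 := cm e.hex (by decide) (ok_one σ _) (ok_one σ _)
  have h14 : ∀ b, x 1 b * x 4 1 = x 4 1 * x 1 b := fun b => cm e.hex (by decide) (ok_odd (by decide) _) (ok_one σ _)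
  have h12 : ∀ b, x 1 b * x 2 1 = x 2 1 * x 1 b := fun b => cm e.hex (by decide) (ok_odd (by decide) _) (ok_one σ _)
  have hx1 : ∀ b, x 1 b * x 1 b = 1 := fun b => e.hex.x_sq (ok_odd (by decide) _)
  -- `z₂` and `w_b`
  have k1 : ∀ b : E, x 2 1 * (x 1 b * x 6 1 * x 1 b) = (x 1 b * x 6 1 * x 1 b) * x 2 1 * x 4 1 := by
    intro b
    have h62 : x 2 1 * x 6 1 = x 6 1 * x 2 1 * x 4 1 := by
      rw [c26 e]
      calc x 2 1 * x 6 1 = x 2 1 * x 6 1 * (x 4 1 * x 4 1) := by rw [s4, mul_one]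
        _ = _ := by group
    calc x 2 1 * (x 1 b * x 6 1 * x 1 b) = (x 2 1 * x 1 b) * x 6 1 * x 1 b := by group
      _ = x 1 b * (x 2 1 * x 6 1) * x 1 b := by rw [← h12]; group
      _ = x 1 b * x 6 1 * x 2 1 * (x 4 1 * x 1 b) := by rw [h62]; group
      _ = x 1 b * x 6 1 * (x 2 1 * x 1 b) * x 4 1 := by rw [← h14]; group
      _ = _ := by rw [← h12]; group
  have k2 : ∀ b : E, (x 1 b * x 6 1 * x 1 b) * x 2 1 = x 2 1 * (x 1 b * x 6 1 * x 1 b) * x 4 1 := by
    intro b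
    rw [k1]
    calc x 1 b * x 6 1 * x 1 b * x 2 1 = x 1 b * x 6 1 * x 1 b * x 2 1 * (x 4 1 * x 4 1) := by rw [s4, mul_one]
      _ = _ := by group
  cases u with
  | none =>
    cases v with
    | none => exact absurd rfl h
    | some b => rw [ww_none e aa aP at', ww_some e aa aP at']; exact k1 b
  | some b =>
    cases v with
    | none => rw [ww_none e aa aP at', ww_some e aa aP at']; exact k2 b
    | some c =>
      have hbc : b + c ≠ 0 := by
        intro h0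
        apply h
        rw [← e.hex.sub_eq] at h0
        rw [sub_eq_zero.1 h0]
      have h1 := cw0 e aa aP at' hbc
      rw [e.hex.add 1 b c (ok_odd (by decide) _) (ok_odd (by decide) _)] at h1
      have hcb : x 1 b * x 1 c = x 1 c * x 1 b := e.hex.x_comm_same (ok_odd (by decide) _) (ok_odd (by decide) _)
      rw [ww_some e aa aP at', ww_some e aa aP at']
      -- conjugate `h1` by `x 1 b`
      have h2 : x 1 b * (x 6 1 * (x 1 b * x 1 c * x 6 1 * (x 1 b * x 1 c))) * x 1 b =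
          x 1 b * ((x 1 b * x 1 c * x 6 1 * (x 1 b * x 1 c)) * x 6 1 * x 4 1) * x 1 b := by rw [h1]
      have l1 : x 1 b * (x 6 1 * (x 1 b * x 1 c * x 6 1 * (x 1 b * x 1 c))) * x 1 b =
          x 1 b * x 6 1 * x 1 b * (x 1 c * x 6 1 * x 1 c) := by
        calc x 1 b * (x 6 1 * (x 1 b * x 1 c * x 6 1 * (x 1 b * x 1 c))) * x 1 b =
            x 1 b * x 6 1 * x 1 b * (x 1 c * x 6 1) * (x 1 b * x 1 c) * x 1 b := by group
          _ = x 1 b * x 6 1 * x 1 b * (x 1 c * x 6 1) * x 1 c * (x 1 b * x 1 b) := by rw [hcb]; group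
          _ = _ := by rw [hx1]; group
      have r1 : x 1 b * ((x 1 b * x 1 c * x 6 1 * (x 1 b * x 1 c)) * x 6 1 * x 4 1) * x 1 b =
          x 1 c * x 6 1 * x 1 c * (x 1 b * x 6 1 * x 1 b) * x 4 1 := by
        calc x 1 b * ((x 1 b * x 1 c * x 6 1 * (x 1 b * x 1 c)) * x 6 1 * x 4 1) * x 1 b =
            (x 1 b * x 1 b) * x 1 c * x 6 1 * (x 1 b * x 1 c) * x 6 1 * (x 4 1 * x 1 b) := by group
          _ = x 1 c * x 6 1 * (x 1 c * x 1 b) * x 6 1 * (x 1 b * x 4 1) := by rw [hx1, hcb, h14]; group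
          _ = _ := by group
      rw [← l1, ← r1]
      exact h2

theorem act_all (hc : t * (a2 x a * a * a24 x a) ∈ Ws σ x) {u v : Option E} (h : u ≠ v) :
    Md (a * t) (yy x a t u * ww x v * (yy x a t u)⁻¹) (ww x v * ww x u) := by
  have hu := pp_mem (σ := σ) e aa aP at' u
  have hv := pp_mem (σ := σ) e aa aP at' v
  have hQ : ∀ v, ww x v ∈ Q1 σ x := fun v =>
    PF.P1_conj_Q1 e.hex (pp_mem (σ := σ) e aa aP at' v) (PF.x_mem_Q1 (by decide) (ok_one σ _))
  have hq : (pp x u)⁻¹ * ww x v * ((pp x u)⁻¹)⁻¹ ∈ Q1 σ x := PF.P1_conj_Q1 e.hex (inv_mem hu) (hQ v)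
  rw [inv_inv] at hq
  have hne : (pp x u)⁻¹ * ww x v * pp x u * x 2 1 ≠ x 2 1 * ((pp x u)⁻¹ * ww x v * pp x u) := by
    intro h0
    have h1 : ww x v * ww x u = ww x u * ww x v := by
      have e1 : ww x v * ww x u = pp x u * ((pp x u)⁻¹ * ww x v * pp x u * x 2 1) * (pp x u)⁻¹ := by
        conv_lhs => rw [ww.eq_1 x u]
        group
      have e2 : ww x u * ww x v = pp x u * (x 2 1 * ((pp x u)⁻¹ * ww x v * pp x u)) * (pp x u)⁻¹ := by
        conv_lhs => rw [ww.eq_1 x u]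
        group
      rw [e1, e2, h0]
    have h2 := cww e aa aP at' h
    rw [h1] at h2
    have h3 : x 4 1 = 1 := left_eq_mul.1 h2
    exact one_ne_zero (e.hex.inj 4 1 (ok_one σ _) h3)
  have key := act_Q1 e aa aP at' hc hq hne
  have key2 := key.conj (PY e aa aP at' hu)
  have e1 : pp x u * (a2 x a * t * ((pp x u)⁻¹ * ww x v * pp x u) * (a2 x a * t)⁻¹) * (pp x u)⁻¹ =
      yy x a t u * ww x v * (yy x a t u)⁻¹ := by
    unfold yy; group
  have e2 : pp x u * ((pp x u)⁻¹ * ww x v * pp x u * x 2 1) * (pp x u)⁻¹ = ww x v * ww x u := by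
    conv_rhs => rw [ww.eq_1 x u]
    group
  rwa [e1, e2] at key2

theorem fam (hc : t * (a2 x a * a * a24 x a) ∈ Ws σ x) : Fam (Option E) (x 4 1) t (a * t) (ww x) (yy x a t) := by
  have hp := fun u => pp_mem (σ := σ) e aa aP at' u
  have hQ : ∀ v, ww x v ∈ Q1 σ x := fun v =>
    PF.P1_conj_Q1 e.hex (hp v) (PF.x_mem_Q1 (by decide) (ok_one σ _))
  have hQP : Q1 σ x ≤ P1 σ x := PF.Q1_le_Us.trans PF.Us_le_P1
  have x2P : x 2 1 ∈ P1 σ x := PF.x_mem_P1 (by decide) (ok_one σ _)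
  have x4P : x 4 1 ∈ P1 σ x := PF.x_mem_P1 (by decide) (ok_one σ _)
  have hyY := yY e aa aP at' hc
  refine { YY := YY e aa aP at', zz := sq1 e 4, z1 := ?_, ww := ?_, wY := ?_, yY := ?_, yw := ?_, tY := ?_, tt := e.tt,
           tw := ?_, tz := tP e x4P, cw := fun u v h => cww e aa aP at' h, yt := ?_,
           act := fun u v h => act_all e aa aP at' hc h }
  · intro h
    exact one_ne_zero (e.hex.inj 4 1 (ok_one σ _) h)
  · intro u
    have s2 := sq1 e 2
    unfold ww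
    calc pp x u * x 2 1 * (pp x u)⁻¹ * (pp x u * x 2 1 * (pp x u)⁻¹) = pp x u * (x 2 1 * x 2 1) * (pp x u)⁻¹ := by group
      _ = 1 := by rw [s2]; group
  · intro u
    exact PY e aa aP at' (hQP (hQ u))
  · intro u
    have h1 := PY e aa aP at' (hp u)
    have h2 := PY e aa aP at' (inv_mem (hp u))
    unfold yy
    calc pp x u * (a2 x a * t) * (pp x u)⁻¹ * (a * t) = pp x u * (a2 x a * t) * ((pp x u)⁻¹ * (a * t)) := by group
      _ = pp x u * ((a2 x a * t) * (a * t)) * (pp x u)⁻¹ := by rw [h2]; group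
      _ = (pp x u * (a * t)) * (a2 x a * t) * (pp x u)⁻¹ := by rw [hyY]; group
      _ = _ := by rw [h1]; group
  · intro u
    have A2' := A_x e aa aP at' (k := 2) (by decide) (ok_one σ _)
    have t2 := e.tx 2 1 (ok_one σ _)
    have h1 : a2 x a * t * x 2 1 = x 2 1 * (a2 x a * t) := by rw [mul_assoc, t2, ← mul_assoc, A2', mul_assoc]
    unfold yy ww
    calc pp x u * (a2 x a * t) * (pp x u)⁻¹ * (pp x u * x 2 1 * (pp x u)⁻¹) =
        pp x u * (a2 x a * t * x 2 1) * (pp x u)⁻¹ := by group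
      _ = _ := by rw [h1]; group
  · have ht := t_inv e aa aP at'
    have ha := a_inv e aa aP at'
    rw [mul_inv_rev, ht, ha, mul_assoc]
  · intro u
    exact tP e (hQP (hQ u))
  · intro u
    have h1 := tP e (hp u)
    have h2 : (pp x u)⁻¹ * t * pp x u = t := by rw [mul_assoc, h1, inv_mul_cancel_left]
    have h3 := A_t e aa aP at'
    have h4 : pp x u * t * (pp x u)⁻¹ = t := by rw [← h1, mul_inv_cancel_right]
    unfold yy ww
    calc pp x u * (a2 x a * t) * (pp x u)⁻¹ * t * (pp x u * (a2 x a * t) * (pp x u)⁻¹)⁻¹ =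
        pp x u * (a2 x a * t * ((pp x u)⁻¹ * t * pp x u) * t⁻¹ * (a2 x a)⁻¹) * (pp x u)⁻¹ := by group
      _ = pp x u * (a2 x a * t * (a2 x a)⁻¹) * (pp x u)⁻¹ := by rw [h2]; group
      _ = (pp x u * t * (pp x u)⁻¹) * (pp x u * x 2 1 * (pp x u)⁻¹) := by rw [h3]; group
      _ = _ := by rw [h4]

/-- elements of `Q₁` in `⟨Y⟩` are in `Z` -/
theorem zp_Q1 {c : G} (F : Fam (Option E) (x 4 1) t (a * t) (ww x) (yy x a t)) (hc : c ∈ Subgroup.zpowers (a * t))
    (hq : c ∈ P1 σ x) : c ∈ Zs σ x := by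
  have hx4 : x 4 1 ∈ Zs σ x := PF.x4_mem_Zs (map_one σ)
  have x4P : x 4 1 ∈ P1 σ x := PF.x_mem_P1 (by decide) (ok_one σ _)
  have hY : a * t ∉ P1 σ x := by
    intro h
    have h1 := tP e h
    have h2 : t * a = a * t := by
      have : t * (a * t) * t = a * t * t * t := by rw [h1]
      calc t * a = t * a * (t * t) := by rw [e.tt, mul_one]
        _ = t * (a * t) * t := by group
        _ = a * (t * t) * t := by rw [this]; group
        _ = a * t := by rw [e.tt, mul_one]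
    have h3 : a * t * a⁻¹ = t := by rw [← h2, mul_inv_cancel_right]
    rw [at'] at h3
    have h4 : x 4 1 = 1 := by
      have := mul_eq_left.1 h3
      exact this
    exact one_ne_zero (e.hex.inj 4 1 (ok_one σ _) h4)
  rcases F.cases hc with rfl | rfl | rfl | rfl
  · exact one_mem _
  · exact absurd hq hY
  · exact hx4
  · exfalso
    apply hY
    have := mul_mem hq (inv_mem x4P)
    rwa [mul_inv_cancel_right] at this

/-- six elements -/
theorem exists_four : ∃ i j k l : E, i ≠ 0 ∧ i ≠ 1 ∧ j ≠ 0 ∧ j ≠ 1 ∧ k ≠ 0 ∧ k ≠ 1 ∧ l ≠ 0 ∧ l ≠ 1 ∧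
    i ≠ j ∧ i ≠ k ∧ i ≠ l ∧ j ≠ k ∧ j ≠ l ∧ k ≠ l := by
  haveI : Finite E := finE e.card
  haveI := Fintype.ofFinite E
  classical
  have hE : Fintype.card E = 8 := by rw [← Nat.card_eq_fintype_card, e.card]
  have key : ∀ s : Finset E, s.card ≤ 7 → ∃ i, i ∉ s := by
    intro s hs
    by_contra hcon
    push Not at hcon
    have : s = Finset.univ := Finset.eq_univ_of_forall hcon
    rw [this, Finset.card_univ, hE] at hs
    omega
  obtain ⟨i, hi⟩ := key {0, 1} (le_trans Finset.card_le_two (by norm_num))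
  obtain ⟨j, hj⟩ := key {0, 1, i} (le_trans Finset.card_le_three (by norm_num))
  obtain ⟨k, hk⟩ := key {0, 1, i, j} (le_trans Finset.card_le_four (by norm_num))
  obtain ⟨l, hl⟩ := key {0, 1, i, j, k} (le_trans Finset.card_le_five (by norm_num))
  simp only [Finset.mem_insert, Finset.mem_singleton, not_or] at hi hj hk hl
  exact ⟨i, j, k, l, hi.1, hi.2, hj.1, hj.2.1, hk.1, hk.2.1, hl.1, hl.2.1, fun h => hj.2.2 h.symm,
    fun h => hk.2.2.1 h.symm, fun h => hl.2.2.1 h.symm, fun h => hk.2.2.2 h.symm, fun h => hl.2.2.2.1 h.symm,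
    fun h => hl.2.2.2.2 h.symm⟩

/-- **`κ ≠ 1`.** -/
theorem case_one [Finite G] (hc : t * (a2 x a * a * a24 x a) ∈ Ws σ x) : False := by
  have F := fam e aa aP at' hc
  obtain ⟨i, j, k, l, i0, i1, j0, j1, k0, k1, l0, l1, hij, hik, hil, hjk, hjl, hkl⟩ := exists_four e aa aP at'
  have sn : ∀ {u v : E}, u ≠ v → (some u : Option E) ≠ some v := fun h h' => h (Option.some_injective _ h')
  obtain ⟨g, gt, gz, gtwo, gi, gu⟩ := F.exists_two (sn hij) (sn hik) (sn hil) (sn hjk) (sn hjl) (sn hkl)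
  have hp := fun u => pp_mem (σ := σ) e aa aP at' u
  have hQ : ∀ v, ww x v ∈ Q1 σ x := fun v =>
    PF.P1_conj_Q1 e.hex (hp v) (PF.x_mem_Q1 (by decide) (ok_one σ _))
  have hQP : Q1 σ x ≤ P1 σ x := PF.Q1_le_Us.trans PF.Us_le_P1
  -- `p = g` or `t g` in `P₁`
  obtain ⟨p, hpP, hpi, hpu⟩ : ∃ p ∈ P1 σ x, Md (a * t) (p * ww x (some i) * p⁻¹) (ww x (some j)) ∧
      ∀ u, u ≠ some i → u ≠ some j → u ≠ some k → u ≠ some l → Md (a * t) (p * ww x u * p⁻¹) (ww x u) := by
    rcases e.c2 g gt gz gtwo with h | h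
    · exact ⟨g, h, gi, gu⟩
    · refine ⟨t * g, h, ?_⟩
      have hcj : ∀ v b : G, v ∈ P1 σ x → b ∈ P1 σ x → Md (a * t) (g * v * g⁻¹) b → Md (a * t) (t * g * v * (t * g)⁻¹) b := by
        rintro v b hv hb ⟨c, hc', ec⟩
        refine ⟨t * c * t⁻¹, ?_, ?_⟩
        · -- `t` normalises `⟨Y⟩`
          obtain ⟨n, rfl⟩ := Subgroup.mem_zpowers_iff.1 hc'
          have h1 : t * (a * t) * t⁻¹ = (a * t)⁻¹ := by
            have := F.tY
            rw [this]; group
          have h2 : t * (a * t) ^ n * t⁻¹ = ((a * t)⁻¹) ^ n := by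
            rw [← h1, conj_zpow]
          rw [h2]
          exact Subgroup.zpow_mem _ (inv_mem (Subgroup.mem_zpowers _)) n
        · have h1 := tP e hb
          calc t * g * v * (t * g)⁻¹ = t * (g * v * g⁻¹) * t⁻¹ := by group
            _ = (t * b) * c * t⁻¹ := by rw [ec]; group
            _ = _ := by rw [h1]; group
      exact ⟨hcj _ _ (hQP (hQ _)) (hQP (hQ _)) gi, fun u h1 h2 h3 h4 =>
        hcj _ _ (hQP (hQ _)) (hQP (hQ _)) (gu u h1 h2 h3 h4)⟩
  -- commutators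
  have hcomm : ∀ u v, Md (a * t) (p * ww x u * p⁻¹) (ww x v) → ∃ z ∈ Zs σ x, p * ww x u * p⁻¹ = ww x v * z := by
    rintro u v ⟨c, hc', ec⟩
    refine ⟨c, zp_Q1 e aa aP at' F hc' ?_, ec⟩
    have h1 : c = (ww x v)⁻¹ * (p * ww x u * p⁻¹) := by rw [ec]; group
    rw [h1]
    exact mul_mem (inv_mem (hQP (hQ v))) (mul_mem (mul_mem hpP (hQP (hQ u))) (inv_mem hpP))
  have hfix : ∀ u, u ≠ some i → u ≠ some j → u ≠ some k → u ≠ some l → ⁅p, ww x u⁆ ∈ Zs σ x := by
    intro u h1 h2 h3 h4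
    obtain ⟨z, hz, ez⟩ := hcomm u u (hpu u h1 h2 h3 h4)
    have h5 := PF.Zs_comm e.hex hz (hQP (hQ u))
    rw [commutatorElement_def, ez, ← h5, mul_inv_cancel_right]
    exact hz
  have hp1 : p ∈ Q1 σ x := by
    refine e.pf.three p hpP ?_ ?_ ?_
    · have := hfix none (by simp) (by simp) (by simp) (by simp)
      rwa [ww_none e aa aP at'] at this
    · have := hfix (some 0) (sn i0.symm) (sn j0.symm) (sn k0.symm) (sn l0.symm)
      rwa [ww_some e aa aP at', e.hex.x_zero, one_mul, mul_one] at this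
    · have := hfix (some 1) (sn i1.symm) (sn j1.symm) (sn k1.symm) (sn l1.symm)
      rwa [ww_some e aa aP at'] at this
  -- contradiction
  obtain ⟨z, hz, ez⟩ := hcomm _ _ hpi
  have h1 := PF.comm_Q1 e.hex hp1 (hQ (some i))
  rw [commutatorElement_def, ez] at h1
  -- `w j z (w i)⁻¹ ∈ Z`
  set z' := ww x (some j) * z * (ww x (some i))⁻¹ with hz'
  have h2 : ww x (some j) = z' * ww x (some i) * z⁻¹ := by rw [hz']; group
  have h3 := PF.Zs_comm e.hex h1 (hQP (hQ (some i)))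
  have h4 := PF.Zs_comm e.hex hz (hQP (hQ (some i)))
  have h5 : ww x (some i) * ww x (some j) = ww x (some j) * ww x (some i) := by
    have h6 : z⁻¹ * ww x (some i) = ww x (some i) * z⁻¹ := by
      rw [inv_mul_eq_iff_eq_mul, ← mul_assoc, h4, mul_inv_cancel_right]
    rw [h2]
    calc ww x (some i) * (z' * ww x (some i) * z⁻¹) = (ww x (some i) * z') * (ww x (some i) * z⁻¹) := by group
      _ = _ := by rw [← h3, ← h6]; group
  have h6 := cww e aa aP at' (sn hij)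
  rw [h5] at h6
  have h7 : x 4 1 = 1 := left_eq_mul.1 h6
  exact one_ne_zero (e.hex.inj 4 1 (ok_one σ _) h7)

/-- **Piece [C2].** -/
theorem seed_of [Finite G] : Seed σ x t a where
  aa := aa
  aP := aP
  at' := at'
  kap := by
    rcases e.c0 _ (c_t e aa aP at') (fun q hq => c_Q2 e aa aP at' hq) with h | h
    · exact case_zero e aa aP at' h
    · exact (case_one e aa aP at' h).elim

end

end Cfsg.Agent.TriTwo.Kappa
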