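import Mathlib
import Cfsg.Agent.TriTwo.SeedFacts

/-!
# S1778, type `³D₄(2)`: section 3 of the blueprint, `Q̂₁ = N₁`
-/

set_option autoImplicit false
set_option linter.unusedSectionVars false

namespace Cfsg.Agent.TriTwo

open Cfsg.Agent.StdRank2.Hex Cfsg.Agent.SplitTwo
open scoped commutatorElement

section One

variable {E : Type*} [Field E] {σ : E ≃+* E} {G : Type*} [Group G] {x : ZMod 12 → E → G} {t a : G} (v : Env σ x t)
  (s : Seed σ x t a)

include v

theorem c26x : x 6 1 * x 2 1 * x 6 1 = x 2 1 * x 4 1 := by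
  have h := v.hex.commL4 (k := 2) (by decide) (t := 1) (u := 1) (map_one σ) (map_one σ)
  rw [mul_one, show (2 : ZMod 12) + 4 = 6 from rfl, show (2 : ZMod 12) + 2 = 4 from rfl] at h
  have h1 := xinv v (k := 2) (ok_one σ 2)
  have h2 := xinv v (k := 6) (ok_one σ 6)
  have h3 := xx v (k := 2) (ok_one σ 2)
  rw [commutatorElement_def, h1, h2] at h
  -- x2 x6 x2 x6 = x4
  calc x 6 1 * x 2 1 * x 6 1 = (x 2 1 * x 2 1) * x 6 1 * x 2 1 * x 6 1 := by rw [h3]; group
    _ = x 2 1 * (x 2 1 * x 6 1 * x 2 1 * x 6 1) := by group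
    _ = _ := by rw [h]

/-- `W = {1, z₂, z₄, z₂z₄}` -/
theorem mem_Ws {y : G} (hy : y ∈ Ws σ x) : y = 1 ∨ y = x 4 1 ∨ y = x 2 1 ∨ y = x 2 1 * x 4 1 := by
  rw [Ws_eq] at hy
  obtain ⟨b, hb, z, hz, rfl⟩ := split_gl v.hex (by decide) hy
  obtain ⟨c, hc, z', hz', rfl⟩ := split_gl v.hex (by decide) hz
  rw [gl_nil v.hex hz', mul_one]
  rcases even_val v (by decide) hb with e | e <;> rcases even_val v (by decide) hc with e' | e' <;> rw [e, e']
  · left; simp
  · right; left; simp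
  · right; right; left; simp
  · right; right; right; rfl

theorem x2_x6_ne : x 2 1 * x 6 1 ≠ x 6 1 * x 2 1 := by
  intro e
  have h := c26x v
  rw [mul_assoc, e, ← mul_assoc, xx v (ok_one σ 6), one_mul, left_eq_mul] at h
  exact z4_ne v h

theorem x4_x6 : x 4 1 * x 6 1 = x 6 1 * x 4 1 := cm v.hex (by decide) (ok_one σ 4) (ok_one σ 6)

theorem x2_x4 : x 2 1 * x 4 1 = x 4 1 * x 2 1 := cm v.hex (by decide) (ok_one σ 2) (ok_one σ 4)

/-- `x₀ x₄ x₀ = x₂ x₄` -/
theorem c04x : x 0 1 * x 4 1 * x 0 1 = x 2 1 * x 4 1 := by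
  have h := c26x v
  have e := congrArg (fun y => nn x 6 * y * (nn x 6)⁻¹) h
  have r6 : nn x 6 * x 6 1 * (nn x 6)⁻¹ = x 0 1 := by rw [v.hex.refl 6 6 (ok_one σ 6)]; congr 1
  have r2 : nn x 6 * x 2 1 * (nn x 6)⁻¹ = x 4 1 := by rw [v.hex.refl 6 2 (ok_one σ 2)]; congr 1
  have r4 : nn x 6 * x 4 1 * (nn x 6)⁻¹ = x 2 1 := by rw [v.hex.refl 6 4 (ok_one σ 4)]; congr 1
  have e1 : nn x 6 * (x 6 1 * x 2 1 * x 6 1) * (nn x 6)⁻¹ =
      (nn x 6 * x 6 1 * (nn x 6)⁻¹) * (nn x 6 * x 2 1 * (nn x 6)⁻¹) * (nn x 6 * x 6 1 * (nn x 6)⁻¹) := by group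
  have e2 : nn x 6 * (x 2 1 * x 4 1) * (nn x 6)⁻¹ =
      (nn x 6 * x 2 1 * (nn x 6)⁻¹) * (nn x 6 * x 4 1 * (nn x 6)⁻¹) := by group
  rw [e1, e2, r6, r2, r4] at e
  rw [e, x2_x4 v]

/-- an element of `W` commuting with `x₆` and `x₀` is trivial -/
theorem W_fix {y : G} (hy : y ∈ Ws σ x) (h6 : x 6 1 * y * x 6 1 = y) (h0 : x 0 1 * y * x 0 1 = y) : y = 1 := by
  have hz := z4_ne v
  have h66 := xx v (ok_one σ (6 : ZMod 12))
  have c46 := x4_x6 v
  rcases mem_Ws v hy with rfl | rfl | rfl | rfl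
  · rfl
  · exfalso
    rw [c04x v] at h0
    have h2 : x 2 1 = 1 := by simpa using h0
    have := x2_x6_ne v
    rw [h2] at this
    simp at this
  · exfalso
    rw [c26x v] at h6
    exact hz (by simpa using h6)
  · exfalso
    have e : x 6 1 * (x 2 1 * x 4 1) * x 6 1 = (x 6 1 * x 2 1 * x 6 1) * x 4 1 := by
      calc x 6 1 * (x 2 1 * x 4 1) * x 6 1 = x 6 1 * x 2 1 * (x 4 1 * x 6 1) := by group
        _ = _ := by rw [c46]; group
    rw [e, c26x v] at h6
    exact hz (by simpa using h6)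

include s

theorem a_gl {L : List (ZMod 12)} (hL : ∀ k ∈ L, k ∈ ([1, 2, 3, 4, 5, 6, 7] : List (ZMod 12))) {y : G}
    (hy : y ∈ gl σ x L) : a * y = y * a :=
  gl_comm v.hex (fun k hk _ hb => a_x v s (hL k hk) hb) hy

theorem a2_gl {L : List (ZMod 12)} (hL : ∀ k ∈ L, k ∈ ([11, 0, 1, 2, 3, 4, 5] : List (ZMod 12))) {y : G}
    (hy : y ∈ gl σ x L) : a2 x a * y = y * a2 x a :=
  gl_comm v.hex (fun k hk _ hb => a2_x v s (hL k hk) hb) hy

theorem a6_gl {L : List (ZMod 12)} (hL : ∀ k ∈ L, k ∈ ([3, 4, 5, 6, 7, 8, 9] : List (ZMod 12))) {y : G}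
    (hy : y ∈ gl σ x L) : a6 x a * y = y * a6 x a :=
  gl_comm v.hex (fun k hk _ hb => a6_x v s (hL k hk) hb) hy

/-- `⁅a₂, z₆⁆ = a₄` -/
theorem a2_x6 : a2 x a * x 6 1 * (a2 x a)⁻¹ * (x 6 1)⁻¹ = a := by
  have h66 := xx v (ok_one σ (6 : ZMod 12))
  have h00 := xx v (ok_one σ (0 : ZMod 12))
  have h44 := xx v (ok_one σ (4 : ZMod 12))
  have i6 := xinv v (ok_one σ (6 : ZMod 12))
  have i0 := xinv v (ok_one σ (0 : ZMod 12))
  have ha := s.aa
  have hai := ainv v s
  have h22 := a2_a2 v s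
  have h2i := a2inv v s
  have hk := s.kap
  have ha6 : a * x 6 1 = x 6 1 * a := a_x v s (by decide) (ok_one σ 6)
  have h20 : a2 x a * x 0 1 = x 0 1 * a2 x a := a2_x v s (by decide) (ok_one σ 0)
  have h2t := a2_t v s
  set b := x 6 1 * a2 x a * x 6 1 with hb
  -- `x₀ a x₀ = b`
  have hab : x 0 1 * a * x 0 1 = b := by
    have e : a2 x a = x 6 1 * (x 0 1 * a * x 0 1) * x 6 1 := by
      conv_lhs => rw [a2, v.hex.nn_inv]
      have n6 : nn x 6 = x 6 1 * x 0 1 * x 6 1 := rfl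
      rw [n6]
      calc x 6 1 * x 0 1 * x 6 1 * a * (x 6 1 * x 0 1 * x 6 1) =
          x 6 1 * x 0 1 * (x 6 1 * a) * x 6 1 * x 0 1 * x 6 1 := by group
        _ = x 6 1 * x 0 1 * a * (x 6 1 * x 6 1) * x 0 1 * x 6 1 := by rw [← ha6]; group
        _ = _ := by rw [h66]; group
    rw [hb, e]
    calc x 0 1 * a * x 0 1 = (x 6 1 * x 6 1) * (x 0 1 * a * x 0 1) * (x 6 1 * x 6 1) := by rw [h66]; group
      _ = _ := by group
  have hba : x 0 1 * b * x 0 1 = a := by
    rw [← hab]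
    calc x 0 1 * (x 0 1 * a * x 0 1) * x 0 1 = (x 0 1 * x 0 1) * a * (x 0 1 * x 0 1) := by group
      _ = a := by rw [h00]; group
  have hb2 : x 6 1 * b * x 6 1 = a2 x a := by
    rw [hb]
    calc x 6 1 * (x 6 1 * a2 x a * x 6 1) * x 6 1 = (x 6 1 * x 6 1) * a2 x a * (x 6 1 * x 6 1) := by group
      _ = a2 x a := by rw [h66]; group
  have h6a : x 6 1 * a * x 6 1 = a := by rw [← ha6, mul_assoc, h66, mul_one]
  have hbb : b * b = 1 := by
    rw [hb]
    calc x 6 1 * a2 x a * x 6 1 * (x 6 1 * a2 x a * x 6 1) = x 6 1 * a2 x a * (x 6 1 * x 6 1) * a2 x a * x 6 1 := by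
          group
      _ = x 6 1 * (a2 x a * a2 x a) * x 6 1 := by rw [h66]; group
      _ = 1 := by rw [h22, mul_one, h66]
  have hbi : b⁻¹ = b := inv_eq_of_mul_eq_one_left hbb
  -- `a b = b a`
  have hcab : a * b = b * a := by
    calc a * b = (x 6 1 * a * x 6 1) * (x 6 1 * a2 x a * x 6 1) := by rw [h6a]
      _ = x 6 1 * a * (x 6 1 * x 6 1) * a2 x a * x 6 1 := by group
      _ = x 6 1 * (a * a2 x a) * x 6 1 := by rw [h66]; group
      _ = x 6 1 * (a2 x a * a) * x 6 1 := by rw [hk]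
      _ = x 6 1 * a2 x a * (x 6 1 * x 6 1) * a * x 6 1 := by rw [h66]; group
      _ = (x 6 1 * a2 x a * x 6 1) * (x 6 1 * a * x 6 1) := by group
      _ = b * a := by rw [h6a]
  -- conjugation of `t`
  have ht6 := v.tx 6 1 (ok_one σ 6)
  have ht2 := v.tx 2 1 (ok_one σ 2)
  have ht4 := v.tx 4 1 (ok_one σ 4)
  have hbt : b * t * b⁻¹ = t * (x 2 1 * x 4 1) := by
    have e : a2 x a * t * a2 x a = t * x 2 1 := by rw [h2i] at h2t; exact h2t
    rw [hbi, hb]
    calc x 6 1 * a2 x a * x 6 1 * t * (x 6 1 * a2 x a * x 6 1)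
        = x 6 1 * a2 x a * (x 6 1 * (t * x 6 1)) * a2 x a * x 6 1 := by group
      _ = x 6 1 * a2 x a * ((x 6 1 * x 6 1) * t) * a2 x a * x 6 1 := by rw [ht6]; group
      _ = x 6 1 * (a2 x a * t * a2 x a) * x 6 1 := by rw [h66]; group
      _ = (x 6 1 * t) * x 2 1 * x 6 1 := by rw [e]; group
      _ = t * (x 6 1 * x 2 1 * x 6 1) := by rw [← ht6]; group
      _ = _ := by rw [c26x v]
  -- commutation with `W`
  have a_W : ∀ w ∈ Ws σ x, a * w = w * a := fun w hw => by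
    rw [Ws_eq] at hw
    exact a_gl v s (by decide) hw
  have a2_W : ∀ w ∈ Ws σ x, a2 x a * w = w * a2 x a := fun w hw => by
    rw [Ws_eq] at hw
    exact a2_gl v s (by decide) hw
  have W6 : ∀ w ∈ Ws σ x, x 6 1 * w * x 6 1 ∈ Ws σ x := fun w hw => by
    rw [Ws_eq] at *
    have := conj_gl v.hex (k := 6) (L := [2, 4]) (by decide) (ok_one σ 6) hw
    rwa [i6] at this
  have b_W : ∀ w ∈ Ws σ x, b * w = w * b := fun w hw => by
    rw [hb]
    have h1 := a2_W _ (W6 w hw)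
    calc x 6 1 * a2 x a * x 6 1 * w = x 6 1 * a2 x a * x 6 1 * w * (x 6 1 * x 6 1) := by rw [h66, mul_one]
      _ = x 6 1 * (a2 x a * (x 6 1 * w * x 6 1)) * x 6 1 := by group
      _ = x 6 1 * ((x 6 1 * w * x 6 1) * a2 x a) * x 6 1 := by rw [h1]
      _ = (x 6 1 * x 6 1) * w * (x 6 1 * a2 x a * x 6 1) := by group
      _ = _ := by rw [h66, one_mul]
  have t_W : ∀ w ∈ Ws σ x, t * w = w * t := fun w hw => t_gens v hw
  have w2 : x 2 1 ∈ Ws σ x := by rw [Ws_eq]; exact mem_gl (by decide) (ok_one σ 2)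
  have w4 : x 4 1 ∈ Ws σ x := by rw [Ws_eq]; exact mem_gl (by decide) (ok_one σ 4)
  -- `c = a₂ a b`
  set c := a2 x a * a * b with hc
  have hct : c * t = t * c := by
    have e1 : b * t = t * (x 2 1 * x 4 1) * b := by rw [← hbt]; group
    have e2 : a * t = t * x 4 1 * a := by rw [← s.at']; group
    have e3 : a2 x a * t = t * x 2 1 * a2 x a := by rw [← h2t]; group
    have hw := mul_mem w2 w4
    calc c * t = a2 x a * a * (b * t) := by rw [hc]; group
      _ = a2 x a * (a * t) * (x 2 1 * x 4 1) * b := by rw [e1]; group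
      _ = (a2 x a * t) * x 4 1 * a * (x 2 1 * x 4 1) * b := by rw [e2]; group
      _ = t * x 2 1 * (a2 x a * x 4 1) * a * (x 2 1 * x 4 1) * b := by rw [e3]; group
      _ = t * (x 2 1 * x 4 1) * a2 x a * (a * (x 2 1 * x 4 1)) * b := by rw [a2_W _ w4]; group
      _ = t * (x 2 1 * x 4 1) * (a2 x a * (x 2 1 * x 4 1)) * a * b := by rw [a_W _ hw]; group
      _ = t * ((x 2 1 * x 4 1) * (x 2 1 * x 4 1)) * (a2 x a * a * b) := by rw [a2_W _ hw]; group
      _ = t * c := by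
        have : (x 2 1 * x 4 1) * (x 2 1 * x 4 1) = 1 := by
          calc (x 2 1 * x 4 1) * (x 2 1 * x 4 1) = x 2 1 * (x 4 1 * x 2 1) * x 4 1 := by group
            _ = (x 2 1 * x 2 1) * (x 4 1 * x 4 1) := by rw [← x2_x4 v]; group
            _ = 1 := by rw [h44, xx v (ok_one σ 2), one_mul]
        rw [this, mul_one]
  have hcQ : ∀ q ∈ Q2 σ x, c * q = q * c := by
    have Q6 : ∀ w ∈ Q2 σ x, x 6 1 * w * x 6 1 ∈ Q2 σ x := fun w hw => by
      rw [Q2_eq] at *
      have := conj_gl v.hex (k := 6) (L := [1, 2, 3, 4, 5]) (by decide) (ok_one σ 6) hw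
      rwa [i6] at this
    have aQ : ∀ w ∈ Q2 σ x, a * w = w * a := fun w hw => by
      rw [Q2_eq] at hw
      exact a_gl v s (by decide) hw
    have a2Q : ∀ w ∈ Q2 σ x, a2 x a * w = w * a2 x a := fun w hw => by
      rw [Q2_eq] at hw
      exact a2_gl v s (by decide) hw
    intro q hq
    have h1 := a2Q _ (Q6 q hq)
    have bQ : b * q = q * b := by
      rw [hb]
      calc x 6 1 * a2 x a * x 6 1 * q = x 6 1 * a2 x a * x 6 1 * q * (x 6 1 * x 6 1) := by rw [h66, mul_one]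
        _ = x 6 1 * (a2 x a * (x 6 1 * q * x 6 1)) * x 6 1 := by group
        _ = x 6 1 * ((x 6 1 * q * x 6 1) * a2 x a) * x 6 1 := by rw [h1]
        _ = (x 6 1 * x 6 1) * q * (x 6 1 * a2 x a * x 6 1) := by group
        _ = _ := by rw [h66, one_mul]
    rw [hc]
    exact mul_comm_of (mul_comm_of (a2Q q hq) (aQ q hq)) bQ
  have h2a : (a2 x a * a) * (a2 x a * a) = 1 := by
    calc (a2 x a * a) * (a2 x a * a) = a2 x a * (a * a2 x a) * a := by group
      _ = (a2 x a * a2 x a) * (a * a) := by rw [hk]; group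
      _ = 1 := by rw [h22, ha, one_mul]
  have hcW : c ∈ Ws σ x := by
    rcases v.c0 c hct hcQ with h | h
    · exact h
    · exfalso
      -- `c = t w`
      set w := t * c with hw
      have hcw : c = t * w := by rw [hw, ← mul_assoc, v.tt, one_mul]
      have e1 : a2 x a * a = t * w * b := by
        rw [← hcw, hc, mul_assoc, hbb, mul_one]
      have hww : w * w = 1 := by
        rcases mem_Ws v h with e | e | e | e <;> rw [e]
        · simp
        · exact h44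
        · exact xx v (ok_one σ 2)
        · calc x 2 1 * x 4 1 * (x 2 1 * x 4 1) = x 2 1 * (x 4 1 * x 2 1) * x 4 1 := by group
            _ = (x 2 1 * x 2 1) * (x 4 1 * x 4 1) := by rw [← x2_x4 v]; group
            _ = 1 := by rw [h44, xx v (ok_one σ 2), one_mul]
      have e2 : b * t * b = t * (x 2 1 * x 4 1) := by rw [hbi] at hbt; exact hbt
      have e3 : (t * w * b) * (t * w * b) = x 2 1 * x 4 1 := by
        calc (t * w * b) * (t * w * b) = t * (w * b) * t * (w * b) := by group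
          _ = t * (b * w) * t * (b * w) := by rw [← b_W w h]
          _ = t * b * (w * t) * b * w := by group
          _ = t * b * t * (w * b) * w := by rw [← t_W w h]; group
          _ = t * (b * t * b) * (w * w) := by rw [← b_W w h]; group
          _ = (t * t) * (x 2 1 * x 4 1) * (w * w) := by rw [e2]; group
          _ = _ := by rw [v.tt, hww]; group
      rw [← e1, h2a] at e3
      have e4 : x 2 1 = x 4 1 := by
        have := eq_inv_of_mul_eq_one_left e3.symm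
        rwa [xinv v (ok_one σ (4 : ZMod 12))] at this
      exact x2_x6_ne v (by rw [e4]; exact x4_x6 v)
  -- `a₂` and `b` commute
  have hc2b : a2 x a * b = b * a2 x a := by
    have e : b = (a2 x a * a) * c := by
      rw [hc]
      calc b = ((a2 x a * a) * (a2 x a * a)) * b := by rw [h2a, one_mul]
        _ = _ := by group
    have h1 : a2 x a * c = c * a2 x a := a2_W c hcW
    have h2 : (a2 x a * a) * a2 x a = a2 x a * (a2 x a * a) := by
      rw [mul_assoc, hk]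
    rw [e]
    exact (mul_comm_of h2 h1.symm).symm
  have f6 : x 6 1 * c * x 6 1 = c := by
    rw [hc]
    calc x 6 1 * (a2 x a * a * b) * x 6 1
        = x 6 1 * a2 x a * (x 6 1 * x 6 1) * a * (x 6 1 * x 6 1) * b * x 6 1 := by rw [h66]; group
      _ = (x 6 1 * a2 x a * x 6 1) * (x 6 1 * a * x 6 1) * (x 6 1 * b * x 6 1) := by group
      _ = b * a * a2 x a := by rw [h6a, hb2]
      _ = b * (a * a2 x a) := by group
      _ = (b * a2 x a) * a := by rw [hk]; group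
      _ = a2 x a * (b * a) := by rw [← hc2b]; group
      _ = _ := by rw [← hcab]; group
  have h02 : x 0 1 * a2 x a * x 0 1 = a2 x a := by rw [← h20, mul_assoc, h00, mul_one]
  have f0 : x 0 1 * c * x 0 1 = c := by
    rw [hc]
    calc x 0 1 * (a2 x a * a * b) * x 0 1
        = x 0 1 * a2 x a * (x 0 1 * x 0 1) * a * (x 0 1 * x 0 1) * b * x 0 1 := by rw [h00]; group
      _ = (x 0 1 * a2 x a * x 0 1) * (x 0 1 * a * x 0 1) * (x 0 1 * b * x 0 1) := by group
      _ = a2 x a * b * a := by rw [h02, hab, hba]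
      _ = a2 x a * (b * a) := by group
      _ = _ := by rw [← hcab]; group
  have hc1 : c = 1 := W_fix v hcW f6 f0
  have hb' : b = a2 x a * a := by
    have h1 : (a2 x a * a) * b = 1 := by rw [← hc1, hc]
    calc b = (a2 x a * a) * ((a2 x a * a) * b) := by rw [← mul_assoc, h2a, one_mul]
      _ = _ := by rw [h1, mul_one]
  rw [h2i, i6]
  calc a2 x a * x 6 1 * a2 x a * x 6 1 = a2 x a * b := by rw [hb]; group
    _ = (a2 x a * a2 x a) * a := by rw [hb']; group
    _ = a := by rw [h22, one_mul]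

theorem a6_x2 : a6 x a * x 2 1 * (a6 x a)⁻¹ * (x 2 1)⁻¹ = a := by
  have h := a2_x6 v s
  have r6 : nn x 1 * x 6 1 * (nn x 1)⁻¹ = x 2 1 := by rw [v.hex.refl 1 6 (ok_one σ 6)]; congr 1
  have h1 := a_nn1 v s
  unfold a6
  rw [← r6]
  calc nn x 1 * a2 x a * (nn x 1)⁻¹ * (nn x 1 * x 6 1 * (nn x 1)⁻¹) * (nn x 1 * a2 x a * (nn x 1)⁻¹)⁻¹ *
      (nn x 1 * x 6 1 * (nn x 1)⁻¹)⁻¹ = nn x 1 * (a2 x a * x 6 1 * (a2 x a)⁻¹ * (x 6 1)⁻¹) * (nn x 1)⁻¹ := by group
    _ = a := by rw [h, ← h1, mul_inv_cancel_right]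

end One

end Cfsg.Agent.TriTwo
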