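import Mathlib
import Cfsg.Agent.TriTwo.SecThree
import Cfsg.Agent.TriTwo.Dual

/-!
# S1778, type `³D₄(2)`: section 3, the group `N₁`
-/

set_option autoImplicit false
set_option linter.unusedSectionVars false

namespace Cfsg.Agent.TriTwo

open Cfsg.Agent.StdRank2.Hex Cfsg.Agent.SplitTwo
open scoped commutatorElement

section Two

variable {E : Type*} [Field E] {σ : E ≃+* E} {G : Type*} [Group G] {x : ZMod 12 → E → G} {t a : G} (v : Env σ x t)
  (s : Seed σ x t a)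

include v s

theorem mem_QZ {y : G} (hy : y ∈ Q1 σ x ⊔ Zh x a) : ∃ q ∈ Q1 σ x, ∃ c ∈ Zh x a, y = q * c :=
  mem_sup_norm (fun q hq c hc => by rw [P1_Zh v s (Q1_le_P1 v hq) hc, mul_inv_cancel_right]; exact hc) hy

theorem Q_le_QZ : Q1 σ x ≤ Q1 σ x ⊔ Zh x a := le_sup_left
theorem Z_le_QZ : Zh x a ≤ Q1 σ x ⊔ Zh x a := le_sup_right

theorem mem_N1_of {n : G} (h1 : ∀ c ∈ Zh x a, n * c = c * n) (h2 : ∀ q ∈ Q1 σ x, n * q * n⁻¹ * q⁻¹ ∈ Zh x a)
    (h4 : n * t * n⁻¹ * t⁻¹ ∈ Q1 σ x ⊔ Zh x a) : n ∈ N1 σ x t a := by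
  have h1' : ∀ c ∈ Zh x a, n⁻¹ * c = c * n⁻¹ := fun c hc => inv_comm_of (h1 c hc)
  have h3 : ∀ q ∈ Q1 σ x, n⁻¹ * q * n * q⁻¹ ∈ Zh x a := fun q hq => by
    have hc := h2 q hq
    set c := n * q * n⁻¹ * q⁻¹ with hcd
    have e : n⁻¹ * q * n * q⁻¹ = c⁻¹ := by
      have e1 : q = n⁻¹ * (c * q) * n := by rw [hcd]; group
      have e2 : n⁻¹ * (c * q) * n = c * (n⁻¹ * q * n) := by
        calc n⁻¹ * (c * q) * n = (n⁻¹ * c) * q * n := by group
          _ = c * (n⁻¹ * q * n) := by rw [h1' c hc]; group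
      rw [e2] at e1
      calc n⁻¹ * q * n * q⁻¹ = c⁻¹ * (c * (n⁻¹ * q * n)) * q⁻¹ := by group
        _ = c⁻¹ := by rw [← e1]; group
    rw [e]; exact inv_mem hc
  refine ⟨h1, h2, h3, h4, ?_⟩
  set y := n * t * n⁻¹ * t⁻¹ with hy
  have e : n⁻¹ * t * n * t⁻¹ = (n⁻¹ * y * n)⁻¹ := by rw [hy]; group
  rw [e]
  obtain ⟨q, hq, c, hc, hyq⟩ := mem_QZ v s h4
  refine inv_mem ?_
  rw [hyq]
  have e2 : n⁻¹ * (q * c) * n = (n⁻¹ * q * n * q⁻¹) * q * c := by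
    calc n⁻¹ * (q * c) * n = (n⁻¹ * q * n) * (n⁻¹ * c * n) := by group
      _ = (n⁻¹ * q * n) * c := by rw [h1' c hc, inv_mul_cancel_right]
      _ = _ := by group
  rw [e2]
  exact mul_mem (mul_mem (Z_le_QZ v s (h3 q hq)) (Q_le_QZ v s hq)) (Z_le_QZ v s hc)

/-- closure of the commutator condition -/
theorem comm_closed {n : G} (hn : ∀ c ∈ Zh x a, n * c = c * n) {L : List (ZMod 12)}
    (hL : ∀ k ∈ L, k ∈ ([1, 2, 3, 4, 5, 6, 7] : List (ZMod 12)))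
    (h : ∀ k ∈ L, ∀ b, Ok σ k b → n * x k b * n⁻¹ * (x k b)⁻¹ ∈ Zh x a) {q : G} (hq : q ∈ gl σ x L) :
    n * q * n⁻¹ * q⁻¹ ∈ Zh x a := by
  let K : Subgroup G :=
    { carrier := {q | q ∈ P1 σ x ∧ n * q * n⁻¹ * q⁻¹ ∈ Zh x a}
      mul_mem' := by
        rintro p q ⟨hp, hp'⟩ ⟨hq, hq'⟩
        refine ⟨mul_mem hp hq, ?_⟩
        have e : n * (p * q) * n⁻¹ * (p * q)⁻¹ = (n * p * n⁻¹ * p⁻¹) * (p * (n * q * n⁻¹ * q⁻¹) * p⁻¹) := by group
        rw [e, P1_Zh v s hp hq', mul_inv_cancel_right]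
        exact mul_mem hp' hq'
      one_mem' := ⟨one_mem _, by simp [one_mem]⟩
      inv_mem' := by
        rintro p ⟨hp, hp'⟩
        refine ⟨inv_mem hp, ?_⟩
        have e : n * p⁻¹ * n⁻¹ * p⁻¹⁻¹ = p⁻¹ * (p * n * p⁻¹ * n⁻¹) * p := by group
        have e1 : p * n * p⁻¹ * n⁻¹ = (n * p * n⁻¹ * p⁻¹)⁻¹ := by group
        rw [e, e1, P1_Zh v s (inv_mem hp) (inv_mem hp'), inv_mul_cancel_right]
        exact inv_mem hp' }
  have hK : gl σ x L ≤ K := gl_le v fun k hk b hb => ⟨by rw [P1_eq]; exact mem_gl (hL k hk) hb, h k hk b hb⟩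
  exact (hK hq).2

theorem N1_Zh {n : G} (hn : n ∈ N1 σ x t a) {c : G} (hc : c ∈ Zh x a) : n * c = c * n := hn.1 c hc

theorem N1_Q {n : G} (hn : n ∈ N1 σ x t a) {q : G} (hq : q ∈ Q1 σ x) : n * q * n⁻¹ * q⁻¹ ∈ Zh x a := hn.2.1 q hq

theorem t_Zh {c : G} (hc : c ∈ Zh x a) : t * c * t⁻¹ ∈ Zh x a := by
  have hta := t_a v s
  have htz : t * x 4 1 * t⁻¹ = x 4 1 := by rw [v.tx 4 1 (ok_one σ 4), mul_inv_cancel_right]
  have ha := a_mem_Zh v s
  have hz := z_mem_Zh v s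
  rcases (mem_Zh v s).1 hc with rfl | rfl | rfl | rfl
  · simp [one_mem]
  · rw [htz]; exact hz
  · rw [hta]; exact mul_mem ha hz
  · have e : t * (a * x 4 1) * t⁻¹ = (t * a * t⁻¹) * (t * x 4 1 * t⁻¹) := by group
    rw [e, hta, htz]
    exact mul_mem (mul_mem ha hz) hz

theorem P_N1 {p n : G} (hp : p ∈ P1 σ x) (hn : n ∈ N1 σ x t a) : p * n * p⁻¹ ∈ N1 σ x t a := by
  refine mem_N1_of v s (fun c hc => ?_) (fun q hq => ?_) ?_
  · exact mul_comm_of (mul_comm_of (P1_Zh v s hp hc) (hn.1 c hc)) (P1_Zh v s (inv_mem hp) hc)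
  · have h := hn.2.1 _ (P1_Q1' v hp hq)
    have e : p * n * p⁻¹ * q * (p * n * p⁻¹)⁻¹ * q⁻¹ =
        p * (n * (p⁻¹ * q * p) * n⁻¹ * (p⁻¹ * q * p)⁻¹) * p⁻¹ := by group
    rw [e, P1_Zh v s hp h, mul_inv_cancel_right]
    exact h
  · have hpt : p⁻¹ * t = t * p⁻¹ := by
      have := t_gens v (S := {1, 2, 3, 4, 5, 6, 7}) (inv_mem hp)
      exact this.symm
    have e : p * n * p⁻¹ * t * (p * n * p⁻¹)⁻¹ * t⁻¹ = p * (n * t * n⁻¹ * t⁻¹) * p⁻¹ := by
      have hpt' : t * p⁻¹ * t⁻¹ = p⁻¹ := by rw [← hpt, mul_inv_cancel_right]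
      calc p * n * p⁻¹ * t * (p * n * p⁻¹)⁻¹ * t⁻¹ = p * n * (p⁻¹ * t) * p * n⁻¹ * p⁻¹ * t⁻¹ := by group
        _ = p * n * (t * p⁻¹) * p * n⁻¹ * p⁻¹ * t⁻¹ := by rw [hpt]
        _ = p * (n * t * n⁻¹ * t⁻¹) * (t * p⁻¹ * t⁻¹) := by group
        _ = _ := by rw [hpt']
    rw [e]
    obtain ⟨q, hq, c, hc, hy⟩ := mem_QZ v s hn.2.2.2.1
    rw [hy]
    have e2 : p * (q * c) * p⁻¹ = (p * q * p⁻¹) * (p * c * p⁻¹) := by group
    rw [e2, P1_Zh v s hp hc, mul_inv_cancel_right]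
    exact mul_mem (Q_le_QZ v s (P1_Q1 v hp hq)) (Z_le_QZ v s hc)

theorem tQ {q : G} (hq : q ∈ Q1 σ x) : t * q = q * t := t_gens v hq

theorem t_N1 {n : G} (hn : n ∈ N1 σ x t a) : t * n * t⁻¹ ∈ N1 σ x t a := by
  have hti := tinv v
  refine mem_N1_of v s (fun c hc => ?_) (fun q hq => ?_) ?_
  · have h1 := hn.1 _ (t_Zh v s hc)
    rw [hti] at h1 ⊢
    calc t * n * t * c = t * n * (t * c * t) * t := by
          have : t * c = (t * c * t) * t := by rw [mul_assoc (t * c), v.tt, mul_one]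
          calc t * n * t * c = t * n * (t * c) := by group
            _ = t * n * ((t * c * t) * t) := by rw [← this]
            _ = _ := by group
      _ = t * (n * (t * c * t)) * t := by group
      _ = t * (t * c * t * n) * t := by rw [h1]
      _ = (t * t) * c * (t * n * t) := by group
      _ = c * (t * n * t) := by rw [v.tt, one_mul]
  · have h := hn.2.1 q hq
    have htq : t⁻¹ * q * t = q := by rw [mul_assoc, ← tQ v s hq, inv_mul_cancel_left]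
    have e : t * n * t⁻¹ * q * (t * n * t⁻¹)⁻¹ * q⁻¹ = t * (n * q * n⁻¹ * q⁻¹) * t⁻¹ := by
      have htq' : t * q⁻¹ * t⁻¹ = q⁻¹ := by rw [tQ v s (inv_mem hq), mul_inv_cancel_right]
      calc t * n * t⁻¹ * q * (t * n * t⁻¹)⁻¹ * q⁻¹ = t * n * (t⁻¹ * q * t) * n⁻¹ * t⁻¹ * q⁻¹ := by group
        _ = t * (n * q * n⁻¹) * t⁻¹ * q⁻¹ := by rw [htq]; group
        _ = t * (n * q * n⁻¹) * t⁻¹ * (t * q⁻¹ * t⁻¹) := by rw [htq']
        _ = _ := by group
    rw [e]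
    exact t_Zh v s h
  · have e : t * n * t⁻¹ * t * (t * n * t⁻¹)⁻¹ * t⁻¹ = t * (n * t * n⁻¹ * t⁻¹) * t⁻¹ := by group
    rw [e]
    obtain ⟨q, hq, c, hc, hy⟩ := mem_QZ v s hn.2.2.2.1
    rw [hy]
    have e2 : t * (q * c) * t⁻¹ = (t * q * t⁻¹) * (t * c * t⁻¹) := by group
    rw [e2, tQ v s hq, mul_inv_cancel_right]
    exact mul_mem (Q_le_QZ v s hq) (Z_le_QZ v s (t_Zh v s hc))

theorem Q_le : Q1 σ x ≤ N1 σ x t a := fun q hq =>
  mem_N1_of v s (fun c hc => P1_Zh v s (Q1_le_P1 v hq) hc)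
    (fun r hr => Zs_le_Zh v s (by rw [← commutatorElement_def]; exact Q1_comm v hq hr))
    (by
      have : q * t * q⁻¹ * t⁻¹ = 1 := by rw [← tQ v s hq]; group
      rw [this]; exact one_mem _)

theorem Z_le : Zh x a ≤ N1 σ x t a := fun c hc =>
  mem_N1_of v s (fun d hd => Zh_comm v s hc hd)
    (fun r hr => by
      have : c * r * c⁻¹ * r⁻¹ = 1 := by rw [← P1_Zh v s (Q1_le_P1 v hr) hc]; group
      rw [this]; exact one_mem _)
    (by
      have e : c * t * c⁻¹ * t⁻¹ = c * (t * c⁻¹ * t⁻¹) := by group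
      rw [e]
      exact Z_le_QZ v s (mul_mem hc (t_Zh v s (inv_mem hc))))

theorem a2_N1 : a2 x a ∈ N1 σ x t a := by
  have hZ : ∀ c ∈ Zh x a, a2 x a * c = c * a2 x a := fun c hc => by
    have h4 : a2 x a * x 4 1 = x 4 1 * a2 x a := a2_x v s (by decide) (ok_one σ 4)
    rcases (mem_Zh v s).1 hc with rfl | rfl | rfl | rfl
    · simp
    · exact h4
    · exact s.kap.symm
    · rw [← mul_assoc, ← s.kap, mul_assoc, h4, ← mul_assoc]
  refine mem_N1_of v s hZ (fun q hq => ?_) ?_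
  · rw [Q1_eq] at hq
    refine comm_closed v s hZ (by decide) (fun k hk b hb => ?_) hq
    have key : ∀ k ∈ ([2, 3, 4, 5, 6] : List (ZMod 12)), k ∈ ([11, 0, 1, 2, 3, 4, 5] : List (ZMod 12)) ∨ k = 6 := by
      decide
    rcases key k hk with hk' | rfl
    · have : a2 x a * x k b * (a2 x a)⁻¹ * (x k b)⁻¹ = 1 := by rw [a2_x v s hk' hb]; group
      rw [this]; exact one_mem _
    · rcases even_val v (by decide) hb with e | e
      · rw [e]; simp [one_mem]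
      · rw [e, a2_x6 v s]; exact a_mem_Zh v s
  · have e : a2 x a * t * (a2 x a)⁻¹ * t⁻¹ = x 2 1 := by
      rw [a2_t v s, v.tx 2 1 (ok_one σ 2), mul_inv_cancel_right]
    rw [e]
    exact Q_le_QZ v s (by rw [Q1_eq]; exact mem_gl (by decide) (ok_one σ 2))

theorem a6_N1 : a6 x a ∈ N1 σ x t a := P_N1 v s (nn_P1 v) (a2_N1 v s)

/-- elements of `N₁` commuting with `t` are in `Q₁` -/
theorem N1_Ct {n : G} (hn : n ∈ N1 σ x t a) (ht : n * t = t * n) : n ∈ Q1 σ x := by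
  have fix : ∀ c ∈ Zh x a, c * t = t * c → c ∈ Zs σ x := fun c hc h => by
    rw [mem_Zs v]
    refine Zh_ct v s hc ?_
    rw [← h, mul_inv_cancel_right]
    exact Zh_sq v s hc
  have val : ∀ k, ∀ b, k ∈ ([2, 3, 4, 5, 6] : List (ZMod 12)) → Ok σ k b → n * x k b * n⁻¹ * (x k b)⁻¹ ∈ Zs σ x := by
    intro k b hk hb
    refine fix _ (hn.2.1 _ (by rw [Q1_eq]; exact mem_gl hk hb)) ?_
    have h1 : x k b * t = t * x k b := (v.tx k b hb).symm
    exact mul_comm_of (mul_comm_of (mul_comm_of ht h1) (inv_comm_of ht)) (inv_comm_of h1)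
  obtain ⟨d3, hd3⟩ := exists_char v (k := 3) (Or.inl rfl) (g := n) (fun b => val 3 b (by decide) (ok_odd (by decide) b))
  obtain ⟨d5, hd5⟩ := exists_char v (k := 5) (Or.inr rfl) (g := n) (fun b => val 5 b (by decide) (ok_odd (by decide) b))
  obtain ⟨e2, he2, hd2⟩ : ∃ e, Ok σ 6 e ∧ n * x 2 1 * n⁻¹ * (x 2 1)⁻¹ = x 4 e := by
    rcases (mem_Zs v).1 (val 2 1 (by decide) (ok_one σ 2)) with h | h
    · exact ⟨0, ok_zero σ _, by rw [h, v.hex.x_zero]⟩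
    · exact ⟨1, ok_one σ _, h⟩
  obtain ⟨e6, he6, hd6⟩ : ∃ e, Ok σ 2 e ∧ n * x 6 1 * n⁻¹ * (x 6 1)⁻¹ = x 4 e := by
    rcases (mem_Zs v).1 (val 6 1 (by decide) (ok_one σ 6)) with h | h
    · exact ⟨0, ok_zero σ _, by rw [h, v.hex.x_zero]⟩
    · exact ⟨1, ok_one σ _, h⟩
  -- the element of `Q₁` with the same action
  set q := x 5 d3 * x 3 d5 * x 6 e2 * x 2 e6 with hq
  have o3 := fun b : E => ok_odd (σ := σ) (k := 3) (by decide) b
  have o5 := fun b : E => ok_odd (σ := σ) (k := 5) (by decide) b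
  have q_mem : q ∈ Q1 σ x := by
    rw [Q1_eq]
    exact mul_mem (mul_mem (mul_mem (mem_gl (by decide) (o5 _)) (mem_gl (by decide) (o3 _))) (mem_gl (by decide) he2))
      (mem_gl (by decide) he6)
  have z4c : ∀ {k : ZMod 12} {b c : E}, k ∈ ([2, 3, 4, 5, 6] : List (ZMod 12)) → Ok σ k b → Ok σ 4 c →
      x k b * x 4 c = x 4 c * x k b := fun {k b c} hk hb hc => by
    have hadj : ∀ k ∈ ([2, 3, 4, 5, 6] : List (ZMod 12)), adj k 4 = true := by decide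
    exact cm v.hex (hadj k hk) hb hc
  -- commutator of a product with central values
  have prod : ∀ g₁ g₂ y c₁ c₂ : G, g₁ * y * g₁⁻¹ * y⁻¹ = c₁ → g₂ * y * g₂⁻¹ * y⁻¹ = c₂ → g₁ * c₂ = c₂ * g₁ →
      (g₁ * g₂) * y * (g₁ * g₂)⁻¹ * y⁻¹ = c₂ * c₁ := by
    intro g₁ g₂ y c₁ c₂ h1 h2 h3
    have e : (g₁ * g₂) * y * (g₁ * g₂)⁻¹ * y⁻¹ = g₁ * (g₂ * y * g₂⁻¹ * y⁻¹) * g₁⁻¹ * (g₁ * y * g₁⁻¹ * y⁻¹) := by group
    rw [e, h1, h2, h3, mul_inv_cancel_right]
  have triv : ∀ k l : ZMod 12, adj k l = true → ∀ b c, Ok σ k b → Ok σ l c → x k b * x l c * (x k b)⁻¹ * (x l c)⁻¹ = 1 := by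
    intro k l hadj b c hb hc
    rw [cm v.hex hadj hb hc]; group
  have qy : ∀ k b, k ∈ ([2, 3, 4, 5, 6] : List (ZMod 12)) → Ok σ k b → q * x k b * q⁻¹ * (x k b)⁻¹ =
      n * x k b * n⁻¹ * (x k b)⁻¹ := by
    intro k b hk hb
    have hk5 : k = 2 ∨ k = 3 ∨ k = 4 ∨ k = 5 ∨ k = 6 := by
      have : ∀ k ∈ ([2, 3, 4, 5, 6] : List (ZMod 12)), k = 2 ∨ k = 3 ∨ k = 4 ∨ k = 5 ∨ k = 6 := by decide
      exact this k hk
    rcases hk5 with rfl | rfl | rfl | rfl | rfl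
    · -- k = 2
      rcases even_val v (by decide) hb with e | e
      · rw [e]; group
      rw [e, hd2]
      have h6 : x 6 e2 * x 2 1 * (x 6 e2)⁻¹ * (x 2 1)⁻¹ = x 4 e2 := by
        have h := v.hex.commL4 (k := 2) (by decide) (t := 1) (u := e2) (map_one σ) (he2 (by decide))
        rw [one_mul, show (2 : ZMod 12) + 4 = 6 from rfl, show (2 : ZMod 12) + 2 = 4 from rfl] at h
        rw [← commutatorElement_def, ← commutatorElement_inv, h, xinv v (he2.congr (by decide))]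
      have p1 := prod _ _ _ _ _ (triv 5 2 (by decide) d3 1 (o5 _) (ok_one σ 2)) (triv 3 2 (by decide) d5 1 (o3 _) (ok_one σ 2))
        (by simp)
      have p2 := prod _ _ _ _ _ p1 h6 (mul_comm_of (z4c (by decide) (o5 _) (he2.congr (by decide)))
        (z4c (by decide) (o3 _) (he2.congr (by decide))))
      have p3 := prod _ _ _ _ _ p2 (triv 2 2 (by decide) e6 1 he6 (ok_one σ 2)) (by simp)
      rw [hq, p3]; group
    · -- k = 3
      rw [hd3]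
      have h5 : x 5 d3 * x 3 b * (x 5 d3)⁻¹ * (x 3 b)⁻¹ = x 4 (tr σ (d3 * b)) := by
        rw [← commutatorElement_def, c53 v]
      have p1 := prod _ _ _ _ _ h5 (triv 3 3 (by decide) d5 b (o3 _) (o3 _)) (by simp)
      have p2 := prod _ _ _ _ _ p1 (triv 6 3 (by decide) e2 b he2 (o3 _)) (by simp)
      have p3 := prod _ _ _ _ _ p2 (triv 2 3 (by decide) e6 b he6 (o3 _)) (by simp)
      rw [hq, p3]; group
    · -- k = 4
      have h1 : q * x 4 b * q⁻¹ * (x 4 b)⁻¹ = 1 := by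
        rcases even_val v (by decide) hb with e | e
        · rw [e]; group
        · rw [e, P1_z4 v (Q1_le_P1 v q_mem)]; group
      have h2 : n * x 4 b * n⁻¹ * (x 4 b)⁻¹ = 1 := by
        rcases even_val v (by decide) hb with e | e
        · rw [e]; group
        · rw [e, hn.1 _ (z_mem_Zh v s)]; group
      rw [h1, h2]
    · -- k = 5
      rw [hd5]
      have h3 : x 3 d5 * x 5 b * (x 3 d5)⁻¹ * (x 5 b)⁻¹ = x 4 (tr σ (d5 * b)) := by
        rw [← commutatorElement_def, c35 v]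
      have p1 := prod _ _ _ _ _ (triv 5 5 (by decide) d3 b (o5 _) (o5 _)) h3 (z4c (by decide) (o5 _) (ok_tr v 4 _))
      have p2 := prod _ _ _ _ _ p1 (triv 6 5 (by decide) e2 b he2 (o5 _)) (by simp)
      have p3 := prod _ _ _ _ _ p2 (triv 2 5 (by decide) e6 b he6 (o5 _)) (by simp)
      rw [hq, p3]; group
    · -- k = 6
      rcases even_val v (by decide) hb with e | e
      · rw [e]; group
      rw [e, hd6]
      have h2 : x 2 e6 * x 6 1 * (x 2 e6)⁻¹ * (x 6 1)⁻¹ = x 4 e6 := by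
        have h := v.hex.commL4 (k := 2) (by decide) (t := e6) (u := 1) (he6 (by decide)) (map_one σ)
        rw [mul_one, show (2 : ZMod 12) + 4 = 6 from rfl, show (2 : ZMod 12) + 2 = 4 from rfl] at h
        rw [← commutatorElement_def, h]
      have p1 := prod _ _ _ _ _ (triv 5 6 (by decide) d3 1 (o5 _) (ok_one σ 6)) (triv 3 6 (by decide) d5 1 (o3 _) (ok_one σ 6))
        (by simp)
      have p2 := prod _ _ _ _ _ p1 (triv 6 6 (by decide) e2 1 he2 (ok_one σ 6)) (by simp)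
      have p3 := prod _ _ _ _ _ p2 h2 (mul_comm_of (mul_comm_of (z4c (by decide) (o5 _) (he6.congr (by decide)))
        (z4c (by decide) (o3 _) (he6.congr (by decide)))) (z4c (by decide) he2 (he6.congr (by decide))))
      rw [hq, p3]; group
  -- `m = q⁻¹ n` centralises `Q₁` and `t`
  have hm : ∀ r ∈ Q1 σ x, (q⁻¹ * n) * r = r * (q⁻¹ * n) := by
    intro r hr
    rw [Q1_eq] at hr
    refine gl_comm v.hex (fun k hk b hb => ?_) hr
    have e := qy k b hk hb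
    have e' : q * x k b * q⁻¹ = n * x k b * n⁻¹ := mul_right_cancel e
    calc q⁻¹ * n * x k b = q⁻¹ * (n * x k b * n⁻¹) * n := by group
      _ = q⁻¹ * (q * x k b * q⁻¹) * n := by rw [e']
      _ = x k b * (q⁻¹ * n) := by group
  have hmt : (q⁻¹ * n) * t = t * (q⁻¹ * n) := mul_comm_of (inv_comm_of (tQ v s q_mem).symm) ht
  rcases v.c1 _ hmt hm with h | h
  · have e : n = q * (q⁻¹ * n) := by group
    rw [e]
    exact mul_mem q_mem (Zs_le_Q1 v h)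
  · exfalso
    have e : t = (t * (q⁻¹ * n)) * (n⁻¹ * q) := by group
    have c1 : (t * (q⁻¹ * n)) * a = a * (t * (q⁻¹ * n)) := (s.aP _ (Q1_le_P1 v (Zs_le_Q1 v h))).symm
    have c2 : n⁻¹ * a = a * n⁻¹ := inv_comm_of (hn.1 a (a_mem_Zh v s))
    have c3 : q * a = a * q := (s.aP _ (Q1_le_P1 v q_mem)).symm
    have c4 : t * a = a * t := by
      have := mul_comm_of c1 (mul_comm_of c2 c3)
      rwa [← e] at this
    exact a_not_comm v s c4.symm

/-- the kernel of `n ↦ ⁅n, t⁆` -/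
theorem N1_ker {n : G} (hn : n ∈ N1 σ x t a) (h : ⁅n, t⁆ ∈ Zh x a) : n ∈ Q1 σ x ⊔ Zh x a := by
  rw [commutatorElement_def] at h
  set c := n * t * n⁻¹ * t⁻¹ with hc
  have h1 : c * (t * c * t⁻¹) = 1 := by
    rw [hc]
    calc n * t * n⁻¹ * t⁻¹ * (t * (n * t * n⁻¹ * t⁻¹) * t⁻¹) = n * (t * t) * n⁻¹ * t⁻¹ * t⁻¹ := by group
      _ = 1 := by rw [v.tt, tinv v, mul_one, mul_inv_cancel, one_mul, v.tt]
  rcases Zh_ct v s h h1 with e | e
  · refine Q_le_QZ v s (N1_Ct v s hn ?_)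
    rw [hc] at e
    have e' : n * t * n⁻¹ = t := mul_inv_eq_one.1 e
    exact mul_inv_eq_iff_eq_mul.1 e'
  · -- `a n` commutes with `t`
    have e1 : n * t * n⁻¹ = x 4 1 * t := by
      rw [← e, hc]; group
    have hz := z_mem_Zh v s
    have haz := a_x v s (k := 4) (by decide) (ok_one σ 4)
    have hat := s.at'
    have e2 : (a * n) * t * (a * n)⁻¹ = t := by
      calc (a * n) * t * (a * n)⁻¹ = a * (n * t * n⁻¹) * a⁻¹ := by group
        _ = (a * x 4 1) * t * a⁻¹ := by rw [e1]; group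
        _ = x 4 1 * (a * t * a⁻¹) := by rw [haz]; group
        _ = (x 4 1 * t) * x 4 1 := by rw [hat]; group
        _ = t * (x 4 1 * x 4 1) := by rw [← v.tx 4 1 (ok_one σ 4)]; group
        _ = t := by rw [xx v (ok_one σ 4), mul_one]
    have h3 := N1_Ct v s (mul_mem (Z_le v s (a_mem_Zh v s)) hn) (mul_inv_eq_iff_eq_mul.1 e2)
    have e3 : n = a⁻¹ * (a * n) := by group
    rw [e3]
    exact mul_mem (Z_le_QZ v s (inv_mem (a_mem_Zh v s))) (Q_le_QZ v s h3)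

end Two

end Cfsg.Agent.TriTwo
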