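import Mathlib
import Cfsg.Agent.TriTwo.SecThreeB

/-!
# S1778, type `³D₄(2)`: section 3, `N₁ / Ẑ` is elementary abelian, the complement `E`
-/

set_option autoImplicit false
set_option linter.unusedSectionVars false

namespace Cfsg.Agent.TriTwo

open Cfsg.Agent.StdRank2.Hex Cfsg.Agent.SplitTwo
open scoped commutatorElement

section Abs

variable {G : Type*} [Group G]

/-- the set of `y` centralising `C` with `⁅y, g⁆ ∈ C` -/
theorem closure_comm_aux {S : Set G} {C : Subgroup G} (hC : ∀ g ∈ S, ∀ c ∈ C, g * c = c * g) {y' : G}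
    (h : ∀ g ∈ S, ⁅g, y'⁆ ∈ C) {y : G} (hy : y ∈ Subgroup.closure S) : (∀ c ∈ C, y * c = c * y) ∧ ⁅y, y'⁆ ∈ C := by
  let K : Subgroup G :=
    { carrier := {y | (∀ c ∈ C, y * c = c * y) ∧ ⁅y, y'⁆ ∈ C}
      mul_mem' := by
        rintro g k ⟨hg, hg'⟩ ⟨hk, hk'⟩
        refine ⟨fun c hc => mul_comm_of (hg c hc) (hk c hc), ?_⟩
        have e : ⁅g * k, y'⁆ = g * ⁅k, y'⁆ * g⁻¹ * ⁅g, y'⁆ := by
          rw [commutatorElement_def, commutatorElement_def, commutatorElement_def]; group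
        rw [e, hg _ hk', mul_inv_cancel_right]
        exact mul_mem hk' hg'
      one_mem' := ⟨fun c _ => by simp, by simp [one_mem]⟩
      inv_mem' := by
        rintro g ⟨hg, hg'⟩
        refine ⟨fun c hc => inv_comm_of (hg c hc), ?_⟩
        have e : ⁅g⁻¹, y'⁆ = g⁻¹ * (⁅g, y'⁆)⁻¹ * g := by
          rw [commutatorElement_def, commutatorElement_def]; group
        rw [e, inv_comm_of (hg _ (inv_mem hg')), inv_mul_cancel_right]
        exact inv_mem hg' }
  have hK : Subgroup.closure S ≤ K := by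
    rw [Subgroup.closure_le]
    exact fun g hg => ⟨hC g hg, h g hg⟩
  exact hK hy

theorem closure_comm {S : Set G} {C : Subgroup G} (hC : ∀ g ∈ S, ∀ c ∈ C, g * c = c * g)
    (h : ∀ g ∈ S, ∀ g' ∈ S, ⁅g, g'⁆ ∈ C) {y y' : G} (hy : y ∈ Subgroup.closure S) (hy' : y' ∈ Subgroup.closure S) :
    ⁅y, y'⁆ ∈ C := by
  refine (closure_comm_aux hC (fun g hg => ?_) hy).2
  rw [← commutatorElement_inv]
  exact inv_mem (closure_comm_aux hC (fun g' hg' => h g' hg' g hg) hy').2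

theorem closure_sq {S : Set G} {C : Subgroup G} (hC : ∀ g ∈ S, ∀ c ∈ C, g * c = c * g)
    (h : ∀ g ∈ S, ∀ g' ∈ S, ⁅g, g'⁆ ∈ C) (hs : ∀ g ∈ S, g * g ∈ C) {y : G} (hy : y ∈ Subgroup.closure S) :
    y * y ∈ C := by
  have cent : ∀ y ∈ Subgroup.closure S, ∀ c ∈ C, y * c = c * y := fun y hy =>
    (closure_comm_aux (y' := 1) hC (fun g _ => by simp [one_mem]) hy).1
  let K : Subgroup G :=
    { carrier := {y | y ∈ Subgroup.closure S ∧ y * y ∈ C}
      mul_mem' := by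
        rintro g k ⟨hg, hg'⟩ ⟨hk, hk'⟩
        refine ⟨mul_mem hg hk, ?_⟩
        have e : g * k * (g * k) = (g * g) * ⁅g⁻¹, k⁆ * (k * k) := by
          rw [commutatorElement_def]; group
        rw [e]
        exact mul_mem (mul_mem hg' (closure_comm hC h (inv_mem hg) hk)) hk'
      one_mem' := ⟨one_mem _, by simp [one_mem]⟩
      inv_mem' := by
        rintro g ⟨hg, hg'⟩
        refine ⟨inv_mem hg, ?_⟩
        have e : g⁻¹ * g⁻¹ = (g * g)⁻¹ := by group
        rw [e]; exact inv_mem hg' }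
  have hK : Subgroup.closure S ≤ K := by
    rw [Subgroup.closure_le]
    exact fun g hg => ⟨Subgroup.subset_closure hg, hs g hg⟩
  exact (hK hy).2

end Abs

section Three

variable {E : Type*} [Field E] {σ : E ≃+* E} {G : Type*} [Group G] {x : ZMod 12 → E → G} {t a : G} (v : Env σ x t)
  (s : Seed σ x t a)

include v in
theorem Q1_sq {q : G} (hq : q ∈ Q1 σ x) : q * q ∈ Zs σ x := by
  have hq' := hq
  unfold Q1 gens at hq
  refine closure_sq (C := Zs σ x) (S := {y : G | ∃ k ∈ ({2, 3, 4, 5, 6} : Set (ZMod 12)), ∃ a, Ok σ k a ∧ y = x k a})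
    (fun g hg c hc => ?_) (fun g hg g' hg' => ?_) (fun g hg => ?_) hq
  · have hgQ : g ∈ Q1 σ x := Subgroup.subset_closure hg
    rcases (mem_Zs v).1 hc with rfl | rfl
    · simp
    · exact P1_z4 v (Q1_le_P1 v hgQ)
  · exact Q1_comm v (Subgroup.subset_closure hg) (Subgroup.subset_closure hg')
  · obtain ⟨k, -, b, hb, rfl⟩ := hg
    rw [xx v hb]; exact one_mem _

include v in
theorem disj_opps {L M : List (ZMod 12)} (hLM : (opps L M || opps (L.map fun i => 6 - i) (M.map fun i => 6 - i)) = true)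
    {y : G} (hy : y ∈ gl σ x L) (hy' : y ∈ gl σ x M) : y = 1 := by
  rw [Bool.or_eq_true] at hLM
  rcases hLM with hLM | hLM
  · exact disj_of_opps v.hex hLM hy hy'
  · have e6 : (2 * 6 + 6 : ZMod 12) = 6 := by decide
    have h1 : nn x 6 * y * (nn x 6)⁻¹ ∈ gl σ x (L.map fun i => 6 - i) :=
      gl_nn v.hex 6 (fun j hj => by rw [e6]; exact List.mem_map.2 ⟨j, hj, rfl⟩) hy
    have h2 : nn x 6 * y * (nn x 6)⁻¹ ∈ gl σ x (M.map fun i => 6 - i) :=
      gl_nn v.hex 6 (fun j hj => by rw [e6]; exact List.mem_map.2 ⟨j, hj, rfl⟩) hy'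
    have := disj_of_opps v.hex hLM h1 h2
    rwa [mul_inv_eq_one, mul_eq_left] at this

include v in
/-- uniqueness of the first factor -/
theorem uniq_gl {L : List (ZMod 12)} {k : ZMod 12} (hopp : (opps [k] L || opps ([k].map fun i => 6 - i) (L.map fun i => 6 - i)) = true) {b b' : E} (hb : Ok σ k b) (hb' : Ok σ k b')
    {y y' : G} (hy : y ∈ gl σ x L) (hy' : y' ∈ gl σ x L) (e : x k b * y = x k b' * y') : b = b' ∧ y = y' := by
  have h1 : x k (b' + b) = y' * y⁻¹ := by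
    rw [v.hex.add k b' b hb' hb]
    have e2 : x k b' * (x k b * y) = (x k b' * x k b') * y' := by rw [e]; group
    rw [xx v hb', one_mul] at e2
    rw [← e2]; group
  have h2 : x k (b' + b) = 1 := by
    refine disj_opps v hopp (mem_gl (by simp) (hb'.add hb)) ?_
    rw [h1]; exact mul_mem hy' (inv_mem hy)
  have h3 : b' + b = 0 := v.hex.inj k _ (hb'.add hb) h2
  have h4 : b' = b := by
    have := eq_neg_of_add_eq_zero_left h3
    rwa [negEq v.hex.two] at this
  refine ⟨h4.symm, ?_⟩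
  rw [h4] at e
  exact mul_left_cancel e

include v in
/-- `C_{Q₁}(H) = ⟨z₂, z₄, z₆⟩` -/
theorem Q1_fix {q : G} (hq : q ∈ Q1 σ x) {r : E} (hr : r ≠ 0) (hr1 : r ≠ 1) (h : tau x r * q = q * tau x r) :
    ∃ i j k, Ok σ 2 i ∧ Ok σ 4 j ∧ Ok σ 6 k ∧ q = x 2 i * x 4 j * x 6 k := by
  rw [Q1_eq] at hq
  obtain ⟨i, hi, y1, hy1, rfl⟩ := split_gl v.hex (by decide) hq
  obtain ⟨b, hb, y2, hy2, rfl⟩ := split_gl v.hex (by decide) hy1
  obtain ⟨j, hj, y3, hy3, rfl⟩ := split_gl v.hex (by decide) hy2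
  obtain ⟨d, hd, y4, hy4, rfl⟩ := split_gl v.hex (by decide) hy3
  obtain ⟨k, hk, y5, hy5, rfl⟩ := split_gl v.hex (by decide) hy4
  rw [gl_nil v.hex hy5, mul_one] at *
  have act := fun (k : ZMod 12) (b : E) (hb : Ok σ k b) => tau_act v.hex v.card v.fix hr k hb
  have ev : ∀ (k : ZMod 12) (b : E), k.val % 2 = 0 → Ok σ k b → tau x r * x k b * (tau x r)⁻¹ = x k b := fun k b hk hb => by
    rw [tau_even v.hex v.card v.fix hr hk hb, mul_inv_cancel_right]
  have e : tau x r * (x 2 i * (x 3 b * (x 4 j * (x 5 d * x 6 k)))) * (tau x r)⁻¹ =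
      x 2 i * (x 3 (r⁻¹ * b) * (x 4 j * (x 5 (r * d) * x 6 k))) := by
    have e1 : tau x r * (x 2 i * (x 3 b * (x 4 j * (x 5 d * x 6 k)))) * (tau x r)⁻¹ =
      (tau x r * x 2 i * (tau x r)⁻¹) * ((tau x r * x 3 b * (tau x r)⁻¹) * ((tau x r * x 4 j * (tau x r)⁻¹) *
        ((tau x r * x 5 d * (tau x r)⁻¹) * (tau x r * x 6 k * (tau x r)⁻¹)))) := by group
    rw [e1, ev 2 i (by decide) hi, ev 4 j (by decide) hj, ev 6 k (by decide) hk, act 3 b hb, act 5 d hd]
    have w3 : wt (3 : ZMod 12) r = r⁻¹ := by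
      unfold wt; rw [if_neg (by decide), if_neg (by decide)]
    have w5 : wt (5 : ZMod 12) r = r := by
      unfold wt; rw [if_neg (by decide), if_pos (by decide)]
    rw [w3, w5]
  rw [h, mul_inv_cancel_right] at e
  have e2 := mul_left_cancel e
  have o3 := fun b : E => ok_odd (σ := σ) (k := 3) (by decide) b
  have o5 := fun b : E => ok_odd (σ := σ) (k := 5) (by decide) b
  have m6 : ∀ L : List (ZMod 12), 6 ∈ L → x 6 k ∈ gl σ x L := fun L hL => mem_gl hL hk
  have u1 := uniq_gl v (L := [4, 5, 6]) (by decide) (o3 _) (o3 _)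
    (mul_mem (mem_gl (by decide) hj) (mul_mem (mem_gl (by decide) (o5 d)) (m6 _ (by decide))))
    (mul_mem (mem_gl (by decide) hj) (mul_mem (mem_gl (by decide) (o5 (r * d))) (m6 _ (by decide)))) e2
  have e3 := mul_left_cancel u1.2
  have u2 := uniq_gl v (L := [6]) (by decide) (o5 _) (o5 _) (m6 _ (by decide)) (m6 _ (by decide)) e3
  have hb0 : b = 0 := by
    by_contra hne
    have h1 := u1.1
    have : r⁻¹ = 1 := by
      have h2 : r⁻¹ * b = 1 * b := by rw [one_mul]; exact h1.symm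
      exact mul_right_cancel₀ hne h2
    exact hr1 (inv_eq_one.1 this)
  have hd0 : d = 0 := by
    by_contra hne
    have h1 := u2.1
    have h2 : r * d = 1 * d := by rw [one_mul]; exact h1.symm
    exact hr1 (mul_right_cancel₀ hne h2)
  refine ⟨i, j, k, hi, hj, hk, ?_⟩
  rw [hb0, hd0, v.hex.x_zero, v.hex.x_zero]
  group

include v s

/-- `Nu n q`: `⁅n, t⁆ ≡ q` modulo `Ẑ` -/
def Nu (x : ZMod 12 → E → G) (t a n q : G) : Prop := n * t * n⁻¹ * t⁻¹ * q⁻¹ ∈ Zh x a

theorem N1_conjQ {n : G} (hn : n ∈ N1 σ x t a) {q : G} (hq : q ∈ Q1 σ x) : ∃ c ∈ Zh x a, n * q * n⁻¹ = c * q :=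
  ⟨_, hn.2.1 q hq, by group⟩

theorem nu_iff {n q : G} : Nu x t a n q ↔ ∃ c ∈ Zh x a, n * t * n⁻¹ = c * q * t := by
  unfold Nu
  constructor
  · intro h
    exact ⟨_, h, by group⟩
  · rintro ⟨c, hc, e⟩
    rw [e]
    have : c * q * t * t⁻¹ * q⁻¹ = c := by group
    rwa [this]

theorem nu_exists {n : G} (hn : n ∈ N1 σ x t a) : ∃ q ∈ Q1 σ x, Nu x t a n q := by
  obtain ⟨q, hq, c, hc, e⟩ := mem_QZ v s hn.2.2.2.1
  refine ⟨q, hq, (nu_iff v s).2 ⟨c, hc, ?_⟩⟩
  have : n * t * n⁻¹ = (n * t * n⁻¹ * t⁻¹) * t := by group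
  rw [this, e, P1_Zh v s (Q1_le_P1 v hq) hc]

theorem nu_mul {n m q r : G} (hn : n ∈ N1 σ x t a) (hm : m ∈ N1 σ x t a) (hq : q ∈ Q1 σ x) (hr : r ∈ Q1 σ x)
    (h1 : Nu x t a n q) (h2 : Nu x t a m r) : Nu x t a (n * m) (q * r) := by
  obtain ⟨c, hc, e1⟩ := (nu_iff v s).1 h1
  obtain ⟨d, hd, e2⟩ := (nu_iff v s).1 h2
  obtain ⟨f, hf, e3⟩ := N1_conjQ v s hn hr
  have hqr := Zs_le_Zh v s (Q1_comm v hr hq)
  set g := ⁅r, q⁆ with hg
  have e4 : r * q = g * (q * r) := by rw [hg, commutatorElement_def]; group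
  have nd : n * d = d * n := hn.1 d hd
  have rc : r * c = c * r := P1_Zh v s (Q1_le_P1 v hr) hc
  refine (nu_iff v s).2 ⟨d * f * c * g, mul_mem (mul_mem (mul_mem hd hf) hc) hqr, ?_⟩
  calc n * m * t * (n * m)⁻¹ = n * (m * t * m⁻¹) * n⁻¹ := by group
    _ = (n * d) * r * t * n⁻¹ := by rw [e2]; group
    _ = d * (n * r * n⁻¹) * (n * t * n⁻¹) := by rw [nd]; group
    _ = d * f * (r * c) * q * t := by rw [e3, e1]; group
    _ = d * f * c * (r * q) * t := by rw [rc]; group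
    _ = d * f * c * g * (q * r) * t := by rw [e4]; group

theorem nu_inv {n q : G} (hn : n ∈ N1 σ x t a) (hq : q ∈ Q1 σ x) (h1 : Nu x t a n q) : Nu x t a n⁻¹ q⁻¹ := by
  obtain ⟨c, hc, e1⟩ := (nu_iff v s).1 h1
  obtain ⟨f, hf, e3⟩ := N1_conjQ v s (inv_mem hn) hq
  have nc : n⁻¹ * c = c * n⁻¹ := inv_comm_of (hn.1 c hc)
  have hcf : ∀ y ∈ Q1 σ x, ∀ z ∈ Zh x a, y * z = z * y := fun y hy z hz => P1_Zh v s (Q1_le_P1 v hy) hz
  refine (nu_iff v s).2 ⟨(c * f)⁻¹, inv_mem (mul_mem hc hf), ?_⟩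
  rw [inv_inv] at e3 ⊢
  have e4 : t = (n⁻¹ * (c * q) * n) * (n⁻¹ * t * n) := by
    calc t = n⁻¹ * (n * t * n⁻¹) * n := by group
      _ = n⁻¹ * (c * q * t) * n := by rw [e1]
      _ = _ := by group
  have e5 : n⁻¹ * (c * q) * n = c * f * q := by
    calc n⁻¹ * (c * q) * n = (n⁻¹ * c) * q * n := by group
      _ = c * (n⁻¹ * q * n) := by rw [nc]; group
      _ = _ := by rw [e3]; group
  rw [e5] at e4
  calc n⁻¹ * t * n = (c * f * q)⁻¹ * (c * f * q * (n⁻¹ * t * n)) := by group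
    _ = (c * f * q)⁻¹ * t := by rw [← e4]
    _ = (q⁻¹ * (c * f)⁻¹) * t := by group
    _ = _ := by rw [hcf _ (inv_mem hq) _ (inv_mem (mul_mem hc hf))]

theorem nu_one : Nu x t a 1 1 := by unfold Nu; simp [one_mem]

theorem nu_Q {n : G} (hn : n ∈ N1 σ x t a) {q : G} (h : Nu x t a n q) (hq : q ∈ Zh x a) : n ∈ Q1 σ x ⊔ Zh x a := by
  refine N1_ker v s hn ?_
  rw [commutatorElement_def]
  have e : n * t * n⁻¹ * t⁻¹ = (n * t * n⁻¹ * t⁻¹ * q⁻¹) * q := by group
  rw [e]; exact mul_mem h hq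

theorem nu_conj {p n q : G} (hp : p ∈ P1 σ x) (h : Nu x t a n q) : Nu x t a (p * n * p⁻¹) (p * q * p⁻¹) := by
  obtain ⟨c, hc, e1⟩ := (nu_iff v s).1 h
  have hpt : t * p = p * t := t_gens v (S := {1, 2, 3, 4, 5, 6, 7}) hp
  have hpt' : p⁻¹ * t = t * p⁻¹ := inv_comm_of hpt.symm
  refine (nu_iff v s).2 ⟨c, hc, ?_⟩
  calc p * n * p⁻¹ * t * (p * n * p⁻¹)⁻¹ = p * n * (p⁻¹ * t) * p * n⁻¹ * p⁻¹ := by group
    _ = p * (n * t * n⁻¹) * p⁻¹ := by rw [hpt']; group
    _ = (p * c) * q * t * p⁻¹ := by rw [e1]; group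
    _ = c * (p * q * (t * p⁻¹)) := by rw [P1_Zh v s hp hc]; group
    _ = _ := by rw [← hpt']; group

/-- `[N₁, N₁] ≤ Q₁ Ẑ` -/
theorem N1_comm_QZ {n m : G} (hn : n ∈ N1 σ x t a) (hm : m ∈ N1 σ x t a) : ⁅n, m⁆ ∈ Q1 σ x ⊔ Zh x a := by
  obtain ⟨q, hq, h1⟩ := nu_exists v s hn
  obtain ⟨r, hr, h2⟩ := nu_exists v s hm
  have h3 := nu_mul v s hn hm hq hr h1 h2
  have h4 := nu_mul v s (inv_mem hn) (inv_mem hm) (inv_mem hq) (inv_mem hr) (nu_inv v s hn hq h1) (nu_inv v s hm hr h2)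
  have h5 := nu_mul v s (mul_mem hn hm) (mul_mem (inv_mem hn) (inv_mem hm)) (mul_mem hq hr)
    (mul_mem (inv_mem hq) (inv_mem hr)) h3 h4
  have e1 : n * m * (n⁻¹ * m⁻¹) = ⁅n, m⁆ := by rw [commutatorElement_def]; group
  have e2 : q * r * (q⁻¹ * r⁻¹) = ⁅q, r⁆ := by rw [commutatorElement_def]; group
  rw [e1, e2] at h5
  refine nu_Q v s ?_ h5 (Zs_le_Zh v s (Q1_comm v hq hr))
  rw [← e1]
  exact mul_mem (mul_mem hn hm) (mul_mem (inv_mem hn) (inv_mem hm))

/-- `[a₂, a₆] ∈ Ẑ` -/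
theorem comm_a2_a6 : ⁅a2 x a, a6 x a⁆ ∈ Zh x a := by
  obtain ⟨η, h0, h1, -, -, -⟩ := exists_eta v.hex.two v.card v.fix v.hex.cube
  have hu := N1_comm_QZ v s (a2_N1 v s) (a6_N1 v s)
  set u := ⁅a2 x a, a6 x a⁆ with hud
  have h22 := a2_a2 v s
  have h66 := a6_a6 v s
  have i2 := a2inv v s
  have i6 := a6inv v s
  have hu1 : u = a2 x a * a6 x a * a2 x a * a6 x a := by
    rw [hud, commutatorElement_def, i2, i6]
  obtain ⟨q, hq, c, hc, e⟩ := mem_QZ v s hu
  have hqc : q * c = c * q := P1_Zh v s (Q1_le_P1 v hq) hc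
  have hcc := Zh_sq v s hc
  -- `u` commutes with the torus
  have hut : tau x η * u = u * tau x η := by
    have e2 := a2_tau v s h0
    have e6 := a6_tau v s h0
    rw [hu1]
    exact (mul_comm_of (mul_comm_of (mul_comm_of e2 e6) e2) e6).symm
  have hqt : tau x η * q = q * tau x η := by
    have hct : c * tau x η = tau x η * c := (P1_Zh v s (tau_P1 v η) hc).symm
    have e1 : q = u * c⁻¹ := by rw [e]; group
    rw [e1]
    exact (mul_comm_of hut.symm (inv_comm_of hct)).symm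
  obtain ⟨i, j, k, hi, hj, hk, hqe⟩ := Q1_fix v hq h0 h1 hqt
  -- `u² ∈ Z`
  have huu : u * u ∈ Zs σ x := by
    have : u * u = q * q := by
      calc u * u = (q * c) * (q * c) := by rw [e]
        _ = (c * q) * (q * c) := by rw [hqc]
        _ = (c * q) * (c * q) := by rw [← hqc]
        _ = (q * c) * (c * q) := by rw [hqc]
        _ = q * (c * c) * q := by group
        _ = q * q := by rw [hcc, mul_one]
    rw [this]
    exact Q1_sq v hq
  have haZ : a ∉ Zs σ x := by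
    intro h
    refine a_not_comm v s ?_
    exact (t_gens v h).symm
  have inv2 : a2 x a * u * a2 x a = u⁻¹ := by
    rw [eq_comm, inv_eq_iff_mul_eq_one, hu1]
    calc a2 x a * a6 x a * a2 x a * a6 x a * (a2 x a * (a2 x a * a6 x a * a2 x a * a6 x a) * a2 x a)
        = a2 x a * a6 x a * a2 x a * a6 x a * ((a2 x a * a2 x a) * a6 x a * a2 x a * a6 x a * a2 x a) := by group
      _ = a2 x a * a6 x a * a2 x a * (a6 x a * a6 x a) * a2 x a * a6 x a * a2 x a := by rw [h22]; group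
      _ = a2 x a * a6 x a * (a2 x a * a2 x a) * a6 x a * a2 x a := by rw [h66]; group
      _ = a2 x a * (a6 x a * a6 x a) * a2 x a := by rw [h22]; group
      _ = 1 := by rw [h66, mul_one, h22]
  have inv6 : a6 x a * u * a6 x a = u⁻¹ := by
    rw [eq_comm, inv_eq_iff_mul_eq_one, hu1]
    calc a2 x a * a6 x a * a2 x a * a6 x a * (a6 x a * (a2 x a * a6 x a * a2 x a * a6 x a) * a6 x a)
        = a2 x a * a6 x a * a2 x a * (a6 x a * a6 x a) * (a2 x a * a6 x a * a2 x a * (a6 x a * a6 x a)) := by group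
      _ = a2 x a * a6 x a * (a2 x a * a2 x a) * a6 x a * a2 x a := by rw [h66]; group
      _ = a2 x a * (a6 x a * a6 x a) * a2 x a := by rw [h22]; group
      _ = 1 := by rw [h66, mul_one, h22]
  have a2Z : ∀ y ∈ Zh x a, a2 x a * y = y * a2 x a := fun y hy => (a2_N1 v s).1 y hy
  have a6Z : ∀ y ∈ Zh x a, a6 x a * y = y * a6 x a := fun y hy => (a6_N1 v s).1 y hy
  -- no `z₆`
  have hk0 : x 6 k = 1 := by
    rcases even_val v (by decide) hk with h | h
    · exact h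
    · exfalso
      have c2 : a2 x a * x 2 i = x 2 i * a2 x a := a2_x v s (by decide) hi
      have c4 : a2 x a * x 4 j = x 4 j * a2 x a := a2_x v s (by decide) hj
      have c6 : a2 x a * x 6 1 = a * x 6 1 * a2 x a := by
        have := a2_x6 v s
        rw [← mul_inv_eq_iff_eq_mul, ← mul_inv_eq_iff_eq_mul]
        exact this
      have aq := s.aP
      have m2 : x 2 i * x 4 j ∈ P1 σ x := by
        rw [P1_eq]; exact mul_mem (mem_gl (by decide) hi) (mem_gl (by decide) hj)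
      have e1 : a2 x a * u * a2 x a = a * u := by
        rw [e, hqe, h]
        calc a2 x a * (x 2 i * x 4 j * x 6 1 * c) * a2 x a
            = (a2 x a * x 2 i) * x 4 j * x 6 1 * c * a2 x a := by group
          _ = x 2 i * (a2 x a * x 4 j) * x 6 1 * c * a2 x a := by rw [c2]; group
          _ = x 2 i * x 4 j * (a2 x a * x 6 1) * c * a2 x a := by rw [c4]; group
          _ = ((x 2 i * x 4 j) * a) * x 6 1 * (a2 x a * c) * a2 x a := by rw [c6]; group
          _ = a * (x 2 i * x 4 j) * x 6 1 * c * (a2 x a * a2 x a) := by rw [← s.aP _ m2, a2Z c hc]; group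
          _ = _ := by rw [h22]; group
      rw [inv2] at e1
      -- `u² = a`
      have e2 : a = (u * u)⁻¹ := by
        have : a = a * u * u⁻¹ := by group
        rw [this, ← e1]; group
      exact haZ (by rw [e2]; exact inv_mem huu)
  -- no `z₂`
  have hi0 : x 2 i = 1 := by
    rcases even_val v (by decide) hi with h | h
    · exact h
    · exfalso
      have c4 : a6 x a * x 4 j = x 4 j * a6 x a := a6_x v s (by decide) hj
      have c2 : a6 x a * x 2 1 = a * x 2 1 * a6 x a := by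
        have := a6_x2 v s
        rw [← mul_inv_eq_iff_eq_mul, ← mul_inv_eq_iff_eq_mul]
        exact this
      have e1 : a6 x a * u * a6 x a = a * u := by
        rw [e, hqe, h, hk0]
        calc a6 x a * (x 2 1 * x 4 j * 1 * c) * a6 x a
            = (a6 x a * x 2 1) * x 4 j * c * a6 x a := by group
          _ = a * x 2 1 * (a6 x a * x 4 j) * c * a6 x a := by rw [c2]; group
          _ = a * x 2 1 * x 4 j * (a6 x a * c) * a6 x a := by rw [c4]; group
          _ = a * x 2 1 * x 4 j * c * (a6 x a * a6 x a) := by rw [a6Z c hc]; group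
          _ = _ := by rw [h66]; group
      rw [inv6] at e1
      have e2 : a = (u * u)⁻¹ := by
        have : a = a * u * u⁻¹ := by group
        rw [this, ← e1]; group
      exact haZ (by rw [e2]; exact inv_mem huu)
  rw [e, hqe, hk0, hi0, one_mul, mul_one]
  refine mul_mem ?_ hc
  refine Zs_le_Zh v s ?_
  rw [Zs_eq]
  exact mem_gl (by simp) hj

end Three

end Cfsg.Agent.TriTwo
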