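import Mathlib
import Cfsg.Agent.TriTwo.SecThreeC

/-!
# S1778, type `³D₄(2)`: section 3, the complement `E`, end
-/

set_option autoImplicit false
set_option linter.unusedSectionVars false

namespace Cfsg.Agent.TriTwo

open Cfsg.Agent.StdRank2.Hex Cfsg.Agent.SplitTwo
open scoped commutatorElement

section Four

variable {E : Type*} [Field E] {σ : E ≃+* E} {G : Type*} [Group G] {x : ZMod 12 → E → G} {t a : G} (v : Env σ x t)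
  (s : Seed σ x t a)

/-- the conjugates by `x₁(b)` -/
def sh (x : ZMod 12 → E → G) (y : G) (b : E) : G := x 1 b * y * x 1 b

include v

theorem x1P (b : E) : x 1 b ∈ P1 σ x := by
  rw [P1_eq]; exact mem_gl (by decide) (ok_odd (by decide) _)

theorem x1i (b : E) : (x 1 b)⁻¹ = x 1 b := xinv v (ok_odd (by decide) b)

theorem x1x1 (b : E) : x 1 b * x 1 b = 1 := xx v (ok_odd (by decide) b)

theorem sh_eq (y : G) (b : E) : sh x y b = x 1 b * y * (x 1 b)⁻¹ := by rw [sh, x1i v]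

theorem sh_zero (y : G) : sh x y 0 = y := by
  unfold sh; rw [v.hex.x_zero, one_mul, mul_one]

theorem sh_sh (y : G) (b c : E) : x 1 b * sh x y c * x 1 b = sh x y (b + c) := by
  unfold sh
  have h1 := v.hex.add 1 b c (ok_odd (by decide) b) (ok_odd (by decide) c)
  have h2 := v.hex.add 1 c b (ok_odd (by decide) c) (ok_odd (by decide) b)
  rw [add_comm c b] at h2
  calc x 1 b * (x 1 c * y * x 1 c) * x 1 b = (x 1 b * x 1 c) * y * (x 1 c * x 1 b) := by group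
    _ = _ := by rw [← h1, ← h2]

theorem hh_comm {y : G} (hy : ∀ r, r ≠ 0 → y * tau x r = tau x r * y) {u : E} (hu : u ≠ 0) :
    y * hh x 1 u = hh x 1 u * y := by
  have h := hy (u ^ 2) (pow_ne_zero _ hu)
  unfold tau at h
  rwa [← pow_mul, pow_eight v.card] at h

/-- `n₁` maps `y^{x₁(d)}` to `y^{x₁(d⁻¹)}` -/
theorem sh_nn1 {y y' : G} (h1 : nn x 1 * y * (nn x 1)⁻¹ = y') (h2 : nn x 1 * y' * (nn x 1)⁻¹ = y)
    (hy' : ∀ b, y' * x 1 b = x 1 b * y') (hy : ∀ r, r ≠ 0 → y * tau x r = tau x r * y) {d : E} (hd : d ≠ 0) :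
    nn x 1 * sh x y d * (nn x 1)⁻¹ = sh x y d⁻¹ := by
  have hd' := inv_ne_zero hd
  have e7 : nn x 1 * x 1 d * (nn x 1)⁻¹ = x 7 d := by
    rw [v.hex.refl 1 1 (ok_odd (by decide) d)]; congr 1
  have o1 : x 1 d⁻¹ * x 1 d⁻¹ = 1 := x1x1 v _
  have ent : nt x 1 d⁻¹ = x 1 d⁻¹ * x 7 d * x 1 d⁻¹ := by
    unfold nt
    rw [inv_inv, show (1 : ZMod 12) + 6 = 7 from rfl]
  have e7' : x 7 d = x 1 d⁻¹ * nt x 1 d⁻¹ * x 1 d⁻¹ := by
    rw [ent]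
    calc x 7 d = (x 1 d⁻¹ * x 1 d⁻¹) * x 7 d * (x 1 d⁻¹ * x 1 d⁻¹) := by rw [o1]; group
      _ = _ := by group
  have enn : nt x 1 d⁻¹ * y' * nt x 1 d⁻¹ = y := by
    have i1 := v.hex.nt_inv (k := 1) (t := d⁻¹) (ok_odd (by decide) _)
    calc nt x 1 d⁻¹ * y' * nt x 1 d⁻¹ = nt x 1 d⁻¹ * y' * (nt x 1 d⁻¹)⁻¹ := by rw [i1]
      _ = hh x 1 d⁻¹ * (nn x 1 * y' * (nn x 1)⁻¹) * (hh x 1 d⁻¹)⁻¹ := by rw [← v.hex.hh_mul_nn 1 d⁻¹]; group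
      _ = y := by rw [h2, ← hh_comm v hy hd', mul_inv_cancel_right]
  calc nn x 1 * sh x y d * (nn x 1)⁻¹
      = (nn x 1 * x 1 d * (nn x 1)⁻¹) * (nn x 1 * y * (nn x 1)⁻¹) * (nn x 1 * x 1 d * (nn x 1)⁻¹) := by
        unfold sh; group
    _ = x 7 d * y' * x 7 d := by rw [e7, h1]
    _ = x 1 d⁻¹ * nt x 1 d⁻¹ * (x 1 d⁻¹ * y') * x 1 d⁻¹ * nt x 1 d⁻¹ * x 1 d⁻¹ := by rw [e7']; group
    _ = x 1 d⁻¹ * nt x 1 d⁻¹ * y' * (x 1 d⁻¹ * x 1 d⁻¹) * nt x 1 d⁻¹ * x 1 d⁻¹ := by rw [← hy']; group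
    _ = x 1 d⁻¹ * (nt x 1 d⁻¹ * y' * nt x 1 d⁻¹) * x 1 d⁻¹ := by rw [o1]; group
    _ = _ := by rw [enn]; rfl

theorem x6_nn1 : nn x 1 * x 6 1 * (nn x 1)⁻¹ = x 2 1 := by rw [v.hex.refl 1 6 (ok_one σ 6)]; congr 1
theorem x2_nn1 : nn x 1 * x 2 1 * (nn x 1)⁻¹ = x 6 1 := by rw [v.hex.refl 1 2 (ok_one σ 2)]; congr 1

theorem w_nn1 {d : E} (hd : d ≠ 0) : nn x 1 * sh x (x 6 1) d * (nn x 1)⁻¹ = sh x (x 6 1) d⁻¹ :=
  sh_nn1 v (x6_nn1 v) (x2_nn1 v) (fun b => cm v.hex (by decide) (ok_one σ 2) (ok_odd (by decide) b))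
    (fun r hr => (tau_even v.hex v.card v.fix hr (by decide) (ok_one σ 6)).symm) hd

omit v in
theorem sh_comm {y z : G} (b : E) : ⁅x 1 b * y * (x 1 b)⁻¹, x 1 b * z * (x 1 b)⁻¹⁆ = x 1 b * ⁅y, z⁆ * (x 1 b)⁻¹ :=
  HexTwo.conj_comm _ _ _

include s

theorem a6_nn1 : nn x 1 * a6 x a * (nn x 1)⁻¹ = a2 x a := by
  unfold a6
  rw [v.hex.nn_inv]
  have := v.hex.nn_sq 1
  calc nn x 1 * (nn x 1 * a2 x a * nn x 1) * nn x 1 = (nn x 1 * nn x 1) * a2 x a * (nn x 1 * nn x 1) := by group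
    _ = _ := by rw [this]; group

theorem A_nn1 {d : E} (hd : d ≠ 0) : nn x 1 * sh x (a6 x a) d * (nn x 1)⁻¹ = sh x (a6 x a) d⁻¹ :=
  sh_nn1 v (a6_nn1 v s) rfl (fun b => a2_x v s (by decide) (ok_odd (by decide) b)) (fun r hr => a6_tau v s hr) hd

theorem a2_x1 (b : E) : x 1 b * a2 x a * (x 1 b)⁻¹ = a2 x a := by
  rw [← a2_x v s (by decide) (ok_odd (by decide) b), mul_inv_cancel_right]

theorem fixZ {p c : G} (hp : p ∈ P1 σ x) (hc : c ∈ Zh x a) : p * c * p⁻¹ = c := by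
  rw [P1_Zh v s hp hc, mul_inv_cancel_right]

theorem fixZ' {p c : G} (hp : p ∈ P1 σ x) (hc : p * c * p⁻¹ ∈ Zh x a) : c ∈ Zh x a := by
  have h := fixZ v s (inv_mem hp) hc
  have e : p⁻¹ * (p * c * p⁻¹) * p⁻¹⁻¹ = c := by group
  rw [e] at h
  rw [h]; exact hc

theorem A_mem (b : E) : sh x (a6 x a) b ∈ N1 σ x t a := by
  rw [sh_eq v]
  exact P_N1 v s (x1P v b) (a6_N1 v s)

theorem A_mem_Ec (b : E) : sh x (a6 x a) b ∈ Ec x a :=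
  (le_sup_right : _ ≤ Ec x a) (Subgroup.subset_closure ⟨b, rfl⟩)

theorem Zh_le_Ec : Zh x a ≤ Ec x a := le_sup_left

theorem Ec_le : Ec x a ≤ N1 σ x t a := by
  unfold Ec
  refine sup_le (Z_le v s) ?_
  rw [Subgroup.closure_le]
  rintro _ ⟨b, rfl⟩
  exact A_mem v s b

theorem A_sq (b : E) : sh x (a6 x a) b * sh x (a6 x a) b = 1 := by
  rw [sh_eq v]
  calc x 1 b * a6 x a * (x 1 b)⁻¹ * (x 1 b * a6 x a * (x 1 b)⁻¹) = x 1 b * (a6 x a * a6 x a) * (x 1 b)⁻¹ := by group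
    _ = 1 := by rw [a6_a6 v s]; group

theorem A_inv (b : E) : (sh x (a6 x a) b)⁻¹ = sh x (a6 x a) b := inv_eq_of_mul_eq_one_left (A_sq v s b)

/-- `⁅a₂, A(b)⁆ ∈ Ẑ` -/
theorem comm_a2_A (b : E) : ⁅a2 x a, sh x (a6 x a) b⁆ ∈ Zh x a := by
  have h := comm_a2_a6 v s
  rw [sh_eq v, ← a2_x1 v s b, sh_comm, fixZ v s (x1P v b) h]
  exact h

theorem comm_a6_A (b : E) : ⁅a6 x a, sh x (a6 x a) b⁆ ∈ Zh x a := by
  by_cases hb : b = 0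
  · rw [hb, sh_zero v, commutatorElement_self]; exact one_mem _
  · refine fixZ' v s (nn_P1 v) ?_
    rw [← HexTwo.conj_comm, a6_nn1 v s, A_nn1 v s hb]
    exact comm_a2_A v s _

theorem comm_A_A (b c : E) : ⁅sh x (a6 x a) b, sh x (a6 x a) c⁆ ∈ Zh x a := by
  refine fixZ' v s (x1P v b) ?_
  rw [← HexTwo.conj_comm]
  have e1 : x 1 b * sh x (a6 x a) b * (x 1 b)⁻¹ = a6 x a := by
    rw [x1i v, sh_sh v, addSelf v.hex.two, sh_zero v]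
  have e2 : x 1 b * sh x (a6 x a) c * (x 1 b)⁻¹ = sh x (a6 x a) (b + c) := by
    rw [x1i v, sh_sh v]
  rw [e1, e2]
  exact comm_a6_A v s _

/-! ### The pairing -/

theorem A_x2 (b : E) : ⁅sh x (a6 x a) b, x 2 1⁆ = a := by
  have e : x 2 1 = x 1 b * x 2 1 * (x 1 b)⁻¹ := by
    rw [cm v.hex (k := 1) (l := 2) (by decide) (ok_odd (by decide) b) (ok_one σ 2), mul_inv_cancel_right]
  rw [sh_eq v]
  conv_lhs => rw [e]
  rw [sh_comm, commutatorElement_def, a6_x2 v s]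
  exact fixZ v s (x1P v b) (a_mem_Zh v s)

theorem A_w_self (b : E) : ⁅sh x (a6 x a) b, sh x (x 6 1) b⁆ = 1 := by
  rw [sh_eq v, sh_eq v, sh_comm, commutatorElement_def, a6_x v s (by decide) (ok_one σ 6)]
  group

theorem a2_w (d : E) : ⁅a2 x a, sh x (x 6 1) d⁆ = a := by
  rw [sh_eq v, ← a2_x1 v s d, sh_comm, commutatorElement_def, a2_x6 v s]
  exact fixZ v s (x1P v d) (a_mem_Zh v s)

theorem a6_w {d : E} (hd : d ≠ 0) : ⁅a6 x a, sh x (x 6 1) d⁆ = a := by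
  have h : nn x 1 * ⁅a6 x a, sh x (x 6 1) d⁆ * (nn x 1)⁻¹ = a := by
    rw [← HexTwo.conj_comm, a6_nn1 v s, w_nn1 v hd, a2_w v s]
  have h2 := fixZ v s (inv_mem (nn_P1 v)) (a_mem_Zh v s)
  calc ⁅a6 x a, sh x (x 6 1) d⁆ = (nn x 1)⁻¹ * (nn x 1 * ⁅a6 x a, sh x (x 6 1) d⁆ * (nn x 1)⁻¹) * (nn x 1)⁻¹⁻¹ := by
        group
    _ = a := by rw [h, h2]

theorem A_w_ne {b c : E} (hbc : b ≠ c) : ⁅sh x (a6 x a) b, sh x (x 6 1) c⁆ = a := by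
  have hd : b + c ≠ 0 := fun e => hbc (by
    have := eq_neg_of_add_eq_zero_left e
    rwa [negEq v.hex.two] at this)
  have h : x 1 b * ⁅sh x (a6 x a) b, sh x (x 6 1) c⁆ * (x 1 b)⁻¹ = a := by
    rw [← HexTwo.conj_comm]
    have e1 : x 1 b * sh x (a6 x a) b * (x 1 b)⁻¹ = a6 x a := by
      rw [x1i v, sh_sh v, addSelf v.hex.two, sh_zero v]
    have e2 : x 1 b * sh x (x 6 1) c * (x 1 b)⁻¹ = sh x (x 6 1) (b + c) := by
      rw [x1i v, sh_sh v]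
    rw [e1, e2, a6_w v s hd]
  have h2 := fixZ v s (inv_mem (x1P v b)) (a_mem_Zh v s)
  calc ⁅sh x (a6 x a) b, sh x (x 6 1) c⁆ = (x 1 b)⁻¹ * (x 1 b * ⁅sh x (a6 x a) b, sh x (x 6 1) c⁆ * (x 1 b)⁻¹) *
        (x 1 b)⁻¹⁻¹ := by group
    _ = a := by rw [h, h2]

end Four

end Cfsg.Agent.TriTwo
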