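import Mathlib
import Cfsg.Agent.TriTwo.SecThreeD

/-!
# S1778, type `³D₄(2)`: section 3, assembly of `QOne`
-/

set_option autoImplicit false
set_option linter.unusedSectionVars false

namespace Cfsg.Agent.TriTwo

open Cfsg.Agent.StdRank2.Hex Cfsg.Agent.SplitTwo
open scoped commutatorElement

section Five

variable {E : Type*} [Field E] {σ : E ≃+* E} {G : Type*} [Group G] {x : ZMod 12 → E → G} {t a : G} (v : Env σ x t)
  (s : Seed σ x t a)

include v

/-- `w(b) = x₂(1) x₃(b⁻¹) x₄(1) x₅(b) x₆(1)` -/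
theorem w_eq {b : E} (hb : b ≠ 0) : sh x (x 6 1) b = x 2 1 * x 3 b⁻¹ * x 4 1 * x 5 b * x 6 1 := by
  have h := v.hex.commS5 (k := 1) (by decide) b (t := 1) (map_one σ)
  rw [nrm_one' v.fix v.hex.cube hb, shp_eq v.fix v.hex.cube b, one_mul, one_mul, one_pow, one_mul, one_mul,
    show (1 : ZMod 12) + 5 = 6 from rfl, show (1 : ZMod 12) + 1 = 2 from rfl, show (1 : ZMod 12) + 2 = 3 from rfl,
    show (1 : ZMod 12) + 3 = 4 from rfl, show (1 : ZMod 12) + 4 = 5 from rfl] at h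
  rw [sh_eq v, ← h, commutatorElement_def]
  group

include s

theorem nu_A (b : E) : Nu x t a (sh x (a6 x a) b) (sh x (x 6 1) b) := by
  rw [sh_eq v, sh_eq v]
  refine nu_conj v s (x1P v b) ((nu_iff v s).2 ⟨1, one_mem _, ?_⟩)
  rw [a6_t v s, one_mul, v.tx 6 1 (ok_one σ 6)]

/-- `⁅E, t⁆ = Q₁` mod `Ẑ` -/
theorem E_onto {q : G} (hq : q ∈ Q1 σ x) : ∃ e ∈ Ec x a, Nu x t a e q := by
  let K : Subgroup G :=
    { carrier := {q | q ∈ Q1 σ x ∧ ∃ e ∈ Ec x a, Nu x t a e q}
      mul_mem' := by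
        rintro q r ⟨hq, e, he, h1⟩ ⟨hr, f, hf, h2⟩
        exact ⟨mul_mem hq hr, e * f, mul_mem he hf, nu_mul v s (Ec_le v s he) (Ec_le v s hf) hq hr h1 h2⟩
      one_mem' := ⟨one_mem _, 1, one_mem _, nu_one v s⟩
      inv_mem' := by
        rintro q ⟨hq, e, he, h1⟩
        exact ⟨inv_mem hq, e⁻¹, inv_mem he, nu_inv v s (Ec_le v s he) hq h1⟩ }
  have kZ : x 4 1 ∈ K := by
    refine ⟨by rw [Q1_eq]; exact mem_gl (by decide) (ok_one σ 4), 1, one_mem _, ?_⟩
    unfold Nu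
    have e : 1 * t * (1 : G)⁻¹ * t⁻¹ * (x 4 1)⁻¹ = (x 4 1)⁻¹ := by group
    rw [e]; exact inv_mem (z_mem_Zh v s)
  have kw : ∀ b : E, sh x (x 6 1) b ∈ K := fun b =>
    ⟨by
      rw [sh_eq v]
      exact P1_Q1 v (x1P v b) (by rw [Q1_eq]; exact mem_gl (by decide) (ok_one σ 6)),
      _, A_mem_Ec v s b, nu_A v s b⟩
  have k6 : x 6 1 ∈ K := by
    have := kw 0
    rwa [sh_zero v] at this
  have o3 := fun b : E => ok_odd (σ := σ) (k := 3) (by decide) b
  have o5 := fun b : E => ok_odd (σ := σ) (k := 5) (by decide) b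
  -- `M i d e`
  have M1 : ∀ b : E, b ≠ 0 → x 2 1 * (x 3 b⁻¹ * x 5 b) ∈ K := by
    intro b hb
    have h := kw b
    rw [w_eq v hb] at h
    have h1 := mul_mem h (inv_mem k6)
    have h34 : x 3 b⁻¹ * x 4 1 = x 4 1 * x 3 b⁻¹ := cm v.hex (by decide) (o3 _) (ok_one σ 4)
    have h24 : x 2 1 * x 4 1 = x 4 1 * x 2 1 := x2_x4 v
    have e : x 2 1 * x 3 b⁻¹ * x 4 1 * x 5 b * x 6 1 * (x 6 1)⁻¹ = x 4 1 * (x 2 1 * (x 3 b⁻¹ * x 5 b)) := by
      calc x 2 1 * x 3 b⁻¹ * x 4 1 * x 5 b * x 6 1 * (x 6 1)⁻¹ = x 2 1 * (x 3 b⁻¹ * x 4 1) * x 5 b := by group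
        _ = (x 2 1 * x 4 1) * x 3 b⁻¹ * x 5 b := by rw [h34]; group
        _ = _ := by rw [h24]; group
    rw [e] at h1
    exact (Subgroup.mul_mem_cancel_left K kZ).1 h1
  have ktr : ∀ c : E, x 4 (tr σ c) ∈ K := fun c => by
    rcases even_val v (by decide) (ok_tr v 4 c) with h | h
    · rw [h]; exact one_mem _
    · rw [h]; exact kZ
  -- addition of pairs in `x₃ x₅`
  have padd : ∀ d e d' e' : E, ∃ z ∈ K, (x 3 d * x 5 e) * (x 3 d' * x 5 e') = z * (x 3 (d + d') * x 5 (e + e')) := by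
    intro d e d' e'
    refine ⟨x 4 (tr σ (e * d')), ktr _, ?_⟩
    have h1 := v.hex.add 3 d d' (o3 _) (o3 _)
    have h2 := v.hex.add 5 e e' (o5 _) (o5 _)
    have h3 : x 5 e * x 3 d' = x 4 (tr σ (e * d')) * x 3 d' * x 5 e := by
      have := c53 v e d'
      rw [commutatorElement_def] at this
      rw [← this]; group
    have h4 : x 3 d * x 4 (tr σ (e * d')) = x 4 (tr σ (e * d')) * x 3 d := cm v.hex (by decide) (o3 _) (ok_tr v 4 _)
    rw [h1, h2]
    calc x 3 d * x 5 e * (x 3 d' * x 5 e') = x 3 d * (x 5 e * x 3 d') * x 5 e' := by group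
      _ = (x 3 d * x 4 (tr σ (e * d'))) * x 3 d' * x 5 e * x 5 e' := by rw [h3]; group
      _ = _ := by rw [h4]; group
  have x22 : x 2 1 * x 2 1 = 1 := xx v (ok_one σ 2)
  have c2 : ∀ d e : E, (x 3 d * x 5 e) * x 2 1 = x 2 1 * (x 3 d * x 5 e) := fun d e =>
    mul_comm_of (cm v.hex (by decide) (o3 _) (ok_one σ 2)) (cm v.hex (by decide) (o5 _) (ok_one σ 2))
  have M11 : ∀ d e d' e' : E, x 2 1 * (x 3 d * x 5 e) ∈ K → x 2 1 * (x 3 d' * x 5 e') ∈ K →
      x 3 (d + d') * x 5 (e + e') ∈ K := by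
    intro d e d' e' h h'
    obtain ⟨z, hz, hp⟩ := padd d e d' e'
    have h1 := mul_mem h h'
    have e1 : x 2 1 * (x 3 d * x 5 e) * (x 2 1 * (x 3 d' * x 5 e')) = z * (x 3 (d + d') * x 5 (e + e')) := by
      calc x 2 1 * (x 3 d * x 5 e) * (x 2 1 * (x 3 d' * x 5 e'))
          = x 2 1 * ((x 3 d * x 5 e) * x 2 1) * (x 3 d' * x 5 e') := by group
        _ = (x 2 1 * x 2 1) * ((x 3 d * x 5 e) * (x 3 d' * x 5 e')) := by rw [c2]; group
        _ = _ := by rw [x22, one_mul, hp]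
    rw [e1] at h1
    exact (Subgroup.mul_mem_cancel_left K hz).1 h1
  have M01 : ∀ d e d' e' : E, (x 3 d * x 5 e) ∈ K → x 2 1 * (x 3 d' * x 5 e') ∈ K →
      x 2 1 * (x 3 (d + d') * x 5 (e + e')) ∈ K := by
    intro d e d' e' h h'
    obtain ⟨z, hz, hp⟩ := padd d e d' e'
    have h1 := mul_mem h h'
    have hz' : ∃ z' ∈ K, x 2 1 * z = z' * x 2 1 := ⟨z, hz, by
      have hz2 : z = (x 3 d * x 5 e) * (x 3 d' * x 5 e') * (x 3 (d + d') * x 5 (e + e'))⁻¹ := by rw [hp]; group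
      rw [hz2]
      exact (mul_comm_of (mul_comm_of (c2 _ _) (c2 _ _)) (inv_comm_of (c2 _ _))).symm⟩
    obtain ⟨z', hz', hzz⟩ := hz'
    have e1 : (x 3 d * x 5 e) * (x 2 1 * (x 3 d' * x 5 e')) = z' * (x 2 1 * (x 3 (d + d') * x 5 (e + e'))) := by
      calc (x 3 d * x 5 e) * (x 2 1 * (x 3 d' * x 5 e'))
          = ((x 3 d * x 5 e) * x 2 1) * (x 3 d' * x 5 e') := by group
        _ = x 2 1 * ((x 3 d * x 5 e) * (x 3 d' * x 5 e')) := by rw [c2]; group
        _ = (x 2 1 * z) * (x 3 (d + d') * x 5 (e + e')) := by rw [hp]; group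
        _ = _ := by rw [hzz]; group
    rw [e1] at h1
    exact (Subgroup.mul_mem_cancel_left K hz').1 h1
  have M00 : ∀ d e d' e' : E, (x 3 d * x 5 e) ∈ K → (x 3 d' * x 5 e') ∈ K →
      (x 3 (d + d') * x 5 (e + e')) ∈ K := by
    intro d e d' e' h h'
    obtain ⟨z, hz, hp⟩ := padd d e d' e'
    have h1 := mul_mem h h'
    rw [hp] at h1
    exact (Subgroup.mul_mem_cancel_left K hz).1 h1
  obtain ⟨η, h0, h1, -, -, hη⟩ := exists_eta v.hex.two v.card v.fix v.hex.cube
  have aS : ∀ y : E, y + y = 0 := addSelf v.hex.two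
  have h10 : (1 + η : E) ≠ 0 := fun e => h1 (by
    have := eq_neg_of_add_eq_zero_right e
    rwa [negEq v.hex.two] at this)
  -- `x₂(1) x₃(d)`, `d ≠ 0`
  have N1 : ∀ d : E, d ≠ 0 → x 2 1 * (x 3 d * x 5 0) ∈ K := by
    intro d hd
    have hdi := inv_ne_zero hd
    set r : E := η * d⁻¹ with hr
    have hr0 : r ≠ 0 := mul_ne_zero h0 hdi
    have m1 := M1 r hr0
    have m2 := M1 (r * η) (mul_ne_zero hr0 h0)
    have m3 := M1 (r * (1 + η)) (mul_ne_zero hr0 h10)
    have m4 := M01 _ _ _ _ (M11 _ _ _ _ m1 m2) m3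
    have e5 : r + r * η + r * (1 + η) = 0 := by linear_combination (r + r * η) * v.hex.two
    have e3 : r⁻¹ + (r * η)⁻¹ + (r * (1 + η))⁻¹ = d := by
      rw [hr]
      field_simp
      linear_combination (-1 : E) * hη + η * v.hex.two
    rw [e5, e3] at m4
    exact m4
  have N0 : ∀ d : E, x 3 d * x 5 0 ∈ K := by
    intro d
    by_cases hd : d = 0
    · rw [hd, v.hex.x_zero, v.hex.x_zero, one_mul]; exact one_mem _
    · have m := M11 _ _ _ _ (N1 (d * η) (mul_ne_zero hd h0)) (N1 (d * (1 + η)) (mul_ne_zero hd h10))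
      have e3 : d * η + d * (1 + η) = d := by linear_combination d * η * v.hex.two
      rw [e3, add_zero] at m
      exact m
  have k3 : ∀ d : E, x 3 d ∈ K := fun d => by
    have := N0 d
    rwa [v.hex.x_zero, mul_one] at this
  have k2 : x 2 1 ∈ K := by
    have := N1 1 one_ne_zero
    rw [v.hex.x_zero, mul_one] at this
    exact (Subgroup.mul_mem_cancel_right K (k3 1)).1 this
  have k5 : ∀ b : E, x 5 b ∈ K := fun b => by
    by_cases hb : b = 0
    · rw [hb, v.hex.x_zero]; exact one_mem _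
    · have m := M1 b hb
      have m2 := (Subgroup.mul_mem_cancel_left K k2).1 m
      exact (Subgroup.mul_mem_cancel_left K (k3 _)).1 m2
  have hK : Q1 σ x ≤ K := by
    rw [Q1_eq]
    refine gl_le v fun k hk b hb => ?_
    have hk5 : k = 2 ∨ k = 3 ∨ k = 4 ∨ k = 5 ∨ k = 6 := by
      have : ∀ k ∈ ([2, 3, 4, 5, 6] : List (ZMod 12)), k = 2 ∨ k = 3 ∨ k = 4 ∨ k = 5 ∨ k = 6 := by decide
      exact this k hk
    rcases hk5 with rfl | rfl | rfl | rfl | rfl
    · rcases even_val v (by decide) hb with h | h <;> rw [h]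
      · exact one_mem _
      · exact k2
    · exact k3 b
    · rcases even_val v (by decide) hb with h | h <;> rw [h]
      · exact one_mem _
      · exact kZ
    · exact k5 b
    · rcases even_val v (by decide) hb with h | h <;> rw [h]
      · exact one_mem _
      · exact k6
  exact (hK hq).2

/-! ### `N₁ = Q₁ Ẑ E` -/

/-- generators of `N₁` -/
def gN (σ : E ≃+* E) (x : ZMod 12 → E → G) (a : G) : Set G :=
  {y | y ∈ Q1 σ x ∨ y ∈ Zh x a ∨ ∃ b : E, y = sh x (a6 x a) b}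

theorem N1_le {n : G} (hn : n ∈ N1 σ x t a) : n ∈ Subgroup.closure (gN σ x a) := by
  have hQ : Q1 σ x ≤ Subgroup.closure (gN σ x a) := fun q hq => Subgroup.subset_closure (Or.inl hq)
  have hZ : Zh x a ≤ Subgroup.closure (gN σ x a) := fun q hq => Subgroup.subset_closure (Or.inr (Or.inl hq))
  have hE : Ec x a ≤ Subgroup.closure (gN σ x a) := by
    unfold Ec
    refine sup_le hZ ?_
    rw [Subgroup.closure_le]
    rintro _ ⟨b, rfl⟩
    exact Subgroup.subset_closure (Or.inr (Or.inr ⟨b, rfl⟩))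
  obtain ⟨q, hq, h1⟩ := nu_exists v s hn
  obtain ⟨e, he, h2⟩ := E_onto v s hq
  have heN := Ec_le v s he
  have h3 := nu_mul v s hn (inv_mem heN) hq (inv_mem hq) h1 (nu_inv v s heN hq h2)
  rw [mul_inv_cancel] at h3
  have h4 := nu_Q v s (mul_mem hn (inv_mem heN)) h3 (one_mem _)
  have h5 : n * e⁻¹ ∈ Subgroup.closure (gN σ x a) := (sup_le hQ hZ) h4
  exact (Subgroup.mul_mem_cancel_right _ (inv_mem (hE he))).1 h5

theorem gN_N1 {g : G} (hg : g ∈ gN σ x a) : g ∈ N1 σ x t a := by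
  rcases hg with h | h | ⟨b, rfl⟩
  · exact Q_le v s h
  · exact Z_le v s h
  · exact A_mem v s b

theorem gN_comm {g g' : G} (hg : g ∈ gN σ x a) (hg' : g' ∈ gN σ x a) : ⁅g, g'⁆ ∈ Zh x a := by
  have inv : ∀ y z : G, ⁅y, z⁆ ∈ Zh x a → ⁅z, y⁆ ∈ Zh x a := fun y z h => by
    rw [← commutatorElement_inv]; exact inv_mem h
  have zc : ∀ c ∈ Zh x a, ∀ y ∈ N1 σ x t a, ⁅y, c⁆ ∈ Zh x a := fun c hc y hy => by
    rw [commutatorElement_def, hy.1 c hc]
    have : c * y * y⁻¹ * c⁻¹ = 1 := by group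
    rw [this]; exact one_mem _
  have h1 := gN_N1 v s hg
  have h1' := gN_N1 v s hg'
  rcases hg with h | h | ⟨b, rfl⟩
  · rcases hg' with h' | h' | ⟨b', rfl⟩
    · exact Zs_le_Zh v s (Q1_comm v h h')
    · exact zc _ h' _ h1
    · refine inv _ _ ?_
      rw [commutatorElement_def]
      exact N1_Q v s h1' h
  · exact inv _ _ (zc _ h _ h1')
  · rcases hg' with h' | h' | ⟨b', rfl⟩
    · rw [commutatorElement_def]
      exact N1_Q v s h1 h'
    · exact zc _ h' _ h1
    · exact comm_A_A v s b b'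

theorem N1_comm {n m : G} (hn : n ∈ N1 σ x t a) (hm : m ∈ N1 σ x t a) : ⁅n, m⁆ ∈ Zh x a :=
  closure_comm (C := Zh x a) (S := gN σ x a) (fun _ hg c hc => (gN_N1 v s hg).1 c hc)
    (fun _ hg _ hg' => gN_comm v s hg hg') (N1_le v s hn) (N1_le v s hm)

theorem N1_sq {n : G} (hn : n ∈ N1 σ x t a) : n * n ∈ Zh x a := by
  refine closure_sq (C := Zh x a) (S := gN σ x a) (fun _ hg c hc => (gN_N1 v s hg).1 c hc)
    (fun _ hg _ hg' => gN_comm v s hg hg') (fun g hg => ?_) (N1_le v s hn)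
  rcases hg with h | h | ⟨b, rfl⟩
  · exact Zs_le_Zh v s (Q1_sq v h)
  · exact mul_mem h h
  · rw [A_sq v s]; exact one_mem _

/-! ### `E ∩ Q₁ Ẑ = Ẑ` -/

/-- bilinearity -/
theorem comm_mul_left' {n m y : G} (hn : n ∈ N1 σ x t a) (hm : m ∈ N1 σ x t a) (hy : y ∈ N1 σ x t a) :
    ⁅n * m, y⁆ = ⁅n, y⁆ * ⁅m, y⁆ := by
  have e : ⁅n * m, y⁆ = n * ⁅m, y⁆ * n⁻¹ * ⁅n, y⁆ := by
    rw [commutatorElement_def, commutatorElement_def, commutatorElement_def]; group
  have h := N1_comm v s hm hy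
  rw [e, hn.1 _ h, mul_inv_cancel_right]
  exact Zh_comm v s h (N1_comm v s hn hy)

theorem w_mem (b : E) : sh x (x 6 1) b ∈ Q1 σ x := by
  rw [sh_eq v]
  exact P1_Q1 v (x1P v b) (by rw [Q1_eq]; exact mem_gl (by decide) (ok_one σ 6))

/-- the part of `E` over a finite set -/
def EcS (x : ZMod 12 → E → G) (a : G) (S : Finset E) : Subgroup G :=
  Zh x a ⊔ Subgroup.closure {y | ∃ b ∈ S, y = sh x (a6 x a) b}

theorem EcS_le (S : Finset E) : EcS x a S ≤ Ec x a := by
  unfold EcS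
  refine sup_le (Zh_le_Ec v s) ?_
  rw [Subgroup.closure_le]
  rintro _ ⟨b, -, rfl⟩
  exact A_mem_Ec v s b

/-- `ψ_b = 1` on the others -/
theorem EcS_psi (S : Finset E) {b : E} (hb : b ∉ S) {e : G} (he : e ∈ EcS x a S) :
    ⁅e, sh x (x 6 1) b⁆ * ⁅e, x 2 1⁆ = 1 := by
  have hw := Q_le v s (w_mem v s b)
  have h2 : x 2 1 ∈ N1 σ x t a := Q_le v s (by rw [Q1_eq]; exact mem_gl (by decide) (ok_one σ 2))
  let K : Subgroup G :=
    { carrier := {e | e ∈ N1 σ x t a ∧ ⁅e, sh x (x 6 1) b⁆ = ⁅e, x 2 1⁆}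
      mul_mem' := by
        rintro n m ⟨hn, hn'⟩ ⟨hm, hm'⟩
        refine ⟨mul_mem hn hm, ?_⟩
        rw [comm_mul_left' v s hn hm hw, comm_mul_left' v s hn hm h2, hn', hm']
      one_mem' := ⟨one_mem _, by rw [commutatorElement_one_left, commutatorElement_one_left]⟩
      inv_mem' := by
        rintro n ⟨hn, hn'⟩
        refine ⟨inv_mem hn, ?_⟩
        have e1 : ∀ y ∈ N1 σ x t a, ⁅n⁻¹, y⁆ = (⁅n, y⁆)⁻¹ := fun y hy => by
          have := comm_mul_left' v s (inv_mem hn) hn hy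
          rw [inv_mul_cancel, commutatorElement_one_left] at this
          exact eq_inv_of_mul_eq_one_left this.symm
        rw [e1 _ hw, e1 _ h2, hn'] }
  have hK : EcS x a S ≤ K := by
    unfold EcS
    refine sup_le (fun c hc => ⟨Z_le v s hc, ?_⟩) ?_
    · have cc : ∀ y ∈ N1 σ x t a, ⁅c, y⁆ = 1 := fun y hy => by
        rw [commutatorElement_def, ← hy.1 c hc]; group
      rw [cc _ hw, cc _ h2]
    · rw [Subgroup.closure_le]
      rintro _ ⟨c, hc, rfl⟩
      refine ⟨A_mem v s c, ?_⟩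
      rw [A_x2 v s, A_w_ne v s (fun e => hb (by rw [← e]; exact hc))]
  rw [(hK he).2]
  exact Zh_sq v s (N1_comm v s (hK he).1 h2)

theorem EcS_step [DecidableEq E] (S : Finset E) (b : E) {e : G} (he : e ∈ EcS x a (insert b S)) :
    e ∈ EcS x a S ∨ sh x (a6 x a) b * e ∈ EcS x a S := by
  have hZ : Zh x a ≤ EcS x a S := le_sup_left
  have hA := A_mem v s b
  have hAA := A_sq v s b
  have hAi := A_inv v s b
  have nrm : ∀ y ∈ EcS x a S, sh x (a6 x a) b * y * sh x (a6 x a) b ∈ EcS x a S := by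
    intro y hy
    have h := N1_comm v s hA (Ec_le v s (EcS_le v s S hy))
    have e1 : sh x (a6 x a) b * y * sh x (a6 x a) b = ⁅sh x (a6 x a) b, y⁆ * y := by
      rw [commutatorElement_def, hAi]; group
    rw [e1]
    exact mul_mem (hZ h) hy
  let K : Subgroup G :=
    { carrier := {e | e ∈ EcS x a S ∨ sh x (a6 x a) b * e ∈ EcS x a S}
      mul_mem' := by
        rintro n m (hn | hn) (hm | hm)
        · left; exact mul_mem hn hm
        · right
          have e1 : sh x (a6 x a) b * (n * m) = (sh x (a6 x a) b * n * sh x (a6 x a) b) * (sh x (a6 x a) b * m) := by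
            calc sh x (a6 x a) b * (n * m) = sh x (a6 x a) b * n * 1 * m := by group
              _ = _ := by rw [← hAA]; group
          rw [e1]
          exact mul_mem (nrm n hn) hm
        · right
          rw [← mul_assoc]
          exact mul_mem hn hm
        · left
          have e1 : n * m = (sh x (a6 x a) b * (sh x (a6 x a) b * n) * sh x (a6 x a) b) * (sh x (a6 x a) b * m) := by
            calc n * m = 1 * n * 1 * m := by group
              _ = _ := by rw [← hAA]; group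
          rw [e1]
          exact mul_mem (nrm _ hn) hm
      one_mem' := Or.inl (one_mem _)
      inv_mem' := by
        rintro n (hn | hn)
        · left; exact inv_mem hn
        · right
          have e1 : sh x (a6 x a) b * n⁻¹ = sh x (a6 x a) b * (sh x (a6 x a) b * n)⁻¹ * sh x (a6 x a) b := by
            rw [mul_inv_rev, hAi]
            calc sh x (a6 x a) b * n⁻¹ = sh x (a6 x a) b * n⁻¹ * 1 := by group
              _ = _ := by rw [← hAA]; group
          rw [e1]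
          exact nrm _ (inv_mem hn) }
  have hK : EcS x a (insert b S) ≤ K := by
    unfold EcS
    refine sup_le (fun c hc => Or.inl (hZ hc)) ?_
    rw [Subgroup.closure_le]
    rintro _ ⟨c, hc, rfl⟩
    rcases Finset.mem_insert.1 hc with rfl | hc
    · right; rw [hAA]; exact one_mem _
    · left
      exact (le_sup_right : _ ≤ EcS x a S) (Subgroup.subset_closure ⟨c, hc, rfl⟩)
  exact hK he

theorem a_not_Zs : a ∉ Zs σ x := fun h => a_not_comm v s (t_gens v h).symm

theorem EcS_inj [DecidableEq E] (S : Finset E) : ∀ e ∈ EcS x a S,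
    (∀ b, ⁅e, sh x (x 6 1) b⁆ * ⁅e, x 2 1⁆ ∈ Zs σ x) → e ∈ Zh x a := by
  induction S using Finset.induction_on with
  | empty =>
    intro e he _
    unfold EcS at he
    have : {y : G | ∃ b ∈ (∅ : Finset E), y = sh x (a6 x a) b} = ∅ := by
      ext y; simp
    rw [this, Subgroup.closure_empty, sup_bot_eq] at he
    exact he
  | insert b S hb ih =>
    intro e he h
    rcases EcS_step v s S b he with h1 | h1
    · exact ih e h1 h
    · exfalso
      have hw := Q_le v s (w_mem v s b)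
      have h2 : x 2 1 ∈ N1 σ x t a := Q_le v s (by rw [Q1_eq]; exact mem_gl (by decide) (ok_one σ 2))
      have heN := Ec_le v s (EcS_le v s _ he)
      have hp := EcS_psi v s S hb h1
      rw [comm_mul_left' v s (A_mem v s b) heN hw, comm_mul_left' v s (A_mem v s b) heN h2, A_x2 v s,
        A_w_self v s, one_mul] at hp
      have hc := N1_comm v s heN hw
      have e1 : ⁅e, sh x (x 6 1) b⁆ * ⁅e, x 2 1⁆ = a := by
        have e2 : ⁅e, sh x (x 6 1) b⁆ * a = a * ⁅e, sh x (x 6 1) b⁆ := Zh_comm v s hc (a_mem_Zh v s)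
        have e3 : a * (⁅e, sh x (x 6 1) b⁆ * ⁅e, x 2 1⁆) = 1 := by
          rw [← hp]
          calc a * (⁅e, sh x (x 6 1) b⁆ * ⁅e, x 2 1⁆) = (a * ⁅e, sh x (x 6 1) b⁆) * ⁅e, x 2 1⁆ := by group
            _ = _ := by rw [← e2]; group
        have e4 := eq_inv_of_mul_eq_one_right e3
        rw [e4, ainv v s]
      have := h b
      rw [e1] at this
      exact a_not_Zs v s this

theorem Ec_inj {e : G} (he : e ∈ Ec x a) (h : e ∈ Q1 σ x ⊔ Zh x a) : e ∈ Zh x a := by
  classical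
  have := finE v.card
  have := Fintype.ofFinite E
  refine EcS_inj v s Finset.univ e ?_ (fun b => ?_)
  · have : Ec x a ≤ EcS x a Finset.univ := by
      unfold Ec EcS
      refine sup_le le_sup_left ?_
      refine le_trans (Subgroup.closure_mono ?_) le_sup_right
      rintro _ ⟨b, rfl⟩
      exact ⟨b, Finset.mem_univ b, rfl⟩
    exact this he
  · obtain ⟨q, hq, c, hc, rfl⟩ := mem_QZ v s h
    have red : ∀ r ∈ Q1 σ x, ⁅q * c, r⁆ ∈ Zs σ x := fun r hr => by
      have hrN := Q_le v s hr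
      rw [comm_mul_left' v s (Q_le v s hq) (Z_le v s hc) hrN]
      have : ⁅c, r⁆ = 1 := by rw [commutatorElement_def, ← hrN.1 c hc]; group
      rw [this, mul_one]
      exact Q1_comm v hq hr
    exact mul_mem (red _ (w_mem v s b)) (red _ (by rw [Q1_eq]; exact mem_gl (by decide) (ok_one σ 2)))

/-! ### Actions -/

theorem U1_Ec (b : E) {e : G} (he : e ∈ Ec x a) : x 1 b * e * x 1 b ∈ Ec x a := by
  have hK : Ec x a ≤ (Ec x a).comap (MulAut.conj (x 1 b)).toMonoidHom := by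
    unfold Ec
    refine sup_le (fun c hc => ?_) ?_
    · show x 1 b * c * (x 1 b)⁻¹ ∈ Ec x a
      rw [fixZ v s (x1P v b) hc]
      exact Zh_le_Ec v s hc
    · rw [Subgroup.closure_le]
      rintro _ ⟨c, rfl⟩
      show x 1 b * (x 1 c * a6 x a * x 1 c) * (x 1 b)⁻¹ ∈ Ec x a
      rw [x1i v]
      have := sh_sh v (a6 x a) b c
      unfold sh at this
      rw [this]
      exact A_mem_Ec v s (b + c)
  have h := hK he
  have h' : x 1 b * e * (x 1 b)⁻¹ ∈ Ec x a := h
  rwa [x1i v] at h'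

theorem H_Ec {r : E} (hr : r ≠ 0) {e : G} (he : e ∈ Ec x a) : tau x r * e * (tau x r)⁻¹ ∈ Ec x a := by
  have hK : Ec x a ≤ (Ec x a).comap (MulAut.conj (tau x r)).toMonoidHom := by
    unfold Ec
    refine sup_le (fun c hc => ?_) ?_
    · show tau x r * c * (tau x r)⁻¹ ∈ Ec x a
      rw [fixZ v s (tau_P1 v r) hc]
      exact Zh_le_Ec v s hc
    · rw [Subgroup.closure_le]
      rintro _ ⟨c, rfl⟩
      show tau x r * (x 1 c * a6 x a * x 1 c) * (tau x r)⁻¹ ∈ Ec x a
      have h1 := tau_act v.hex v.card v.fix hr 1 (a := c) (ok_odd (by decide) c)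
      have w1 : wt (1 : ZMod 12) r = r := by
        unfold wt; rw [if_neg (by decide), if_pos (by decide)]
      rw [w1] at h1
      have h6 : tau x r * a6 x a * (tau x r)⁻¹ = a6 x a := by
        rw [← a6_tau v s hr, mul_inv_cancel_right]
      have e1 : tau x r * (x 1 c * a6 x a * x 1 c) * (tau x r)⁻¹ = (tau x r * x 1 c * (tau x r)⁻¹) *
          (tau x r * a6 x a * (tau x r)⁻¹) * (tau x r * x 1 c * (tau x r)⁻¹) := by group
      rw [e1, h1, h6]
      exact A_mem_Ec v s (r * c)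
  exact hK he

/-- Output of section 3. -/
theorem qone : QOne σ x t a where
  P_N1 _ hp _ hn := P_N1 v s hp hn
  t_N1 _ hn := t_N1 v s hn
  Q_le := Q_le v s
  Z_le := Z_le v s
  a2_mem := a2_N1 v s
  a6_mem := a6_N1 v s
  ker _ hn h := N1_ker v s hn h
  comm _ hn _ hm := N1_comm v s hn hm
  sq _ hn := N1_sq v s hn
  E_le := Ec_le v s
  E_onto q hq := by
    obtain ⟨e, he, h⟩ := E_onto v s hq
    exact ⟨e, he, by rw [commutatorElement_def]; exact h⟩
  E_inj e he h := Ec_inj v s he (N1_ker v s (Ec_le v s he) h)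
  U1_E b _ he := U1_Ec v s b he
  H_E _ hr _ he := H_Ec v s hr he

end Five

end Cfsg.Agent.TriTwo
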