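import Cfsg.Agent.TriTwo.Grow3
import Cfsg.Agent.TriTwo.Grow2Main
import Cfsg.Agent.TriTwo.Grow1e
import Cfsg.Agent.TriTwo.SecThreeE
import Cfsg.Agent.TriTwo.Kappa
import Cfsg.Agent.TriTwo.SecOne
import Cfsg.Agent.HexEight.Main

/-!
# S1778, type `³D₄(2)`: from the environment to the grown root groups
-/

set_option autoImplicit false

namespace Cfsg.Agent.TriTwo.Chain

open Cfsg.Agent.TriTwo Cfsg.Agent.StdRank2.Hex Cfsg.Agent.HexEight

variable {E : Type*} [Field E] {σ : E ≃+* E} {G : Type*} [Group G] [Finite G] {x : ZMod 12 → E → G} {t : G}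

/-- The growth of `³D₄(2)`. -/
theorem exists_grown [Finite E] (v : Env σ x t) :
    ∃ V : ZMod 12 → Subgroup G, HexGrow.Defs.Grown t v.hex.H (Grow3.Xg σ x) (nn x) V := by
  obtain ⟨a, h1, h2, h3⟩ := SecOne.exists_a v
  have s := Kappa.seed_of v h1 h2 h3
  obtain ⟨V, L⟩ := Grow1e.exists_lev v s (qone v s)
  exact ⟨V, Grow3.grown v L (Grow2.shortFour v L)⟩

theorem exists_gr [Finite E] (v : Env σ x t) :
    ∃ V : ZMod 12 → Subgroup G, HexGrow.Defs.Grown t v.hex.H (Grow3.Xg σ x) (nn x) V ∧ Def.Gr σ x t V := by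
  obtain ⟨V, hV⟩ := exists_grown v
  refine ⟨V, hV, Def.gr_of_grown v.hex v.tt v.tx (fun k g => ?_) (fun s hs => v.hex.hh1_mem_H hs)
    (fun s hs hs' => v.hex.hh6_mem_H hs hs') hV⟩
  exact v.hex.mem_gen_singleton

end Cfsg.Agent.TriTwo.Chain
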