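import Cfsg.Agent.TriTwo.Grow3Main
import Cfsg.Agent.HexGrow.Defs

/-!
# S1778, type `³D₄(2)`, piece [E3]: `Env`, `Lev`, `ShortFour` give `HexGrow.Defs.Grown`
-/

set_option autoImplicit false
set_option linter.unusedSectionVars false

namespace Cfsg.Agent.TriTwo.Grow3

open Cfsg.Agent.StdRank2.Hex Cfsg.Agent.SplitTwo Cfsg.Agent.TriTwo
open scoped commutatorElement

section

variable {G : Type*} [Group G]

theorem conj_gv {V : ZMod 12 → Subgroup G} {L M : List (ZMod 12)} {g : G} (f : ZMod 12 → ZMod 12)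
    (hf : ∀ k ∈ L, f k ∈ M) (hg : ∀ k, ∀ y ∈ V k, g * y * g⁻¹ ∈ V (f k)) {y : G} (hy : y ∈ gv V L) :
    g * y * g⁻¹ ∈ gv V M := by
  have key : gv V L ≤ (gv V M).comap (MulAut.conj g).toMonoidHom :=
    gv_le fun k hk m hm => le_gv V (hf k hk) (hg k m hm)
  exact key hy

theorem uniq {M : Subgroup G} {A : Subgroup G} (dis : ∀ v ∈ A, v ∈ M → v = 1) {a b m m' : G} (ha : a ∈ A) (hb : b ∈ A)
    (hm : m ∈ M) (hm' : m' ∈ M) (e : a * m = b * m') : a = b ∧ m = m' := by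
  have h1 : b⁻¹ * a = m' * m⁻¹ := by
    rw [inv_mul_eq_iff_eq_mul, ← mul_assoc, ← e, mul_inv_cancel_right]
  have h2 : b⁻¹ * a = 1 := dis _ (mul_mem (inv_mem hb) ha) (by rw [h1]; exact mul_mem hm' (inv_mem hm))
  have h3 : a = b := (inv_mul_eq_one.1 h2).symm
  subst h3
  exact ⟨rfl, mul_left_cancel e⟩

end

section

variable {E : Type*} [Field E] {σ : E ≃+* E} {G : Type*} [Group G] [Finite G] {x : ZMod 12 → E → G} {t : G}
  (v : Env σ x t) {V : ZMod 12 → Subgroup G} (L : Lev σ x t V) (S : ShortFour V)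

include v L S

theorem c5_even (k : ZMod 12) (hk : k.val % 2 = 0) {y y' : G} (hy : y ∈ V k) (hy' : y' ∈ V (k + 5)) :
    ⁅y, y'⁆ ∈ gv V [k + 1, k + 2, k + 3, k + 4] := by
  obtain ⟨c, rfl⟩ : ∃ c : ZMod 12, k = 2 * c := by
    revert k
    have : ∀ k : ZMod 12, k.val % 2 = 0 → ∃ c : ZMod 12, k = 2 * c := by decide
    intro k hk _ _
    exact this k hk
  have h1 : nn x c * y * (nn x c)⁻¹ ∈ V 6 := by
    have := L.nV c _ y hy
    rwa [show 2 * c + 6 - 2 * c = 6 by ring] at this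
  have h2 : nn x c * y' * (nn x c)⁻¹ ∈ V 1 := by
    have := L.nV c _ y' hy'
    rwa [show 2 * c + 6 - (2 * c + 5) = 1 by ring] at this
  have h3 := c16 v L S h2 h1
  have h4 := conj_gv (M := [2 * c + 1, 2 * c + 2, 2 * c + 3, 2 * c + 4]) (fun j => 2 * c + 6 - j) (by
    have : ∀ c : ZMod 12, ∀ k ∈ ([2, 3, 4, 5] : List (ZMod 12)),
      2 * c + 6 - k ∈ [2 * c + 1, 2 * c + 2, 2 * c + 3, 2 * c + 4] := by decide
    exact this c) (fun j m hm => L.nV c j m hm) h3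
  have hnn := v.hex.nn_sq c
  have hni := v.hex.nn_inv c
  have e : nn x c * ⁅nn x c * y' * (nn x c)⁻¹, nn x c * y * (nn x c)⁻¹⁆ * (nn x c)⁻¹ = ⁅y', y⁆ := by
    rw [commutatorElement_def, commutatorElement_def, hni]
    calc nn x c * (nn x c * y' * nn x c * (nn x c * y * nn x c) * (nn x c * y' * nn x c)⁻¹ *
          (nn x c * y * nn x c)⁻¹) * nn x c =
        (nn x c * nn x c) * y' * (nn x c * nn x c) * y * (nn x c * (nn x c)⁻¹) * y'⁻¹ * ((nn x c)⁻¹ * (nn x c)⁻¹) *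
          y⁻¹ * ((nn x c)⁻¹ * nn x c) := by group
      _ = _ := by rw [hni, hnn]; group
  rw [e] at h4
  rw [← commutatorElement_inv]
  exact inv_mem h4

theorem c5_all (k : ZMod 12) {y y' : G} (hy : y ∈ V k) (hy' : y' ∈ V (k + 5)) :
    ⁅y, y'⁆ ∈ gv V [k + 1, k + 2, k + 3, k + 4] := by
  rcases Nat.mod_two_eq_zero_or_one k.val with hk | hk
  · exact c5_even v L S k hk hy hy'
  · have hk' : (1 - k).val % 2 = 0 := by
      have : ∀ k : ZMod 12, k.val % 2 = 1 → (1 - k).val % 2 = 0 := by decide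
      exact this k hk
    have h1 : nn x 0 * y * (nn x 0)⁻¹ ∈ V (1 - k + 5) := by
      have := L.nV 0 _ y hy
      rwa [show 2 * 0 + 6 - k = 1 - k + 5 by ring] at this
    have h2 : nn x 0 * y' * (nn x 0)⁻¹ ∈ V (1 - k) := by
      have := L.nV 0 _ y' hy'
      rwa [show 2 * 0 + 6 - (k + 5) = 1 - k by ring] at this
    have h3 := c5_even v L S (1 - k) hk' h2 h1
    have h4 := conj_gv (M := [k + 1, k + 2, k + 3, k + 4]) (fun j => 2 * 0 + 6 - j) (by
      have : ∀ k : ZMod 12, ∀ j ∈ [1 - k + 1, 1 - k + 2, 1 - k + 3, 1 - k + 4],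
        2 * 0 + 6 - j ∈ [k + 1, k + 2, k + 3, k + 4] := by decide
      exact this k) (fun j m hm => L.nV 0 j m hm) h3
    have hnn := v.hex.nn_sq 0
    have hni := v.hex.nn_inv 0
    have e : nn x 0 * ⁅nn x 0 * y' * (nn x 0)⁻¹, nn x 0 * y * (nn x 0)⁻¹⁆ * (nn x 0)⁻¹ = ⁅y', y⁆ := by
      rw [commutatorElement_def, commutatorElement_def, hni]
      calc nn x 0 * (nn x 0 * y' * nn x 0 * (nn x 0 * y * nn x 0) * (nn x 0 * y' * nn x 0)⁻¹ *
            (nn x 0 * y * nn x 0)⁻¹) * nn x 0 =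
          (nn x 0 * nn x 0) * y' * (nn x 0 * nn x 0) * y * (nn x 0 * (nn x 0)⁻¹) * y'⁻¹ * ((nn x 0)⁻¹ * (nn x 0)⁻¹) *
            y⁻¹ * ((nn x 0)⁻¹ * nn x 0) := by group
        _ = _ := by rw [hni, hnn]; group
    rw [e] at h4
    rw [← commutatorElement_inv]
    exact inv_mem h4

theorem rel5 : RelP V ok5 := by
  intro k j h y hy y' hy'
  have hc : ok4 k j = true ∨ j = k + 5 ∨ k = j + 5 := by
    revert k j
    have : ∀ k j : ZMod 12, ok5 k j = true → (ok4 k j = true ∨ j = k + 5 ∨ k = j + 5) := by decide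
    intro k j h _ _
    exact this k j h
  rcases hc with hc | rfl | rfl
  · exact rel4 v L S k j hc y hy y' hy'
  · have : ∀ k : ZMod 12, ∀ i ∈ [k + 1, k + 2, k + 3, k + 4], i ∈ betw k (k + 5) := by decide
    exact gv_mono V (this k) (c5_all v L S k hy hy')
  · have : ∀ k : ZMod 12, ∀ i ∈ [k + 1, k + 2, k + 3, k + 4], i ∈ betw (k + 5) k := by decide
    rw [← commutatorElement_inv]
    exact inv_mem (gv_mono V (this j) (c5_all v L S j hy' hy))

theorem tw5 {k : ZMod 12} {M : List (ZMod 12)}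
    (hL : (stb ok5 k M && M.all fun i => [k + 1, k + 2, k + 3, k + 4, k + 5].contains i) = true)
    (H : Tow t (gv (Xg σ x) M) (gv V M)) : Tow t (gv (Xg σ x) (k :: M)) (gv V (k :: M)) :=
  tow_cons v.tt (fun r => dbl v L r) (fun _ _ h => Xg_t v h) (rel5 v L S) (disX v) hL H

theorem q6 (r : ZMod 12) : Tow t (gv (Xg σ x) [r + 5]) (gv V [r + 5]) :=
  tw5 v L S (by clear * -; revert r; decide) (tw0 v L)

theorem q5 (r : ZMod 12) : Tow t (gv (Xg σ x) [r + 4, r + 5]) (gv V [r + 4, r + 5]) :=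
  tw5 v L S (by clear * -; revert r; decide) (q6 v L S r)

theorem q4 (r : ZMod 12) : Tow t (gv (Xg σ x) [r + 3, r + 4, r + 5]) (gv V [r + 3, r + 4, r + 5]) :=
  tw5 v L S (by clear * -; revert r; decide) (q5 v L S r)

theorem q3 (r : ZMod 12) : Tow t (gv (Xg σ x) [r + 2, r + 3, r + 4, r + 5]) (gv V [r + 2, r + 3, r + 4, r + 5]) :=
  tw5 v L S (by clear * -; revert r; decide) (q4 v L S r)

theorem q2 (r : ZMod 12) : Tow t (gv (Xg σ x) [r + 1, r + 2, r + 3, r + 4, r + 5])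
    (gv V [r + 1, r + 2, r + 3, r + 4, r + 5]) :=
  tw5 v L S (by clear * -; revert r; decide) (q3 v L S r)

theorem q1 (r : ZMod 12) : Tow t (gv (Xg σ x) [r, r + 1, r + 2, r + 3, r + 4, r + 5])
    (gv V [r, r + 1, r + 2, r + 3, r + 4, r + 5]) :=
  tw5 v L S (by clear * -; revert r; decide) (q2 v L S r)

omit S in
theorem ds {k : ZMod 12} {M : List (ZMod 12)}
    (hL : (M.all fun i => [k + 1, k + 2, k + 3, k + 4, k + 5].contains i) = true)
    (H : Tow t (gv (Xg σ x) M) (gv V M)) : ∀ y ∈ V k, y ∈ gv V M → y = 1 :=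
  dis_cons (fun r => dbl v L r) (fun _ _ h => Xg_t v h) (disX v) hL H

omit v L S in
theorem UU_eq (V : ZMod 12 → Subgroup G) (r : ZMod 12) :
    HexGrow.Defs.UU V r = gv V [r, r + 1, r + 2, r + 3, r + 4, r + 5] := by
  refine le_antisymm ?_ ?_
  · unfold HexGrow.Defs.UU
    refine sup_le (sup_le (sup_le (sup_le (sup_le ?_ ?_) ?_) ?_) ?_) ?_ <;> exact le_gv V (by simp)
  · refine gv_le fun k hk => ?_
    unfold HexGrow.Defs.UU
    simp only [List.mem_cons, List.not_mem_nil, or_false] at hk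
    rcases hk with rfl | rfl | rfl | rfl | rfl | rfl
    · exact le_sup_of_le_left (le_sup_of_le_left (le_sup_of_le_left (le_sup_of_le_left le_sup_left)))
    · exact le_sup_of_le_left (le_sup_of_le_left (le_sup_of_le_left (le_sup_of_le_left le_sup_right)))
    · exact le_sup_of_le_left (le_sup_of_le_left (le_sup_of_le_left le_sup_right))
    · exact le_sup_of_le_left (le_sup_of_le_left le_sup_right)
    · exact le_sup_of_le_left le_sup_right
    · exact le_sup_right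

theorem nf (r : ZMod 12) : ∀ a₁ ∈ V r, ∀ a₂ ∈ V (r + 1), ∀ a₃ ∈ V (r + 2), ∀ a₄ ∈ V (r + 3), ∀ a₅ ∈ V (r + 4),
    ∀ a₆ ∈ V (r + 5), ∀ b₁ ∈ V r, ∀ b₂ ∈ V (r + 1), ∀ b₃ ∈ V (r + 2), ∀ b₄ ∈ V (r + 3), ∀ b₅ ∈ V (r + 4),
    ∀ b₆ ∈ V (r + 5), a₁ * a₂ * a₃ * a₄ * a₅ * a₆ = b₁ * b₂ * b₃ * b₄ * b₅ * b₆ →
    a₁ = b₁ ∧ a₂ = b₂ ∧ a₃ = b₃ ∧ a₄ = b₄ ∧ a₅ = b₅ ∧ a₆ = b₆ := by
  intro a₁ h1 a₂ h2 a₃ h3 a₄ h4 a₅ h5 a₆ h6 b₁ g1 b₂ g2 b₃ g3 b₄ g4 b₅ g5 b₆ g6 e
  have d1 := ds v L (k := r) (by clear * -; revert r; decide) (q2 v L S r)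
  have d2 := ds v L (k := r + 1) (by clear * -; revert r; decide) (q3 v L S r)
  have d3 := ds v L (k := r + 2) (by clear * -; revert r; decide) (q4 v L S r)
  have d4 := ds v L (k := r + 3) (by clear * -; revert r; decide) (q5 v L S r)
  have d5 := ds v L (k := r + 4) (by clear * -; revert r; decide) (q6 v L S r)
  have mk6 : ∀ {a : G}, a ∈ V (r + 5) → a ∈ gv V [r + 5] := fun h => le_gv V (by simp) h
  have m5 := mul_mem_gv h5 (mk6 h6)
  have m4 := mul_mem_gv h4 m5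
  have m3 := mul_mem_gv h3 m4
  have m2 := mul_mem_gv h2 m3
  have n5 := mul_mem_gv g5 (mk6 g6)
  have n4 := mul_mem_gv g4 n5
  have n3 := mul_mem_gv g3 n4
  have n2 := mul_mem_gv g2 n3
  have e' : a₁ * (a₂ * (a₃ * (a₄ * (a₅ * a₆)))) = b₁ * (b₂ * (b₃ * (b₄ * (b₅ * b₆)))) := by
    simpa only [mul_assoc] using e
  obtain ⟨r1, e1⟩ := uniq d1 h1 g1 m2 n2 e'
  obtain ⟨r2, e2⟩ := uniq d2 h2 g2 m3 n3 e1
  obtain ⟨r3, e3⟩ := uniq d3 h3 g3 m4 n4 e2
  obtain ⟨r4, e4⟩ := uniq d4 h4 g4 m5 n5 e3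
  obtain ⟨r5, e5⟩ := uniq d5 h5 g5 (mk6 h6) (mk6 g6) e4
  exact ⟨r1, r2, r3, r4, r5, e5⟩

theorem memU (r : ZMod 12) : ∀ g ∈ HexGrow.Defs.UU V r, ∃ a₁ ∈ V r, ∃ a₂ ∈ V (r + 1), ∃ a₃ ∈ V (r + 2),
    ∃ a₄ ∈ V (r + 3), ∃ a₅ ∈ V (r + 4), ∃ a₆ ∈ V (r + 5), g = a₁ * a₂ * a₃ * a₄ * a₅ * a₆ := by
  intro g hg
  rw [UU_eq] at hg
  have R := rel5 v L S
  obtain ⟨a₁, h1, m1, hm1, rfl⟩ := gv_split R (by clear * -; revert r; decide) hg
  obtain ⟨a₂, h2, m2, hm2, rfl⟩ := gv_split R (by clear * -; revert r; decide) hm1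
  obtain ⟨a₃, h3, m3, hm3, rfl⟩ := gv_split R (by clear * -; revert r; decide) hm2
  obtain ⟨a₄, h4, m4, hm4, rfl⟩ := gv_split R (by clear * -; revert r; decide) hm3
  obtain ⟨a₅, h5, m5, hm5, rfl⟩ := gv_split R (by clear * -; revert r; decide) hm4
  rw [gv_one] at hm5
  exact ⟨a₁, h1, a₂, h2, a₃, h3, a₄, h4, a₅, h5, m5, hm5, by simp only [mul_assoc]⟩

omit v L S [Finite G] in
/-- the torus -/
theorem H_tau [Finite E] (h : HexTwo σ x) (hE : Nat.card E = 8) (hf : ∀ a, σ a = a → a = 0 ∨ a = 1) {g : G}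
    (hg : g ∈ h.H) : ∃ s : E, s ≠ 0 ∧ g = tau x s := by
  obtain ⟨s, u, hs, hu, hu', rfl⟩ := hg
  rcases hf u hu' with rfl | rfl
  · exact absurd rfl hu
  · exact ⟨s ^ 2, pow_ne_zero 2 hs, by rw [h.hh_one, mul_one, ← PF.hh_eq_tau h hE]⟩

/-- **Piece [E3].** -/
theorem grown [Finite E] : HexGrow.Defs.Grown t v.hex.H (Xg σ x) (nn x) V := by
  have HT : ∀ g ∈ v.hex.H, ∃ s : E, s ≠ 0 ∧ g = tau x s := fun g hg => H_tau v.hex v.card v.fix hg
  have ne : ∀ r, x r 1 ≠ 1 := fun r h => one_ne_zero (v.hex.inj r 1 (ok_one σ _) h)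
  have hx1 : ∀ r, x r 1 ∈ V r := fun r => L.le r 1 (ok_one σ _)
  have comm_of : ∀ {g y : G}, g * y * g⁻¹ = y → g * y = y * g := fun h => by rwa [mul_inv_eq_iff_eq_mul] at h
  have of_comm : ∀ {g y : G}, g * y = y * g → g * y * g⁻¹ = y := fun h => by rw [h, mul_inv_cancel_right]
  have par : ∀ r : ZMod 12, r.val % 2 = 0 ∨ r.val % 2 = 1 := fun r => Nat.mod_two_eq_zero_or_one _
  have hUX : ∀ r, gv (Xg σ x) [r, r + 1, r + 2, r + 3, r + 4, r + 5] = HexGrow.Defs.UU (Xg σ x) r := fun r =>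
    (UU_eq _ r).symm
  exact
  { le := fun r => (dbl v L r).le
    sq := L.sq
    br := fun r => (dbl v L r).br
    onto := fun r => (dbl v L r).onto
    fix := fun r => (dbl v L r).fix
    TV := by
      intro g hg r y hy
      obtain ⟨s, hs, rfl⟩ := HT g hg
      exact L.TV s hs r y hy
    nV := L.nV
    cen := by
      intro g hg r hC y hy
      obtain ⟨s, hs, rfl⟩ := HT g hg
      rcases par r with hr | hr
      · exact of_comm (L.cen s hs r hr y hy)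
      · by_cases h1 : s = 1
        · rw [h1, tau_one v.hex]; group
        · exact absurd (L.fpf s hs h1 r hr _ (hx1 r) (comm_of (hC _ (x_mem_Xg v (ok_one σ _))))) (ne r)
    fpf := by
      intro g hg r hF y hy hy'
      obtain ⟨s, hs, rfl⟩ := HT g hg
      rcases par r with hr | hr
      · exact absurd (hF _ (x_mem_Xg v (ok_one σ _)) (of_comm (L.cen s hs r hr _ (hx1 r)))) (ne r)
      · by_cases h1 : s = 1
        · exact absurd (hF _ (x_mem_Xg v (ok_one σ _)) (by rw [h1, tau_one v.hex]; group)) (ne r)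
        · exact L.fpf s hs h1 r hr y hy (comm_of hy')
    c1 := L.c1
    c3 := L.c3
    l2 := fun r hr => L.l2 r hr
    l4 := fun r hr => L.l4 r hr
    s2 := fun r hr => L.s2 r (by unfold HexGrow.Defs.Ev at hr; omega)
    s4 := fun r hr => S r (by unfold HexGrow.Defs.Ev at hr; omega)
    c5 := by
      intro r y hy y' hy'
      have h1 := c5_all v L S r hy hy'
      refine (gv_le (fun k hk => ?_) :
        gv V [r + 1, r + 2, r + 3, r + 4] ≤ V (r + 1) ⊔ V (r + 2) ⊔ V (r + 3) ⊔ V (r + 4)) h1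
      simp only [List.mem_cons, List.not_mem_nil, or_false] at hk
      rcases hk with rfl | rfl | rfl | rfl
      · exact le_sup_of_le_left (le_sup_of_le_left le_sup_left)
      · exact le_sup_of_le_left (le_sup_of_le_left le_sup_right)
      · exact le_sup_of_le_left le_sup_right
      · exact le_sup_right
    nf := nf v L S
    mem := memU v L S
    good := by
      intro r m hm h
      rw [UU_eq] at hm ⊢
      exact (q1 v L S r).good m hm h
    cent := by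
      intro r m hm h
      rw [UU_eq] at hm
      rw [← hUX]
      exact (q1 v L S r).cent m hm h }

end

end Cfsg.Agent.TriTwo.Grow3
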