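import Mathlib
import Cfsg.Agent.TriTwo.SecOne
import Cfsg.Agent.TriTwo.Kappa
import Cfsg.Agent.TriTwo.SecThreeE
import Cfsg.Agent.TriTwo.Grow1e
import Cfsg.Agent.TriTwo.Grow2Main
import Cfsg.Agent.TriTwo.Grow3

/-!
# S1778, type `³D₄(2)`: the growth, from the environment
-/

set_option autoImplicit false

namespace Cfsg.Agent.TriTwo.GrownTwo

open Cfsg.Agent.StdRank2.Hex Cfsg.Agent.SplitTwo

variable {E : Type*} [Field E] {σ : E ≃+* E} {G : Type*} [Group G] [Finite G] {x : ZMod 12 → E → G} {t : G}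

/-- **The growth for `³D₄(2)`.** -/
theorem exists_grown [Finite E] (v : Env σ x t) :
    ∃ V : ZMod 12 → Subgroup G, HexGrow.Defs.Grown t v.hex.H (Grow3.Xg σ x) (nn x) V := by
  obtain ⟨a, aa, aP, at'⟩ := SecOne.exists_a v
  have s : Seed σ x t a := Kappa.seed_of v aa aP at'
  obtain ⟨V, L⟩ := Grow1e.exists_lev v s (qone v s)
  exact ⟨V, Grow3.grown v L (Grow2.shortFour v L)⟩

end Cfsg.Agent.TriTwo.GrownTwo
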