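import Cfsg.Agent.TriTwo.Bridge
import Cfsg.Agent.TriTwo.GrownTwo
import Cfsg.Agent.WreathFusion.HexEnd
import Cfsg.Agent.StdEven.EndLift

/-!
# S1778, type `³D₄(2)`: `Closing.End` in `X`
-/

set_option autoImplicit false
set_option linter.unusedSectionVars false

namespace Cfsg.Agent.TriTwo.EndX

open Cfsg Subgroup Cfsg.Agent.SignalizersComponents Cfsg.Agent.StdEven.Syl Cfsg.Agent.StdEven.Loc
open Cfsg.Agent.StdEven.CoreQuot Cfsg.Agent.StdL2.Setup Cfsg.Agent.StdRank2.Hex Cfsg.Agent.HexGrow.Defs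
open Cfsg.Agent.StdRank2.Hex.HexTwo (AA)
open Cfsg.Agent.WreathFusion Cfsg.Agent.TriTwo.Bridge
open scoped commutatorElement

section Gen

variable {E : Type*} [Field E] {σ : E ≃+* E} {X : Type*} [Group X] {x : ZMod 12 → E → X}

theorem UU_Xg : UU (Grow3.Xg σ x) 1 = Us σ x := by
  apply le_antisymm
  · apply HexEnd.UU1_le
    intro r hr
    refine gens_le (S := {r}) ?_
    rintro _ rfl a ha
    refine mem_gens ?_ ha
    rcases hr with rfl | rfl | rfl | rfl | rfl | rfl <;> simp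
  · refine gens_le fun k hk a ha => HexEnd.le_UU1 (Grow3.Xg σ x) k ?_ (mem_gens (Set.mem_singleton k) ha)
    simpa using hk

variable [Finite X] {t : X} (h : HexTwo σ x) (hc : Nat.card E = 8) (hf : ∀ a, σ a = a → a = 0 ∨ a = 1)
  {H : Subgroup X} {V : ZMod 12 → Subgroup X} (W : Grown t H (Grow3.Xg σ x) (nn x) V)
include h hc hf W

/-- `Closing.End` from the grown group, when `T = U⟨t⟩`. -/
theorem end_of (tt : t * t = 1) (t1 : t ≠ 1) (tA : ∀ a ∈ AA σ x, a * t = t * a) {T : Subgroup X} (tT : t ∈ T)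
    (twoT : IsPGroup 2 T)
    (syl : ∀ Q : Subgroup X, IsPGroup 2 Q → (∀ y ∈ Q, y * t = t * y) → T ≤ Q → Q = T)
    (UT : Us σ x ≤ T) (hT : ∀ y ∈ T, y ∈ Us σ x ∨ t * y ∈ Us σ x) :
    Closing.End t T (Us σ x) (UU V 1) (V 4) (Grow3.Xg σ x 4) := by
  have ti : t⁻¹ = t := inv_eq_of_mul_eq_one_left tt
  have tU : ∀ a ∈ Us σ x, a * t = t * a := fun a ha => tA a (AFacts.Us_AA ha)
  -- the cosets
  have hT' : ∀ y ∈ T, y ∈ Us σ x ∨ ∃ u ∈ Us σ x, y = t * u := by
    intro y hy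
    rcases hT y hy with h1 | h1
    · exact Or.inl h1
    · exact Or.inr ⟨t * y, h1, by rw [← mul_assoc, tt, one_mul]⟩
  have tV : ∀ r, ∀ v ∈ V r, t * v * t⁻¹ ∈ V r := by
    intro r v hv
    have h1 := W.le r (W.br r v hv)
    have h2 : t * v * t⁻¹ = ⁅t, v⁆ * v := by rw [commutatorElement_def]; group
    rw [h2]
    exact mul_mem h1 hv
  have tS : ∀ s ∈ UU V 1, t * s * t⁻¹ ∈ UU V 1 := by
    have h1 : UU V 1 ≤ (UU V 1).comap (MulAut.conj t).toMonoidHom := by
      apply HexEnd.UU1_le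
      intro r hr v hv
      exact HexEnd.le_UU1 V r hr (tV r v hv)
    intro s hs
    exact h1 hs
  have hUS : Us σ x ≤ UU V 1 := by
    rw [← UU_Xg]; exact HexEnd.UU_mono W 1
  have key := HexEnd.end_of_grown (X := Grow3.Xg σ x) h W (fun r g => h.mem_gen_singleton) tt tT twoT
    (fun y hy => by
      rcases hT' y hy with h1 | ⟨u, hu, rfl⟩
      · exact tU y h1
      · rw [mul_assoc, tU u hu, ← mul_assoc]) syl (by rw [UU_Xg]; exact UT) (by
      rw [UU_Xg]
      intro h1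
      exact t1 (Bridge.center_AA h hc hf (AFacts.Us_AA h1) fun b hb => (tA b hb).symm)) (by
      rw [UU_Xg]
      have h4 : ∀ u ∈ Us σ x, (∀ v ∈ Us σ x, u * v = v * u) → u ∈ Grow3.Xg σ x 4 := by
        intro u hu hv
        rcases AFacts.center_Us h hc hf hu hv with h1 | h1
        · rw [h1]; exact one_mem _
        · rw [h1]; exact mem_gens (Set.mem_singleton _) (ok_one σ _)
      intro y hy hyU
      rcases hT y hy with h1 | h1
      · exact Or.inl (h4 y h1 hyU)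
      · refine Or.inr (h4 _ h1 fun v hv => ?_)
        calc t * y * v = t * (y * v) := by group
          _ = (t * v) * y := by rw [hyU v hv]; group
          _ = v * (t * y) := by rw [← tU v hv]; group) (by
      intro y hy s hs
      rcases hT' y hy with h1 | ⟨u, hu, rfl⟩
      · exact mul_mem (mul_mem (hUS h1) hs) (inv_mem (hUS h1))
      · have h2 : t * u * s * (t * u)⁻¹ = t * (u * s * u⁻¹) * t⁻¹ := by group
        rw [h2]
        exact tS _ (mul_mem (mul_mem (hUS hu) hs) (inv_mem (hUS hu)))) (by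
      intro y hy s hs
      have h3 : ∀ u ∈ Us σ x, u * s * u⁻¹ = s := by
        intro u hu
        rw [← HexEnd.V4_comm W hs (hUS hu), mul_inv_cancel_right]
      rcases hT' y hy with h1 | ⟨u, hu, rfl⟩
      · rw [h3 y h1]; exact hs
      · have h2 : t * u * s * (t * u)⁻¹ = t * (u * s * u⁻¹) * t⁻¹ := by group
        rw [h2, h3 u hu]
        exact tV 4 s hs) (by
      rw [UU_Xg]
      exact fun y hy _ => hT y hy) (by
      rw [UU_Xg]
      intro y hy z hz
      have k1 : ∀ a ∈ Us σ x, ∀ b, b * t = t * b → ⁅t * a, b⁆ = t * ⁅a, b⁆ * t⁻¹ := by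
        intro a ha b hb
        have hb' : t⁻¹ * b⁻¹ = b⁻¹ * t⁻¹ := by rw [← mul_inv_rev, hb, mul_inv_rev]
        rw [commutatorElement_def, commutatorElement_def]
        calc t * a * b * (t * a)⁻¹ * b⁻¹ = t * a * b * a⁻¹ * (t⁻¹ * b⁻¹) := by group
          _ = t * (a * b * a⁻¹ * b⁻¹) * t⁻¹ := by rw [hb']; group
      have k2 : ∀ a ∈ Us σ x, ∀ b ∈ Us σ x, ⁅a, b⁆ ∈ Us σ x := by
        intro a ha b hb
        rw [commutatorElement_def]
        exact mul_mem (mul_mem (mul_mem ha hb) (inv_mem ha)) (inv_mem hb)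
      have k3 : ∀ a ∈ Us σ x, t * a * t⁻¹ = a := fun a ha => by rw [← tU a ha, mul_inv_cancel_right]
      have k4 : ∀ b, b * t = t * b → (∀ a ∈ Us σ x, ⁅a, b⁆ ∈ Us σ x) → ∀ y ∈ T, ⁅y, b⁆ ∈ Us σ x := by
        intro b hb hab y hy
        rcases hT' y hy with h1 | ⟨u, hu, rfl⟩
        · exact hab y h1
        · rw [k1 u hu b hb, k3 _ (hab u hu)]
          exact hab u hu
      rcases hT' z hz with h1 | ⟨w, hw, rfl⟩
      · exact k4 z (tU z h1) (fun a ha => k2 a ha z h1) y hy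
      · refine k4 _ (by rw [mul_assoc, tU w hw, ← mul_assoc]) (fun a ha => ?_) y hy
        have h5 : ⁅a, t * w⁆ = ⁅t * w, a⁆⁻¹ := (commutatorElement_inv _ _).symm
        rw [h5, k1 w hw a (tU a ha), k3 _ (k2 w hw a ha)]
        exact inv_mem (k2 w hw a ha))
  rwa [UU_Xg] at key

end Gen

section Hyp

variable {E : Type*} [Field E] {σ : E ≃+* E} {G : Type*} [Group G] {x : ZMod 12 → E → G}
variable [Finite G] {t : G} {T : Subgroup G} (h : HexTwo σ x) (hc : Nat.card E = 8)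
  (hf : ∀ a, σ a = a → a = 0 ∨ a = 1) (H : Hyp (AA σ x) t T) (hTA : T ⊓ AA σ x = Us σ x)
include h hc hf H hTA

/-- `Closing.End` in `X`. -/
theorem endX {H' : Subgroup (XQ (AA σ x) t)} {V : ZMod 12 → Subgroup (XQ (AA σ x) t)}
    (W : Grown H.tX H' (Grow3.Xg σ (xX (AA σ x) t x)) (nn (xX (AA σ x) t x)) V) :
    Closing.End H.tX (im (AA σ x) t T) (Us σ (xX (AA σ x) t x)) (UU V 1) (V 4)
      (Grow3.Xg σ (xX (AA σ x) t x) 4) := by
  obtain ⟨h', hS⟩ := Bridge.exists_hex h hc hf H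
  have hUs : im (AA σ x) t (Us σ x) = Us σ (xX (AA σ x) t x) := hS _
  have B' := Bridge.baseX h hc hf H hTA
  refine end_of h' hc hf W H.tX_sq H.tX_ne B'.comm (pr_mem_im H.isT.mem) H.syl_im.two (fun Q hQ hQc hle => ?_) ?_ ?_
  · exact H.syl_im.max Q hQ (fun y hy => by rw [mem_centralizer_singleton_iff]; exact hQc y hy) hle
  · rw [← hUs]
    apply im_mono
    rw [← hTA]
    exact inf_le_left
  · intro y hy
    obtain ⟨n, hn, rfl⟩ := mem_im.mp hy
    rw [← hUs]
    rcases Bridge.T_cases h hc hf H hTA hn with h1 | h1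
    · exact Or.inl (pr_mem_im h1)
    · right
      rw [H.tX_eq, ← map_mul]
      exact pr_mem_im (n := ⟨t, H.t_mem⟩ * n) h1

end Hyp

end Cfsg.Agent.TriTwo.EndX
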