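import Cfsg.Prelude.Def_LieTwisted
import Cfsg.Agent.TriTwo.Bridge

/-!
# S1778, type `³D₄(2)`: the consequence of S1770 (`r = 1`) used in the start
-/

set_option autoImplicit false

namespace Cfsg.Agent.TriTwo.Rec

open Cfsg Subgroup Cfsg.Agent.StdEven.Syl Cfsg.Agent.StdL2.Setup Cfsg.Agent.StdRank2.Hex
open Cfsg.Agent.StdRank2.Hex.HexTwo (AA)

universe u

/-- The part (2) of S1770. -/
def Rec1770 : Prop :=
  ∀ (G : Type u) [Group G] [Finite G] [IsSimpleGroup G] (S : Sylow 2 G) (r : ℕ)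
    (K : Type) [Field K] [Fintype K], 1 ≤ r → Fintype.card K = 8 ^ r →
      ∀ P : Sylow 2 ↥(Cfsg.Lie.twistedD4 K (2 ^ r)),
        Nonempty (↥(S : Subgroup G) ≃* ↥(P : Subgroup ↥(Cfsg.Lie.twistedD4 K (2 ^ r)))) →
          Nonempty (G ≃* ↥(Cfsg.Lie.twistedD4 K (2 ^ r)))

/-- Sylow subgroups of isomorphic groups. -/
theorem nonempty_sylow {p : ℕ} [Fact p.Prime] {G D : Type*} [Group G] [Group D] [Finite G] [Finite D] (f : G ≃* D)
    (S : Sylow p G) (P : Sylow p D) : Nonempty (↥(S : Subgroup G) ≃* ↥(P : Subgroup D)) := by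
  let S' : Sylow p D := S.mapSurjective (f := f.toMonoidHom) f.surjective
  exact ⟨((S : Subgroup G).equivMapOfInjective f.toMonoidHom f.injective).trans (Sylow.equiv S' P)⟩

variable {E : Type*} [Field E] {σ : E ≃+* E} {G : Type u} [Group G] [Finite G] {x : ZMod 12 → E → G} {L A : Subgroup G}
  {t : G}

theorem rec_card (h1770 : Rec1770.{u}) (C : Conf L A t) (h : HexTwo σ x) (hA : A = AA σ x) (hc : Nat.card E = 8)
    (hf : ∀ a, σ a = a → a = 0 ∨ a = 1) {K : Type} [Field K] [Fintype K] (hK : Fintype.card K = 8)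
    (e : ↥A ⧸ center ↥A ≃* ↥(Cfsg.Lie.twistedD4 K 2)) (hS : IsSyl (Us σ x) L) : Nat.card L ≤ Nat.card A := by
  subst hA
  have : Fact (Nat.Prime 2) := ⟨Nat.prime_two⟩
  have hbot : center ↥(AA σ x) = ⊥ := by
    rw [eq_bot_iff]
    intro a ha
    rw [mem_bot]
    exact Subtype.ext (Bridge.center_AA h hc hf a.2 fun b hb =>
      (congrArg Subtype.val (mem_center_iff.mp ha ⟨b, hb⟩)).symm)
  let f : ↥(AA σ x) ≃* ↥(Cfsg.Lie.twistedD4 K 2) :=
    (QuotientGroup.quotientBot.symm.trans (QuotientGroup.quotientMulEquivOfEq hbot.symm)).trans e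
  have hfin : Finite ↥(Cfsg.Lie.twistedD4 K 2) := Finite.of_equiv _ f.toEquiv
  obtain ⟨P⟩ : Nonempty (Sylow 2 ↥(Cfsg.Lie.twistedD4 K 2)) := inferInstance
  obtain ⟨g⟩ := nonempty_sylow f (AFacts.isSyl_Us h hc hf).toSylow P
  have hsimple := C.simple
  have e1 : ↥((hS.toSylow : Sylow 2 ↥L) : Subgroup ↥L) ≃* ↥(Us σ x) := subgroupOfEquivOfLe hS.le
  have e2 : ↥((AFacts.isSyl_Us h hc hf).toSylow : Subgroup ↥(AA σ x)) ≃* ↥(Us σ x) :=
    subgroupOfEquivOfLe AFacts.Us_AA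
  obtain ⟨k⟩ := h1770 ↥L hS.toSylow 1 K le_rfl (by rw [hK]; norm_num) P ⟨(e1.trans e2.symm).trans g⟩
  have k' : ↥L ≃* ↥(AA σ x) := k.trans f.symm
  exact (Nat.card_congr k'.toEquiv).le

end Cfsg.Agent.TriTwo.Rec
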