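import Cfsg.Agent.StdEven.Red
import Cfsg.Agent.TriTwo.Rec
import Cfsg.Agent.TriTwo.EndX
import Cfsg.Agent.TriTwo.InL
import Cfsg.Agent.TriTwo.Chain
import Cfsg.Agent.HexModel.Main
import Cfsg.Agent.HexRing.FieldFin
import Cfsg.Agent.HexEight.Glue
import Cfsg.Agent.WreathFusion.Kill

/-!
# S1778, type `³D₄(2)`: the core statement, from S1770
-/

set_option autoImplicit false

namespace Cfsg.Agent.TriTwo.CoreTwo

open Cfsg Subgroup Cfsg.Agent.SignalizersComponents Cfsg.Agent.StdEven.Syl Cfsg.Agent.StdEven.Loc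
open Cfsg.Agent.StdEven.CoreQuot Cfsg.Agent.StdL2.Setup Cfsg.Agent.StdRank2.Hex Cfsg.Agent.HexGrow.Defs
open Cfsg.Agent.StdRank2.Hex.HexTwo (AA)
open Cfsg.Agent.StdEven.Red Cfsg.Agent.TriTwo.Bridge Cfsg.Agent.TriTwo.Rec
open Cfsg.Agent.HexEight.ToPos

universe u

/-- The field with 64 elements. -/
theorem exists_field : ∃ (K : Type) (_ : Field K) (_ : Fintype K) (_ : CharP K 2), Fintype.card K = 64 := by
  have : Fact (Nat.Prime 2) := ⟨Nat.prime_two⟩
  have : Fintype (GaloisField 2 6) := Fintype.ofFinite _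
  refine ⟨GaloisField 2 6, inferInstance, this, inferInstance, ?_⟩
  rw [← Nat.card_eq_fintype_card, GaloisField.card 2 6 (by norm_num)]
  norm_num

theorem isLie_of {L : Type*} [Group L] {K : Type} [Field K] [Fintype K] [CharP K 2] (hK : Fintype.card K = 64)
    (e : L ≃* ↥(Cfsg.Lie.twistedD4 K (2 ^ 2))) : IsLieTypeChar 2 L := by
  right; right; right; right; right; right; right; left
  refine ⟨K, inferInstance, inferInstance, inferInstance, 2 ^ 2, ?_, Or.inr ⟨?_, ⟨e⟩⟩⟩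
  · exact (Nat.prime_two.isPrimePow).pow (by norm_num)
  · rw [hK]; norm_num

theorem fix_of_card {K : Type*} [Field K] {σ : K ≃+* K} (h : Nat.card {c : K // σ c = c} = 2) (a : K) (ha : σ a = a) :
    a = 0 ∨ a = 1 := by
  by_contra hcon
  push Not at hcon
  have hfin : Finite {c : K // σ c = c} := Nat.finite_of_card_ne_zero (by rw [h]; norm_num)
  let f : Fin 3 → {c : K // σ c = c} := ![⟨0, map_zero σ⟩, ⟨1, map_one σ⟩, ⟨a, ha⟩]
  have hf : Function.Injective f := by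
    intro i j hij
    have h01 : (0 : K) ≠ 1 := zero_ne_one
    fin_cases i <;> fin_cases j <;> simp_all [f, Subtype.ext_iff]
  have h1 := Nat.card_le_card_of_injective f hf
  rw [h, Nat.card_eq_fintype_card, Fintype.card_fin] at h1
  omega

variable {E : Type*} [Field E] {σ : E ≃+* E} {X : Type*} [Group X] [Finite X] {x : ZMod 12 → E → X} {t : X}
  {V : ZMod 12 → Subgroup X}

/-- **Split or field** for `³D₄(2)`. -/
theorem split_or [Finite E] (g : HexEight.Def.Gr σ x t V) (hc : Nat.card E = 8)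
    (hf : ∀ a, σ a = a → a = 0 ∨ a = 1) (hσ : ∀ a, σ a = a ^ 2) :
    (∃ S₁ S₂ D₁ D₂ : Subgroup X, WreathFusion.PData (UU V 1) S₁ S₂ D₁ D₂) ∨
      ∀ (K : Type) [Field K] [Fintype K], Fintype.card K = 64 → ∀ P : Sylow 2 ↥(Cfsg.Lie.twistedD4 K (2 ^ 2)),
        Nonempty (UU V 1 ≃* (P : Subgroup ↥(Cfsg.Lie.twistedD4 K (2 ^ 2)))) := by
  have hφ := pair σ g.hex.two g.hex.cube
  have g' : HexEight.Def.Gr ((phi σ : E ≃ₐ[FF σ] E) : E ≃+* E) x t V := by rw [coe_phi]; exact g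
  obtain ⟨s, hs0, hs1⟩ := PF.exists_unit g.hex hc
  have hne : ∃ a, phi σ a ≠ a := ⟨s, fun h => by
    rcases hf s h with h1 | h1
    · exact hs0 h1
    · exact hs1 h1⟩
  rcases HexEight.Main.split_or_qr hφ (Or.inr hne) g' with ⟨y1, y2, hsp⟩ | ⟨z, L, β, c, hQ, hno⟩
  · left
    have h2 : Nat.card {a : E // ((phi σ : E ≃ₐ[FF σ] E) : E ≃+* E) a = a} = 2 := by
      rw [coe_phi]
      exact PF.card_fix g.hex hf
    exact ⟨_, _, _, _, HexEight.Glue.pdata g' hsp (Or.inr ⟨h2, by rw [hc]; norm_num⟩)⟩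
  · right
    intro K _ _ hK P
    exact HexRing.FieldFin.field_d4 hQ hno (q := 2) (by rw [hc]; norm_num) hσ K (by rw [hK]; norm_num) P

/-- **The core statement for `³D₄(2)`**, from S1770. -/
theorem core (h1770 : Rec1770.{u}) :
    Core.{u} (fun Q _ => ∃ (K : Type) (_ : Field K) (_ : Fintype K), Fintype.card K = 8 ∧
      Nonempty (Q ≃* ↥(Cfsg.Lie.twistedD4 K 2))) := by
  intro G _ _ L A t C hZ hyp
  obtain ⟨K, iF, iFt, hK, ⟨e⟩⟩ := hyp
  have hp : commutator ↥A = ⊤ := C.std.1.1.commutator_eq_top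
  obtain ⟨σ, x, hσ, h3, hne, hfix, hx, hA⟩ := HexModel.Main.of_D4 A (a := 1) le_rfl (by rw [hK]; norm_num) hZ hp
    (by rw [pow_one]; exact e)
  have hc : Nat.card K = 8 := by rw [Nat.card_eq_fintype_card, hK]
  have hf : ∀ a, σ a = a → a = 0 ∨ a = 1 := fix_of_card (by rw [hfix]; norm_num)
  obtain ⟨T, H, hTA, -, g, -, -, hgt, hgz⟩ := exists_hyp C hZ hx hA.symm hc hf
    (rec_card h1770 C hx hA.symm hc hf hK e)
  subst hA
  have v := env hx hc hf H hTA hgt hgz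
  obtain ⟨V, W, gr⟩ := Chain.exists_gr v
  obtain ⟨-, hS⟩ := exists_hex hx hc hf H
  have hAA : im (AA σ x) t (AA σ x) = AA σ (xX (AA σ x) t x) := hS Set.univ
  obtain ⟨s, hs0, hs1⟩ := PF.exists_unit v.hex hc
  -- the image of `L` is normal
  have hLn := C.normal
  have hN : (im (AA σ x) t L).Normal := by
    constructor
    intro n hn y
    obtain ⟨l, hl, rfl⟩ := mem_im.mp hn
    obtain ⟨m, rfl⟩ := pr_surjective (AA σ x) t y
    rw [← map_inv, ← map_mul, ← map_mul]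
    exact pr_mem_im (hLn.conj_mem _ hl _)
  have hSL : UU V 1 ≤ im (AA σ x) t L := InL.UU_le v.hex ⟨s, hs0, hs1⟩ v.tx W
    (fun r y => v.hex.mem_gen_singleton) hN (by rw [← hAA]; exact im_mono C.le) 1
  obtain ⟨S, hSy, htL, hSN, hSi, ⟨f⟩, -⟩ := StdEven.EndLift.main C H (EndX.endX hx hc hf H hTA W) hSL
  refine ⟨Or.inl ?_, htL⟩
  rcases split_or gr hc hf (fun a => by rw [hσ, pow_one]) with ⟨S₁, S₂, D₁, D₂, hd⟩ | hfield
  · exfalso
    exact WreathFusion.false_of_im C H hSy hSN (by rw [hSi]; exact hd)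
  · obtain ⟨K', i1, i2, i3, hK'⟩ := exists_field
    have : Fact (Nat.Prime 2) := ⟨Nat.prime_two⟩
    have hfin : Finite ↥(Cfsg.Lie.twistedD4 K' (2 ^ 2)) := inferInstance
    obtain ⟨P⟩ : Nonempty (Sylow 2 ↥(Cfsg.Lie.twistedD4 K' (2 ^ 2))) := inferInstance
    obtain ⟨k⟩ := hfield K' hK' P
    have hsimple := C.simple
    have e1 : ↥((hSy.toSylow : Sylow 2 ↥L) : Subgroup ↥L) ≃* ↥S := subgroupOfEquivOfLe hSy.le
    obtain ⟨m⟩ := h1770 ↥L hSy.toSylow 2 K' (by norm_num) (by rw [hK']; norm_num) P ⟨(e1.trans f).trans k⟩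
    exact isLie_of hK' m

end Cfsg.Agent.TriTwo.CoreTwo
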