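import Cfsg.Agent.TriTwo.CoreTwo
import Cfsg.Agent.S1770

/-!
# S1778, type `³D₄(2)`: the core statement
-/

set_option autoImplicit false

namespace Cfsg.Agent.TriTwo.CoreFin

open Cfsg Cfsg.Agent.StdEven.Red Cfsg.Agent.TriTwo.Rec

universe u

theorem rec1770 : Rec1770.{u} := fun _ _ _ _ S r K _ _ hr hK P h => (Cfsg.Agent.S1770.result S r).2 K hr hK P h

/-- **The core statement for `³D₄(2)`.** -/
theorem core : Core.{u} (fun Q _ => ∃ (K : Type) (_ : Field K) (_ : Fintype K), Fintype.card K = 8 ∧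
    Nonempty (Q ≃* ↥(Cfsg.Lie.twistedD4 K 2))) :=
  CoreTwo.core rec1770

end Cfsg.Agent.TriTwo.CoreFin
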