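import Cfsg.Agent.TriTwo.Start

/-!
# S1778 without outer 2-elements: centralizers in `C(t)` of the radicals of two parabolics, the element `n`

`Frame A U P1 P2 Q1 Q2 z`: `A` is generated by `P1 = C_A(z)` and `P2`, which normalise the subgroups `Q1`, `Q2` of the
2-group `U` containing their centralizers in `A`.  `Base A t T`: facts on `C(t)`.
-/

set_option autoImplicit false
set_option linter.unusedSectionVars false

namespace Cfsg.Agent.TriTwo.Flat

open Cfsg Subgroup Cfsg.Agent.SignalizersComponents Cfsg.Agent.StdEven.Syl Cfsg.Agent.StdEven.Loc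
open Cfsg.Agent.StdEven.CoreQuot Cfsg.Agent.StdL2.Setup Cfsg.Agent.TriTwo.Start
open scoped commutatorElement

variable {G : Type*} [Group G]

/-- Facts on `A`. -/
structure Frame (A U P1 P2 Q1 Q2 : Subgroup G) (z : G) : Prop where
  U_A : U ≤ A
  two : IsPGroup 2 U
  z_U : z ∈ U
  zz : z * z = 1
  z1 : z ≠ 1
  P1_iff : ∀ a, a ∈ P1 ↔ a ∈ A ∧ a * z = z * a
  perf : ⁅P1, P1⁆ = P1
  gen1 : P1 ≤ closure {x | x ∈ P1 ∧ ∃ k : ℕ, x ^ 2 ^ k = 1}
  P2_A : P2 ≤ A
  gen : A ≤ P1 ⊔ P2
  n1 : P1 ≤ normalizer (Q1 : Set G)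
  n2 : P2 ≤ normalizer (Q2 : Set G)
  Q1_U : Q1 ≤ U
  Q2_U : Q2 ≤ U
  U_P1 : U ≤ P1
  U_P2 : U ≤ P2
  c1 : ∀ a ∈ A, (∀ q ∈ Q1, a * q = q * a) → a ∈ Q1
  c2 : ∀ a ∈ A, (∀ q ∈ Q2, a * q = q * a) → a ∈ Q2

/-- Facts on `C(t)`. -/
structure Base (A : Subgroup G) (t : G) (T : Subgroup G) : Prop where
  tt : t * t = 1
  comm : ∀ a ∈ A, a * t = t * a
  norm : ∀ x, x * t = t * x → x ∈ normalizer (A : Set G)
  syl : IsSyl T (centralizer ({t} : Set G))
  mem : ∀ y ∈ T, y ∈ A ∨ t * y ∈ A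

/-- An element of odd order which centralises the 2-group `Q ≥ C_A(Q)` centralises `N_A(Q)`. -/
theorem comm_of_odd {A Q : Subgroup G} {x p : G} (hxA : x ∈ normalizer (A : Set G)) (hxo : Odd (orderOf x))
    (hxQ : ∀ q ∈ Q, x * q = q * x) (hQ : IsPGroup 2 Q) (hp : p ∈ A) (hpQ : p ∈ normalizer (Q : Set G))
    (hc : ∀ a ∈ A, (∀ q ∈ Q, a * q = q * a) → a ∈ Q) : x * p = p * x := by
  set w := x * p * x⁻¹ * p⁻¹ with hw
  have hxq' : ∀ q ∈ Q, x⁻¹ * q * x = q := by
    intro q hq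
    rw [mul_assoc, ← hxQ q hq, inv_mul_cancel_left]
  have hxq : ∀ q ∈ Q, x * q * x⁻¹ = q := by
    intro q hq
    rw [hxQ q hq, mul_inv_cancel_right]
  have hwA : w ∈ A := mul_mem (conj_mem_of_mem_normalizer hxA hp) (inv_mem hp)
  have hwQ : w ∈ Q := by
    apply hc w hwA
    intro q hq
    have h1 : p⁻¹ * q * p ∈ Q := conj_inv_mem_of_mem_normalizer hpQ hq
    have h2 : w * q * w⁻¹ = q := by
      calc w * q * w⁻¹ = x * (p * (x⁻¹ * (p⁻¹ * q * p) * x) * p⁻¹) * x⁻¹ := by rw [hw]; group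
        _ = x * (p * (p⁻¹ * q * p) * p⁻¹) * x⁻¹ := by rw [hxq' _ h1]
        _ = x * q * x⁻¹ := by group
        _ = q := hxq q hq
    rwa [mul_inv_eq_iff_eq_mul] at h2
  have hxp : x * p * x⁻¹ = w * p := by rw [hw]; group
  have hpow : ∀ n : ℕ, x ^ n * p * (x ^ n)⁻¹ = w ^ n * p := by
    intro n
    induction n with
    | zero => simp
    | succ n ih =>
      have h1 : x * w ^ n * x⁻¹ = w ^ n := hxq _ (pow_mem hwQ n)
      calc x ^ (n + 1) * p * (x ^ (n + 1))⁻¹ = x * (x ^ n * p * (x ^ n)⁻¹) * x⁻¹ := by rw [pow_succ']; group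
        _ = (x * w ^ n * x⁻¹) * (x * p * x⁻¹) := by rw [ih]; group
        _ = w ^ n * (w * p) := by rw [h1, hxp]
        _ = w ^ (n + 1) * p := by rw [pow_succ]; group
  obtain ⟨k, hk⟩ := hQ ⟨w, hwQ⟩
  have hk : w ^ 2 ^ k = 1 := congrArg Subtype.val hk
  have h1 := hpow (orderOf x)
  rw [pow_orderOf_eq_one, one_mul, inv_one, mul_one] at h1
  have h2 : w ^ orderOf x = 1 := by
    have : w ^ orderOf x * p = 1 * p := by rw [one_mul, ← h1]
    exact mul_right_cancel this
  have h3 : orderOf w = 1 := Nat.eq_one_of_dvd_coprimes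
    (Nat.Coprime.pow_left k (Nat.coprime_two_left.mpr hxo)) (orderOf_dvd_of_pow_eq_one hk)
    (orderOf_dvd_of_pow_eq_one h2)
  rw [orderOf_eq_one_iff] at h3
  rw [h3, one_mul] at hxp
  rwa [mul_inv_eq_iff_eq_mul] at hxp

namespace Base

variable {A : Subgroup G} {t : G} {T : Subgroup G} (B : Base A t T)
include B

/-- 2-elements of `C(t)` lie in `A ∪ tA`. -/
theorem two_mem [Finite G] {x : G} (hx : x * t = t * x) {k : ℕ} (hk : x ^ 2 ^ k = 1) : x ∈ A ∨ t * x ∈ A := by
  have h1 : IsPGroup 2 (zpowers x) := by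
    rintro ⟨y, hy⟩
    obtain ⟨i, rfl⟩ := mem_zpowers_iff.mp hy
    refine ⟨k, Subtype.ext ?_⟩
    show (x ^ i) ^ 2 ^ k = 1
    rw [← zpow_natCast, ← zpow_mul, mul_comm, zpow_mul, zpow_natCast, hk, one_zpow]
  obtain ⟨c, hc, hcT⟩ := B.syl.exists_conj h1 (by
    rw [zpowers_le, mem_centralizer_singleton_iff]; exact hx)
  rw [mem_centralizer_singleton_iff] at hc
  have h2 := hcT x (mem_zpowers x)
  have hcA := B.norm c hc
  have h3 : c⁻¹ * t * c = t := by rw [mul_assoc, ← hc, inv_mul_cancel_left]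
  rcases B.mem _ h2 with h | h
  · left
    have h4 := conj_inv_mem_of_mem_normalizer hcA h
    have h5 : c⁻¹ * (c * x * c⁻¹) * c = x := by group
    rwa [h5] at h4
  · right
    have h4 := conj_inv_mem_of_mem_normalizer hcA h
    have h5 : c⁻¹ * (t * (c * x * c⁻¹)) * c = (c⁻¹ * t * c) * x := by group
    rwa [h5, h3] at h4

end Base

namespace Frame

variable {A U P1 P2 Q1 Q2 : Subgroup G} {z : G} (F : Frame A U P1 P2 Q1 Q2 z)
include F

theorem P1_A : P1 ≤ A := fun _ ha => ((F.P1_iff _).mp ha).1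

theorem comm_A {x : G} (h1 : ∀ p ∈ P1, x * p = p * x) (h2 : ∀ p ∈ P2, x * p = p * x) : ∀ a ∈ A, x * a = a * x := by
  have h3 : A ≤ centralizer ({x} : Set G) := F.gen.trans (sup_le
    (fun p hp => by rw [mem_centralizer_singleton_iff]; exact (h1 p hp).symm)
    (fun p hp => by rw [mem_centralizer_singleton_iff]; exact (h2 p hp).symm))
  intro a ha
  have := h3 ha
  rw [mem_centralizer_singleton_iff] at this
  exact this.symm

/-- Elements of odd order of `N(A) ⊓ C(Q1)` centralise `A`. -/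
theorem odd1 {x : G} (hxA : x ∈ normalizer (A : Set G)) (hxo : Odd (orderOf x)) (hxQ : ∀ q ∈ Q1, x * q = q * x) :
    ∀ a ∈ A, x * a = a * x := by
  have h1 : ∀ p ∈ P1, x * p = p * x := fun p hp =>
    comm_of_odd hxA hxo hxQ (F.two.to_le F.Q1_U) (F.P1_A hp) (F.n1 hp) F.c1
  refine F.comm_A h1 fun p hp => ?_
  exact comm_of_odd hxA hxo (fun q hq => h1 q (F.U_P1 (F.Q2_U hq))) (F.two.to_le F.Q2_U) (F.P2_A hp) (F.n2 hp) F.c2

/-- Elements of odd order of `N(A) ⊓ C(Q2)` centralise `A`. -/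
theorem odd2 {x : G} (hxA : x ∈ normalizer (A : Set G)) (hxo : Odd (orderOf x)) (hxQ : ∀ q ∈ Q2, x * q = q * x) :
    ∀ a ∈ A, x * a = a * x := by
  have h2 : ∀ p ∈ P2, x * p = p * x := fun p hp =>
    comm_of_odd hxA hxo hxQ (F.two.to_le F.Q2_U) (F.P2_A hp) (F.n2 hp) F.c2
  refine F.comm_A (fun p hp => ?_) h2
  exact comm_of_odd hxA hxo (fun q hq => h2 q (F.U_P2 (F.Q1_U hq))) (F.two.to_le F.Q1_U) (F.P1_A hp) (F.n1 hp) F.c1

section

variable [Finite G] {t : G} {T : Subgroup G} (B : Base A t T)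
include B

/-- An element of `C(t)` which centralises `Q` lies in `A ∪ tA`, if the elements of odd order are trivial. -/
theorem mem_of_cent (hcent : ∀ x, x * t = t * x → (∀ a ∈ A, x * a = a * x) → x = 1 ∨ x = t) {Q : Subgroup G}
    (hQ : ∀ x : G, x ∈ normalizer (A : Set G) → Odd (orderOf x) → (∀ q ∈ Q, x * q = q * x) →
      ∀ a ∈ A, x * a = a * x) {x : G} (hx : x * t = t * x) (hxQ : ∀ q ∈ Q, x * q = q * x) :
    x ∈ A ∨ t * x ∈ A := by
  obtain ⟨i, j, hij, hi, k, hk⟩ := StdSz.Env.exists_decomp x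
  have hc : ∀ n : ℕ, x ^ n * t = t * x ^ n := fun n => (Commute.pow_left (show Commute x t from hx) n)
  have hq : ∀ n : ℕ, ∀ q ∈ Q, x ^ n * q = q * x ^ n := fun n q hq =>
    (Commute.pow_left (show Commute x q from hxQ q hq) n)
  have h1 : x ^ i = 1 := by
    rcases hcent _ (hc i) (hQ _ (B.norm _ (hc i)) hi (hq i)) with h | h
    · exact h
    · apply eq_one_of_sq_of_odd _ hi
      rw [h, B.tt]
  rw [h1, one_mul] at hij
  rw [hij]
  exact B.two_mem (hc j) hk

theorem cent1 (hcent : ∀ x, x * t = t * x → (∀ a ∈ A, x * a = a * x) → x = 1 ∨ x = t)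
    {x : G} (hx : x * t = t * x) (hxQ : ∀ q ∈ Q1, x * q = q * x) :
    (x ∈ A ∧ ∀ q ∈ Q1, x * q = q * x) ∨ (t * x ∈ A ∧ ∀ q ∈ Q1, t * x * q = q * (t * x)) := by
  rcases mem_of_cent (Q := Q1) F B hcent (fun x h1 h2 h3 => F.odd1 h1 h2 h3) hx hxQ with h | h
  · exact Or.inl ⟨h, hxQ⟩
  · refine Or.inr ⟨h, fun q hq => ?_⟩
    have h1 := B.comm q (F.U_A (F.Q1_U hq))
    calc t * x * q = t * (x * q) := by group
      _ = (t * q) * x := by rw [hxQ q hq]; group
      _ = q * (t * x) := by rw [← h1]; group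

theorem cent2 (hcent : ∀ x, x * t = t * x → (∀ a ∈ A, x * a = a * x) → x = 1 ∨ x = t)
    {x : G} (hx : x * t = t * x) (hxQ : ∀ q ∈ Q2, x * q = q * x) :
    (x ∈ A ∧ ∀ q ∈ Q2, x * q = q * x) ∨ (t * x ∈ A ∧ ∀ q ∈ Q2, t * x * q = q * (t * x)) := by
  rcases mem_of_cent (Q := Q2) F B hcent (fun x h1 h2 h3 => F.odd2 h1 h2 h3) hx hxQ with h | h
  · exact Or.inl ⟨h, hxQ⟩
  · refine Or.inr ⟨h, fun q hq => ?_⟩
    have h1 := B.comm q (F.U_A (F.Q2_U hq))
    calc t * x * q = t * (x * q) := by group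
      _ = (t * q) * x := by rw [hxQ q hq]; group
      _ = q * (t * x) := by rw [← h1]; group

theorem two_mem_P1 {x : G} (hx : x * t = t * x) (hxz : x * z = z * x) {k : ℕ} (hk : x ^ 2 ^ k = 1) :
    x ∈ P1 ∨ t * x ∈ P1 := by
  rcases B.two_mem hx hk with h | h
  · exact Or.inl ((F.P1_iff _).mpr ⟨h, hxz⟩)
  · refine Or.inr ((F.P1_iff _).mpr ⟨h, ?_⟩)
    have h1 := B.comm z (F.U_A F.z_U)
    calc t * x * z = t * (x * z) := by group
      _ = (t * z) * x := by rw [hxz]; group
      _ = z * (t * x) := by rw [← h1]; group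

/-- A 2-subgroup of `C(t)` containing `t` and `U`. -/
theorem mem_U (hU : IsSyl U A) {P : Subgroup G} (hP : IsPGroup 2 P) (hPt : ∀ g ∈ P, g * t = t * g) (htP : t ∈ P)
    (hUP : U ≤ P) {g : G} (hg : g ∈ P) : g ∈ U ∨ t * g ∈ U := by
  have h1 : P ⊓ A = U := hU.max _ (hP.to_le inf_le_left) inf_le_right (le_inf hUP hU.le)
  obtain ⟨k, hk⟩ := hP ⟨g, hg⟩
  rcases B.two_mem (hPt g hg) (congrArg Subtype.val hk : g ^ 2 ^ k = 1) with h | h
  · left; rw [← h1]; exact mem_inf.mpr ⟨hg, h⟩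
  · right; rw [← h1]; exact mem_inf.mpr ⟨mul_mem htP hg, h⟩

omit [Finite G] in
/-- The subgroup generated by the 2-elements of `C(t) ∩ C(z)`. -/
theorem exists_M [Finite G] : ∃ M : Subgroup G, P1 ≤ M ∧ t ∈ M ∧ (∀ m ∈ M, m ∈ P1 ∨ t * m ∈ P1) ∧ P1 = ⁅M, M⁆ ∧
    ∀ g : G, g * t * g⁻¹ = t * z → g * z * g⁻¹ = z → g ∈ normalizer (M : Set G) := by
  set M : Subgroup G := closure {x | x * t = t * x ∧ x * z = z * x ∧ ∃ k : ℕ, x ^ 2 ^ k = 1} with hM
  have htz : t * z = z * t := (B.comm z (F.U_A F.z_U)).symm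
  have h1 : P1 ≤ M := by
    refine F.gen1.trans (closure_mono ?_)
    rintro x ⟨hx, k, hk⟩
    exact ⟨B.comm x (F.P1_A hx), ((F.P1_iff x).mp hx).2, k, hk⟩
  have h2 : t ∈ M := Subgroup.subset_closure ⟨rfl, htz, 1, by rw [pow_one, pow_two, B.tt]⟩
  have hPt : ∀ p ∈ P1, p * t = t * p := fun p hp => B.comm p (F.P1_A hp)
  have h3 : ∀ m ∈ M, m ∈ P1 ∨ t * m ∈ P1 := by
    intro m hm
    induction hm using closure_induction with
    | mem y hy => exact F.two_mem_P1 B hy.1 hy.2.1 hy.2.2.choose_spec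
    | one => exact Or.inl (one_mem _)
    | mul a b _ _ iha ihb =>
      rcases iha with ha | ha
      · rcases ihb with hb | hb
        · exact Or.inl (mul_mem ha hb)
        · right
          have : t * (a * b) = a * (t * b) := by
            calc t * (a * b) = (t * a) * b := by group
              _ = a * (t * b) := by rw [← hPt a ha]; group
          rw [this]; exact mul_mem ha hb
      · rcases ihb with hb | hb
        · right
          rw [← mul_assoc]; exact mul_mem ha hb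
        · left
          have : a * b = (t * a) * (t * b) := by
            have e1 := hPt _ ha
            calc a * b = (t * t) * a * b := by rw [B.tt, one_mul]
              _ = t * (t * a) * b := by group
              _ = (t * a) * (t * b) := by rw [← e1]; group
          rw [this]; exact mul_mem ha hb
    | inv a _ iha =>
      rcases iha with ha | ha
      · exact Or.inl (inv_mem ha)
      · right
        have e1 := hPt _ ha
        have e2 : t⁻¹ = t := inv_eq_of_mul_eq_one_left B.tt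
        have : t * a⁻¹ = (t * a)⁻¹ := by
          have e3 : a * t = t * a := by
            have : t * (a * t) = t * (t * a) := by rw [← mul_assoc, e1]
            exact mul_left_cancel this
          rw [← e3, mul_inv_rev, e2]
        rw [this]; exact inv_mem ha
  have h4 : P1 = ⁅M, M⁆ := by
    apply le_antisymm
    · calc P1 = ⁅P1, P1⁆ := F.perf.symm
        _ ≤ ⁅M, M⁆ := Subgroup.commutator_mono h1 h1
    · rw [Subgroup.commutator_le]
      intro a ha b hb
      -- replace `a`, `b` by elements of `P1`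
      have key : ∀ a ∈ M, ∃ p ∈ P1, (a = p ∨ a = t * p) ∧ p * t = t * p := by
        intro a ha
        rcases h3 a ha with h | h
        · exact ⟨a, h, Or.inl rfl, hPt a h⟩
        · exact ⟨t * a, h, Or.inr (by rw [← mul_assoc, B.tt, one_mul]), hPt _ h⟩
      obtain ⟨p, hp, hap, hpt⟩ := key a ha
      obtain ⟨r, hr, hbr, hrt⟩ := key b hb
      have h5 : ⁅a, b⁆ = ⁅p, r⁆ := by
        have e1 : ∀ b : G, b * t = t * b → ⁅t * p, b⁆ = ⁅p, b⁆ := by
          intro b hb
          rw [commutatorElement_def, commutatorElement_def]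
          have hb' : b * t⁻¹ = t⁻¹ * b := by
            rw [inv_eq_of_mul_eq_one_left B.tt]; exact hb
          calc t * p * b * (t * p)⁻¹ * b⁻¹ = t * p * b * p⁻¹ * (t⁻¹ * b⁻¹) := by group
            _ = t * (p * b * p⁻¹) * (b * t)⁻¹ := by group
            _ = t * (p * b * p⁻¹) * (t * b)⁻¹ := by rw [hb]
            _ = t * (p * b * p⁻¹ * b⁻¹) * t⁻¹ := by group
            _ = p * b * p⁻¹ * b⁻¹ := by
              have e3 : t * (p * b * p⁻¹ * b⁻¹) = (p * b * p⁻¹ * b⁻¹) * t := by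
                have hpc : Commute t p := hpt.symm
                have hbc : Commute t b := hb.symm
                exact ((hpc.mul_right hbc).mul_right hpc.inv_right).mul_right hbc.inv_right
              rw [e3, mul_inv_cancel_right]
        have e2 : ∀ a : G, a * t = t * a → ⁅a, t * r⁆ = ⁅a, r⁆ := by
          intro a ha
          rw [commutatorElement_def, commutatorElement_def]
          have hac : Commute t a := ha.symm
          have hrc : Commute t r := hrt.symm
          calc a * (t * r) * a⁻¹ * (t * r)⁻¹ = (a * t) * (r * a⁻¹ * r⁻¹) * t⁻¹ := by group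
            _ = t * (a * r * a⁻¹ * r⁻¹) * t⁻¹ := by rw [ha]; group
            _ = a * r * a⁻¹ * r⁻¹ := by
              have e3 : t * (a * r * a⁻¹ * r⁻¹) = (a * r * a⁻¹ * r⁻¹) * t :=
                ((hac.mul_right hrc).mul_right hac.inv_right).mul_right hrc.inv_right
              rw [e3, mul_inv_cancel_right]
        have hbt : b * t = t * b := by
          rcases hbr with rfl | rfl
          · exact hrt
          · rw [mul_assoc, hrt]
        rcases hap with rfl | rfl
        · rcases hbr with rfl | rfl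
          · rfl
          · exact e2 _ hpt
        · rw [e1 b hbt]
          rcases hbr with rfl | rfl
          · rfl
          · exact e2 _ hpt
      rw [h5]
      have h6 : ⁅p, r⁆ ∈ ⁅P1, P1⁆ := commutator_mem_commutator hp hr
      rwa [F.perf] at h6
  refine ⟨M, h1, h2, h3, h4, ?_⟩
  intro g hg hgz
  apply mem_normalizer_of_conj_le
  intro x hx
  induction hx using closure_induction with
  | mem y hy =>
    obtain ⟨hy1, hy2, k, hk⟩ := hy
    apply Subgroup.subset_closure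
    have e1 : g * y * g⁻¹ * (t * z) = t * z * (g * y * g⁻¹) := by
      rw [← hg]
      calc g * y * g⁻¹ * (g * t * g⁻¹) = g * (y * t) * g⁻¹ := by group
        _ = g * t * g⁻¹ * (g * y * g⁻¹) := by rw [hy1]; group
    have e2 : g * y * g⁻¹ * z = z * (g * y * g⁻¹) := by
      calc g * y * g⁻¹ * z = g * y * g⁻¹ * (g * z * g⁻¹) := by rw [hgz]
        _ = g * (y * z) * g⁻¹ := by group
        _ = (g * z * g⁻¹) * (g * y * g⁻¹) := by rw [hy2]; group
        _ = z * (g * y * g⁻¹) := by rw [hgz]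
    refine ⟨?_, e2, k, ?_⟩
    · have e3 : g * y * g⁻¹ * t * z = t * (g * y * g⁻¹) * z := by
        calc g * y * g⁻¹ * t * z = g * y * g⁻¹ * (t * z) := by group
          _ = t * (z * (g * y * g⁻¹)) := by rw [e1]; group
          _ = t * (g * y * g⁻¹ * z) := by rw [e2]
          _ = t * (g * y * g⁻¹) * z := by group
      exact mul_right_cancel e3
    · rw [conj_pow, hk]; group
  | one => rw [mul_one, mul_inv_cancel]; exact one_mem _
  | mul a b _ _ iha ihb =>
    have : g * (a * b) * g⁻¹ = (g * a * g⁻¹) * (g * b * g⁻¹) := by group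
    rw [this]; exact mul_mem iha ihb
  | inv a _ iha =>
    have : g * a⁻¹ * g⁻¹ = (g * a * g⁻¹)⁻¹ := by group
    rw [this]; exact inv_mem iha

end

end Frame

end Cfsg.Agent.TriTwo.Flat
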