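import Cfsg.Agent.TriTwo.Grow3Tow
import Cfsg.Agent.TriTwo.SeedFacts
import Cfsg.Agent.TriTwo.PFacts

/-!
# S1778, type `³D₄(2)`, piece [E3]: the stabiliser of the chain `Q₂ > U₂⋯U₅ > J₀ > W > Z > 1` in `C(t)`

`KK σ x t` is a `2`-group containing `⟨t⟩ U`, hence it is `⟨t⟩ U` by (T).
-/

set_option autoImplicit false
set_option linter.unusedSectionVars false

namespace Cfsg.Agent.TriTwo.Grow3

open Cfsg.Agent.StdRank2.Hex Cfsg.Agent.SplitTwo Cfsg.Agent.TriTwo
open scoped commutatorElement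

section

variable {E : Type*} [Field E] (σ : E ≃+* E) {G : Type*} [Group G] (x : ZMod 12 → E → G) (t : G)

/-- root groups -/
def Xg (k : ZMod 12) : Subgroup G := gen σ x {k}

/-- the stabiliser of the chain in `C(t)` -/
def KK : Subgroup G :=
  Subgroup.centralizer {t} ⊓ (Stb (Xg σ x 1 : Set G) (gl σ x [2, 3, 4, 5]) ⊓ (Stb (Xg σ x 5 : Set G) (gl σ x [2, 3, 4]) ⊓
    (Stb (Xg σ x 3 : Set G) (gl σ x [2, 4]) ⊓ (Stb (Xg σ x 2 : Set G) (gl σ x [4]) ⊓
      Stb (Xg σ x 4 : Set G) (gl σ x [])))))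

end

section

variable {E : Type*} [Field E] {σ : E ≃+* E} {G : Type*} [Group G] {x : ZMod 12 → E → G} {t : G} (v : Env σ x t)

include v

theorem mem_Xg {k : ZMod 12} {y : G} : y ∈ Xg σ x k ↔ ∃ b, Ok σ k b ∧ y = x k b := v.hex.mem_gen_singleton

theorem x_mem_Xg {k : ZMod 12} {b : E} (hb : Ok σ k b) : x k b ∈ Xg σ x k := (mem_Xg v).2 ⟨b, hb, rfl⟩

theorem Xg_t {k : ZMod 12} {y : G} (hy : y ∈ Xg σ x k) : y * t = t * y := by
  obtain ⟨b, hb, rfl⟩ := (mem_Xg v).1 hy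
  exact (v.tx k b hb).symm

theorem gl_t {L : List (ZMod 12)} {y : G} (hy : y ∈ gl σ x L) : t * y = y * t :=
  gl_comm v.hex (fun k _ a ha => v.tx k a ha) hy

theorem gl_commX {L : List (ZMod 12)} {c : G} (hc : ∀ k ∈ L, ∀ m ∈ Xg σ x k, c * m = m * c) {y : G}
    (hy : y ∈ gl σ x L) : c * y = y * c :=
  gl_comm v.hex (fun k hk a ha => hc k hk _ (x_mem_Xg v ha)) hy

theorem gl_Us {L : List (ZMod 12)} (hL : ∀ i ∈ L, i ∈ ([1, 2, 3, 4, 5, 6] : List (ZMod 12))) : gl σ x L ≤ Us σ x := by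
  rw [Us_eq]
  exact gl_mono hL

theorem exp_Us {z : G} (hz : z ∈ Us σ x) : z ^ 2 ^ 12 = 1 := by
  have h1 := PF.card_Us v.hex v.card v.fix
  have h2 : (⟨z, hz⟩ : Us σ x) ^ Nat.card (Us σ x) = 1 := pow_card_eq_one'
  rw [h1] at h2
  exact congrArg Subtype.val h2

theorem x_Stb {k j : ZMod 12} {L : List (ZMod 12)}
    (h : (stable k L && (j != k + 6) && (betw k j).all fun i => L.contains i) = true) {a : E} (ha : Ok σ k a) :
    x k a ∈ Stb (Xg σ x j : Set G) (gl σ x L) := by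
  rw [Bool.and_eq_true, Bool.and_eq_true, List.all_eq_true] at h
  refine ⟨x_norm v h.1.1 ha, fun m hm => ?_⟩
  obtain ⟨b, hb, rfl⟩ := (mem_Xg v).1 hm
  exact gl_mono (fun i hi => by simpa using h.2 i hi) (comm_betw v.hex ha hb (by simpa using h.1.2))

theorem Us_le_KK : Us σ x ≤ KK σ x t := by
  refine gens_le fun k hk a ha => ?_
  have hk' : k ∈ ([1, 2, 3, 4, 5, 6] : List (ZMod 12)) := by simpa using hk
  have c0 : ∀ k ∈ ([1, 2, 3, 4, 5, 6] : List (ZMod 12)),
      (stable k [2, 3, 4, 5] && ((1 : ZMod 12) != k + 6) && (betw k 1).all fun i => [2, 3, 4, 5].contains i) = true := by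
    decide
  have c1 : ∀ k ∈ ([1, 2, 3, 4, 5, 6] : List (ZMod 12)),
      (stable k [2, 3, 4] && ((5 : ZMod 12) != k + 6) && (betw k 5).all fun i => [2, 3, 4].contains i) = true := by
    decide
  have c2 : ∀ k ∈ ([1, 2, 3, 4, 5, 6] : List (ZMod 12)),
      (stable k [2, 4] && ((3 : ZMod 12) != k + 6) && (betw k 3).all fun i => [2, 4].contains i) = true := by
    decide
  have c3 : ∀ k ∈ ([1, 2, 3, 4, 5, 6] : List (ZMod 12)),
      (stable k [4] && ((2 : ZMod 12) != k + 6) && (betw k 2).all fun i => [4].contains i) = true := by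
    decide
  have c4 : ∀ k ∈ ([1, 2, 3, 4, 5, 6] : List (ZMod 12)),
      (stable k [] && ((4 : ZMod 12) != k + 6) && (betw k 4).all fun i => ([] : List (ZMod 12)).contains i) = true := by
    decide
  refine ⟨?_, x_Stb v (c0 k hk') ha, x_Stb v (c1 k hk') ha, x_Stb v (c2 k hk') ha, x_Stb v (c3 k hk') ha,
    x_Stb v (c4 k hk') ha⟩
  exact Subgroup.mem_centralizer_singleton_iff.2 (v.tx k a ha).symm

theorem t_Stb {j : ZMod 12} {L : List (ZMod 12)} : t ∈ Stb (Xg σ x j : Set G) (gl σ x L) := by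
  refine ⟨?_, fun m hm => ?_⟩
  · rw [Subgroup.mem_normalizer_iff]
    intro y
    refine ⟨fun hy => by rw [gl_t v hy, mul_inv_cancel_right]; exact hy, fun hy => ?_⟩
    have h1 := gl_t v hy
    have h2 : y = t * y * t⁻¹ := by
      have h3 : t * (t * y * t⁻¹) = (t * y * t⁻¹) * t := h1
      have h4 : t * y * t⁻¹ = y := by
        have h5 : t * (t * y * t⁻¹) = t * y := by rw [h3]; group
        exact mul_left_cancel h5
      exact h4.symm
    rw [h2]; exact hy
  · rw [commutatorElement_eq_one_iff_mul_comm.2 (Xg_t v hm).symm]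
    exact one_mem _

theorem t_mem_KK : t ∈ KK σ x t :=
  ⟨Subgroup.mem_centralizer_singleton_iff.2 rfl, t_Stb v, t_Stb v, t_Stb v, t_Stb v, t_Stb v⟩

theorem KK_t {c : G} (hc : c ∈ KK σ x t) : c * t = t * c := Subgroup.mem_centralizer_singleton_iff.1 hc.1

/-- `KK` is a `2`-group -/
theorem KK_two : IsPGroup 2 (KK σ x t) := by
  have key : ∀ c ∈ KK σ x t, c ^ 2 ^ 60 = 1 := by
    intro c hc
    have nil : ∀ y ∈ gl σ x [], y = 1 := fun y hy => gl_nil v.hex hy
    have sub : ∀ (L : List (ZMod 12)), (∀ i ∈ L, i ∈ ([1, 2, 3, 4, 5, 6] : List (ZMod 12))) → ∀ z ∈ gl σ x L,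
        z ^ 2 ^ 12 = 1 := fun L hL z hz => exp_Us v (gl_Us v hL hz)
    -- `Z`
    have k4 : ∀ m ∈ Xg σ x 4, c * m = m * c := fun m hm =>
      commutatorElement_eq_one_iff_mul_comm.1 (nil _ (hc.2.2.2.2.2.2 m hm))
    have z4 : ∀ y ∈ gl σ x [4], c * y = y * c := fun y hy => gl_commX v (fun k hk => by
      rw [List.mem_singleton] at hk; subst hk; exact k4) hy
    -- `W`
    have k2 := pow_centr (sub [4] (by decide)) z4 hc.2.2.2.2.1.2
    set c1 := c ^ 2 ^ 12 with hc1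
    have hc1K : c1 ∈ KK σ x t := pow_mem hc _
    have k4' : ∀ m ∈ Xg σ x 4, c1 * m = m * c1 := fun m hm => ((show Commute c m from k4 m hm).pow_left _).eq
    have z2 : ∀ y ∈ gl σ x [2, 4], c1 * y = y * c1 := fun y hy => gl_commX v (fun k hk => by
      simp only [List.mem_cons, List.not_mem_nil, or_false] at hk
      rcases hk with rfl | rfl
      · exact k2
      · exact k4') hy
    -- `J₀`
    have k3 := pow_centr (sub [2, 4] (by decide)) z2 hc1K.2.2.2.1.2
    set c2 := c1 ^ 2 ^ 12 with hc2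
    have hc2K : c2 ∈ KK σ x t := pow_mem hc1K _
    have z3 : ∀ y ∈ gl σ x [2, 3, 4], c2 * y = y * c2 := fun y hy => gl_commX v (fun k hk => by
      simp only [List.mem_cons, List.not_mem_nil, or_false] at hk
      rcases hk with rfl | rfl | rfl
      · exact fun m hm => ((show Commute c1 m from k2 m hm).pow_left _).eq
      · exact k3
      · exact fun m hm => ((show Commute c1 m from k4' m hm).pow_left _).eq) hy
    -- `U₂⋯U₅`
    have k5 := pow_centr (sub [2, 3, 4] (by decide)) z3 hc2K.2.2.1.2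
    set c3 := c2 ^ 2 ^ 12 with hc3
    have hc3K : c3 ∈ KK σ x t := pow_mem hc2K _
    have z5 : ∀ y ∈ gl σ x [2, 3, 4, 5], c3 * y = y * c3 := fun y hy => by
      have z3' : ∀ m ∈ gl σ x [2, 3, 4], c3 * m = m * c3 := fun m hm =>
        ((show Commute c2 m from z3 m hm).pow_left _).eq
      refine gl_commX v (fun k hk m hm => ?_) hy
      simp only [List.mem_cons, List.not_mem_nil, or_false] at hk
      obtain ⟨b, hb, rfl⟩ := (mem_Xg v).1 hm
      rcases hk with rfl | rfl | rfl | rfl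
      · exact z3' _ (mem_gl (by decide) hb)
      · exact z3' _ (mem_gl (by decide) hb)
      · exact z3' _ (mem_gl (by decide) hb)
      · exact k5 _ hm
    -- `Q₂`
    have k1 := pow_centr (sub [2, 3, 4, 5] (by decide)) z5 hc3K.2.1.2
    set c4 := c3 ^ 2 ^ 12 with hc4
    have hc4K : c4 ∈ KK σ x t := pow_mem hc3K _
    have zQ : ∀ y ∈ Q2 σ x, c4 * y = y * c4 := fun y hy => by
      have z5' : ∀ m ∈ gl σ x [2, 3, 4, 5], c4 * m = m * c4 := fun m hm =>
        ((show Commute c3 m from z5 m hm).pow_left _).eq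
      rw [Q2_eq] at hy
      refine gl_commX v (fun k hk m hm => ?_) hy
      simp only [List.mem_cons, List.not_mem_nil, or_false] at hk
      obtain ⟨b, hb, rfl⟩ := (mem_Xg v).1 hm
      rcases hk with rfl | rfl | rfl | rfl | rfl
      · exact k1 _ hm
      · exact z5' _ (mem_gl (by decide) hb)
      · exact z5' _ (mem_gl (by decide) hb)
      · exact z5' _ (mem_gl (by decide) hb)
      · exact z5' _ (mem_gl (by decide) hb)
    have hWs : Ws σ x ≤ Us σ x := by
      rw [Ws_eq]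
      exact gl_Us v (by decide)
    have c4t := KK_t v hc4K
    have c5 : c4 ^ 2 ^ 12 = 1 := by
      rcases v.c0 c4 c4t zQ with h | h
      · exact exp_Us v (hWs h)
      · have h1 := exp_Us v (hWs h)
        have h2 : (t * c4) ^ 2 ^ 12 = t ^ 2 ^ 12 * c4 ^ 2 ^ 12 := (show Commute t c4 from c4t.symm).mul_pow _
        have h3 : t ^ 2 ^ 12 = 1 := by
          rw [show 2 ^ 12 = 2 * 2 ^ 11 by norm_num, pow_mul, pow_two, v.tt, one_pow]
        rw [h2, h3, one_mul] at h1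
        exact h1
    rw [show 2 ^ 60 = 2 ^ 12 * 2 ^ 12 * 2 ^ 12 * 2 ^ 12 * 2 ^ 12 by norm_num, pow_mul, pow_mul, pow_mul, pow_mul, ← hc1,
      ← hc2, ← hc3, ← hc4]
    exact c5
  rintro ⟨c, hc⟩
  exact ⟨60, Subtype.ext (key c hc)⟩

/-- `KK = ⟨t⟩ U` -/
theorem KK_le {c : G} (hc : c ∈ KK σ x t) : c ∈ Us σ x ∨ t * c ∈ Us σ x :=
  v.syl (KK σ x t) (KK_two v) (fun _ hg => KK_t v hg) (t_mem_KK v) (Us_le_KK v) c hc

/-! ### Uniqueness in `U` -/

theorem gvX_le {L : List (ZMod 12)} : gv (Xg σ x) L ≤ gl σ x L :=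
  gv_le fun k hk y hy => by
    obtain ⟨b, hb, rfl⟩ := (mem_Xg v).1 hy
    exact mem_gl hk hb

theorem gl_le_gen {L : List (ZMod 12)} {S : Set (ZMod 12)} (h : ∀ i ∈ L, i ∈ S) : gl σ x L ≤ gen σ x S :=
  gens_le fun k hk a ha => x_mem_gen (h k hk) ha

theorem dis_gl {r : ZMod 12} {a : G} (ha : a ∈ Xg σ x r) (h : a ∈ gl σ x [r + 1, r + 2, r + 3, r + 4, r + 5]) :
    a = 1 := by
  obtain ⟨b, hb, rfl⟩ := (mem_Xg v).1 ha
  have h1 : x r b ∈ gen σ x (arc (r + 1) 5) := by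
    refine gl_le_gen v ?_ h
    have key : ∀ r i : ZMod 12, i ∈ [r + 1, r + 2, r + 3, r + 4, r + 5] → (i - (r + 1)).val < 5 := by decide
    exact fun i hi => key r i hi
  rw [v.hex.mem_first_eq_zero hb h1, v.hex.x_zero]

theorem disX (r : ZMod 12) : ∀ a ∈ Xg σ x r, a ∈ gv (Xg σ x) [r + 1, r + 2, r + 3, r + 4, r + 5] → a = 1 :=
  fun _ ha h => dis_gl v ha (gvX_le v h)

theorem dis_last {r : ZMod 12} {b : E} (hb : Ok σ r b) (h : x r b ∈ gl σ x [r - 5, r - 4, r - 3, r - 2, r - 1]) :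
    b = 0 := by
  have h1 : x r b ∈ gen σ x (arc (r - 5) 5) := by
    refine gl_le_gen v ?_ h
    have key : ∀ r i : ZMod 12, i ∈ [r - 5, r - 4, r - 3, r - 2, r - 1] → (i - (r - 5)).val < 5 := by decide
    exact fun i hi => key r i hi
  exact v.hex.mem_last_eq_zero hb h1

end

end Cfsg.Agent.TriTwo.Grow3
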