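import Cfsg.Agent.TriTwo.Grow3Env
import Cfsg.Agent.HexGrow.Tools

/-!
# S1778, type `³D₄(2)`, piece [E3]: the relation `[V₁, V₆] ≤ V₂V₃V₄V₅` (section 6)
-/

set_option autoImplicit false
set_option linter.unusedSectionVars false

namespace Cfsg.Agent.TriTwo.Grow3

open Cfsg.Agent.StdRank2.Hex Cfsg.Agent.SplitTwo Cfsg.Agent.TriTwo
open scoped commutatorElement

/-- distance at most four -/
def ok4 (k j : ZMod 12) : Bool := decide ((j - k).val ≤ 4) || decide ((k - j).val ≤ 4)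

/-- not opposite -/
def ok5 (k j : ZMod 12) : Bool := j != k + 6

theorem ok4_cases {k j : ZMod 12} (h : ok4 k j = true) :
    (∃ d : ZMod 12, (d = 0 ∨ d = 1 ∨ d = 2 ∨ d = 3 ∨ d = 4) ∧ j = k + d) ∨
      (∃ d : ZMod 12, (d = 0 ∨ d = 1 ∨ d = 2 ∨ d = 3 ∨ d = 4) ∧ k = j + d) := by
  revert k j
  have key : ∀ k j : ZMod 12, ok4 k j = true → ((j - k = 0 ∨ j - k = 1 ∨ j - k = 2 ∨ j - k = 3 ∨ j - k = 4) ∨
      (k - j = 0 ∨ k - j = 1 ∨ k - j = 2 ∨ k - j = 3 ∨ k - j = 4)) := by decide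
  intro k j h
  rcases key k j h with h | h
  · exact Or.inl ⟨j - k, h, by ring⟩
  · exact Or.inr ⟨k - j, h, by ring⟩

section

variable {E : Type*} [Field E] {σ : E ≃+* E} {G : Type*} [Group G] {x : ZMod 12 → E → G} {t : G} (v : Env σ x t)
  {V : ZMod 12 → Subgroup G} (L : Lev σ x t V) (S : ShortFour V)

include v L

theorem dbl (r : ZMod 12) : Dbl t (Xg σ x r) (V r) where
  le y hy := by
    obtain ⟨b, hb, rfl⟩ := (mem_Xg v).1 hy
    exact L.le r b hb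
  sq := L.sq r
  br y hy := by
    obtain ⟨b, hb, e⟩ := L.br r y hy
    rw [e]; exact x_mem_Xg v hb
  onto y hy := by
    obtain ⟨b, hb, rfl⟩ := (mem_Xg v).1 hy
    exact L.onto r b hb
  fix y hy h := by
    obtain ⟨b, hb, rfl⟩ := L.fix r y hy h
    exact x_mem_Xg v hb

include S

theorem base4 (k d : ZMod 12) (hd : d = 0 ∨ d = 1 ∨ d = 2 ∨ d = 3 ∨ d = 4) {y y' : G} (hy : y ∈ V k)
    (hy' : y' ∈ V (k + d)) : ⁅y, y'⁆ ∈ gv V (btw k d) := by
  have one : y * y' = y' * y → ∀ P : Subgroup G, ⁅y, y'⁆ ∈ P := fun h P => by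
    rw [commutatorElement_eq_one_iff_mul_comm.2 h]; exact one_mem _
  have par : k.val % 2 = 0 ∨ k.val % 2 = 1 := Nat.mod_two_eq_zero_or_one _
  rcases hd with rfl | rfl | rfl | rfl | rfl
  · rw [add_zero] at hy'
    exact one ((dbl v L k).comm hy hy') _
  · exact one (L.c1 k y hy y' hy') _
  · rcases par with hk | hk
    · exact one (L.l2 k hk y hy y' hy') _
    · have h1 := L.s2 k hk y hy y' hy'
      rw [btw, if_pos rfl, if_neg (by omega), gv_one]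
      exact h1
  · exact one (L.c3 k y hy y' hy') _
  · rcases par with hk | hk
    · have h1 := L.l4 k hk y hy y' hy'
      rw [btw, if_neg (by decide), if_pos rfl, if_pos hk, gv_one]
      exact h1
    · have h1 := S k hk y hy y' hy'
      rw [btw, if_neg (by decide), if_pos rfl, if_neg (by omega)]
      refine (sup_le (sup_le ?_ ?_) ?_ : V (k + 1) ⊔ V (k + 2) ⊔ V (k + 3) ≤ _) h1
      · exact le_gv V (by simp)
      · exact le_gv V (by simp)
      · exact le_gv V (by simp)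

theorem rel4 : RelP V ok4 := by
  intro k j h y hy y' hy'
  rcases ok4_cases h with ⟨d, hd, rfl⟩ | ⟨d, hd, rfl⟩
  · have h1 := base4 v L S k d hd hy hy'
    have e : k + d - k = d := by ring
    refine gv_mono V (fun i hi => ?_) h1
    unfold betw
    rw [e]
    exact List.mem_append_left _ hi
  · rw [← commutatorElement_inv]
    have h1 := base4 v L S j d hd hy' hy
    have e : j + d - j = d := by ring
    refine inv_mem (gv_mono V (fun i hi => ?_) h1)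
    unfold betw
    rw [e]
    exact List.mem_append_right _ hi

theorem ab {k : ZMod 12} {y z : G} (hy : y ∈ V k) (hz : z ∈ V k) : y * z = z * y := (dbl v L k).comm hy hz

omit S in
theorem tw0 : Tow t (gv (Xg σ x) []) (gv V []) := tow_bot t

theorem tw {k : ZMod 12} {M : List (ZMod 12)}
    (hL : (stb ok4 k M && M.all fun i => [k + 1, k + 2, k + 3, k + 4, k + 5].contains i) = true)
    (H : Tow t (gv (Xg σ x) M) (gv V M)) : Tow t (gv (Xg σ x) (k :: M)) (gv V (k :: M)) :=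
  tow_cons v.tt (fun r => dbl v L r) (fun _ _ h => Xg_t v h) (rel4 v L S) (disX v) hL H

theorem tw4 : Tow t (gv (Xg σ x) [4]) (gv V [4]) := tw v L S (by decide) (tw0 v L)
theorem tw24 : Tow t (gv (Xg σ x) [2, 4]) (gv V [2, 4]) := tw v L S (by decide) (tw4 v L S)
theorem tw234 : Tow t (gv (Xg σ x) [2, 3, 4]) (gv V [2, 3, 4]) :=
  tw v L S (by decide) (tw v L S (by decide) (tw4 v L S))
theorem tw2345 : Tow t (gv (Xg σ x) [2, 3, 4, 5]) (gv V [2, 3, 4, 5]) :=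
  tw v L S (by decide) (tw v L S (by decide) (tw v L S (by decide) (tw v L S (by decide) (tw0 v L))))

omit S in
/-- the small group is in the big one -/
theorem gl_gv {M : List (ZMod 12)} : gl σ x M ≤ gv V M :=
  gens_le fun k hk b hb => le_gv V hk (L.le k b hb)

omit S in
theorem gl_iff {M : List (ZMod 12)} (H : Tow t (gv (Xg σ x) M) (gv V M)) {y : G} :
    y ∈ gl σ x M ↔ y ∈ gv V M ∧ y * t = t * y :=
  ⟨fun h => ⟨gl_gv v L h, (gl_t v h).symm⟩, fun h => gvX_le v (H.cent y h.1 h.2)⟩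

/-! ### The stabiliser of the big chain -/

/-- the stabiliser of `(U₁) > V₂V₃V₄V₅ > V₂V₃V₄ > V₂V₄ > V₄ > 1` -/
def S1 (σ : E ≃+* E) (x : ZMod 12 → E → G) (V : ZMod 12 → Subgroup G) : Subgroup G :=
  Stb (Xg σ x 1 : Set G) (gv V [2, 3, 4, 5]) ⊓ (Stb (V 5 : Set G) (gv V [2, 3, 4]) ⊓ (Stb (V 3 : Set G) (gv V [2, 4]) ⊓
    (Stb (V 2 : Set G) (gv V [4]) ⊓ Stb (V 4 : Set G) (gv V []))))

/-- trivial on `V₂V₃V₄ / V₄` -/
def S2 (V : ZMod 12 → Subgroup G) : Subgroup G := Stb (gv V [2, 3, 4] : Set G) (gv V [4])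

/-- commutes with `U₆` modulo `V₂V₃V₄V₅` -/
def S3 (σ : E ≃+* E) (x : ZMod 12 → E → G) (V : ZMod 12 → Subgroup G) : Subgroup G :=
  Stb (Xg σ x 6 : Set G) (gv V [2, 3, 4, 5])

theorem V_Stb {k j : ZMod 12} {M : List (ZMod 12)}
    (h : (stb ok4 k M && (ok4 k j && (betw k j).all fun i => M.contains i)) = true) :
    V k ≤ Stb (V j : Set G) (gv V M) := by
  intro y hy
  rw [Bool.and_eq_true] at h
  exact ⟨(rel4 v L S).normalizer h.1 hy, fun m hm => (rel4 v L S).comm h.2 hy hm⟩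

theorem V_S1 {k : ZMod 12} (hk : k ∈ ([1, 2, 3, 4, 5] : List (ZMod 12))) : V k ≤ S1 σ x V := by
  have c0 : ∀ k ∈ ([1, 2, 3, 4, 5] : List (ZMod 12)),
      (stb ok4 k [2, 3, 4, 5] && (ok4 k 1 && (betw k 1).all fun i => [2, 3, 4, 5].contains i)) = true := by decide
  have c1 : ∀ k ∈ ([1, 2, 3, 4, 5] : List (ZMod 12)),
      (stb ok4 k [2, 3, 4] && (ok4 k 5 && (betw k 5).all fun i => [2, 3, 4].contains i)) = true := by decide
  have c2 : ∀ k ∈ ([1, 2, 3, 4, 5] : List (ZMod 12)),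
      (stb ok4 k [2, 4] && (ok4 k 3 && (betw k 3).all fun i => [2, 4].contains i)) = true := by decide
  have c3 : ∀ k ∈ ([1, 2, 3, 4, 5] : List (ZMod 12)),
      (stb ok4 k [4] && (ok4 k 2 && (betw k 2).all fun i => [4].contains i)) = true := by decide
  have c4 : ∀ k ∈ ([1, 2, 3, 4, 5] : List (ZMod 12)),
      (stb ok4 k [] && (ok4 k 4 && (betw k 4).all fun i => ([] : List (ZMod 12)).contains i)) = true := by decide
  intro y hy
  refine ⟨?_, V_Stb v L S (c1 k hk) hy, V_Stb v L S (c2 k hk) hy, V_Stb v L S (c3 k hk) hy, V_Stb v L S (c4 k hk) hy⟩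
  have h1 := V_Stb v L S (c0 k hk) hy
  exact ⟨h1.1, fun m hm => h1.2 m ((dbl v L 1).le hm)⟩

theorem V6_S1 : V 6 ≤ S1 σ x V := by
  intro y hy
  refine ⟨?_, V_Stb v L S (by decide) hy, V_Stb v L S (by decide) hy, V_Stb v L S (by decide) hy,
    V_Stb v L S (by decide) hy⟩
  refine ⟨(rel4 v L S).normalizer (by decide) hy, fun m hm => ?_⟩
  obtain ⟨b, -, rfl⟩ := (mem_Xg v).1 hm
  have h1 := L.h5 1 (by decide) b y hy
  rw [← commutatorElement_inv]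
  refine inv_mem ((sup_le (sup_le (sup_le ?_ ?_) ?_) ?_ :
    V (1 + 1) ⊔ V (1 + 2) ⊔ V (1 + 3) ⊔ V (1 + 4) ≤ gv V [2, 3, 4, 5]) h1)
  · exact le_gv V (by decide)
  · exact le_gv V (by decide)
  · exact le_gv V (by decide)
  · exact le_gv V (by decide)

theorem Q_S1 : gv V [2, 3, 4, 5] ≤ S1 σ x V :=
  gv_le fun k hk => V_S1 v L S (by
    have : ∀ k ∈ ([2, 3, 4, 5] : List (ZMod 12)), k ∈ ([1, 2, 3, 4, 5] : List (ZMod 12)) := by decide
    exact this k hk)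

/-- elements of the stabiliser which commute with `t` -/
theorem S1_KK {c : G} (hc : c ∈ S1 σ x V) (hct : c * t = t * c) : c ∈ KK σ x t := by
  have hcinv : c⁻¹ * t = t * c⁻¹ := by rw [inv_mul_eq_iff_eq_mul, ← mul_assoc, hct, mul_inv_cancel_right]
  -- `c` normalises `gl M`
  have nrmz : ∀ {M : List (ZMod 12)}, Tow t (gv (Xg σ x) M) (gv V M) → c ∈ Subgroup.normalizer (gv V M : Set G) →
      c ∈ Subgroup.normalizer (gl σ x M : Set G) := by
    intro M H hn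
    have one : ∀ c : G, c * t = t * c → c ∈ Subgroup.normalizer (gv V M : Set G) → ∀ y ∈ gl σ x M,
        c * y * c⁻¹ ∈ gl σ x M := by
      intro c hct hn y hy
      obtain ⟨h1, h2⟩ := (gl_iff v L H).1 hy
      refine (gl_iff v L H).2 ⟨norm_iff hn h1, ?_⟩
      have hci : c⁻¹ * t = t * c⁻¹ := by rw [inv_mul_eq_iff_eq_mul, ← mul_assoc, hct, mul_inv_cancel_right]
      calc c * y * c⁻¹ * t = c * y * (c⁻¹ * t) := by group
        _ = c * (y * t) * c⁻¹ := by rw [hci]; group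
        _ = (c * t) * y * c⁻¹ := by rw [h2]; group
        _ = _ := by rw [hct]; group
    rw [Subgroup.mem_normalizer_iff]
    intro y
    refine ⟨fun hy => one c hct hn y hy, fun hy => ?_⟩
    have := one c⁻¹ hcinv (inv_mem hn) _ hy
    have e : c⁻¹ * (c * y * c⁻¹) * c⁻¹⁻¹ = y := by group
    rwa [e] at this
  have cm : ∀ {M : List (ZMod 12)}, Tow t (gv (Xg σ x) M) (gv V M) → ∀ {k : ZMod 12} {m : G}, m ∈ Xg σ x k →
      ⁅c, m⁆ ∈ gv V M → ⁅c, m⁆ ∈ gl σ x M := by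
    intro M H k m hm h1
    refine (gl_iff v L H).2 ⟨h1, ?_⟩
    have h2 := Xg_t v hm
    have h3 : Commute c t := hct
    have h4 : Commute m t := h2
    have h5 : Commute ⁅c, m⁆ t := by
      rw [commutatorElement_def]
      exact ((h3.mul_left h4).mul_left h3.inv_left).mul_left h4.inv_left
    exact h5.eq
  refine ⟨Subgroup.mem_centralizer_singleton_iff.2 hct, ⟨nrmz (tw2345 v L S) hc.1.1, fun m hm => ?_⟩,
    ⟨nrmz (tw234 v L S) hc.2.1.1, fun m hm => ?_⟩, ⟨nrmz (tw24 v L S) hc.2.2.1.1, fun m hm => ?_⟩,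
    ⟨nrmz (tw4 v L S) hc.2.2.2.1.1, fun m hm => ?_⟩, ⟨nrmz (tw0 v L) hc.2.2.2.2.1, fun m hm => ?_⟩⟩
  · exact cm (tw2345 v L S) hm (hc.1.2 m hm)
  · exact cm (tw234 v L S) hm (hc.2.1.2 m ((dbl v L 5).le hm))
  · exact cm (tw24 v L S) hm (hc.2.2.1.2 m ((dbl v L 3).le hm))
  · exact cm (tw4 v L S) hm (hc.2.2.2.1.2 m ((dbl v L 2).le hm))
  · exact cm (tw0 v L) hm (hc.2.2.2.2.2 m ((dbl v L 4).le hm))

/-! ### The action trick -/

theorem V_S2 {k : ZMod 12} (hk : k ∈ ([2, 3, 4, 5, 6] : List (ZMod 12))) : V k ≤ S2 V := by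
  intro y hy
  have c1 : ∀ k ∈ ([2, 3, 4, 5, 6] : List (ZMod 12)), ∀ j ∈ ([2, 3, 4] : List (ZMod 12)),
      (stb ok4 k [4] && stb ok4 j [4] && (ok4 j k && (betw j k).all fun i => [4].contains i)) = true := by decide
  have h0 : stb ok4 k [4] = true := by
    have := c1 k hk 2 (by decide)
    rw [Bool.and_eq_true, Bool.and_eq_true] at this
    exact this.1.1
  refine ⟨(rel4 v L S).normalizer h0 hy, Stb_gen (gv_le fun j hj m hm => ?_)⟩
  have := c1 k hk j hj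
  rw [Bool.and_eq_true, Bool.and_eq_true] at this
  refine ⟨(rel4 v L S).normalizer this.1.2 hm, ?_⟩
  rintro _ rfl
  exact (rel4 v L S).comm this.2 hm hy

theorem gl_S2 : gl σ x [2, 3, 4, 5, 6] ≤ S2 V :=
  (gl_gv v L).trans (gv_le fun _ hk => V_S2 v L S hk)

theorem Q_S2 : gv V [2, 3, 4, 5] ≤ S2 V :=
  gv_le fun k hk => V_S2 v L S (by
    have : ∀ k ∈ ([2, 3, 4, 5] : List (ZMod 12)), k ∈ ([2, 3, 4, 5, 6] : List (ZMod 12)) := by decide
    exact this k hk)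

/-- `V₁` normalises `S2` -/
theorem V1_S2 {y w : G} (hy : y ∈ V 1) (hw : w ∈ S2 V) : y * w * y⁻¹ ∈ S2 V := by
  have n4 := (rel4 v L S).normalizer (k := 1) (L := [4]) (by decide) hy
  have n234 := (rel4 v L S).normalizer (k := 1) (L := [2, 3, 4]) (by decide) hy
  refine ⟨mul_mem (mul_mem n4 hw.1) (inv_mem n4), fun m hm => ?_⟩
  have h1 := hw.2 _ (norm_iff' n234 hm)
  have e : ⁅y * w * y⁻¹, m⁆ = y * ⁅w, y⁻¹ * m * y⁆ * y⁻¹ := by
    rw [commutatorElement_def, commutatorElement_def]; group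
  rw [e]
  exact norm_iff n4 h1

theorem x2_not : x 2 1 ∉ gv V [4] := by
  intro h
  have h1 : x 2 1 ∈ gl σ x [4] := (gl_iff v L (tw4 v L S)).2 ⟨h, (v.tx 2 1 (ok_one σ _)).symm⟩
  have h2 : x 2 1 = 1 := dis_gl v (r := 2) (x_mem_Xg v (ok_one σ _)) (gl_mono (by decide) h1)
  exact one_ne_zero (v.hex.inj 2 1 (ok_one σ _) h2)

/-- elements of `⟨t⟩ U` trivial on `V₂V₃V₄ / V₄` -/
theorem trick {c : G} (hc : c ∈ S2 V) (h : c ∈ Us σ x ∨ t * c ∈ Us σ x) : c ∈ gl σ x [2, 3, 4, 5, 6] := by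
  have hst : stable 1 [2, 3, 4, 5, 6] = true := by decide
  have tt := v.tt
  rcases h with h | h
  · rw [Us_eq] at h
    obtain ⟨b, hb, r, hr, rfl⟩ := split_gl v.hex hst h
    have h1 : x 1 b ∈ S2 V := by
      have := mul_mem hc (inv_mem (gl_S2 v L S hr))
      rwa [mul_inv_cancel_right] at this
    have hb0 : b = 0 := by
      by_contra hb0
      have h3 : x 3 b⁻¹ ∈ gv V [2, 3, 4] := le_gv V (by decide) (L.le 3 _ (ok_odd (by decide) _))
      have h4 := h1.2 _ h3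
      have h5 := v.hex.commS2 (k := 1) (by decide) b b⁻¹
      rw [show (1 : ZMod 12) + 2 = 3 from rfl, show (1 : ZMod 12) + 1 = 2 from rfl] at h5
      rw [h5, PF.trc_inv v.hex hb0] at h4
      exact x2_not v L S h4
    rw [hb0, v.hex.x_zero, one_mul]
    exact hr
  · exfalso
    rw [Us_eq] at h
    obtain ⟨b, hb, r, hr, e⟩ := split_gl v.hex hst h
    have h1 : t * x 1 b ∈ S2 V := by
      have := mul_mem hc (inv_mem (gl_S2 v L S hr))
      have e2 : c * r⁻¹ = t * x 1 b := by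
        calc c * r⁻¹ = (t * t) * c * r⁻¹ := by rw [tt, one_mul]
          _ = t * (t * c) * r⁻¹ := by group
          _ = _ := by rw [e]; group
      rwa [e2] at this
    obtain ⟨y, hy, ey⟩ := L.onto 2 1 (ok_one σ _)
    have h2 := h1.2 y (le_gv V (by decide) hy)
    have h3 : x 1 b * y = y * x 1 b := L.c1 1 _ (L.le 1 b hb) y hy
    have e3 : ⁅t * x 1 b, y⁆ = x 2 1 := by
      rw [← ey, commutatorElement_def, commutatorElement_def]
      calc t * x 1 b * y * (t * x 1 b)⁻¹ * y⁻¹ = t * (x 1 b * y) * (x 1 b)⁻¹ * t⁻¹ * y⁻¹ := by group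
        _ = _ := by rw [h3]; group
    rw [e3] at h2
    exact x2_not v L S h2

/-- **Lemma T.** -/
theorem lemT {y : G} (h1 : y ∈ S1 σ x V) (h2 : y ∈ S2 V) (h3 : y⁻¹ * (t * y * t⁻¹) ∈ gv V [2, 3, 4, 5]) :
    ∃ b, σ b = b ∧ ∃ q ∈ gv V [2, 3, 4, 5], y = x 6 b * q := by
  have tt := v.tt
  have hti : t⁻¹ = t := inv_eq_of_mul_eq_one_left tt
  have H := tw2345 v L S
  -- `y t y⁻¹ = t m`
  set q := y⁻¹ * (t * y * t⁻¹) with hq
  have e1 : y * t * y⁻¹ = t * (t * y * q⁻¹ * y⁻¹ * t⁻¹) := by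
    have : t * y * t⁻¹ = y * q := by rw [hq]; group
    have h4 : y * t * y⁻¹ = (y * q * y⁻¹)⁻¹ * t := by
      rw [← this, hti]
      calc y * t * y⁻¹ = y * (t * y⁻¹ * t) * t := by
            calc y * t * y⁻¹ = y * t * y⁻¹ * (t * t) := by rw [tt, mul_one]
              _ = _ := by group
        _ = (t * y * t * y⁻¹)⁻¹ * t := by
          rw [mul_inv_rev, mul_inv_rev, mul_inv_rev, inv_inv, hti]; group
    rw [h4]
    calc (y * q * y⁻¹)⁻¹ * t = y * q⁻¹ * y⁻¹ * t := by group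
      _ = (t * t) * y * q⁻¹ * y⁻¹ * t := by rw [tt, one_mul]
      _ = t * (t * y * q⁻¹ * y⁻¹ * t⁻¹) := by rw [hti]; group
  have hm : t * y * q⁻¹ * y⁻¹ * t⁻¹ ∈ gv V [2, 3, 4, 5] := by
    have h4 := H.inv _ (norm_iff h1.1.1 (inv_mem h3))
    have e : t * (y * q⁻¹ * y⁻¹) * t⁻¹ = t * y * q⁻¹ * y⁻¹ * t⁻¹ := by group
    rwa [e] at h4
  obtain ⟨g, hg, eg⟩ := H.good _ hm (by
    rw [← e1]
    calc y * t * y⁻¹ * (y * t * y⁻¹) = y * (t * t) * y⁻¹ := by group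
      _ = 1 := by rw [tt]; group)
  rw [← e1] at eg
  -- `c = g⁻¹ y` commutes with `t`
  have hct : (g⁻¹ * y) * t = t * (g⁻¹ * y) := by
    have : y * t * y⁻¹ = g * t * g⁻¹ := eg.symm
    calc (g⁻¹ * y) * t = g⁻¹ * (y * t * y⁻¹) * y := by group
      _ = _ := by rw [this]; group
  have hc1 : g⁻¹ * y ∈ S1 σ x V := mul_mem (inv_mem (Q_S1 v L S hg)) h1
  have hc2 : g⁻¹ * y ∈ S2 V := mul_mem (inv_mem (Q_S2 v L S hg)) h2
  have hcU := KK_le v (S1_KK v L S hc1 hct)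
  have hc3 := trick v L S hc2 hcU
  have hc4 : g⁻¹ * y ∈ gl σ x [6, 2, 3, 4, 5] := gl_mono (by decide) hc3
  obtain ⟨b, hb, r, hr, e⟩ := split_gl v.hex (k := 6) (L := [2, 3, 4, 5]) (by decide) hc4
  have hb6 : x 6 b ∈ V 6 := L.le 6 b hb
  have n6 := (rel4 v L S).normalizer (k := 6) (L := [2, 3, 4, 5]) (by decide) hb6
  refine ⟨b, hb (by decide), (x 6 b)⁻¹ * g * x 6 b * r, mul_mem (norm_iff' n6 hg) (gl_gv v L hr), ?_⟩
  calc y = g * (g⁻¹ * y) := by group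
    _ = _ := by rw [e]; group

/-! ### `[V₁, U₆]` -/

theorem x6_not : x 6 1 ∉ gv V [2, 3, 4, 5] := by
  intro h
  have h1 : x 6 1 ∈ gl σ x [2, 3, 4, 5] := (gl_iff v L (tw2345 v L S)).2 ⟨h, (v.tx 6 1 (ok_one σ _)).symm⟩
  have h2 := dis_last v (r := 6) (ok_one σ _) (gl_mono (by decide) h1)
  exact one_ne_zero h2

theorem step1 {y : G} (hy : y ∈ V 1) {b : E} (hb : σ b = b) : ⁅y, x 6 b⁆ ∈ gv V [2, 3, 4, 5] := by
  have tt := v.tt
  have hx6 : x 6 b ∈ V 6 := L.le 6 b (ok_of_fix _ hb)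
  rcases v.fix b hb with rfl | rfl
  · rw [v.hex.x_zero, commutatorElement_one_right]; exact one_mem _
  set z := x 6 1 with hz
  have hy1 : y ∈ S1 σ x V := V_S1 v L S (by decide) hy
  have hz1 : z ∈ S1 σ x V := V6_S1 v L S hx6
  have hz2 : z ∈ S2 V := V_S2 v L S (by decide) hx6
  have ny := (rel4 v L S).normalizer (k := 1) (L := [2, 3, 4, 5]) (by decide) hy
  have nz := (rel4 v L S).normalizer (k := 6) (L := [2, 3, 4, 5]) (by decide) hx6
  have c1 : ⁅y, z⁆ ∈ S1 σ x V := by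
    rw [commutatorElement_def]
    exact mul_mem (mul_mem (mul_mem hy1 hz1) (inv_mem hy1)) (inv_mem hz1)
  have c2 : ⁅y, z⁆ ∈ S2 V := by
    rw [commutatorElement_def]
    exact mul_mem (V1_S2 v L S hy hz2) (inv_mem hz2)
  have hz_t : t * z * t⁻¹ = z := by rw [v.tx 6 1 (ok_one σ _), mul_inv_cancel_right]
  -- `t y t⁻¹ = a y`
  have ha : ⁅t, y⁆ ∈ Xg σ x 1 := (dbl v L 1).br y hy
  set a := ⁅t, y⁆ with hadef
  have ha1 : a ∈ V 1 := (dbl v L 1).le ha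
  have ety : t * y * t⁻¹ = a * y := by rw [hadef, commutatorElement_def]; group
  have haz : ⁅a, z⁆ ∈ gv V [2, 3, 4, 5] := by
    have h1 := (V6_S1 v L S hx6).1.2 a ha
    rw [← commutatorElement_inv]
    exact inv_mem h1
  have c3 : ⁅y, z⁆⁻¹ * (t * ⁅y, z⁆ * t⁻¹) ∈ gv V [2, 3, 4, 5] := by
    have h1 : t * ⁅y, z⁆ * t⁻¹ = ⁅a * y, z⁆ := by
      rw [commutatorElement_def, commutatorElement_def]
      calc t * (y * z * y⁻¹ * z⁻¹) * t⁻¹ = (t * y * t⁻¹) * (t * z * t⁻¹) * (t * y * t⁻¹)⁻¹ * (t * z * t⁻¹)⁻¹ := by group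
        _ = _ := by rw [ety, hz_t]
    have h2 : ⁅a * y, z⁆ = a * ⁅y, z⁆ * a⁻¹ * ⁅a, z⁆ := by
      rw [commutatorElement_def, commutatorElement_def, commutatorElement_def]; group
    have h3 : ⁅y, z⁆⁻¹ * (a * ⁅y, z⁆ * a⁻¹ * ⁅a, z⁆) = ⁅⁅y, z⁆⁻¹, a⁆ * ⁅a, z⁆ := by
      rw [commutatorElement_def ⁅y, z⁆⁻¹ a]; group
    rw [h1, h2, h3]
    exact mul_mem ((inv_mem c1).1.2 a ha) haz
  obtain ⟨b, hb, q, hq, e⟩ := lemT v L S c1 c2 c3
  rcases v.fix b hb with rfl | rfl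
  · rw [v.hex.x_zero, one_mul] at e
    rw [e]; exact hq
  · exfalso
    rw [← hz] at e
    have hzz : z * z = 1 := v.hex.x_sq (ok_one σ _)
    -- `y z y⁻¹ = z q z`
    have h1 : y * z * y⁻¹ = z * q * z := by
      rw [commutatorElement_def] at e
      calc y * z * y⁻¹ = (y * z * y⁻¹ * z⁻¹) * z := by group
        _ = z * q * z := by rw [e]
    have h2 : z * q * z ∈ gv V [2, 3, 4, 5] := by
      have h3 := norm_iff nz hq
      rwa [show z * q * z⁻¹ = z * q * z by rw [inv_eq_of_mul_eq_one_left hzz]] at h3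
    rw [← h1] at h2
    have h4 := norm_iff' ny h2
    have e5 : y⁻¹ * (y * z * y⁻¹) * y = z := by group
    rw [e5] at h4
    exact x6_not v L S h4

theorem V1_S3 : V 1 ≤ S3 σ x V := by
  intro y hy
  refine ⟨(rel4 v L S).normalizer (by decide) hy, fun m hm => ?_⟩
  obtain ⟨b, hb, rfl⟩ := (mem_Xg v).1 hm
  exact step1 v L S hy (hb (by decide))

theorem V6_S3 : V 6 ≤ S3 σ x V := by
  intro y hy
  refine ⟨(rel4 v L S).normalizer (by decide) hy, fun m hm => ?_⟩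
  rw [commutatorElement_eq_one_iff_mul_comm.2 (ab v L S hy ((dbl v L 6).le hm))]
  exact one_mem _

/-! ### `[V₁, V₆]` -/

theorem step2 {y w : G} (hy : y ∈ V 1) (hw : w ∈ V 6) :
    ∃ b, σ b = b ∧ ∃ q ∈ gv V [2, 3, 4, 5], ⁅y, w⁆ = x 6 b * q := by
  have hy1 : y ∈ S1 σ x V := V_S1 v L S (by decide) hy
  have hw1 : w ∈ S1 σ x V := V6_S1 v L S hw
  have hw2 : w ∈ S2 V := V_S2 v L S (by decide) hw
  have c1 : ⁅y, w⁆ ∈ S1 σ x V := by
    rw [commutatorElement_def]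
    exact mul_mem (mul_mem (mul_mem hy1 hw1) (inv_mem hy1)) (inv_mem hw1)
  have c2 : ⁅y, w⁆ ∈ S2 V := by
    rw [commutatorElement_def]
    exact mul_mem (V1_S2 v L S hy hw2) (inv_mem hw2)
  have c3 : ⁅y, w⁆ ∈ S3 σ x V := by
    have hy3 := V1_S3 v L S hy
    have hw3 := V6_S3 v L S hw
    rw [commutatorElement_def]
    exact mul_mem (mul_mem (mul_mem hy3 hw3) (inv_mem hy3)) (inv_mem hw3)
  have ny := (rel4 v L S).normalizer (k := 1) (L := [2, 3, 4, 5]) (by decide) hy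
  have nw := (rel4 v L S).normalizer (k := 6) (L := [2, 3, 4, 5]) (by decide) hw
  have ha : ⁅t, y⁆ ∈ Xg σ x 1 := (dbl v L 1).br y hy
  have hs : ⁅t, w⁆ ∈ Xg σ x 6 := (dbl v L 6).br w hw
  set a := ⁅t, y⁆ with hadef
  set s := ⁅t, w⁆ with hsdef
  have ha1 : a ∈ V 1 := (dbl v L 1).le ha
  have hs6 : s ∈ V 6 := (dbl v L 6).le hs
  have na := (rel4 v L S).normalizer (k := 1) (L := [2, 3, 4, 5]) (by decide) ha1
  have ns := (rel4 v L S).normalizer (k := 6) (L := [2, 3, 4, 5]) (by decide) hs6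
  have eta : t * y * t⁻¹ = a * y := by rw [hadef, commutatorElement_def]; group
  have etw : t * w * t⁻¹ = s * w := by rw [hsdef, commutatorElement_def]; group
  set Q := gv V [2, 3, 4, 5] with hQ
  set c := ⁅y, w⁆ with hc
  have nc : c ∈ Subgroup.normalizer (Q : Set G) := c1.1.1
  have has : ⁅a, s⁆ ∈ Q := by
    have h1 := hw1
    have h2 := (V6_S1 v L S hs6).1.2 a ha
    rw [← commutatorElement_inv]
    exact inv_mem h2
  have haw : ⁅a, w⁆ ∈ Q := by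
    have h2 := hw1.1.2 a ha
    rw [← commutatorElement_inv]
    exact inv_mem h2
  have hys : ⁅y, s⁆ ∈ Q := (V1_S3 v L S hy).2 s hs
  have h1 : t * c * t⁻¹ = ⁅a * y, s * w⁆ := by
    rw [hc, commutatorElement_def, commutatorElement_def]
    calc t * (y * w * y⁻¹ * w⁻¹) * t⁻¹ = (t * y * t⁻¹) * (t * w * t⁻¹) * (t * y * t⁻¹)⁻¹ * (t * w * t⁻¹)⁻¹ := by group
      _ = _ := by rw [eta, etw]
  have h2 : ⁅a * y, s * w⁆ = a * (⁅y, s⁆ * (s * c * s⁻¹)) * a⁻¹ * (⁅a, s⁆ * (s * ⁅a, w⁆ * s⁻¹)) := by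
    rw [hc, commutatorElement_def, commutatorElement_def, commutatorElement_def, commutatorElement_def,
      commutatorElement_def]; group
  have h3 : c⁻¹ * (t * c * t⁻¹) ∈ Q := by
    rw [h1, h2]
    have e : c⁻¹ * (a * (⁅y, s⁆ * (s * c * s⁻¹)) * a⁻¹ * (⁅a, s⁆ * (s * ⁅a, w⁆ * s⁻¹))) =
        (c⁻¹ * (a * ⁅y, s⁆ * a⁻¹) * c) * (c⁻¹ * (a * (c * (c⁻¹ * (s * c * s⁻¹))) * a⁻¹)) *
          (⁅a, s⁆ * (s * ⁅a, w⁆ * s⁻¹)) := by group
    have k1 : c⁻¹ * (s * c * s⁻¹) ∈ Q := by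
      have := (inv_mem c3).2 s hs
      rw [commutatorElement_def, inv_inv] at this
      have e' : c⁻¹ * (s * c * s⁻¹) = c⁻¹ * s * c * s⁻¹ := by group
      rw [e']; exact this
    have k2 : c⁻¹ * (a * c * a⁻¹) ∈ Q := by
      have := (inv_mem c1).1.2 a ha
      rw [commutatorElement_def, inv_inv] at this
      have e' : c⁻¹ * (a * c * a⁻¹) = c⁻¹ * a * c * a⁻¹ := by group
      rw [e']; exact this
    have k3 : c⁻¹ * (a * (c * (c⁻¹ * (s * c * s⁻¹))) * a⁻¹) ∈ Q := by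
      have e' : c⁻¹ * (a * (c * (c⁻¹ * (s * c * s⁻¹))) * a⁻¹) =
          (c⁻¹ * (a * c * a⁻¹)) * (a * (c⁻¹ * (s * c * s⁻¹)) * a⁻¹) := by group
      rw [e']
      exact mul_mem k2 (norm_iff na k1)
    rw [e]
    exact mul_mem (mul_mem (norm_iff' nc (norm_iff na hys)) k3) (mul_mem has (norm_iff ns haw))
  exact lemT v L S c1 c2 h3

/-- **`[V₁, V₆] ≤ V₂V₃V₄V₅`** -/
theorem c16 [Finite G] {y w : G} (hy : y ∈ V 1) (hw : w ∈ V 6) : ⁅y, w⁆ ∈ gv V [2, 3, 4, 5] := by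
  obtain ⟨s, hs, hs1⟩ := PF.exists_unit v.hex v.card
  set τ := tau x s with hτ
  -- `τ` normalises `V₂V₃V₄V₅`
  have nτ : ∀ m ∈ gv V [2, 3, 4, 5], τ * m * τ⁻¹ ∈ gv V [2, 3, 4, 5] := by
    have key : gv V [2, 3, 4, 5] ≤ (gv V [2, 3, 4, 5]).comap (MulAut.conj τ).toMonoidHom :=
      gv_le fun k hk m hm => le_gv V hk (L.TV s hs k m hm)
    exact fun m hm => key hm
  obtain ⟨u, hu, eu⟩ := HexGrow.Tools.exists_of_fpf_nonab (A := V 1) (h := τ) (fun a ha => L.TV s hs 1 a ha)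
    (fun a ha h => L.fpf s hs hs1 1 (by decide) a ha (by rwa [mul_inv_eq_iff_eq_mul] at h)) y hy
  obtain ⟨b, hb, q, hq, e⟩ := step2 v L S hu hw
  have hτw : τ * w = w * τ := L.cen s hs 6 (by decide) w hw
  have hτz : τ * x 6 b = x 6 b * τ := L.cen s hs 6 (by decide) _ (L.le 6 b (ok_of_fix _ hb))
  have nu := (rel4 v L S).normalizer (k := 1) (L := [2, 3, 4, 5]) (by decide) hu
  have nz := (rel4 v L S).normalizer (k := 6) (L := [2, 3, 4, 5]) (by decide) (L.le 6 b (ok_of_fix _ hb))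
  set z := x 6 b with hz
  -- `u w u⁻¹ = z q w`
  have e1 : u * w * u⁻¹ = z * q * w := by
    rw [commutatorElement_def] at e
    calc u * w * u⁻¹ = (u * w * u⁻¹ * w⁻¹) * w := by group
      _ = _ := by rw [e]
  have e2 : (τ * u * τ⁻¹) * w * (τ * u * τ⁻¹)⁻¹ = z * (τ * q * τ⁻¹) * w := by
    have h1 : τ⁻¹ * w * τ = w := by rw [mul_assoc, ← hτw, inv_mul_cancel_left]
    have h2 : τ * w * τ⁻¹ = w := by rw [hτw, mul_inv_cancel_right]
    calc (τ * u * τ⁻¹) * w * (τ * u * τ⁻¹)⁻¹ = τ * (u * (τ⁻¹ * w * τ) * u⁻¹) * τ⁻¹ := by group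
      _ = (τ * z) * q * w * τ⁻¹ := by rw [h1, e1]; group
      _ = z * (τ * q * τ⁻¹) * (τ * w * τ⁻¹) := by rw [hτz]; group
      _ = _ := by rw [h2]
  set q' := τ * q * τ⁻¹ with hq'
  have hq'Q : q' ∈ gv V [2, 3, 4, 5] := nτ q hq
  -- `w = (u⁻¹ z u) (u⁻¹ q u) (u⁻¹ w u)`
  set Z := u⁻¹ * z * u with hZ
  have nZ : Z ∈ Subgroup.normalizer (gv V [2, 3, 4, 5] : Set G) := mul_mem (mul_mem (inv_mem nu) nz) nu
  have e3 : u⁻¹ * w * u = (u⁻¹ * q * u)⁻¹ * Z⁻¹ * w := by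
    have h1 : w = u⁻¹ * (u * w * u⁻¹) * u := by group
    have h2 : w = Z * (u⁻¹ * q * u) * (u⁻¹ * w * u) := by
      calc w = u⁻¹ * (u * w * u⁻¹) * u := h1
        _ = u⁻¹ * (z * q * w) * u := by rw [e1]
        _ = _ := by rw [hZ]; group
    calc u⁻¹ * w * u = (Z * (u⁻¹ * q * u))⁻¹ * (Z * (u⁻¹ * q * u) * (u⁻¹ * w * u)) := by group
      _ = (Z * (u⁻¹ * q * u))⁻¹ * w := by rw [← h2]
      _ = _ := by group
  have e4 : ⁅y, w⁆ = Z * ((u⁻¹ * q' * u) * (u⁻¹ * q * u)⁻¹) * Z⁻¹ := by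
    rw [← eu, commutatorElement_def]
    calc u⁻¹ * (τ * u * τ⁻¹) * w * (u⁻¹ * (τ * u * τ⁻¹))⁻¹ * w⁻¹ =
        u⁻¹ * ((τ * u * τ⁻¹) * w * (τ * u * τ⁻¹)⁻¹) * u * w⁻¹ := by group
      _ = u⁻¹ * (z * q' * w) * u * w⁻¹ := by rw [e2]
      _ = Z * (u⁻¹ * q' * u) * (u⁻¹ * w * u) * w⁻¹ := by rw [hZ]; group
      _ = _ := by rw [e3]; group
  rw [e4]
  exact norm_iff nZ (mul_mem (norm_iff' nu hq'Q) (inv_mem (norm_iff' nu hq)))

end

end Cfsg.Agent.TriTwo.Grow3
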