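import Cfsg.Agent.TriTwo.Defs
import Cfsg.Agent.StdRank2.HexU

/-!
# S1778, type `³D₄(2)`, piece [E3]: towers of doubled root groups

`AV V k n = V k V (k+1) … V (k+n-1)`; `Rel V D`: the commutator relations up to distance `D`; then (`tow_AV`) for `n ≤ D + 1`
the group `AV V k n` has `C(t) ∩ AV V k n = AV X k n`, all involutions of `t AV V k n` are conjugate to `t`, and the
products are unique.
-/

set_option autoImplicit false
set_option linter.unusedSectionVars false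

namespace Cfsg.Agent.TriTwo.Grow3

open scoped commutatorElement
open Cfsg.Agent.TriTwo

variable {G : Type*} [Group G]

/-- the join of the `V k`, `k ∈ L` -/
def gv (V : ZMod 12 → Subgroup G) : List (ZMod 12) → Subgroup G
  | [] => ⊥
  | k :: L => V k ⊔ gv V L

theorem gv_nil (V : ZMod 12 → Subgroup G) : gv V [] = ⊥ := rfl

theorem gv_cons (V : ZMod 12 → Subgroup G) (k : ZMod 12) (L : List (ZMod 12)) : gv V (k :: L) = V k ⊔ gv V L := rfl

theorem gv_one (V : ZMod 12 → Subgroup G) (k : ZMod 12) : gv V [k] = V k := by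
  rw [gv_cons, gv_nil, sup_bot_eq]

theorem le_gv (V : ZMod 12 → Subgroup G) : ∀ {L : List (ZMod 12)} {k : ZMod 12}, k ∈ L → V k ≤ gv V L := by
  intro L
  induction L with
  | nil => intro k hk; exact absurd hk (by simp)
  | cons j L ih =>
    intro k hk
    rw [gv_cons]
    rcases List.mem_cons.1 hk with rfl | hk
    · exact le_sup_left
    · exact (ih hk).trans le_sup_right

theorem gv_le {V : ZMod 12 → Subgroup G} {P : Subgroup G} : ∀ {L : List (ZMod 12)},
    (∀ k ∈ L, V k ≤ P) → gv V L ≤ P := by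
  intro L
  induction L with
  | nil => intro _; rw [gv_nil]; exact bot_le
  | cons j L ih =>
    intro h
    rw [gv_cons]
    exact sup_le (h j (by simp)) (ih fun k hk => h k (by simp [hk]))

theorem gv_mono (V : ZMod 12 → Subgroup G) {L M : List (ZMod 12)} (h : ∀ i ∈ L, i ∈ M) : gv V L ≤ gv V M :=
  gv_le fun k hk => le_gv V (h k hk)

/-- commutator relations for the pairs in `ok` -/
def RelP (V : ZMod 12 → Subgroup G) (ok : ZMod 12 → ZMod 12 → Bool) : Prop :=
  ∀ k j : ZMod 12, ok k j = true → ∀ y ∈ V k, ∀ y' ∈ V j, ⁅y, y'⁆ ∈ gv V (betw k j)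

/-- `V k` normalises the group of the list `L` -/
def stb (ok : ZMod 12 → ZMod 12 → Bool) (k : ZMod 12) (L : List (ZMod 12)) : Bool :=
  L.all fun j => ok k j && (betw k j).all fun i => L.contains i

theorem RelP.comm {V : ZMod 12 → Subgroup G} {ok : ZMod 12 → ZMod 12 → Bool} (R : RelP V ok) {k j : ZMod 12}
    {L : List (ZMod 12)} (h : (ok k j && (betw k j).all fun i => L.contains i) = true) {y y' : G} (hy : y ∈ V k)
    (hy' : y' ∈ V j) : ⁅y, y'⁆ ∈ gv V L := by
  rw [Bool.and_eq_true, List.all_eq_true] at h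
  exact gv_mono V (fun i hi => by simpa using h.2 i hi) (R k j h.1 y hy y' hy')

theorem RelP.norm {V : ZMod 12 → Subgroup G} {ok : ZMod 12 → ZMod 12 → Bool} (R : RelP V ok) {k : ZMod 12}
    {L : List (ZMod 12)} (h : stb ok k L = true) {y m : G} (hy : y ∈ V k) (hm : m ∈ gv V L) :
    y * m * y⁻¹ ∈ gv V L := by
  have key : gv V L ≤ (gv V L).comap (MulAut.conj y).toMonoidHom := by
    refine gv_le fun j hj m hm => ?_
    show y * m * y⁻¹ ∈ gv V L
    have e : y * m * y⁻¹ = ⁅y, m⁆ * m := by rw [commutatorElement_def]; group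
    rw [e]
    exact mul_mem (R.comm (List.all_eq_true.1 h j hj) hy hm) (le_gv V hj hm)
  exact key hm

theorem RelP.normalizer {V : ZMod 12 → Subgroup G} {ok : ZMod 12 → ZMod 12 → Bool} (R : RelP V ok) {k : ZMod 12}
    {L : List (ZMod 12)} (h : stb ok k L = true) {y : G} (hy : y ∈ V k) :
    y ∈ Subgroup.normalizer (gv V L : Set G) := by
  rw [Subgroup.mem_normalizer_iff]
  intro m
  refine ⟨fun hm => R.norm h hy hm, fun hm => ?_⟩
  have h1 := R.norm h (inv_mem hy) hm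
  have e : y⁻¹ * (y * m * y⁻¹) * y⁻¹⁻¹ = m := by group
  rwa [e] at h1

/-- `V` is a double of `A`. -/
structure Dbl (t : G) (A V : Subgroup G) : Prop where
  le : A ≤ V
  sq : ∀ y ∈ V, y * y = 1
  br : ∀ y ∈ V, ⁅t, y⁆ ∈ A
  onto : ∀ a ∈ A, ∃ y ∈ V, ⁅t, y⁆ = a
  fix : ∀ y ∈ V, y * t = t * y → y ∈ A

theorem Dbl.comm {t : G} {A V : Subgroup G} (D : Dbl t A V) {y z : G} (hy : y ∈ V) (hz : z ∈ V) : y * z = z * y := by
  have h1 := D.sq y hy
  have h2 := D.sq z hz
  have h3 := D.sq _ (mul_mem hy hz)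
  have h4 : y * z * y * z = 1 := by rw [← h3]; group
  calc y * z = (z * z) * (y * z) * (y * y) := by rw [h1, h2]; group
    _ = z * (z * y * z * y) * y := by group
    _ = z * y := by
      have h5 := D.sq _ (mul_mem hz hy)
      have h6 : z * y * z * y = 1 := by rw [← h5]; group
      rw [h6, mul_one]

/-- `M` is `t`-invariant with `C_M(t) ≤ A` and all involutions of `t M` conjugate to `t` under `M`. -/
structure Tow (t : G) (A M : Subgroup G) : Prop where
  inv : ∀ m ∈ M, t * m * t⁻¹ ∈ M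
  cent : ∀ m ∈ M, m * t = t * m → m ∈ A
  good : ∀ m ∈ M, (t * m) * (t * m) = 1 → ∃ g ∈ M, g * t * g⁻¹ = t * m

theorem tow_bot (t : G) : Tow t (⊥ : Subgroup G) ⊥ where
  inv m hm := by
    rw [Subgroup.mem_bot] at hm ⊢
    rw [hm]; group
  cent m hm _ := hm
  good m hm _ := by
    rw [Subgroup.mem_bot] at hm
    exact ⟨1, one_mem _, by rw [hm]; group⟩

theorem tow_dis {t : G} {A0 M0 A V : Subgroup G} (H : Tow t A0 M0) (D : Dbl t A V) (hA : ∀ a ∈ A, a * t = t * a)
    (dis : ∀ a ∈ A, a ∈ A0 → a = 1) : ∀ v ∈ V, v ∈ M0 → v = 1 := by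
  intro v hv hm
  have h5 : ⁅t, v⁆ ∈ M0 := by rw [commutatorElement_def]; exact mul_mem (H.inv v hm) (inv_mem hm)
  have h6 := D.br v hv
  have h7 := dis _ h6 (H.cent _ h5 (hA _ h6))
  have hvt : v * t = t * v := (commutatorElement_eq_one_iff_mul_comm.1 h7).symm
  exact dis v (D.fix v hv hvt) (H.cent v hm hvt)

theorem tow_step {t : G} {A0 M0 A V : Subgroup G} (H : Tow t A0 M0) (D : Dbl t A V) (hA : ∀ a ∈ A, a * t = t * a)
    (htt : t * t = 1) (hn : ∀ v ∈ V, ∀ m ∈ M0, v * m * v⁻¹ ∈ M0) (dis : ∀ a ∈ A, a ∈ A0 → a = 1) :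
    Tow t (A ⊔ A0) (V ⊔ M0) := by
  have hti : t⁻¹ = t := inv_eq_of_mul_eq_one_left htt
  have hn' : ∀ v ∈ V, ∀ m ∈ M0, v⁻¹ * m * v ∈ M0 := fun v hv m hm => by
    have := hn v⁻¹ (inv_mem hv) m hm
    rwa [inv_inv] at this
  have htv : ∀ v, t * v * t⁻¹ = ⁅t, v⁆ * v := fun v => by rw [commutatorElement_def]; group
  refine ⟨?_, ?_, ?_⟩
  · have key : V ⊔ M0 ≤ (V ⊔ M0).comap (MulAut.conj t).toMonoidHom := by
      refine sup_le (fun v hv => ?_) (fun m hm => ?_)
      · show t * v * t⁻¹ ∈ V ⊔ M0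
        rw [htv]
        exact (le_sup_left : V ≤ V ⊔ M0) (mul_mem (D.le (D.br v hv)) hv)
      · show t * m * t⁻¹ ∈ V ⊔ M0
        exact (le_sup_right : M0 ≤ V ⊔ M0) (H.inv m hm)
    exact fun m hm => key hm
  · intro g hg hgt
    obtain ⟨v, hv, m, hm, rfl⟩ := mem_sup_norm hn hg
    set a := ⁅t, v⁆ with ha
    have haA : a ∈ A := D.br v hv
    have hav : a * v = v * a := D.comm (D.le haA) hv
    have h1 : t * (v * m) * t⁻¹ = v * m := by rw [← hgt, mul_inv_cancel_right]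
    have h3 : v * (a * (t * m * t⁻¹)) = v * m := by
      calc v * (a * (t * m * t⁻¹)) = (v * a) * (t * m * t⁻¹) := by group
        _ = (t * v * t⁻¹) * (t * m * t⁻¹) := by rw [← hav, htv v]
        _ = t * (v * m) * t⁻¹ := by group
        _ = v * m := h1
    have h4 : a * (t * m * t⁻¹) = m := mul_left_cancel h3
    have h5 : a ∈ M0 := by
      have : a = m * (t * m * t⁻¹)⁻¹ := by rw [eq_mul_inv_iff_mul_eq]; exact h4
      rw [this]; exact mul_mem hm (inv_mem (H.inv m hm))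
    have h7 := dis _ haA (H.cent _ h5 (hA _ haA))
    have hvt : v * t = t * v := (commutatorElement_eq_one_iff_mul_comm.1 (ha ▸ h7)).symm
    have hmt : m * t = t * m := by
      rw [h7, one_mul] at h4
      calc m * t = (t * m * t⁻¹) * t := by rw [h4]
        _ = t * m := by group
    exact mul_mem ((le_sup_left : A ≤ A ⊔ A0) (D.fix v hv hvt)) ((le_sup_right : A0 ≤ A ⊔ A0) (H.cent m hm hmt))
  · intro g hg hgg
    obtain ⟨v, hv, m, hm, rfl⟩ := mem_sup_norm hn hg
    set a := ⁅t, v⁆ with ha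
    have haA : a ∈ A := D.br v hv
    have hvv := D.sq v hv
    have h3 : a * (v * (t * m * t⁻¹) * v⁻¹) * m = 1 := by
      calc a * (v * (t * m * t⁻¹) * v⁻¹) * m = (a * v) * (t * m * t⁻¹) * v⁻¹ * m := by group
        _ = (t * v * t⁻¹) * (t * m * t⁻¹) * v⁻¹ * m := by rw [htv v]
        _ = t * v * m * t⁻¹ * v⁻¹ * m := by group
        _ = (t * (v * m)) * (t * (v * m)) := by
          rw [hti, inv_eq_of_mul_eq_one_left hvv]; group
        _ = 1 := hgg
    have h5 : a ∈ M0 := by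
      have h6 : v * (t * m * t⁻¹) * v⁻¹ ∈ M0 := hn v hv _ (H.inv m hm)
      have : a = (a * (v * (t * m * t⁻¹) * v⁻¹) * m) * m⁻¹ * (v * (t * m * t⁻¹) * v⁻¹)⁻¹ := by group
      rw [this, h3, one_mul]
      exact mul_mem (inv_mem hm) (inv_mem h6)
    have h7 := dis _ haA (H.cent _ h5 (hA _ haA))
    have hvt : v * t = t * v := (commutatorElement_eq_one_iff_mul_comm.1 (ha ▸ h7)).symm
    have hvA := D.fix v hv hvt
    obtain ⟨w, hw, e⟩ := D.onto v hvA
    have h8 : w * t * w⁻¹ = t * v := by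
      rw [← e, commutatorElement_def, hti]
      calc w * t * w⁻¹ = (t * t) * w * t * w⁻¹ := by rw [htt, one_mul]
        _ = _ := by group
    have hm' : w⁻¹ * m * w ∈ M0 := hn' w hw _ hm
    have h9 : t * (w⁻¹ * m * w) = w⁻¹ * (t * (v * m)) * w := by
      have : t = w⁻¹ * (t * v) * w := by rw [← h8]; group
      calc t * (w⁻¹ * m * w) = (w⁻¹ * (t * v) * w) * (w⁻¹ * m * w) := by rw [← this]
        _ = _ := by group
    obtain ⟨g, hg, e2⟩ := H.good _ hm' (by
      rw [h9]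
      calc w⁻¹ * (t * (v * m)) * w * (w⁻¹ * (t * (v * m)) * w) = w⁻¹ * ((t * (v * m)) * (t * (v * m))) * w := by group
        _ = 1 := by rw [hgg]; group)
    refine ⟨w * g, mul_mem ((le_sup_left : V ≤ V ⊔ M0) hw) ((le_sup_right : M0 ≤ V ⊔ M0) hg), ?_⟩
    calc w * g * t * (w * g)⁻¹ = w * (g * t * g⁻¹) * w⁻¹ := by group
      _ = t * (v * m) := by rw [e2, h9]; group

/-- one more root group -/
theorem tow_cons {t : G} (htt : t * t = 1) {X V : ZMod 12 → Subgroup G} (hD : ∀ r, Dbl t (X r) (V r))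
    (hX : ∀ r, ∀ a ∈ X r, a * t = t * a) {ok : ZMod 12 → ZMod 12 → Bool} (R : RelP V ok)
    (dis : ∀ r, ∀ a ∈ X r, a ∈ gv X [r + 1, r + 2, r + 3, r + 4, r + 5] → a = 1) {k : ZMod 12} {L : List (ZMod 12)}
    (hL : (stb ok k L && L.all fun i => [k + 1, k + 2, k + 3, k + 4, k + 5].contains i) = true)
    (H : Tow t (gv X L) (gv V L)) : Tow t (gv X (k :: L)) (gv V (k :: L)) := by
  rw [Bool.and_eq_true, List.all_eq_true] at hL
  exact tow_step H (hD k) (hX k) htt (fun v hv m hm => R.norm hL.1 hv hm)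
    (fun a ha ha' => dis k a ha (gv_mono X (fun i hi => by simpa using hL.2 i hi) ha'))

theorem dis_cons {t : G} {X V : ZMod 12 → Subgroup G} (hD : ∀ r, Dbl t (X r) (V r))
    (hX : ∀ r, ∀ a ∈ X r, a * t = t * a)
    (dis : ∀ r, ∀ a ∈ X r, a ∈ gv X [r + 1, r + 2, r + 3, r + 4, r + 5] → a = 1) {k : ZMod 12} {L : List (ZMod 12)}
    (hL : (L.all fun i => [k + 1, k + 2, k + 3, k + 4, k + 5].contains i) = true)
    (H : Tow t (gv X L) (gv V L)) : ∀ v ∈ V k, v ∈ gv V L → v = 1 :=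
  tow_dis H (hD k) (hX k) fun a ha ha' => dis k a ha (gv_mono X (fun i hi => by
    simpa using (List.all_eq_true.1 hL) i hi) ha')

/-- splitting off the first factor -/
theorem gv_split {V : ZMod 12 → Subgroup G} {ok : ZMod 12 → ZMod 12 → Bool} (R : RelP V ok) {k : ZMod 12}
    {L : List (ZMod 12)} (hL : stb ok k L = true) {y : G} (hy : y ∈ gv V (k :: L)) :
    ∃ v ∈ V k, ∃ m ∈ gv V L, y = v * m :=
  mem_sup_norm (fun _ ha _ hb => R.norm hL ha hb) hy

theorem mul_mem_gv {V : ZMod 12 → Subgroup G} {k : ZMod 12} {L : List (ZMod 12)} {v m : G} (hv : v ∈ V k)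
    (hm : m ∈ gv V L) : v * m ∈ gv V (k :: L) :=
  mul_mem ((le_sup_left : V k ≤ V k ⊔ gv V L) hv) ((le_sup_right : gv V L ≤ V k ⊔ gv V L) hm)

/-! ### Stabilisers -/

/-- elements `y` normalising `N` with `⁅y, L⁆ ⊆ N` -/
def Stb (L : Set G) (N : Subgroup G) : Subgroup G where
  carrier := {y | y ∈ Subgroup.normalizer (N : Set G) ∧ ∀ m ∈ L, ⁅y, m⁆ ∈ N}
  mul_mem' := by
    rintro a b ⟨ha, ha'⟩ ⟨hb, hb'⟩
    refine ⟨mul_mem ha hb, fun m hm => ?_⟩
    have e : ⁅a * b, m⁆ = a * ⁅b, m⁆ * a⁻¹ * ⁅a, m⁆ := by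
      rw [commutatorElement_def, commutatorElement_def, commutatorElement_def]; group
    rw [e]
    exact mul_mem ((Subgroup.mem_normalizer_iff.1 ha _).1 (hb' m hm)) (ha' m hm)
  one_mem' := ⟨one_mem _, fun m _ => by rw [commutatorElement_one_left]; exact one_mem _⟩
  inv_mem' := by
    rintro a ⟨ha, ha'⟩
    refine ⟨inv_mem ha, fun m hm => ?_⟩
    have e : ⁅a⁻¹, m⁆ = a⁻¹ * ⁅a, m⁆⁻¹ * a⁻¹⁻¹ := by
      rw [commutatorElement_def, commutatorElement_def]; group
    rw [e]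
    exact (Subgroup.mem_normalizer_iff.1 (inv_mem ha) _).1 (inv_mem (ha' m hm))

theorem mem_Stb {L : Set G} {N : Subgroup G} {y : G} :
    y ∈ Stb L N ↔ y ∈ Subgroup.normalizer (N : Set G) ∧ ∀ m ∈ L, ⁅y, m⁆ ∈ N := Iff.rfl

/-- from generators to the generated subgroup -/
theorem Stb_gen {N P : Subgroup G} {y : G} (h : P ≤ Stb {y} N) : ∀ m ∈ P, ⁅y, m⁆ ∈ N := by
  intro m hm
  rw [← commutatorElement_inv]
  exact inv_mem ((h hm).2 y rfl)

theorem norm_iff {N : Subgroup G} {y m : G} (hy : y ∈ Subgroup.normalizer (N : Set G)) (hm : m ∈ N) :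
    y * m * y⁻¹ ∈ N := (Subgroup.mem_normalizer_iff.1 hy m).1 hm

theorem norm_iff' {N : Subgroup G} {y m : G} (hy : y ∈ Subgroup.normalizer (N : Set G)) (hm : m ∈ N) :
    y⁻¹ * m * y ∈ N := by
  have := norm_iff (inv_mem hy) hm
  rwa [inv_inv] at this

/-- a power of `c` centralises the next layer -/
theorem pow_centr {c : G} {L : Set G} {N : Subgroup G} {n : ℕ} (hN : ∀ z ∈ N, z ^ n = 1)
    (hc : ∀ z ∈ N, c * z = z * c) (hL : ∀ m ∈ L, ⁅c, m⁆ ∈ N) : ∀ m ∈ L, c ^ n * m = m * c ^ n := by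
  intro m hm
  have hz := hL m hm
  set z := ⁅c, m⁆ with hzdef
  have h1 : c * m = z * m * c := by rw [hzdef, commutatorElement_def]; group
  have h2 : ∀ k : ℕ, c ^ k * m = z ^ k * m * c ^ k := by
    intro k
    induction k with
    | zero => simp
    | succ k ih =>
      have h3 : c * z ^ k = z ^ k * c := ((show Commute c z from hc z hz).pow_right k).eq
      calc c ^ (k + 1) * m = c * (c ^ k * m) := by rw [pow_succ']; group
        _ = (c * z ^ k) * m * c ^ k := by rw [ih]; group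
        _ = z ^ k * (c * m) * c ^ k := by rw [h3]; group
        _ = z ^ (k + 1) * m * c ^ (k + 1) := by rw [h1, pow_succ, pow_succ']; group
  rw [h2 n, hN z hz, one_mul]

end Cfsg.Agent.TriTwo.Grow3
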