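import Mathlib
import Cfsg.Agent.StdRank2.HexInv

/-!
# Hexagonal root systems in characteristic two: centralisers in `U` of the involutions of `U` (S1778, type `³D₄`)

`inv_card`: every involution of `U` is centralised by a subgroup of `U` of order at least `|Fix σ| |E|²`.
-/

set_option autoImplicit false
set_option linter.unusedSimpArgs false

namespace Cfsg.Agent.TriTwo.InvCard

open Cfsg.Agent.StdRank2.Hex Cfsg.Agent.SplitTwo Cfsg.Agent.StdRank2.Hex.HexTwo
open scoped commutatorElement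

variable {E : Type*} [Field E] {σ : E ≃+* E} {Γ : Type*} [Group Γ] {x : ZMod 12 → E → Γ} (h : HexTwo σ x)

include h

/-- commutators in `Q₁` -/
theorem comm_Q1 {y s : Γ} (hy : y ∈ gen σ x (arc 2 5)) (hs : s ∈ gen σ x (arc 2 5)) :
    ∃ z, σ z = z ∧ ⁅y, s⁆ = x 4 z := by
  obtain ⟨b, c, d, e, f, hb, hd, hf, rfl⟩ := h.mem_Q1.1 hy
  obtain ⟨b', c', d', e', f', hb', hd', hf', rfl⟩ := h.mem_Q1.1 hs
  have t1 := h.fix_trc c' e
  have t2 := h.fix_trc c e'
  have z0 : σ (0 : E) = 0 := map_zero σ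
  refine ⟨b' * f + trc σ c' e + b * f' + trc σ c e', by simp only [map_add, map_mul, hb, hf, hb', hf', t1, t2], ?_⟩
  rw [commutatorElement_def, mul_inv_eq_iff_eq_mul, mul_inv_eq_iff_eq_mul]
  rw [h.q_mul hb hd hf hb' hd' hf', ← h.q4 (b' * f + trc σ c' e + b * f' + trc σ c e'),
    h.q_mul z0 (by simp only [map_add, map_mul, hb, hf, hb', hf', t1, t2]) z0 hb' hd' hf',
    h.q_mul (by rw [zero_add]; exact hb') (by
      simp only [map_add, map_mul, map_zero, hb, hf, hb', hd', hf', t1, t2, trc_zero_right, mul_zero, add_zero])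
      (by rw [zero_add]; exact hf') hb hd hf]
  congr 1
  · ring
  · ring
  · simp only [trc_zero_right, mul_zero, add_zero, zero_add]
    linear_combination (-(b * f') - trc σ c e') * h.two
  · ring
  · ring

/-- `x 4` is central in `Q₁` -/
theorem central_Q1 {y : Γ} (hy : y ∈ gen σ x (arc 2 5)) {z : E} (hz : σ z = z) : y * x 4 z = x 4 z * y := by
  obtain ⟨b, c, d, e, f, hb, hd, hf, rfl⟩ := h.mem_Q1.1 hy
  have z0 : σ (0 : E) = 0 := map_zero σ
  rw [← h.q4, h.q_mul hb hd hf z0 hz z0, h.q_mul z0 hz z0 hb hd hf]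
  congr 1
  · ring
  · ring
  · simp only [trc_zero_left, trc_zero_right, mul_zero, zero_mul, add_zero, zero_add]
    ring
  · ring
  · ring

/-- case `s ∈ Q₁` -/
theorem card_Q1 [Finite E] {s : Γ} (hs : s ∈ gen σ x (arc 2 5)) :
    ∃ K : Subgroup Γ, K ≤ gen σ x (arc 2 4) ∧ (∀ k ∈ K, k * s = s * k) ∧
      Nat.card {a : E // σ a = a} * Nat.card E ^ 2 ≤ Nat.card K := by
  have hJ : gen σ x (arc 2 4) ≤ gen σ x (arc 2 5) := gen_mono (arc_mono (by norm_num))
  let f : gen σ x (arc 2 4) →* Γ :=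
    { toFun := fun y => ⁅(y : Γ), s⁆
      map_one' := by simp
      map_mul' := by
        intro y z
        obtain ⟨c, hc, e⟩ := comm_Q1 h (hJ z.2) hs
        obtain ⟨c', hc', e'⟩ := comm_Q1 h (hJ y.2) hs
        have e1 : ⁅(y : Γ) * z, s⁆ = y * ⁅(z : Γ), s⁆ * (y : Γ)⁻¹ * ⁅(y : Γ), s⁆ := by
          rw [commutatorElement_def, commutatorElement_def, commutatorElement_def]; group
        show ⁅((y * z : gen σ x (arc 2 4)) : Γ), s⁆ = _
        rw [Subgroup.coe_mul, e1, e, e', central_Q1 h (hJ y.2) hc, mul_inv_cancel_right]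
        have := (h.x_comm_same (k := 4) (ok_of_fix 4 hc) (ok_of_fix 4 hc')).eq
        exact this }
  have hJcard : Nat.card (gen σ x (arc 2 4)) = (Nat.card {a : E // σ a = a} * Nat.card E) ^ 2 := by
    rw [h.card_arc_succ 2 (by norm_num), h.card_arc_succ _ (by norm_num), h.card_arc_succ _ (by norm_num),
      h.card_arc_succ _ (by norm_num), gen_arc_zero, card_ok_even (by decide), card_ok_odd (by decide),
      card_ok_even (by decide), card_ok_odd (by decide), Subgroup.card_bot]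
    ring
  have hZcard : Nat.card (gen σ x (arc 4 1)) = Nat.card {a : E // σ a = a} := by
    rw [h.card_arc_succ 4 (by norm_num), gen_arc_zero, card_ok_even (by decide), Subgroup.card_bot, mul_one]
  have hFpos : 0 < Nat.card {a : E // σ a = a} := by
    have : Nonempty {a : E // σ a = a} := ⟨⟨0, map_zero σ⟩⟩
    exact Nat.card_pos
  have hfinZ : Finite (gen σ x (arc 4 1)) := Nat.finite_of_card_ne_zero (by rw [hZcard]; exact hFpos.ne')
  have hr : f.range ≤ gen σ x (arc 4 1) := by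
    rintro _ ⟨y, rfl⟩
    obtain ⟨z, hz, e⟩ := comm_Q1 h (hJ y.2) hs
    show ⁅(y : Γ), s⁆ ∈ _
    rw [e]
    exact x_mem_gen (self_mem_arc (by norm_num)) (ok_of_fix 4 hz)
  have h1 := Subgroup.card_mul_index f.ker
  rw [Subgroup.index_ker, hJcard] at h1
  have h2 : Nat.card f.range ≤ Nat.card {a : E // σ a = a} := by
    rw [← hZcard]
    exact Nat.card_le_card_of_injective _ (Subgroup.inclusion_injective hr)
  refine ⟨f.ker.map (gen σ x (arc 2 4)).subtype, ?_, ?_, ?_⟩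
  · rintro _ ⟨y, -, rfl⟩
    exact y.2
  · rintro _ ⟨y, hy, rfl⟩
    have : ⁅(y : Γ), s⁆ = 1 := hy
    exact commutatorElement_eq_one_iff_mul_comm.1 this
  · rw [Subgroup.card_map_of_injective (Subgroup.subtype_injective _)]
    have h3 : Nat.card {a : E // σ a = a} * (Nat.card {a : E // σ a = a} * Nat.card E ^ 2) ≤
        Nat.card {a : E // σ a = a} * Nat.card f.ker := by
      calc Nat.card {a : E // σ a = a} * (Nat.card {a : E // σ a = a} * Nat.card E ^ 2)
          = (Nat.card {a : E // σ a = a} * Nat.card E) ^ 2 := by ring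
        _ = Nat.card f.ker * Nat.card f.range := h1.symm
        _ ≤ Nat.card f.ker * Nat.card {a : E // σ a = a} := Nat.mul_le_mul_left _ h2
        _ = _ := mul_comm _ _
    exact Nat.le_of_mul_le_mul_left h3 hFpos

/-- an involution outside `Q₁` is moved into `X₂X₃X₄X₅` by `n₆ x₆(l)` -/
theorem exists_move {g : Γ} (hg : g ∈ UU σ x) (h2 : g * g = 1) (h1 : g ∉ gen σ x (arc 2 5)) :
    ∃ l, σ l = l ∧ nn x 6 * (x 6 l * g * x 6 l) * (nn x 6)⁻¹ ∈ gen σ x (arc 2 4) := by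
  obtain ⟨a, b, c, d, e, f, hb, hd, hf, rfl⟩ := h.mem_UU.1 hg
  have z : σ (0 : E) = 0 := map_zero σ
  have ha : a ≠ 0 := by
    rintro rfl
    rw [h.uq] at h1
    exact h1 (q_mem hb hd hf)
  have sq : f * a = 0 ∧ crs σ a e + f * shp σ a = 0 := by
    rw [h.uu_mul hb hd hf hb hd hf, show (1 : Γ) = uu x 0 0 0 0 0 0 by rw [h.uq, h.q_zero]] at h2
    have t1 := h.fix_trc a c
    have t2 := h.fix_trc (shp σ a) e
    have t3 := h.fix_trc a (shp σ e)
    have t4 := h.fix_nrm a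
    have t5 := h.fix_trc c (e + f * a)
    obtain ⟨-, -, r3, -, r5, -⟩ := h.uu_inj (by simp only [map_add, map_mul, hb, t1, t2, hf, t4])
      (by simp only [map_add, map_mul, map_pow, hb, hd, t2, t3, hf, t4, t5])
      (by rw [map_add, hf]) z z z h2
    refine ⟨?_, ?_⟩
    · calc f * a = (e + f * a + e) + (e + e) := by rw [h.add_self, add_zero, add_right_comm, h.add_self, zero_add]
        _ = 0 := by rw [r5, h.add_self, add_zero]
    · calc crs σ a e + f * shp σ a = (c + crs σ a e + f * shp σ a + c) + 2 * -c := by ring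
        _ = 0 := by rw [r3, h.two, zero_mul, add_zero]
  obtain ⟨k1, k2⟩ := sq
  have hf0 : f = 0 := (mul_eq_zero.1 k1).resolve_right ha
  subst hf0
  rw [zero_mul, add_zero] at k2
  obtain ⟨l, rfl⟩ : ∃ l, e = l * a := ⟨e / a, (div_mul_cancel₀ _ ha).symm⟩
  have hl : σ l = l := by
    unfold crs at k2
    rw [map_mul, map_mul] at k2
    have e1 : σ a * σ (σ a) * (σ (σ l) + σ l) = 0 := by rw [← k2]; ring
    have e2 := (mul_eq_zero.1 e1).resolve_left (shp_ne_zero (σ := σ) ha)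
    have e3 := eq_neg_of_add_eq_zero_left e2
    rw [h.neg_eq] at e3
    exact σ.injective e3
  have N1 := h.fix_nrm a
  have key : x 6 l * uu x a b c d (l * a) 0 =
      uu x a (b + l * nrm σ a) (c + l * shp σ a) (d + l ^ 2 * nrm σ a + b * l + trc σ c (l * a)) 0 0 * x 6 l := by
    have t5 := h.fix_trc c (l * a)
    rw [← h.q6, ← h.uq, h.uu_mul z z hl hb hd z, h.uu_mul (by simp only [map_add, map_mul, hb, hl, N1])
      (by simp only [map_add, map_mul, map_pow, hb, hd, hl, N1, t5]) z z z hl]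
    simp only [zero_mul, zero_add, add_zero, mul_zero, trc_zero_right, trc_zero_left, crs_zero_left,
      crs_zero_right, shp_zero, nrm_zero, h.add_self]
    congr 1
    · ring
    · ring
    · ring
  have hB : σ (b + l * nrm σ a) = b + l * nrm σ a := by rw [map_add, map_mul, hb, hl, N1]
  have hD : σ (d + l ^ 2 * nrm σ a + b * l + trc σ c (l * a)) = d + l ^ 2 * nrm σ a + b * l + trc σ c (l * a) := by
    have t5 := h.fix_trc c (l * a)
    simp only [map_add, map_mul, map_pow, hb, hd, hl, N1, t5]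
  refine ⟨l, hl, ?_⟩
  rw [key, mul_assoc _ (x 6 l), h.x_sq (ok_of_fix 6 hl), mul_one]
  refine h.nn_conj_gen (S := arc 1 4) 6 (fun l hl => by rw [mem_arc] at hl ⊢; revert l; decide) ?_
  unfold uu q
  rw [h.x_zero, h.x_zero, mul_one, mul_one, ← mul_assoc, ← mul_assoc]
  exact mul_mem (mul_mem (mul_mem (x_mem_gen (by rw [mem_arc]; decide) (ok1 a))
    (x_mem_gen (by rw [mem_arc]; decide) (ok_of_fix _ hB))) (x_mem_gen (by rw [mem_arc]; decide) (ok3 _)))
    (x_mem_gen (by rw [mem_arc]; decide) (ok_of_fix _ hD))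

/-- **Centralisers of the involutions of `U`.** -/
theorem inv_card [Finite E] {g : Γ} (hg : g ∈ UU σ x) (h2 : g * g = 1) :
    ∃ K : Subgroup Γ, K ≤ UU σ x ∧ (∀ k ∈ K, k * g = g * k) ∧
      Nat.card {a : E // σ a = a} * Nat.card E ^ 2 ≤ Nat.card K := by
  by_cases h1 : g ∈ gen σ x (arc 2 5)
  · obtain ⟨K, hK, hc, hk⟩ := card_Q1 h h1
    refine ⟨K, hK.trans (gen_mono ?_), hc, hk⟩
    intro l hl
    rw [mem_arc] at hl ⊢
    revert l
    decide
  · obtain ⟨l, hl, hm⟩ := exists_move h hg h2 h1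
    have hm5 : nn x 6 * (x 6 l * g * x 6 l) * (nn x 6)⁻¹ ∈ gen σ x (arc 2 5) := gen_mono (arc_mono (by norm_num)) hm
    obtain ⟨K, hK, hc, hk⟩ := card_Q1 h hm5
    have hl1 := h.x_sq (k := 6) (ok_of_fix 6 hl)
    have hli := h.x_inv (k := 6) (ok_of_fix 6 hl)
    refine ⟨K.map (MulAut.conj (nn x 6 * x 6 l)⁻¹).toMonoidHom, ?_, ?_, ?_⟩
    · rintro _ ⟨k, hkK, rfl⟩
      show (nn x 6 * x 6 l)⁻¹ * k * (nn x 6 * x 6 l)⁻¹⁻¹ ∈ _
      have e1 : (nn x 6 * x 6 l)⁻¹ * k * (nn x 6 * x 6 l)⁻¹⁻¹ = x 6 l * (nn x 6 * k * (nn x 6)⁻¹) * x 6 l := by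
        rw [mul_inv_rev, hli, h.nn_inv, mul_inv_rev, hli, h.nn_inv]
        group
      rw [e1]
      have h3 : nn x 6 * k * (nn x 6)⁻¹ ∈ UU σ x :=
        gen_mono (fun l hl => by rw [mem_arc] at hl ⊢; revert l; decide)
          (h.nn_conj_gen (S := arc 2 4) (T := arc 1 4) 6 (fun l hl => by rw [mem_arc] at hl ⊢; revert l; decide) (hK hkK))
      have h6 : x 6 l ∈ UU σ x := x_mem_gen (by rw [mem_arc]; decide) (ok_of_fix 6 hl)
      exact mul_mem (mul_mem h6 h3) h6
    · rintro _ ⟨k, hkK, rfl⟩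
      show (nn x 6 * x 6 l)⁻¹ * k * (nn x 6 * x 6 l)⁻¹⁻¹ * g = g * ((nn x 6 * x 6 l)⁻¹ * k * (nn x 6 * x 6 l)⁻¹⁻¹)
      have h3 := hc k hkK
      have e1 : g = (nn x 6 * x 6 l)⁻¹ * (nn x 6 * (x 6 l * g * x 6 l) * (nn x 6)⁻¹) * (nn x 6 * x 6 l)⁻¹⁻¹ := by
        calc g = (x 6 l * x 6 l) * g * (x 6 l * x 6 l) := by rw [hl1]; group
          _ = (x 6 l)⁻¹ * (x 6 l * g * x 6 l) * x 6 l := by rw [hli]; group
          _ = _ := by group
      generalize nn x 6 * (x 6 l * g * x 6 l) * (nn x 6)⁻¹ = m at h3 e1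
      rw [e1]
      calc (nn x 6 * x 6 l)⁻¹ * k * (nn x 6 * x 6 l)⁻¹⁻¹ * ((nn x 6 * x 6 l)⁻¹ * m * (nn x 6 * x 6 l)⁻¹⁻¹)
          = (nn x 6 * x 6 l)⁻¹ * (k * m) * (nn x 6 * x 6 l)⁻¹⁻¹ := by group
        _ = (nn x 6 * x 6 l)⁻¹ * (m * k) * (nn x 6 * x 6 l)⁻¹⁻¹ := by rw [h3]
        _ = _ := by group
    · rw [Subgroup.card_map_of_injective (MulEquiv.injective _)]
      exact hk

end Cfsg.Agent.TriTwo.InvCard
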