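import Cfsg.Agent.TriTwo.Defs
import Cfsg.Agent.TriTwo.PFacts

/-!
# S1778, type `³D₄(2)`, piece [C2]: the constant `κ` is zero, abstract part

A group, `z` an involution, `Y` of order four with `Y² = z`, `Zc = ⟨Y⟩`.  Elements `w u`, `y u` (`u` in a set of
indices) with `y u w v y u⁻¹ ≡ w v w u mod Zc`, `[w u, w v] = z` and `y u t (y u)⁻¹ = t w u`.  Then
`g = y_i y_j y_i⁻¹ y_k y_l y_k⁻¹` maps `t` to `t` or `t z`, fixes all other `w u` and swaps `w i`, `w j` mod `Zc`.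
-/

set_option autoImplicit false

namespace Cfsg.Agent.TriTwo.Kappa

section Core

variable {G : Type*} [Group G]

/-- congruence modulo `⟨Y⟩` -/
def Md (Y a b : G) : Prop := ∃ c ∈ Subgroup.zpowers Y, a = b * c

variable {Y : G}

theorem Md.refl (a : G) : Md Y a a := ⟨1, one_mem _, by rw [mul_one]⟩

theorem Md.of_eq {a b : G} (h : a = b) : Md Y a b := h ▸ Md.refl a

theorem Md.symm {a b : G} (h : Md Y a b) : Md Y b a := by
  obtain ⟨c, hc, rfl⟩ := h
  exact ⟨c⁻¹, inv_mem hc, by rw [mul_inv_cancel_right]⟩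

theorem Md.trans {a b c : G} (h : Md Y a b) (h' : Md Y b c) : Md Y a c := by
  obtain ⟨u, hu, rfl⟩ := h
  obtain ⟨v, hv, rfl⟩ := h'
  exact ⟨v * u, mul_mem hv hu, by rw [mul_assoc]⟩

theorem comm_zp {g c : G} (hg : g * Y = Y * g) (hc : c ∈ Subgroup.zpowers Y) : g * c = c * g := by
  obtain ⟨n, rfl⟩ := Subgroup.mem_zpowers_iff.1 hc
  exact (Commute.zpow_right (show Commute g Y from hg) n).eq

theorem Md.conj {a b : G} (h : Md Y a b) {g : G} (hg : g * Y = Y * g) : Md Y (g * a * g⁻¹) (g * b * g⁻¹) := by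
  obtain ⟨c, hc, rfl⟩ := h
  refine ⟨c, hc, ?_⟩
  have h1 := comm_zp hg hc
  calc g * (b * c) * g⁻¹ = g * b * (g⁻¹ * g) * c * g⁻¹ := by group
    _ = g * b * g⁻¹ * (g * c) * g⁻¹ := by group
    _ = g * b * g⁻¹ * c := by rw [h1]; group

theorem Md.mul {a b a' b' : G} (h : Md Y a b) (h' : Md Y a' b') (hb : b' * Y = Y * b') : Md Y (a * a') (b * b') := by
  obtain ⟨c, hc, rfl⟩ := h
  obtain ⟨c', hc', rfl⟩ := h'
  refine ⟨c * c', mul_mem hc hc', ?_⟩
  have h1 := comm_zp hb hc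
  calc b * c * (b' * c') = b * (c * b') * c' := by group
    _ = b * b' * (c * c') := by rw [← h1]; group

/-- The data. -/
structure Fam (ι : Type*) (z t Y : G) (w y : ι → G) : Prop where
  YY : Y * Y = z
  zz : z * z = 1
  z1 : z ≠ 1
  ww : ∀ u, w u * w u = 1
  wY : ∀ u, w u * Y = Y * w u
  yY : ∀ u, y u * Y = Y * y u
  yw : ∀ u, y u * w u = w u * y u
  tY : t * Y = Y⁻¹ * t
  tt : t * t = 1
  tw : ∀ u, t * w u = w u * t
  tz : t * z = z * t
  cw : ∀ u v, u ≠ v → w u * w v = w v * w u * z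
  yt : ∀ u, y u * t * (y u)⁻¹ = t * w u
  act : ∀ u v, u ≠ v → Md Y (y u * w v * (y u)⁻¹) (w v * w u)

namespace Fam

variable {ι : Type*} {z t : G} {w y : ι → G} (F : Fam ι z t Y w y)

include F

theorem z_mem : z ∈ Subgroup.zpowers Y := by
  rw [← F.YY]
  exact mul_mem (Subgroup.mem_zpowers Y) (Subgroup.mem_zpowers Y)

theorem zY : z * Y = Y * z := by rw [← F.YY, mul_assoc]

theorem Y4 : Y ^ 4 = 1 := by
  rw [show 4 = 2 + 2 by norm_num, pow_add, pow_two, F.YY, F.zz]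

/-- the four elements -/
theorem cases {c : G} (hc : c ∈ Subgroup.zpowers Y) : c = 1 ∨ c = Y ∨ c = z ∨ c = Y * z := by
  obtain ⟨n, rfl⟩ := Subgroup.mem_zpowers_iff.1 hc
  have h4 : Y ^ (4 : ℤ) = 1 := by
    have := F.Y4
    rw [← zpow_natCast] at this
    exact this
  have h1 : Y ^ n = Y ^ (n % 4) := by
    conv_lhs => rw [← Int.emod_add_mul_ediv n 4, zpow_add, zpow_mul, h4, one_zpow, mul_one]
  have h2 : n % 4 = 0 ∨ n % 4 = 1 ∨ n % 4 = 2 ∨ n % 4 = 3 := by omega
  rw [h1]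
  rcases h2 with h2 | h2 | h2 | h2
  · left; rw [h2, zpow_zero]
  · right; left; rw [h2, zpow_one]
  · right; right; left
    rw [h2, ← F.YY]
    exact zpow_two Y
  · right; right; right
    rw [h2, ← F.YY]
    rw [show (3 : ℤ) = 1 + 1 + 1 by norm_num, zpow_add, zpow_add, zpow_one, mul_assoc]

theorem square {c : G} (hc : c ∈ Subgroup.zpowers Y) (h : c * c = z) : c = Y ∨ c = Y * z := by
  rcases F.cases hc with rfl | rfl | rfl | rfl
  · exact absurd (by rw [← h, mul_one]) F.z1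
  · exact Or.inl rfl
  · exact absurd (by rw [F.zz] at h; exact h.symm) F.z1
  · exact Or.inr rfl

theorem Y_ne : Y ≠ 1 := by
  intro h
  apply F.z1
  rw [← F.YY, h, mul_one]

/-- products of two odd elements -/
theorem odd_mul {c d : G} (hc : c ∈ Subgroup.zpowers Y) (hd : d ∈ Subgroup.zpowers Y) (h : c * c = z) (h' : d * d = z) :
    c * d = 1 ∨ c * d = z := by
  have hzY := F.zY
  rcases F.square hc h with rfl | rfl <;> rcases F.square hd h' with rfl | rfl
  · right; exact F.YY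
  · left; rw [← mul_assoc, F.YY, F.zz]
  · left; rw [mul_assoc, hzY, ← mul_assoc, F.YY, F.zz]
  · right
    calc Y * z * (Y * z) = Y * (z * Y) * z := by group
      _ = (Y * Y) * (z * z) := by rw [hzY]; group
      _ = z := by rw [F.YY, F.zz, mul_one]

theorem w_inv (u : ι) : (w u)⁻¹ = w u := inv_eq_of_mul_eq_one_left (F.ww u)

theorem yi_w (u : ι) : (y u)⁻¹ * w u * y u = w u := by
  rw [mul_assoc, ← F.yw, inv_mul_cancel_left]

theorem yw' (u : ι) : y u * w u * (y u)⁻¹ = w u := by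
  rw [F.yw, mul_inv_cancel_right]

theorem wz (u : ι) : w u * z = z * w u := by
  rw [← F.YY]
  rw [← mul_assoc, F.wY, mul_assoc, F.wY, mul_assoc]

theorem yz (u : ι) : y u * z = z * y u := by
  rw [← F.YY]
  rw [← mul_assoc, F.yY, mul_assoc, F.yY, mul_assoc]

theorem yiY (u : ι) : (y u)⁻¹ * Y = Y * (y u)⁻¹ := by
  rw [inv_mul_eq_iff_eq_mul, ← mul_assoc, F.yY, mul_inv_cancel_right]

/-- `w v w u ≡ w u w v` -/
theorem w_comm (u v : ι) : Md Y (w v * w u) (w u * w v) := by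
  by_cases h : v = u
  · rw [h]; exact Md.refl _
  · exact ⟨z, F.z_mem, F.cw v u h⟩

/-- the inverse of `y u` acts in the same way -/
theorem act_inv {u v : ι} (h : u ≠ v) : Md Y ((y u)⁻¹ * w v * y u) (w v * w u) := by
  obtain ⟨c, hc, e⟩ := F.act u v h
  have hy := F.yY u
  refine ⟨c⁻¹, inv_mem hc, ?_⟩
  have h1 : w v = (y u)⁻¹ * (w v * w u * c) * y u := by rw [← e]; group
  have h2 : c * y u = y u * c := (comm_zp hy hc).symm
  have h3 : w v = (y u)⁻¹ * w v * y u * w u * c := by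
    calc w v = (y u)⁻¹ * w v * w u * (c * y u) := h1.trans (by group)
      _ = ((y u)⁻¹ * w v * y u) * ((y u)⁻¹ * w u * y u) * c := by rw [h2]; group
      _ = _ := by rw [F.yi_w]
  have h4 : w u * c = c * w u := comm_zp (F.wY u) hc
  have h5 : (y u)⁻¹ * w v * y u = w v * c⁻¹ * w u := by
    conv_rhs => rw [h3]
    have := F.ww u
    calc (y u)⁻¹ * w v * y u = (y u)⁻¹ * w v * y u * (w u * w u) := by rw [this, mul_one]
      _ = _ := by group
  have h6 : w u * c⁻¹ = c⁻¹ * w u := comm_zp (F.wY u) (inv_mem hc)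
  rw [h5, mul_assoc, ← h6, ← mul_assoc]

/-- `g_ij` -/
def gg (y : ι → G) (i j : ι) : G := y i * y j * (y i)⁻¹

theorem gg_Y (i j : ι) : gg y i j * Y = Y * gg y i j := by
  unfold gg
  calc y i * y j * (y i)⁻¹ * Y = y i * y j * ((y i)⁻¹ * Y) := by group
    _ = y i * (y j * Y) * (y i)⁻¹ := by rw [F.yiY]; group
    _ = (y i * Y) * y j * (y i)⁻¹ := by rw [F.yY]; group
    _ = _ := by rw [F.yY]; group

theorem gg_conj (i j : ι) (v : G) : gg y i j * v * (gg y i j)⁻¹ =
    y i * (y j * ((y i)⁻¹ * v * y i) * (y j)⁻¹) * (y i)⁻¹ := by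
  unfold gg; group

/-- `g_ij` fixes the other lines -/
theorem gg_fix {i j u : ι} (hij : i ≠ j) (hiu : i ≠ u) (hju : j ≠ u) : Md Y (gg y i j * w u * (gg y i j)⁻¹) (w u) := by
  rw [F.gg_conj]
  have s1 := F.act_inv hiu
  have s2 := (s1.conj (F.yY j))
  have s3 : Md Y (y j * (w u * w i) * (y j)⁻¹) (w u * w i) := by
    have e : y j * (w u * w i) * (y j)⁻¹ = (y j * w u * (y j)⁻¹) * (y j * w i * (y j)⁻¹) := by group
    rw [e]
    have hY : w i * w j * Y = Y * (w i * w j) := by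
      rw [mul_assoc, F.wY, ← mul_assoc, F.wY, mul_assoc]
    refine ((F.act j u hju).mul (F.act j i hij.symm) hY).trans ?_
    -- `w u w j w i w j ≡ w u w i`
    have e2 : w u * w j * (w i * w j) = w u * (w j * w i * w j) := by group
    rw [e2, F.cw j i hij.symm]
    refine ⟨z, F.z_mem, ?_⟩
    calc w u * (w i * w j * z * w j) = w u * w i * (w j * (z * w j)) := by group
      _ = w u * w i * (w j * w j) * z := by rw [← F.wz]; group
      _ = _ := by rw [F.ww, mul_one]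
  refine ((s2.trans s3).conj (F.yY i)).trans ?_
  have e : y i * (w u * w i) * (y i)⁻¹ = (y i * w u * (y i)⁻¹) * (y i * w i * (y i)⁻¹) := by group
  rw [e, F.yw']
  refine ((F.act i u hiu).mul (Md.refl (w i)) (F.wY i)).trans (Md.of_eq ?_)
  rw [mul_assoc, F.ww, mul_one]

/-- `g_ij` maps `w i` to `w j` -/
theorem gg_i {i j : ι} (hij : i ≠ j) : Md Y (gg y i j * w i * (gg y i j)⁻¹) (w j) := by
  rw [F.gg_conj, F.yi_w]
  refine ((F.act j i hij.symm).conj (F.yY i)).trans ?_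
  have e : y i * (w i * w j) * (y i)⁻¹ = (y i * w i * (y i)⁻¹) * (y i * w j * (y i)⁻¹) := by group
  rw [e, F.yw']
  have hY : w j * w i * Y = Y * (w j * w i) := by
    rw [mul_assoc, F.wY, ← mul_assoc, F.wY, mul_assoc]
  refine ((Md.refl (w i)).mul (F.act i j hij) hY).trans ?_
  refine ⟨z, F.z_mem, ?_⟩
  rw [← mul_assoc, F.cw i j hij]
  calc w j * w i * z * w i = w j * (w i * (z * w i)) := by group
    _ = w j * (w i * w i) * z := by rw [← F.wz]; group
    _ = _ := by rw [F.ww, mul_one]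

/-- `g_ij` maps `w j` to `w i` -/
theorem gg_j {i j : ι} (hij : i ≠ j) : Md Y (gg y i j * w j * (gg y i j)⁻¹) (w i) := by
  rw [F.gg_conj]
  have s1 := (F.act_inv hij).conj (F.yY j)
  have s2 : Md Y (y j * (w j * w i) * (y j)⁻¹) (w i) := by
    have e : y j * (w j * w i) * (y j)⁻¹ = (y j * w j * (y j)⁻¹) * (y j * w i * (y j)⁻¹) := by group
    rw [e, F.yw']
    have hY : w i * w j * Y = Y * (w i * w j) := by
      rw [mul_assoc, F.wY, ← mul_assoc, F.wY, mul_assoc]
    refine ((Md.refl (w j)).mul (F.act j i hij.symm) hY).trans ?_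
    refine ⟨z, F.z_mem, ?_⟩
    rw [← mul_assoc, F.cw j i hij.symm]
    calc w i * w j * z * w j = w i * (w j * (z * w j)) := by group
      _ = w i * (w j * w j) * z := by rw [← F.wz]; group
      _ = _ := by rw [F.ww, mul_one]
  refine ((s1.trans s2).conj (F.yY i)).trans (Md.of_eq (F.yw' i))

/-- action of `g_ij` on `t` -/
theorem gg_t {i j : ι} (hij : i ≠ j) : ∃ c ∈ Subgroup.zpowers Y, c * c = z ∧ gg y i j * t * (gg y i j)⁻¹ = t * c := by
  obtain ⟨c, hc, e⟩ := F.act j i hij.symm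
  have hwc : w i * w j * c = c * (w i * w j) := by
    have h1 := comm_zp (F.wY i) hc
    have h2 := comm_zp (F.wY j) hc
    rw [mul_assoc, h2, ← mul_assoc, h1, mul_assoc]
  -- `c² = z`
  have hcc : c * c = z := by
    have h1 : (w i * w j * c) * (w i * w j * c) = 1 := by
      rw [← e]
      have := F.ww i
      calc y j * w i * (y j)⁻¹ * (y j * w i * (y j)⁻¹) = y j * (w i * w i) * (y j)⁻¹ := by group
        _ = 1 := by rw [this]; group
    have h2 : (w i * w j) * (w i * w j) = z := by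
      calc (w i * w j) * (w i * w j) = (w i * w j) * w i * w j := by group
        _ = w j * w i * z * w i * w j := by rw [F.cw i j hij]
        _ = w j * (w i * (z * w i)) * w j := by group
        _ = w j * ((w i * w i) * z) * w j := by rw [← F.wz]; group
        _ = w j * (z * w j) := by rw [F.ww]; group
        _ = (w j * w j) * z := by rw [← F.wz]; group
        _ = z := by rw [F.ww, one_mul]
    have h3 : (w i * w j) * (w i * w j) * (c * c) = 1 := by
      calc (w i * w j) * (w i * w j) * (c * c) = (w i * w j) * ((w i * w j) * c) * c := by group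
        _ = (w i * w j) * (c * (w i * w j)) * c := by rw [hwc]
        _ = 1 := by rw [← h1]; group
    rw [h2] at h3
    have h4 := F.zz
    exact mul_left_cancel (h3.trans h4.symm)
  refine ⟨z * c, mul_mem F.z_mem hc, ?_, ?_⟩
  · have hzc : z * c = c * z := comm_zp F.zY hc
    calc z * c * (z * c) = (z * c) * z * c := by group
      _ = c * (z * z) * c := by rw [hzc]; group
      _ = z := by rw [F.zz, mul_one, hcc]
  · rw [F.gg_conj]
    -- first step
    have h1 : (y i)⁻¹ * t * y i = t * w i := by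
      have h2 := F.yt i
      have h3 : t * w i = (y i) * t * (y i)⁻¹ := h2.symm
      have h4 : y i * (t * w i) * (y i)⁻¹ = t := by
        calc y i * (t * w i) * (y i)⁻¹ = (y i * t * (y i)⁻¹) * (y i * w i * (y i)⁻¹) := by group
          _ = t * w i * w i := by rw [h2, F.yw']
          _ = t := by rw [mul_assoc, F.ww, mul_one]
      calc (y i)⁻¹ * t * y i = (y i)⁻¹ * (y i * (t * w i) * (y i)⁻¹) * y i := by rw [h4]
        _ = t * w i := by group
    have h5 : y j * (t * w i) * (y j)⁻¹ = t * w i * z * c := by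
      calc y j * (t * w i) * (y j)⁻¹ = (y j * t * (y j)⁻¹) * (y j * w i * (y j)⁻¹) := by group
        _ = t * w j * (w i * w j * c) := by rw [F.yt, e]
        _ = t * (w j * w i * w j) * c := by group
        _ = t * (w i * w j * z * w j) * c := by rw [F.cw j i hij.symm]
        _ = t * w i * (w j * (z * w j)) * c := by group
        _ = t * w i * ((w j * w j) * z) * c := by rw [← F.wz]; group
        _ = _ := by rw [F.ww, one_mul]
    have hyc : y i * (z * c) = (z * c) * y i := comm_zp (F.yY i) (mul_mem F.z_mem hc)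
    rw [h1, h5]
    calc y i * (t * w i * z * c) * (y i)⁻¹ = (y i * t * (y i)⁻¹) * (y i * w i * (y i)⁻¹) * (y i * (z * c)) * (y i)⁻¹ := by
          group
      _ = t * w i * w i * (z * c * y i) * (y i)⁻¹ := by rw [F.yt, F.yw', hyc]
      _ = t * (w i * w i) * (z * c) := by group
      _ = t * (z * c) := by rw [F.ww, mul_one]

/-- **The element `g`.** -/
theorem exists_g {i j k l : ι} (hij : i ≠ j) (hik : i ≠ k) (hil : i ≠ l) (hjk : j ≠ k) (hjl : j ≠ l) (hkl : k ≠ l) :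
    ∃ g : G, g * t = t * g ∧ g * Y = Y * g ∧ Md Y (g * w i * g⁻¹) (w j) ∧ Md Y (g * w j * g⁻¹) (w i) ∧
      ∀ u, u ≠ i → u ≠ j → u ≠ k → u ≠ l → Md Y (g * w u * g⁻¹) (w u) := by
  obtain ⟨c, hc, hcc, ec⟩ := F.gg_t hij
  obtain ⟨d, hd, hdd, ed⟩ := F.gg_t hkl
  set g1 := gg y i j with hg1
  set g2 := gg y k l with hg2
  have Y1 : g1 * Y = Y * g1 := F.gg_Y i j
  have Y2 : g2 * Y = Y * g2 := F.gg_Y k l
  have et : g1 * g2 * t * (g1 * g2)⁻¹ = t * (c * d) := by
    calc g1 * g2 * t * (g1 * g2)⁻¹ = g1 * (g2 * t * g2⁻¹) * g1⁻¹ := by group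
      _ = (g1 * t * g1⁻¹) * (g1 * d) * g1⁻¹ := by rw [ed]; group
      _ = t * c * (d * g1) * g1⁻¹ := by rw [ec, comm_zp Y1 hd]
      _ = _ := by group
  have conj2 : ∀ v : G, g1 * g2 * v * (g1 * g2)⁻¹ = g1 * (g2 * v * g2⁻¹) * g1⁻¹ := fun v => by group
  have ai : Md Y (g1 * g2 * w i * (g1 * g2)⁻¹) (w j) := by
    rw [conj2]
    exact ((F.gg_fix hkl hik.symm hil.symm).conj Y1).trans (F.gg_i hij)
  have aj : Md Y (g1 * g2 * w j * (g1 * g2)⁻¹) (w i) := by
    rw [conj2]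
    exact ((F.gg_fix hkl hjk.symm hjl.symm).conj Y1).trans (F.gg_j hij)
  have au : ∀ u, u ≠ i → u ≠ j → u ≠ k → u ≠ l → Md Y (g1 * g2 * w u * (g1 * g2)⁻¹) (w u) := by
    intro u h1 h2 h3 h4
    rw [conj2]
    exact ((F.gg_fix hkl h3.symm h4.symm).conj Y1).trans (F.gg_fix hij h1.symm h2.symm)
  have Y12 : g1 * g2 * Y = Y * (g1 * g2) := by rw [mul_assoc, Y2, ← mul_assoc, Y1, mul_assoc]
  rcases F.odd_mul hc hd hcc hdd with h1 | h1
  · refine ⟨g1 * g2, ?_, Y12, ai, aj, au⟩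
    rw [h1, mul_one] at et
    rwa [mul_inv_eq_iff_eq_mul] at et
  · -- multiply by `Y`
    rw [h1] at et
    have eY : Y * t * Y⁻¹ = t * z := by
      have h2 : Y * t = t * Y⁻¹ := by
        have := F.tY
        calc Y * t = Y * (t * Y) * Y⁻¹ := by group
          _ = t * Y⁻¹ := by rw [this]; group
      calc Y * t * Y⁻¹ = t * Y⁻¹ * Y⁻¹ := by rw [h2]
        _ = t * (Y * Y)⁻¹ := by group
        _ = t * z := by rw [F.YY, inv_eq_of_mul_eq_one_left F.zz]
    have wconj : ∀ u, Y * w u * Y⁻¹ = w u := fun u => by rw [← F.wY, mul_inv_cancel_right]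
    have cj : ∀ u, g1 * g2 * Y * w u * (g1 * g2 * Y)⁻¹ = g1 * g2 * w u * (g1 * g2)⁻¹ := fun u => by
      calc g1 * g2 * Y * w u * (g1 * g2 * Y)⁻¹ = g1 * g2 * (Y * w u * Y⁻¹) * (g1 * g2)⁻¹ := by group
        _ = _ := by rw [wconj]
    refine ⟨g1 * g2 * Y, ?_, ?_, ?_, ?_, ?_⟩
    · have hz : g1 * g2 * z = z * (g1 * g2) := by
        rw [← F.YY, ← mul_assoc, Y12, mul_assoc, Y12, ← mul_assoc]
      have h3 : g1 * g2 * Y * t * (g1 * g2 * Y)⁻¹ = t := by
        calc g1 * g2 * Y * t * (g1 * g2 * Y)⁻¹ = g1 * g2 * (Y * t * Y⁻¹) * (g1 * g2)⁻¹ := by group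
          _ = (g1 * g2 * t * (g1 * g2)⁻¹) * (g1 * g2 * z) * (g1 * g2)⁻¹ := by rw [eY]; group
          _ = t * z * (z * (g1 * g2)) * (g1 * g2)⁻¹ := by rw [et, hz]
          _ = t * (z * z) := by group
          _ = t := by rw [F.zz, mul_one]
      rwa [mul_inv_eq_iff_eq_mul] at h3
    · rw [Y12, mul_assoc, Y12]
    · rw [cj]; exact ai
    · rw [cj]; exact aj
    · intro u h1 h2 h3 h4
      rw [cj]
      exact au u h1 h2 h3 h4

/-- odd powers -/
theorem exists_two [Finite G] {i j k l : ι} (hij : i ≠ j) (hik : i ≠ k) (hil : i ≠ l) (hjk : j ≠ k) (hjl : j ≠ l)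
    (hkl : k ≠ l) :
    ∃ g : G, g * t = t * g ∧ g * z = z * g ∧ (∃ m : ℕ, g ^ 2 ^ m = 1) ∧ Md Y (g * w i * g⁻¹) (w j) ∧
      ∀ u, u ≠ i → u ≠ j → u ≠ k → u ≠ l → Md Y (g * w u * g⁻¹) (w u) := by
  obtain ⟨g, gt, gY, gi, gj, gu⟩ := F.exists_g hij hik hil hjk hjl hkl
  obtain ⟨m, n, hn, e⟩ := Nat.exists_eq_two_pow_mul_odd (orderOf_pos g).ne'
  have hpow : ∀ r : ℕ, g ^ r * Y = Y * g ^ r := fun r => ((show Commute g Y from gY).pow_left r).eq
  have stepc : ∀ (r : ℕ) (v : G), g ^ (r + 1) * v * (g ^ (r + 1))⁻¹ = g * (g ^ r * v * (g ^ r)⁻¹) * g⁻¹ := by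
    intro r v
    rw [pow_succ']; group
  have hodd : ∀ r : ℕ, Md Y (g ^ (2 * r + 1) * w i * (g ^ (2 * r + 1))⁻¹) (w j) := by
    intro r
    induction r with
    | zero => simpa using gi
    | succ r ih =>
      rw [show 2 * (r + 1) + 1 = (2 * r + 1 + 1) + 1 by ring, stepc, stepc]
      exact (((ih.conj gY).trans gj).conj gY).trans gi
  have hfix : ∀ u, u ≠ i → u ≠ j → u ≠ k → u ≠ l → ∀ r : ℕ, Md Y (g ^ r * w u * (g ^ r)⁻¹) (w u) := by
    intro u h1 h2 h3 h4 r
    induction r with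
    | zero => simpa using Md.refl (w u)
    | succ r ih =>
      rw [stepc]
      exact (ih.conj gY).trans (gu u h1 h2 h3 h4)
  obtain ⟨r, hr⟩ := hn
  refine ⟨g ^ n, ((show Commute g t from gt).pow_left n).eq, ?_, ⟨m, ?_⟩, ?_, fun u h1 h2 h3 h4 => hfix u h1 h2 h3 h4 n⟩
  · rw [← F.YY, ← mul_assoc, hpow, mul_assoc, hpow, ← mul_assoc]
  · rw [← pow_mul, mul_comm, ← e, pow_orderOf_eq_one]
  · rw [hr]
    exact hodd r

end Fam

end Core

end Cfsg.Agent.TriTwo.Kappa
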