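import Cfsg.Agent.StdRank2.HexU
import Cfsg.Agent.TriTwo.Env

/-!
# S1778, type `³D₄(2)`, piece [A]: the facts inside `P₁`, first part

Arcs, the centre, commutators in `Q₁`, the decomposition `P₁ = U T ∪ U T n₁ X₁`.
-/

set_option autoImplicit false

namespace Cfsg.Agent.TriTwo.PF

open Cfsg.Agent.StdRank2.Hex Cfsg.Agent.SplitTwo
open Cfsg.Agent.StdRank2.Hex.HexTwo (ok1 ok3 ok5)
open Cfsg.Agent.TriTwo
open scoped commutatorElement

section Sets

variable {E : Type*} [Field E] (σ : E ≃+* E) {G : Type*} [Group G] (x : ZMod 12 → E → G)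

theorem gens_eq (S : Set (ZMod 12)) : gens σ x S = gen σ x S := rfl

theorem set4 : ({4} : Set (ZMod 12)) = arc 4 1 := by
  ext l
  rw [Set.mem_singleton_iff, mem_arc]
  revert l; decide

theorem set_Q1 : ({2, 3, 4, 5, 6} : Set (ZMod 12)) = arc 2 5 := by
  ext l
  simp only [Set.mem_insert_iff, Set.mem_singleton_iff, mem_arc]
  revert l; decide

theorem set_Q2 : ({1, 2, 3, 4, 5} : Set (ZMod 12)) = arc 1 5 := by
  ext l
  simp only [Set.mem_insert_iff, Set.mem_singleton_iff, mem_arc]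
  revert l; decide

theorem set_Us : ({1, 2, 3, 4, 5, 6} : Set (ZMod 12)) = arc 1 6 := by
  ext l
  simp only [Set.mem_insert_iff, Set.mem_singleton_iff, mem_arc]
  revert l; decide

theorem set_P1 : ({1, 2, 3, 4, 5, 6, 7} : Set (ZMod 12)) = arc 1 7 := by
  ext l
  simp only [Set.mem_insert_iff, Set.mem_singleton_iff, mem_arc]
  revert l; decide

theorem Zs_eq : Zs σ x = gen σ x {4} := rfl
theorem Q1_eq : Q1 σ x = gen σ x (arc 2 5) := by rw [Q1, gens_eq, set_Q1]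
theorem Q2_eq : Q2 σ x = gen σ x (arc 1 5) := by rw [Q2, gens_eq, set_Q2]
theorem Us_eq : Us σ x = gen σ x (arc 1 6) := by rw [Us, gens_eq, set_Us]
theorem P1_eq : P1 σ x = gen σ x (arc 1 7) := by rw [P1, gens_eq, set_P1]

variable {σ x}

theorem x_mem_Q1 {k : ZMod 12} (hk : (k - 2).val < 5) {a : E} (ha : Ok σ k a) : x k a ∈ Q1 σ x := by
  rw [Q1_eq]; exact x_mem_gen hk ha

theorem x_mem_Us {k : ZMod 12} (hk : (k - 1).val < 6) {a : E} (ha : Ok σ k a) : x k a ∈ Us σ x := by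
  rw [Us_eq]; exact x_mem_gen hk ha

theorem x_mem_P1 {k : ZMod 12} (hk : (k - 1).val < 7) {a : E} (ha : Ok σ k a) : x k a ∈ P1 σ x := by
  rw [P1_eq]; exact x_mem_gen hk ha

theorem x4_mem_Zs {a : E} (ha : σ a = a) : x 4 a ∈ Zs σ x := by
  rw [Zs_eq]; exact x_mem_gen (Set.mem_singleton _) (ok_of_fix _ ha)

theorem Q1_le_Us : Q1 σ x ≤ Us σ x := by
  rw [Q1_eq, Us_eq]
  exact gen_mono (arc_succ_sub (k := 1) (n := 5) (by norm_num))

theorem Us_le_P1 : Us σ x ≤ P1 σ x := by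
  rw [P1_eq, Us_eq]
  exact gen_mono (arc_mono (by norm_num))

theorem nn1_mem_P1 : nn x 1 ∈ P1 σ x :=
  mul_mem (mul_mem (x_mem_P1 (by decide) (ok_one σ _)) (x_mem_P1 (by decide) (ok_one σ _)))
    (x_mem_P1 (by decide) (ok_one σ _))

theorem hh1_mem_P1 (s : E) : hh x 1 s ∈ P1 σ x := by
  refine mul_mem (mul_mem (mul_mem (x_mem_P1 (by decide) (ok_odd (by decide) _))
    (x_mem_P1 (by decide) (ok_odd (by decide) _))) (x_mem_P1 (by decide) (ok_odd (by decide) _))) nn1_mem_P1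

end Sets

section Hex

variable {E : Type*} [Field E] {σ : E ≃+* E} {G : Type*} [Group G] {x : ZMod 12 → E → G} (h : HexTwo σ x)

include h

theorem mem_Zs {g : G} : g ∈ Zs σ x ↔ ∃ t, σ t = t ∧ g = x 4 t := by
  rw [Zs_eq, h.mem_gen_singleton]
  constructor
  · rintro ⟨a, ha, e⟩
    exact ⟨a, ha (by decide), e⟩
  · rintro ⟨a, ha, e⟩
    exact ⟨a, ok_of_fix _ ha, e⟩

/-- `Z` is central in `P₁` -/
theorem x4_comm {t : E} (ht : σ t = t) {k : ZMod 12} (hk : (k - 1).val < 7) {a : E} (ha : Ok σ k a) :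
    Commute (x 4 t) (x k a) := by
  have hk' : k = 1 ∨ k = 2 ∨ k = 3 ∨ k = 4 ∨ k = 5 ∨ k = 6 ∨ k = 7 := by
    revert k
    have : ∀ k : ZMod 12, (k - 1).val < 7 → k = 1 ∨ k = 2 ∨ k = 3 ∨ k = 4 ∨ k = 5 ∨ k = 6 ∨ k = 7 := by decide
    intro k hk _
    exact this k hk
  rcases hk' with rfl | rfl | rfl | rfl | rfl | rfl | rfl
  · have := h.commS3 (k := 1) (by decide) a ht
    rw [show (1 : ZMod 12) + 3 = 4 from rfl, commutatorElement_eq_one_iff_commute] at this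
    exact this.symm
  · have := h.commL2 (k := 2) (by decide) (ha (by decide)) ht
    rw [show (2 : ZMod 12) + 2 = 4 from rfl, commutatorElement_eq_one_iff_commute] at this
    exact this.symm
  · have := h.commS1 (k := 3) (by decide) a ht
    rw [show (3 : ZMod 12) + 1 = 4 from rfl, commutatorElement_eq_one_iff_commute] at this
    exact this.symm
  · exact h.x_comm_same (ok_of_fix _ ht) ha
  · have := h.commL1 (k := 4) (by decide) ht a
    rw [show (4 : ZMod 12) + 1 = 5 from rfl, commutatorElement_eq_one_iff_commute] at this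
    exact this
  · have := h.commL2 (k := 4) (by decide) ht (ha (by decide))
    rw [show (4 : ZMod 12) + 2 = 6 from rfl, commutatorElement_eq_one_iff_commute] at this
    exact this
  · have := h.commL3 (k := 4) (by decide) ht a
    rw [show (4 : ZMod 12) + 3 = 7 from rfl, commutatorElement_eq_one_iff_commute] at this
    exact this

theorem Zs_comm {z p : G} (hz : z ∈ Zs σ x) (hp : p ∈ P1 σ x) : z * p = p * z := by
  obtain ⟨t, ht, rfl⟩ := (mem_Zs h).1 hz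
  rw [P1_eq] at hp
  have key : gen σ x (arc 1 7) ≤ Subgroup.centralizer {x 4 t} := gen_le fun k hk a ha => by
    rw [Subgroup.mem_centralizer_iff]
    intro y hy
    rw [Set.mem_singleton_iff] at hy
    subst hy
    exact x4_comm h ht hk ha
  have := key hp
  rw [Subgroup.mem_centralizer_iff] at this
  exact this _ rfl

/-- commutators of root elements in `Q₁` -/
theorem comm_x_Zs {k l : ZMod 12} (hk : (k - 2).val < 5) (hl : (l - 2).val < 5) {a b : E} (ha : Ok σ k a)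
    (hb : Ok σ l b) : ⁅x k a, x l b⁆ ∈ Zs σ x := by
  have key : ∀ k l : ZMod 12, (k - 2).val < 5 → (l - 2).val < 5 → ∀ a b, Ok σ k a → Ok σ l b → (l - k).val < 5 →
      ⁅x k a, x l b⁆ ∈ Zs σ x := by
    intro k l hk hl a b ha hb hkl
    have cases : k = l ∨ l = k + 1 ∨ (l = k + 3) ∨ (k = 2 ∧ l = k + 2) ∨ (k = 3 ∧ l = k + 2) ∨ (k = 4 ∧ l = k + 2) ∨
        (k = 2 ∧ l = k + 4) := by
      revert k l
      have : ∀ k l : ZMod 12, (k - 2).val < 5 → (l - 2).val < 5 → (l - k).val < 5 →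
        k = l ∨ l = k + 1 ∨ (l = k + 3) ∨ (k = 2 ∧ l = k + 2) ∨ (k = 3 ∧ l = k + 2) ∨ (k = 4 ∧ l = k + 2) ∨
        (k = 2 ∧ l = k + 4) := by decide
      intro k l hk hl _ _ hkl
      exact this k l hk hl hkl
    have par : ∀ k : ZMod 12, k.val % 2 = 0 ∨ k.val % 2 = 1 := fun k => Nat.mod_two_eq_zero_or_one _
    have p1 : ∀ k : ZMod 12, k.val % 2 = 1 → (k + 1).val % 2 = 0 := by decide
    have p3 : ∀ k : ZMod 12, k.val % 2 = 1 → (k + 3).val % 2 = 0 := by decide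
    rcases cases with rfl | rfl | rfl | ⟨rfl, rfl⟩ | ⟨rfl, rfl⟩ | ⟨rfl, rfl⟩ | ⟨rfl, rfl⟩
    · rw [(commutatorElement_eq_one_iff_commute).2 (h.x_comm_same ha hb)]
      exact one_mem _
    · rcases par k with hk0 | hk1
      · rw [h.commL1 hk0 (ha hk0) b]; exact one_mem _
      · rw [h.commS1 hk1 a (hb (p1 k hk1))]; exact one_mem _
    · rcases par k with hk0 | hk1
      · rw [h.commL3 hk0 (ha hk0) b]; exact one_mem _
      · rw [h.commS3 hk1 a (hb (p3 k hk1))]; exact one_mem _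
    · rw [h.commL2 (by decide) (ha (by decide)) (hb (by decide))]; exact one_mem _
    · rw [h.commS2 (by decide) a b]
      exact x4_mem_Zs (trc_fix h.cube a b)
    · rw [h.commL2 (by decide) (ha (by decide)) (hb (by decide))]; exact one_mem _
    · have h1 := ha (by decide)
      have h2 := hb (by decide)
      rw [h.commL4 (by decide) h1 h2]
      exact x4_mem_Zs (by rw [map_mul, h1, h2])
  have hor : (l - k).val < 5 ∨ (k - l).val < 5 := by
    revert k l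
    have : ∀ k l : ZMod 12, (k - 2).val < 5 → (l - 2).val < 5 → (l - k).val < 5 ∨ (k - l).val < 5 := by decide
    intro k l hk hl _ _
    exact this k l hk hl
  rcases hor with h1 | h1
  · exact key k l hk hl a b ha hb h1
  · rw [← commutatorElement_inv]
    exact inv_mem (key l k hl hk b a hb ha h1)

/-- `[Q₁, Q₁] ≤ Z` -/
theorem comm_Q1 {q y : G} (hq : q ∈ Q1 σ x) (hy : y ∈ Q1 σ x) : ⁅q, y⁆ ∈ Zs σ x := by
  have hQP : Q1 σ x ≤ P1 σ x := Q1_le_Us.trans Us_le_P1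
  have step : ∀ y ∈ Q1 σ x, (∀ k a, (k - 2 : ZMod 12).val < 5 → Ok σ k a → ⁅x k a, y⁆ ∈ Zs σ x) →
      ∀ q ∈ Q1 σ x, ⁅q, y⁆ ∈ Zs σ x := by
    intro y hy hgen q hq
    let K : Subgroup G :=
      { carrier := {q | q ∈ P1 σ x ∧ ⁅q, y⁆ ∈ Zs σ x}
        mul_mem' := by
          rintro a b ⟨ha, ha'⟩ ⟨hb, hb'⟩
          refine ⟨mul_mem ha hb, ?_⟩
          have e : ⁅a * b, y⁆ = a * ⁅b, y⁆ * a⁻¹ * ⁅a, y⁆ := by
            rw [commutatorElement_def, commutatorElement_def, commutatorElement_def]; group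
          rw [e, ← Zs_comm h hb' ha, mul_inv_cancel_right]
          exact mul_mem hb' ha'
        one_mem' := ⟨one_mem _, by rw [commutatorElement_one_left]; exact one_mem _⟩
        inv_mem' := by
          rintro a ⟨ha, ha'⟩
          refine ⟨inv_mem ha, ?_⟩
          have e : ⁅a⁻¹, y⁆ = a⁻¹ * ⁅a, y⁆⁻¹ * a := by
            rw [commutatorElement_def, commutatorElement_def]; group
          rw [e, ← Zs_comm h (inv_mem ha') (inv_mem ha), inv_mul_cancel_right]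
          exact inv_mem ha' }
    have : Q1 σ x ≤ K := by
      rw [Q1_eq]
      exact gen_le fun k hk a ha => ⟨hQP (x_mem_Q1 hk ha), hgen k a hk ha⟩
    exact (this hq).2
  refine step y hy (fun k a hk ha => ?_) q hq
  rw [← commutatorElement_inv]
  refine inv_mem (step (x k a) (x_mem_Q1 hk ha) (fun l b hl hb => comm_x_Zs h hl hk hb ha) y hy)

/-- `Q₁` is normal in `P₁` -/
theorem P1_conj_Q1 {p q : G} (hp : p ∈ P1 σ x) (hq : q ∈ Q1 σ x) : p * q * p⁻¹ ∈ Q1 σ x := by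
  rw [P1_eq] at hp
  rw [Q1_eq] at hq ⊢
  have key : ∀ p ∈ gen σ x (arc 1 7), ∀ q ∈ gen σ x (arc 2 5), p * q * p⁻¹ ∈ gen σ x (arc 2 5) := by
    intro p hp
    let K : Subgroup G :=
      { carrier := {p | (∀ q ∈ gen σ x (arc 2 5), p * q * p⁻¹ ∈ gen σ x (arc 2 5)) ∧
          ∀ q ∈ gen σ x (arc 2 5), p⁻¹ * q * p ∈ gen σ x (arc 2 5)}
        mul_mem' := by
          rintro a b ⟨ha, ha'⟩ ⟨hb, hb'⟩
          refine ⟨fun q hq => ?_, fun q hq => ?_⟩
          · have := ha _ (hb q hq)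
            have e : a * b * q * (a * b)⁻¹ = a * (b * q * b⁻¹) * a⁻¹ := by group
            rwa [e]
          · have := hb' _ (ha' q hq)
            have e : (a * b)⁻¹ * q * (a * b) = b⁻¹ * (a⁻¹ * q * a) * b := by group
            rwa [e]
        one_mem' := ⟨fun q hq => by simpa using hq, fun q hq => by simpa using hq⟩
        inv_mem' := by
          rintro a ⟨ha, ha'⟩
          refine ⟨fun q hq => ?_, fun q hq => ?_⟩
          · have := ha' q hq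
            rwa [inv_inv]
          · have := ha q hq
            rwa [inv_inv] }
    have : gen σ x (arc 1 7) ≤ K := gen_le fun k hk a ha => by
      have hc : ∀ q ∈ gen σ x (arc 2 5), x k a * q * (x k a)⁻¹ ∈ gen σ x (arc 2 5) := by
        intro q hq
        have hk' : k = 1 ∨ k ∈ arc (2 : ZMod 12) 5 ∨ k = 7 := by
          have : ∀ k : ZMod 12, (k - 1).val < 7 → k = 1 ∨ (k - 2).val < 5 ∨ k = 7 := by decide
          exact this k hk
        rcases hk' with rfl | hk' | rfl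
        · exact h.conj_first (k := 1) (n := 5) (by norm_num) ha hq
        · exact mul_mem (mul_mem (x_mem_gen hk' ha) hq) (inv_mem (x_mem_gen hk' ha))
        · exact h.conj_last (k := 2) (n := 5) (by norm_num) ha hq
      refine ⟨hc, fun q hq => ?_⟩
      have := hc q hq
      rw [h.x_inv ha] at this ⊢
      exact this
    exact (this hp).1
  exact key p hp q hq

/-- `Q₂` is normalised by `U` -/
theorem Us_conj_Q2 {p q : G} (hp : p ∈ Us σ x) (hq : q ∈ Q2 σ x) : p * q * p⁻¹ ∈ Q2 σ x := by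
  rw [Us_eq] at hp
  rw [Q2_eq] at hq ⊢
  obtain ⟨v, hv, b, hb, rfl⟩ := (h.mem_gen_last (k := 1) (n := 5) (by norm_num)).1 hp
  have h1 := h.conj_last (k := 1) (n := 5) (by norm_num) hb hq
  have e : v * x (1 + ((5 : ℕ) : ZMod 12)) b * q * (v * x (1 + ((5 : ℕ) : ZMod 12)) b)⁻¹ =
    v * (x (1 + ((5 : ℕ) : ZMod 12)) b * q * (x (1 + ((5 : ℕ) : ZMod 12)) b)⁻¹) * v⁻¹ := by group
  rw [e]
  exact mul_mem (mul_mem hv h1) (inv_mem hv)

/-- action of `hh x 1 s` -/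
theorem hh1_act {s : E} (hs : s ≠ 0) (j : ZMod 12) {a : E} (ha : Ok σ j a) :
    hh x 1 s * x j a * (hh x 1 s)⁻¹ = x j (chS σ (j - 1) s * a) := h.tor1 s hs j a ha

theorem hh1_conj_gen {s : E} (hs : s ≠ 0) (S : Set (ZMod 12)) {y : G} (hy : y ∈ gen σ x S) :
    hh x 1 s * y * (hh x 1 s)⁻¹ ∈ gen σ x S := by
  refine conj_gen (fun l hl a ha => ?_) hy
  rw [hh1_act h hs l ha]
  refine x_mem_gen hl (Ok.mul ?_ ha)
  have := ok_ch h.cube (1 : ZMod 12) (l - 1) (ok_odd (k := (1 : ZMod 12)) (σ := σ) (by decide) s)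
  rw [add_sub_cancel] at this
  exact this

variable [Finite E]

theorem hh1_inv {s : E} (hs : s ≠ 0) : (hh x 1 s)⁻¹ = hh x 1 s⁻¹ := h.hh_inv 1 hs (ok1 s)

theorem hh1_conj_gen' {s : E} (hs : s ≠ 0) (S : Set (ZMod 12)) {y : G} (hy : y ∈ gen σ x S) :
    (hh x 1 s)⁻¹ * y * hh x 1 s ∈ gen σ x S := by
  have := hh1_conj_gen h (inv_ne_zero hs) S hy
  rw [← hh1_inv h hs, inv_inv] at this
  exact this

omit [Finite E] in
theorem nn1_hh1 {s : E} (hs : s ≠ 0) : nn x 1 * hh x 1 s = hh x 1 s⁻¹ * nn x 1 := by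
  have h1 := h.conj_nn_hh 1 1 (ok1 s)
  rw [show (2 : ZMod 12) * 1 + 6 - 1 = 1 + 6 by ring, h.hh_opp 1 hs (ok1 s), mul_inv_eq_iff_eq_mul] at h1
  exact h1

omit [Finite E] in
theorem x1_hh1 {s : E} (hs : s ≠ 0) (a : E) : hh x 1 s * x 1 a = x 1 (s ^ 2 * a) * hh x 1 s := by
  have h1 := hh1_act h hs 1 (ok1 a)
  rw [mul_inv_eq_iff_eq_mul] at h1
  exact h1

theorem hh1_x1 {s : E} (hs : s ≠ 0) (a : E) : x 1 a * hh x 1 s = hh x 1 s * x 1 ((s⁻¹) ^ 2 * a) := by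
  rw [x1_hh1 h hs]
  congr 2
  field_simp

omit [Finite E] in
theorem x7_eq (a : E) : x (1 + 6) a = x 1 a⁻¹ * hh x 1 a⁻¹ * nn x 1 * x 1 a⁻¹ := by
  have h2 := h.x_sq (ok1 (σ := σ) a⁻¹)
  have e : hh x 1 a⁻¹ * nn x 1 = x 1 a⁻¹ * x (1 + 6) a * x 1 a⁻¹ := by
    rw [h.hh_mul_nn, nt, inv_inv]
  rw [mul_assoc (x 1 a⁻¹), e]
  calc x (1 + 6) a = 1 * x (1 + 6) a * 1 := by group
    _ = x 1 a⁻¹ * x 1 a⁻¹ * x (1 + 6) a * (x 1 a⁻¹ * x 1 a⁻¹) := by rw [h2]
    _ = _ := by group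

/-- **Decomposition of `P₁`.** -/
theorem P1_decomp {p : G} (hp : p ∈ P1 σ x) : ∃ q ∈ Q1 σ x, ∃ a s : E, s ≠ 0 ∧
    (p = q * (x 1 a * hh x 1 s) ∨ ∃ c : E, p = q * (x 1 a * hh x 1 s * nn x 1 * x 1 c)) := by
  -- the rank one group
  let L0 : Set G := {g | ∃ a s : E, s ≠ 0 ∧ (g = x 1 a * hh x 1 s ∨ ∃ c : E, g = x 1 a * hh x 1 s * nn x 1 * x 1 c)}
  have one_L0 : (1 : G) ∈ L0 := ⟨0, 1, one_ne_zero, Or.inl (by rw [h.x_zero, h.hh_one, mul_one])⟩
  have x1_L0 : ∀ b, ∀ g ∈ L0, x 1 b * g ∈ L0 := by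
    rintro b g ⟨a, s, hs, rfl | ⟨c, rfl⟩⟩
    · refine ⟨b + a, s, hs, Or.inl ?_⟩
      rw [h.add 1 b a (ok1 b) (ok1 a), mul_assoc]
    · refine ⟨b + a, s, hs, Or.inr ⟨c, ?_⟩⟩
      rw [h.add 1 b a (ok1 b) (ok1 a)]
      group
  have nn_L0 : ∀ g ∈ L0, nn x 1 * g ∈ L0 := by
    rintro g ⟨a, s, hs, rfl | ⟨c, rfl⟩⟩
    · refine ⟨0, s⁻¹, inv_ne_zero hs, Or.inr ⟨(s⁻¹) ^ 2 * a, ?_⟩⟩
      rw [h.x_zero, one_mul, hh1_x1 h hs, ← mul_assoc, nn1_hh1 h hs]
    · by_cases ha : a = 0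
      · refine ⟨(s⁻¹) ^ 2 * c, s⁻¹, inv_ne_zero hs, Or.inl ?_⟩
        subst ha
        rw [h.x_zero, one_mul, ← x1_hh1 h (inv_ne_zero hs)]
        have e : nn x 1 * (hh x 1 s * nn x 1 * x 1 c) = (nn x 1 * hh x 1 s) * nn x 1 * x 1 c := by group
        rw [e, nn1_hh1 h hs, mul_assoc (hh x 1 s⁻¹) (nn x 1) (nn x 1), h.nn_sq, mul_one]
      · -- `nn x₁(a) nn = x₇(a)`
        have e7 : nn x 1 * x 1 a * nn x 1 = x (1 + 6) a := by
          have := h.refl' 1 1 (ok1 a)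
          rw [this]; congr 1
        have hr := x7_eq h a
        refine ⟨a⁻¹, a⁻¹ * s, mul_ne_zero (inv_ne_zero ha) hs, Or.inr ⟨(s⁻¹⁻¹) ^ 2 * a⁻¹ + c, ?_⟩⟩
        rw [h.hh_mul 1 (inv_ne_zero ha) hs (ok1 _) (ok1 _), h.add 1 _ c (ok1 _) (ok1 _)]
        calc nn x 1 * (x 1 a * hh x 1 s * nn x 1 * x 1 c) =
            (nn x 1 * x 1 a * nn x 1) * ((nn x 1)⁻¹ * hh x 1 s * nn x 1) * x 1 c := by group
          _ = x (1 + 6) a * hh x 1 s⁻¹ * x 1 c := by
            rw [e7, h.nn_inv, nn1_hh1 h hs, mul_assoc (hh x 1 s⁻¹), h.nn_sq, mul_one]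
          _ = x 1 a⁻¹ * hh x 1 a⁻¹ * nn x 1 * (x 1 a⁻¹ * hh x 1 s⁻¹) * x 1 c := by rw [hr]; group
          _ = x 1 a⁻¹ * hh x 1 a⁻¹ * (nn x 1 * hh x 1 s⁻¹) * x 1 ((s⁻¹⁻¹) ^ 2 * a⁻¹) * x 1 c := by
            rw [hh1_x1 h (inv_ne_zero hs)]; group
          _ = _ := by rw [nn1_hh1 h (inv_ne_zero hs), inv_inv]; group
  have x7_L0 : ∀ b, ∀ g ∈ L0, x 7 b * g ∈ L0 := by
    intro b g hg
    have e7 : nn x 1 * x 1 b * nn x 1 = x 7 b := h.refl' 1 1 (ok1 b)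
    rw [← e7]
    have e : nn x 1 * x 1 b * nn x 1 * g = nn x 1 * (x 1 b * (nn x 1 * g)) := by group
    rw [e]
    exact nn_L0 _ (x1_L0 b _ (nn_L0 _ hg))
  have key : ∀ p ∈ P1 σ x, ∀ g, (∃ q ∈ Q1 σ x, ∃ l ∈ L0, g = q * l) → ∃ q ∈ Q1 σ x, ∃ l ∈ L0, p * g = q * l := by
    intro p hp
    let K : Subgroup G :=
      { carrier := {p | (∀ g, (∃ q ∈ Q1 σ x, ∃ l ∈ L0, g = q * l) → ∃ q ∈ Q1 σ x, ∃ l ∈ L0, p * g = q * l) ∧
          (∀ g, (∃ q ∈ Q1 σ x, ∃ l ∈ L0, g = q * l) → ∃ q ∈ Q1 σ x, ∃ l ∈ L0, p⁻¹ * g = q * l)}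
        mul_mem' := by
          rintro a b ⟨ha, ha'⟩ ⟨hb, hb'⟩
          refine ⟨fun g hg => ?_, fun g hg => ?_⟩
          · rw [mul_assoc]
            exact ha _ (hb _ hg)
          · rw [mul_inv_rev, mul_assoc]
            exact hb' _ (ha' _ hg)
        one_mem' := ⟨fun g hg => by rwa [one_mul], fun g hg => by rwa [inv_one, one_mul]⟩
        inv_mem' := by
          rintro a ⟨ha, ha'⟩
          exact ⟨ha', fun g hg => by rw [inv_inv]; exact ha g hg⟩ }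
    have : P1 σ x ≤ K := by
      conv_lhs => rw [P1_eq]
      refine gen_le fun k hk a ha => ?_
      have hc : ∀ g, (∃ q ∈ Q1 σ x, ∃ l ∈ L0, g = q * l) → ∃ q ∈ Q1 σ x, ∃ l ∈ L0, x k a * g = q * l := by
        rintro g ⟨q, hq, l, hl, rfl⟩
        have hk' : k = 1 ∨ (k - 2).val < 5 ∨ k = 7 := by
          have : ∀ k : ZMod 12, (k - 1).val < 7 → k = 1 ∨ (k - 2).val < 5 ∨ k = 7 := by decide
          exact this k hk
        have hkP : x k a ∈ P1 σ x := x_mem_P1 hk ha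
        rcases hk' with rfl | hk' | rfl
        · exact ⟨x 1 a * q * (x 1 a)⁻¹, P1_conj_Q1 h hkP hq, x 1 a * l, x1_L0 a l hl, by group⟩
        · exact ⟨x k a * q, mul_mem (x_mem_Q1 hk' ha) hq, l, hl, by group⟩
        · exact ⟨x 7 a * q * (x 7 a)⁻¹, P1_conj_Q1 h hkP hq, x 7 a * l, x7_L0 a l hl, by group⟩
      refine ⟨hc, fun g hg => ?_⟩
      rw [h.x_inv ha]
      exact hc g hg
    exact (this hp).1
  obtain ⟨q, hq, l, ⟨a, s, hs, hl⟩, e⟩ := key p hp 1 ⟨1, one_mem _, 1, one_L0, by group⟩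
  rw [mul_one] at e
  refine ⟨q, hq, a, s, hs, ?_⟩
  rcases hl with rfl | ⟨c, rfl⟩
  · exact Or.inl e
  · exact Or.inr ⟨c, e⟩

end Hex

end Cfsg.Agent.TriTwo.PF
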