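import Cfsg.Agent.TriTwo.Nf
import Cfsg.Agent.StdRank2.HexU
import Cfsg.Agent.StdEven.Syl
import Cfsg.Agent.StdSz.Env

/-!
# S1778, type `³D₄(2)`, section 1: 2-elements normalising `P₁`, first part

`Q₁` is characteristic; the Sylow `7`-subgroup of `N_{P₁}(U)`.
-/

set_option autoImplicit false
set_option linter.unusedSectionVars false

namespace Cfsg.Agent.TriTwo.SecBase

open Subgroup Cfsg.Agent.TriTwo Cfsg.Agent.StdRank2.Hex Cfsg.Agent.SplitTwo Cfsg.Agent.StdEven.Syl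
open Cfsg.Agent.StdRank2.Hex.HexTwo (ok1 ok3 ok5)
open scoped commutatorElement

/-- Sylow's theorem for a maximal `p`-subgroup. -/
theorem exists_conj_of_max {B : Type*} [Group B] [Finite B] {p : ℕ} [Fact p.Prime] {P : Subgroup B}
    (hP : IsPGroup p P) (hmax : ∀ X : Subgroup B, IsPGroup p X → P ≤ X → X ≤ P) {Q : Subgroup B}
    (hQ : IsPGroup p Q) : ∃ b : B, ∀ q ∈ Q, b * q * b⁻¹ ∈ P := by
  obtain ⟨Q', hQ'⟩ := hQ.exists_le_sylow
  obtain ⟨P', hP'⟩ := hP.exists_le_sylow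
  obtain ⟨b, hb⟩ := MulAction.exists_smul_eq B Q' P'
  refine ⟨b, fun q hq => hmax P' P'.isPGroup' hP' ?_⟩
  have h3 : b * q * b⁻¹ ∈ ((b • Q' : Sylow p B) : Subgroup B) := ⟨_, hQ' hq, rfl⟩
  rwa [hb] at h3

/-- If `y ^ 3` commutes with `z` and `y` is a 2-element, `y` commutes with `z`. -/
theorem comm_of_cube {G : Type*} [Group G] {y z : G} {m : ℕ} (hy : y ^ 2 ^ m = 1) (h : y ^ 3 * z = z * y ^ 3) :
    y * z = z * y := by
  have hco : Nat.Coprime 3 (2 ^ m) := Nat.Coprime.pow_right m (by norm_num)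
  obtain ⟨a, b, hab⟩ : ∃ a b : ℕ, 3 * a = 2 ^ m * b + 1 := by
    rcases Nat.even_or_odd m with hm | hm
    · -- `2 ^ m = 1 mod 3`, take `b = 2`
      obtain ⟨k, hk⟩ := hm
      have : ∃ c, 2 ^ m = 3 * c + 1 := by
        rw [hk, ← two_mul, pow_mul]
        clear hk hy hco
        induction k with
        | zero => exact ⟨0, rfl⟩
        | succ k ih =>
          obtain ⟨c, hc⟩ := ih
          exact ⟨4 * c + 1, by rw [pow_succ, hc]; ring⟩
      obtain ⟨c, hc⟩ := this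
      exact ⟨2 * c + 1, 2, by rw [hc]; ring⟩
    · obtain ⟨k, hk⟩ := hm
      have : ∃ c, 2 ^ m = 3 * c + 2 := by
        rw [hk, pow_succ, pow_mul]
        clear hk hy hco
        induction k with
        | zero => exact ⟨0, rfl⟩
        | succ k ih =>
          obtain ⟨c, hc⟩ := ih
          exact ⟨4 * c + 2, by rw [pow_succ, mul_right_comm, hc]; ring⟩
      obtain ⟨c, hc⟩ := this
      exact ⟨c + 1, 1, by rw [hc]; ring⟩
  have h1 : y = (y ^ 3) ^ a := by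
    rw [← pow_mul, hab, pow_succ, pow_mul, hy, one_pow, one_mul]
  have h2 : Commute ((y ^ 3) ^ a) z := Commute.pow_left (show Commute (y ^ 3) z from h) a
  rw [← h1] at h2
  exact h2

variable {E : Type*} [Field E] {σ : E ≃+* E} {G : Type*} [Group G] {x : ZMod 12 → E → G} (h : HexTwo σ x)

include h

/-- root elements normalise -/
theorem mem_normalizer_gl {L : List (ZMod 12)} {k : ZMod 12} (hL : stable k L = true) {a : E} (ha : Ok σ k a) :
    x k a ∈ normalizer (gl σ x L : Set G) := by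
  rw [mem_normalizer_iff]
  intro y
  refine ⟨fun hy => conj_gl h hL ha hy, fun hy => ?_⟩
  have h1 := conj_gl h hL ha hy
  rw [h.x_inv ha] at h1
  have h2 := h.x_sq ha
  have h3 : x k a * (x k a * y * x k a) * x k a = (x k a * x k a) * y * (x k a * x k a) := by group
  rwa [h3, h2, one_mul, mul_one] at h1

theorem gl_le_normalizer {L M : List (ZMod 12)} (hL : M.all (fun k => stable k L) = true) :
    gl σ x M ≤ normalizer (gl σ x L : Set G) :=
  gens_le fun _ hk _ ha => mem_normalizer_gl h (List.all_eq_true.1 hL _ hk) ha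

theorem P1_norm_Q1 : P1 σ x ≤ normalizer (Q1 σ x : Set G) := by
  rw [P1_eq, Q1_eq]
  exact gl_le_normalizer h (by decide)

omit h in
theorem Q1_le_Us : Q1 σ x ≤ Us σ x := by
  rw [Q1_eq, Us_eq]
  exact gl_mono (by decide)

omit h in
theorem Us_le_P1 : Us σ x ≤ P1 σ x := by
  rw [Us_eq, P1_eq]
  exact gl_mono (by decide)

omit h in
theorem nn1_mem_P1 : nn x 1 ∈ P1 σ x := by
  rw [P1_eq]
  exact mul_mem (mul_mem (mem_gl (by decide) (ok_one σ _)) (mem_gl (by decide) (ok_one σ _)))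
    (mem_gl (by decide) (ok_one σ _))

theorem x1_mem_Q1 {a : E} (ha : x 1 a ∈ Q1 σ x) : a = 0 := by
  have h1 : nn x 1 * x 1 a * (nn x 1)⁻¹ ∈ Q1 σ x := conj_mem_of_mem_normalizer (P1_norm_Q1 h nn1_mem_P1) ha
  rw [h.refl 1 1 (ok1 a)] at h1
  have h2 : x 7 a ∈ gl σ x [1, 2, 3, 4, 5, 6] := by rw [← Us_eq]; exact Q1_le_Us h1
  exact h.inj 7 a (ok_odd (by decide) a) (disj_of_opps h (L := [1, 2, 3, 4, 5, 6]) (M := [7]) (by decide) h2
    (mem_gl (by decide) (ok_odd (by decide) a)))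

/-- `U = X₁ Q₁` -/
theorem exists_Us {g : G} (hg : g ∈ Us σ x) : ∃ a : E, ∃ q ∈ Q1 σ x, g = x 1 a * q := by
  rw [Us_eq] at hg
  obtain ⟨a, -, q, hq, e⟩ := split_gl h (k := 1) (L := [2, 3, 4, 5, 6]) (by decide) hg
  exact ⟨a, q, by rw [Q1_eq]; exact hq, e⟩

/-- `Q₁` is the intersection of the conjugates of `U` under `P₁`. -/
theorem mem_Q1_iff {g : G} : g ∈ Q1 σ x ↔ ∀ p ∈ P1 σ x, p * g * p⁻¹ ∈ Us σ x := by
  constructor
  · intro hg p hp
    exact Q1_le_Us (conj_mem_of_mem_normalizer (P1_norm_Q1 h hp) hg)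
  · intro hg
    have h1 := hg 1 (one_mem _)
    rw [one_mul, inv_one, mul_one] at h1
    obtain ⟨a, q, hq, rfl⟩ := exists_Us h h1
    have h2 := hg (nn x 1) nn1_mem_P1
    have h3 : nn x 1 * (x 1 a * q) * (nn x 1)⁻¹ = (nn x 1 * x 1 a * (nn x 1)⁻¹) * (nn x 1 * q * (nn x 1)⁻¹) := by
      group
    have h4 : nn x 1 * q * (nn x 1)⁻¹ ∈ Us σ x :=
      Q1_le_Us (conj_mem_of_mem_normalizer (P1_norm_Q1 h nn1_mem_P1) hq)
    rw [h3, h.refl 1 1 (ok1 a)] at h2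
    have h5 : x 7 a ∈ Us σ x := by
      have := mul_mem h2 (inv_mem h4)
      rwa [mul_inv_cancel_right] at this
    have h6 : a = 0 := h.inj 7 a (ok_odd (by decide) a) (disj_of_opps h (L := [1, 2, 3, 4, 5, 6]) (M := [7])
      (by decide) (by rwa [← Us_eq]) (mem_gl (by decide) (ok_odd (by decide) a)))
    rw [h6, h.x_zero, one_mul]
    exact hq

/-- elements normalising `P₁` and `U` normalise `Q₁` -/
theorem norm_Q1 {y : G} (hP : y ∈ normalizer (P1 σ x : Set G)) (hU : y ∈ normalizer (Us σ x : Set G)) :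
    y ∈ normalizer (Q1 σ x : Set G) := by
  have key : ∀ y : G, y ∈ normalizer (P1 σ x : Set G) → y ∈ normalizer (Us σ x : Set G) →
      ∀ g ∈ Q1 σ x, y * g * y⁻¹ ∈ Q1 σ x := by
    intro y hP hU g hg
    rw [mem_Q1_iff h] at hg ⊢
    intro p hp
    have h1 : y⁻¹ * p * y ∈ P1 σ x := conj_inv_mem_of_mem_normalizer hP hp
    have h2 := conj_mem_of_mem_normalizer hU (hg _ h1)
    have h3 : y * (y⁻¹ * p * y * g * (y⁻¹ * p * y)⁻¹) * y⁻¹ = p * (y * g * y⁻¹) * p⁻¹ := by group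
    rwa [h3] at h2
  rw [mem_normalizer_iff]
  intro g
  refine ⟨key y hP hU g, fun hg => ?_⟩
  have h1 := key y⁻¹ (inv_mem hP) (inv_mem hU) _ hg
  have h2 : y⁻¹ * (y * g * y⁻¹) * y⁻¹⁻¹ = g := by group
  rwa [h2] at h1

variable (hc : Nat.card E = 8) (hf : ∀ a, σ a = a → a = 0 ∨ a = 1)

omit h in
theorem tau_mem_P1 (s : E) : tau x s ∈ P1 σ x := by
  rw [P1_eq]
  unfold tau hh nt
  have m1 : ∀ a, x 1 a ∈ gl σ x [1, 2, 3, 4, 5, 6, 7] := fun a => mem_gl (by decide) (ok1 a)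
  have m7 : ∀ a, x (1 + 6) a ∈ gl σ x [1, 2, 3, 4, 5, 6, 7] := fun a =>
    mem_gl (by decide) (ok_odd (by decide) a)
  have := nn1_mem_P1 (σ := σ) (x := x)
  rw [P1_eq] at this
  exact mul_mem (mul_mem (mul_mem (m1 _) (m7 _)) (m1 _)) this

include hc hf

theorem tau_norm_gl {s : E} (hs : s ≠ 0) (L : List (ZMod 12)) : tau x s ∈ normalizer (gl σ x L : Set G) := by
  have key : ∀ s : E, s ≠ 0 → ∀ y ∈ gl σ x L, tau x s * y * (tau x s)⁻¹ ∈ gl σ x L := by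
    intro s hs y hy
    refine gens_induct (fun k hk a ha => ?_) hy
    rw [tau_act h hc hf hs k ha]
    refine mem_gl hk ?_
    intro hk0
    rw [wt, if_pos hk0, one_mul]
    exact ha hk0
  rw [mem_normalizer_iff]
  intro y
  refine ⟨key s hs y, fun hy => ?_⟩
  have h1 := key s⁻¹ (inv_ne_zero hs) _ hy
  rw [tau_inv h hc hf hs] at h1
  have h2 : (tau x s)⁻¹ * (tau x s * y * (tau x s)⁻¹) * (tau x s)⁻¹⁻¹ = y := by group
  rwa [h2] at h1

theorem tau_norm_Us {s : E} (hs : s ≠ 0) : tau x s ∈ normalizer (Us σ x : Set G) := by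
  rw [Us_eq]; exact tau_norm_gl h hc hf hs _

theorem tau_pow {s : E} (hs : s ≠ 0) (n : ℕ) : tau x s ^ n = tau x (s ^ n) := by
  induction n with
  | zero => rw [pow_zero, pow_zero, tau_one h]
  | succ n ih => rw [pow_succ, pow_succ, ih, tau_mul h hc hf (pow_ne_zero _ hs) hs]

theorem tau_seven {s : E} (hs : s ≠ 0) : tau x s ^ 7 = 1 := by
  rw [tau_pow h hc hf hs, pow_seven hc hs, tau_one h]

omit hc hf in
/-- the torus -/
def Ht (hc : Nat.card E = 8) (hf : ∀ a, σ a = a → a = 0 ∨ a = 1) : Subgroup G where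
  carrier := {y | ∃ s : E, s ≠ 0 ∧ y = tau x s}
  mul_mem' := by
    rintro _ _ ⟨s, hs, rfl⟩ ⟨r, hr, rfl⟩
    exact ⟨s * r, mul_ne_zero hs hr, (tau_mul h hc hf hs hr).symm⟩
  one_mem' := ⟨1, one_ne_zero, (tau_one h).symm⟩
  inv_mem' := by
    rintro _ ⟨s, hs, rfl⟩
    exact ⟨s⁻¹, inv_ne_zero hs, (tau_inv h hc hf hs).symm⟩

theorem mem_Ht {g : G} : g ∈ Ht h hc hf ↔ ∃ s : E, s ≠ 0 ∧ g = tau x s := Iff.rfl

/-- **Step B.**  If `y` normalises `P₁` and `U`, then some element of `U y` normalises the torus. -/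
theorem exists_norm_Ht [Finite G] (pf : PFacts σ x) {y : G} (hP : y ∈ normalizer (P1 σ x : Set G))
    (hU : y ∈ normalizer (Us σ x : Set G)) :
    ∃ u ∈ Us σ x, ∀ s : E, s ≠ 0 → ∃ r : E, r ≠ 0 ∧ u * y * tau x s * (u * y)⁻¹ = tau x r := by
  have : Fact (Nat.Prime 7) := ⟨by norm_num⟩
  let B : Subgroup G := P1 σ x ⊓ normalizer (Us σ x : Set G)
  have hB : ∀ b ∈ B, ∃ u ∈ Us σ x, ∃ s : E, s ≠ 0 ∧ b = u * tau x s := fun b hb =>
    pf.borel b hb.1 fun u hu => conj_mem_of_mem_normalizer hb.2 hu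
  have htB : ∀ s : E, s ≠ 0 → tau x s ∈ B := fun s hs => mem_inf.mpr ⟨tau_mem_P1 s, tau_norm_Us h hc hf hs⟩
  have hHB : Ht h hc hf ≤ B := by
    rintro _ ⟨s, hs, rfl⟩
    exact htB s hs
  have h7 : IsPGroup 7 (Ht h hc hf) := by
    rintro ⟨_, s, hs, rfl⟩
    exact ⟨1, Subtype.ext (by rw [pow_one]; exact tau_seven h hc hf hs)⟩
  have hP7 : IsPGroup 7 ((Ht h hc hf).subgroupOf B) := h7.comap_subtype
  have hQB : (Ht h hc hf).map (MulAut.conj y).toMonoidHom ≤ B := by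
    rintro _ ⟨_, ⟨s, hs, rfl⟩, rfl⟩
    refine mem_inf.mpr ⟨conj_mem_of_mem_normalizer hP (tau_mem_P1 s), ?_⟩
    exact mul_mem (mul_mem hU (tau_norm_Us h hc hf hs)) (inv_mem hU)
  have hQ7 : IsPGroup 7 (((Ht h hc hf).map (MulAut.conj y).toMonoidHom).subgroupOf B) :=
    (h7.map _).comap_subtype
  obtain ⟨b, hb⟩ := exists_conj_of_max hP7 (by
    intro X hX hle c hcX
    obtain ⟨u, hu, s, hs, e⟩ := hB c c.2
    rw [mem_subgroupOf, e]
    have h1 : (⟨tau x s, htB s hs⟩ : B) ∈ X := hle (mem_subgroupOf.mpr ⟨s, hs, rfl⟩)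
    have h2 : c * (⟨tau x s, htB s hs⟩ : B)⁻¹ ∈ X := mul_mem hcX (inv_mem h1)
    obtain ⟨k, hk⟩ := hX ⟨_, h2⟩
    obtain ⟨l, hl⟩ := pf.two ⟨u, hu⟩
    have hk' : u ^ 7 ^ k = 1 := by
      have h3 : (((c * (⟨tau x s, htB s hs⟩ : B)⁻¹ : B) : G)) = u := by
        push_cast
        rw [e, mul_inv_cancel_right]
      rw [← h3]
      exact congrArg (fun z : X => ((z : B) : G)) hk
    have hl' : u ^ 2 ^ l = 1 := congrArg Subtype.val hl
    have h4 : orderOf u = 1 := Nat.eq_one_of_dvd_coprimes (Nat.Coprime.pow k l (by norm_num))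
      (orderOf_dvd_of_pow_eq_one hk') (orderOf_dvd_of_pow_eq_one hl')
    rw [orderOf_eq_one_iff] at h4
    rw [h4, one_mul]
    exact ⟨s, hs, rfl⟩) hQ7
  obtain ⟨u, hu, s, hs, e⟩ := hB b b.2
  have hu' : (tau x s)⁻¹ * u * tau x s ∈ Us σ x :=
    conj_inv_mem_of_mem_normalizer (tau_norm_Us h hc hf hs) hu
  refine ⟨_, hu', fun r hr => ?_⟩
  have h1 := hb ⟨y * tau x r * y⁻¹, hQB ⟨_, ⟨r, hr, rfl⟩, rfl⟩⟩ (mem_subgroupOf.mpr ⟨_, ⟨r, hr, rfl⟩, rfl⟩)
  rw [mem_subgroupOf] at h1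
  obtain ⟨r', hr', e'⟩ := h1
  refine ⟨r', hr', ?_⟩
  have h2 : (b : G) * (y * tau x r * y⁻¹) * (b : G)⁻¹ = tau x r' := e'
  have hcomm : tau x s * tau x r' = tau x r' * tau x s := by
    rw [← tau_mul h hc hf hs hr', ← tau_mul h hc hf hr' hs, mul_comm]
  calc (tau x s)⁻¹ * u * tau x s * y * tau x r * ((tau x s)⁻¹ * u * tau x s * y)⁻¹
      = (tau x s)⁻¹ * ((u * tau x s) * (y * tau x r * y⁻¹) * (u * tau x s)⁻¹) * tau x s := by group
    _ = (tau x s)⁻¹ * tau x r' * tau x s := by rw [← e, h2]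
    _ = tau x r' := by rw [mul_assoc, ← hcomm, inv_mul_cancel_left]

end Cfsg.Agent.TriTwo.SecBase
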