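import Cfsg.Agent.TriTwo.SecBase
import Cfsg.Agent.TriTwo.Defs

/-!
# S1778, type `³D₄(2)`, section 1

Steps D, E: a 2-element normalising `P₁`, `U` and the torus acts trivially on the torus and on `U / Q₁`.

-/

set_option autoImplicit false
set_option linter.unusedSectionVars false

namespace Cfsg.Agent.TriTwo.SecRel

open Subgroup Cfsg.Agent.TriTwo Cfsg.Agent.StdRank2.Hex Cfsg.Agent.SplitTwo Cfsg.Agent.StdEven.Syl
open Cfsg.Agent.StdRank2.Hex.HexTwo (ok1 ok3 ok5)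
open Cfsg.Agent.TriTwo.SecBase
open scoped commutatorElement

variable {E : Type*} [Field E] {σ : E ≃+* E} {G : Type*} [Group G] {x : ZMod 12 → E → G} (h : HexTwo σ x)

/-- `y x₁(a) y⁻¹ ∈ x₁(b) Q₁` -/
def R (σ : E ≃+* E) (x : ZMod 12 → E → G) (y : G) (a b : E) : Prop :=
  ∃ q ∈ Q1 σ x, y * x 1 a * y⁻¹ = x 1 b * q

section Rel

include h

theorem x1_norm_Q1 (a : E) : x 1 a ∈ normalizer (Q1 σ x : Set G) :=
  P1_norm_Q1 h (by rw [P1_eq]; exact mem_gl (by decide) (ok1 a))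

variable {y : G}

theorem R_exists (hU : y ∈ normalizer (Us σ x : Set G)) (a : E) : ∃ b, R σ x y a b := by
  have h1 : y * x 1 a * y⁻¹ ∈ Us σ x := conj_mem_of_mem_normalizer hU (by
    rw [Us_eq]; exact mem_gl (by decide) (ok1 a))
  obtain ⟨b, q, hq, e⟩ := exists_Us h h1
  exact ⟨b, q, hq, e⟩

theorem eq_of_mul {b b' : E} {q q' : G} (hq : q ∈ Q1 σ x) (hq' : q' ∈ Q1 σ x) (e : x 1 b * q = x 1 b' * q') :
    b = b' := by
  have h1 : x 1 (b' + b) = q' * q⁻¹ := by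
    rw [h.add 1 b' b (ok1 b') (ok1 b)]
    calc x 1 b' * x 1 b = x 1 b' * (x 1 b * q) * q⁻¹ := by group
      _ = (x 1 b' * x 1 b') * q' * q⁻¹ := by rw [e]; group
      _ = q' * q⁻¹ := by rw [h.x_sq (ok1 b'), one_mul]
  have h2 : x 1 (b' + b) ∈ Q1 σ x := by rw [h1]; exact mul_mem hq' (inv_mem hq)
  have h3 := x1_mem_Q1 h h2
  have := eq_neg_of_add_eq_zero_right h3
  rwa [h.neg_eq] at this

theorem R_uniq {a b b' : E} (h1 : R σ x y a b) (h2 : R σ x y a b') : b = b' := by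
  obtain ⟨q, hq, e⟩ := h1
  obtain ⟨q', hq', e'⟩ := h2
  exact eq_of_mul h hq hq' (by rw [← e, e'])

theorem R_add {a b a' b' : E} (h1 : R σ x y a b) (h2 : R σ x y a' b') : R σ x y (a + a') (b + b') := by
  obtain ⟨q, hq, e⟩ := h1
  obtain ⟨q', hq', e'⟩ := h2
  refine ⟨(x 1 b')⁻¹ * q * x 1 b' * q', mul_mem (conj_inv_mem_of_mem_normalizer (x1_norm_Q1 h b') hq) hq', ?_⟩
  rw [h.add 1 a a' (ok1 a) (ok1 a'), h.add 1 b b' (ok1 b) (ok1 b')]
  calc y * (x 1 a * x 1 a') * y⁻¹ = (y * x 1 a * y⁻¹) * (y * x 1 a' * y⁻¹) := by group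
    _ = x 1 b * q * (x 1 b' * q') := by rw [e, e']
    _ = _ := by group

theorem R_zero (hQ : y ∈ normalizer (Q1 σ x : Set G)) {a : E} (h1 : R σ x y a 0) : a = 0 := by
  obtain ⟨q, hq, e⟩ := h1
  rw [h.x_zero, one_mul] at e
  apply x1_mem_Q1 h
  have h2 : y⁻¹ * q * y ∈ Q1 σ x := conj_inv_mem_of_mem_normalizer hQ hq
  rw [← e] at h2
  have h3 : y⁻¹ * (y * x 1 a * y⁻¹) * y = x 1 a := by group
  rwa [h3] at h2

theorem R_mul {z : G} (hQ : z ∈ normalizer (Q1 σ x : Set G)) {a b c : E} (h1 : R σ x y a b) (h2 : R σ x z b c) :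
    R σ x (z * y) a c := by
  obtain ⟨q, hq, e⟩ := h1
  obtain ⟨q', hq', e'⟩ := h2
  refine ⟨q' * (z * q * z⁻¹), mul_mem hq' (conj_mem_of_mem_normalizer hQ hq), ?_⟩
  calc z * y * x 1 a * (z * y)⁻¹ = z * (y * x 1 a * y⁻¹) * z⁻¹ := by group
    _ = (z * x 1 b * z⁻¹) * (z * q * z⁻¹) := by rw [e]; group
    _ = _ := by rw [e']; group

variable (hc : Nat.card E = 8) (hf : ∀ a, σ a = a → a = 0 ∨ a = 1)
include hc hf

theorem wt_one (s : E) : wt (1 : ZMod 12) s = s := by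
  rw [wt, if_neg (by decide), if_pos (by decide)]

theorem wt_three (s : E) : wt (3 : ZMod 12) s = s⁻¹ := by
  rw [wt, if_neg (by decide), if_neg (by decide)]

theorem wt_five (s : E) : wt (5 : ZMod 12) s = s := by
  rw [wt, if_neg (by decide), if_pos (by decide)]

theorem tau1 {s : E} (hs : s ≠ 0) (a : E) : tau x s * x 1 a * (tau x s)⁻¹ = x 1 (s * a) := by
  rw [tau_act h hc hf hs 1 (ok1 a), wt_one h hc hf]

theorem tau3 {s : E} (hs : s ≠ 0) (a : E) : tau x s * x 3 a * (tau x s)⁻¹ = x 3 (s⁻¹ * a) := by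
  rw [tau_act h hc hf hs 3 (ok3 a), wt_three h hc hf]

theorem tau5 {s : E} (hs : s ≠ 0) (a : E) : tau x s * x 5 a * (tau x s)⁻¹ = x 5 (s * a) := by
  rw [tau_act h hc hf hs 5 (ok5 a), wt_five h hc hf]

theorem tau_norm_Q1 {s : E} (hs : s ≠ 0) : tau x s ∈ normalizer (Q1 σ x : Set G) := by
  rw [Q1_eq]; exact tau_norm_gl h hc hf hs _

/-- semilinearity -/
theorem R_tau {s r : E} (hs : s ≠ 0) (hr : r ≠ 0) (e : y * tau x s * y⁻¹ = tau x r) {a b : E}
    (h1 : R σ x y a b) : R σ x y (s * a) (r * b) := by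
  obtain ⟨q, hq, e1⟩ := h1
  refine ⟨tau x r * q * (tau x r)⁻¹, conj_mem_of_mem_normalizer (tau_norm_Q1 h hc hf hr) hq, ?_⟩
  rw [← tau1 h hc hf hs, ← tau1 h hc hf hr]
  calc y * (tau x s * x 1 a * (tau x s)⁻¹) * y⁻¹ =
        (y * tau x s * y⁻¹) * (y * x 1 a * y⁻¹) * (y * tau x s * y⁻¹)⁻¹ := by group
    _ = tau x r * (x 1 b * q) * (tau x r)⁻¹ := by rw [e, e1]
    _ = _ := by group

/-- **Step D.**  A 2-element which normalises `P₁`, `U` and the torus centralises the torus. -/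
theorem comm_tau (hP : y ∈ normalizer (P1 σ x : Set G)) (hU : y ∈ normalizer (Us σ x : Set G)) {m : ℕ}
    (hy : y ^ 2 ^ m = 1) (hH : ∀ s : E, s ≠ 0 → ∃ r : E, r ≠ 0 ∧ y * tau x s * y⁻¹ = tau x r) {η : E}
    (h0 : η ≠ 0) (hη : η ^ 3 = η + 1) : y * tau x η = tau x η * y := by
  have h2 := h.two
  have hQ := norm_Q1 h hP hU
  obtain ⟨ρ, hρ0, hρ⟩ := hH η h0
  obtain ⟨b, hb⟩ := R_exists h hU 1
  have hb0 : b ≠ 0 := by
    intro hb0
    rw [hb0] at hb
    exact one_ne_zero (R_zero h hQ hb)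
  have r1 := R_tau h hc hf h0 hρ0 hρ hb
  have r2 := R_tau h hc hf h0 hρ0 hρ r1
  have r3 := R_tau h hc hf h0 hρ0 hρ r2
  have r4 := R_add h r1 hb
  have e1 : η * (η * (η * 1)) = η * 1 + 1 := by linear_combination hη
  rw [e1] at r3
  have e2 := R_uniq h r3 r4
  have e3 : ρ ^ 3 = ρ + 1 := by
    have : (ρ ^ 3 - (ρ + 1)) * b = 0 := by linear_combination e2
    rcases mul_eq_zero.mp this with h | h
    · exact sub_eq_zero.mp h
    · exact absurd h hb0
  have e4 : (ρ - η) * ((ρ - η ^ 2) * (ρ - η ^ 4)) = 0 := by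
    have k4 : η ^ 4 = η ^ 2 + η := by linear_combination η * hη
    rw [k4]
    linear_combination e3 + (ρ * η + 3 * ρ - η ^ 2 - 1 - η) * hη +
      (ρ * (η ^ 2 + 2 * η + 2) - ρ ^ 2 * (η ^ 2 + η) - η ^ 2 - η) * h2
  -- powers
  have key : ∀ j : ℕ, ρ = η ^ j → j ^ 3 % 7 = 1 → y * tau x η = tau x η * y := by
    intro j hj hj7
    apply comm_of_cube hy
    have hyt : y * tau x η * y⁻¹ = tau x η ^ j := by rw [hρ, hj, tau_pow h hc hf h0]
    have hpow : ∀ n : ℕ, y * tau x η ^ n * y⁻¹ = tau x η ^ (n * j) := by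
      intro n
      rw [mul_comm n j, pow_mul, ← hyt, conj_pow]
    have e5 : y ^ 3 * tau x η * (y ^ 3)⁻¹ = tau x η ^ (j ^ 3) := by
      calc y ^ 3 * tau x η * (y ^ 3)⁻¹ = y * (y * (y * tau x η * y⁻¹) * y⁻¹) * y⁻¹ := by
            rw [pow_succ, pow_two]; group
        _ = tau x η ^ (j ^ 3) := by rw [hyt, hpow, hpow]; congr 1; ring
    have e6 : tau x η ^ (j ^ 3) = tau x η := by
      have e7 : j ^ 3 = 7 * (j ^ 3 / 7) + 1 := by omega
      rw [e7, pow_succ, pow_mul, tau_seven h hc hf h0, one_pow, one_mul]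
    rw [e6, mul_inv_eq_iff_eq_mul] at e5
    exact e5
  rcases mul_eq_zero.mp e4 with h3 | h3
  · exact key 1 (by rw [pow_one]; exact sub_eq_zero.mp h3) (by norm_num)
  · rcases mul_eq_zero.mp h3 with h3 | h3
    · exact key 2 (sub_eq_zero.mp h3) (by norm_num)
    · exact key 4 (sub_eq_zero.mp h3) (by norm_num)

omit h hf in
/-- the powers of `η` -/
theorem exists_pow {η : E} (h0 : η ≠ 0) (h1 : η ≠ 1) {a : E} (ha : a ≠ 0) : ∃ n : ℕ, a = η ^ n := by
  have := finE hc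
  have := Fintype.ofFinite E
  classical
  have h7 := pow_seven hc h0
  have : Fact (Nat.Prime 7) := ⟨by norm_num⟩
  have hord : orderOf (Units.mk0 η h0) = 7 := by
    apply orderOf_eq_prime
    · apply Units.ext
      rw [Units.val_pow_eq_pow_val, Units.val_mk0, h7, Units.val_one]
    · intro h
      exact h1 (congrArg Units.val h)
  have hcard : Nat.card Eˣ = 7 := by
    rw [Nat.card_units, hc]
  have hgen : ∀ u : Eˣ, u ∈ zpowers (Units.mk0 η h0) := by
    intro u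
    have : zpowers (Units.mk0 η h0) = ⊤ := by
      apply Subgroup.eq_top_of_card_eq
      rw [Nat.card_zpowers, hord, hcard]
    rw [this]
    exact mem_top _
  have h3 := hgen (Units.mk0 a ha)
  rw [← mem_powers_iff_mem_zpowers, Submonoid.mem_powers_iff] at h3
  obtain ⟨n, hn⟩ := h3
  refine ⟨n, ?_⟩
  have := congrArg Units.val hn
  rw [Units.val_pow_eq_pow_val, Units.val_mk0, Units.val_mk0] at this
  exact this.symm

/-- **Step E.**  It acts trivially on `U / Q₁`. -/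
theorem R_self (hP : y ∈ normalizer (P1 σ x : Set G)) (hU : y ∈ normalizer (Us σ x : Set G)) {m : ℕ}
    (hy : y ^ 2 ^ m = 1) {η : E} (h0 : η ≠ 0) (h1 : η ≠ 1) (hcomm : y * tau x η = tau x η * y) (a : E) :
    R σ x y a a := by
  have hQ := norm_Q1 h hP hU
  have hρ : y * tau x η * y⁻¹ = tau x η := by rw [hcomm, mul_inv_cancel_right]
  obtain ⟨c, hcc⟩ := R_exists h hU 1
  have hpow : ∀ n : ℕ, R σ x y (η ^ n * 1) (η ^ n * c) := by
    intro n
    induction n with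
    | zero => rw [pow_zero, one_mul, one_mul]; exact hcc
    | succ n ih =>
      have := R_tau h hc hf h0 h0 hρ ih
      rw [← mul_assoc, ← mul_assoc, ← pow_succ'] at this
      exact this
  have hlin : ∀ a, R σ x y a (a * c) := by
    intro a
    by_cases ha : a = 0
    · rw [ha, zero_mul]
      refine ⟨1, one_mem _, ?_⟩
      rw [h.x_zero]; group
    · obtain ⟨n, hn⟩ := exists_pow hc h0 h1 ha
      have := hpow n
      rwa [← hn, mul_one] at this
  have hit : ∀ n : ℕ, R σ x (y ^ n) 1 (c ^ n) := by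
    intro n
    induction n with
    | zero =>
      rw [pow_zero, pow_zero]
      exact ⟨1, one_mem _, by group⟩
    | succ n ih =>
      rw [pow_succ', pow_succ]
      exact R_mul h hQ ih (hlin _)
  have h2 := hit (2 ^ m)
  rw [hy] at h2
  have h3 : R σ x (1 : G) 1 1 := ⟨1, one_mem _, by group⟩
  have h4 : c ^ 2 ^ m = 1 := R_uniq h h2 h3
  have hc0 : c ≠ 0 := by
    intro hc0
    rw [hc0] at hcc
    exact one_ne_zero (R_zero h hQ hcc)
  have h5 : c ^ 7 = 1 := pow_seven hc hc0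
  have h6 : orderOf c = 1 := Nat.eq_one_of_dvd_coprimes (Nat.Coprime.pow_left m (by norm_num : Nat.Coprime 2 7))
    (orderOf_dvd_of_pow_eq_one h4) (orderOf_dvd_of_pow_eq_one h5)
  rw [orderOf_eq_one_iff] at h6
  have := hlin a
  rwa [h6, mul_one] at this

end Rel

end Cfsg.Agent.TriTwo.SecRel
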