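import Mathlib
import Cfsg.Agent.TriTwo.InvCard
import Cfsg.Agent.TriTwo.SeedFacts
import Cfsg.Agent.HexGrow.Defs
import Cfsg.Agent.WreathFusion.HexPair

/-!
# S1778, type `³D₄(2)`: `t` is only fused to its `Ŝ`-conjugates in `Ŝ⟨t⟩`

* `card_cent` : the `2`-subgroups of `C(t)` have order at most `2^13`;
* `star` : if every involution of `Ŝ` centralises a subgroup of `Ŝ` of order `2^14`, then
  `g t g⁻¹ ∈ Ŝ⟨t⟩ → ∃ y ∈ Ŝ, g t g⁻¹ = y t y⁻¹`;
* `inv_pair`, `inv_field` : the hypothesis in the split case and in the field case.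
-/

set_option autoImplicit false
set_option linter.unusedSectionVars false

namespace Cfsg.Agent.TriTwo.Star

open Cfsg.Agent.StdRank2.Hex Cfsg.Agent.SplitTwo Cfsg.Agent.HexGrow.Defs
open scoped commutatorElement

section Grown

variable {G : Type*} [Group G] {t : G} {T : Subgroup G} {X : ZMod 12 → Subgroup G} {n : ZMod 12 → G}
  {V : ZMod 12 → Subgroup G} (g : Grown t T X n V)

theorem V_le (V : ZMod 12 → Subgroup G) (r : ZMod 12) :
    V r ≤ UU V r ∧ V (r + 1) ≤ UU V r ∧ V (r + 2) ≤ UU V r ∧ V (r + 3) ≤ UU V r ∧ V (r + 4) ≤ UU V r ∧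
      V (r + 5) ≤ UU V r := by
  unfold UU
  refine ⟨?_, ?_, ?_, ?_, ?_, le_sup_right⟩
  · exact le_sup_left.trans (le_sup_left.trans (le_sup_left.trans (le_sup_left.trans le_sup_left)))
  · exact le_sup_right.trans (le_sup_left.trans (le_sup_left.trans (le_sup_left.trans le_sup_left)))
  · exact le_sup_right.trans (le_sup_left.trans (le_sup_left.trans le_sup_left))
  · exact le_sup_right.trans (le_sup_left.trans le_sup_left)
  · exact le_sup_right.trans le_sup_left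

theorem UU_le {V : ZMod 12 → Subgroup G} {r : ZMod 12} {K : Subgroup G} (h0 : V r ≤ K) (h1 : V (r + 1) ≤ K)
    (h2 : V (r + 2) ≤ K) (h3 : V (r + 3) ≤ K) (h4 : V (r + 4) ≤ K) (h5 : V (r + 5) ≤ K) : UU V r ≤ K := by
  unfold UU
  exact sup_le (sup_le (sup_le (sup_le (sup_le h0 h1) h2) h3) h4) h5

include g

theorem card_UU (r : ZMod 12) : Nat.card (UU V r) = Nat.card (V r) * (Nat.card (V (r + 1)) * (Nat.card (V (r + 2)) *
    (Nat.card (V (r + 3)) * (Nat.card (V (r + 4)) * Nat.card (V (r + 5)))))) := by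
  obtain ⟨l0, l1, l2, l3, l4, l5⟩ := V_le V r
  rw [← Nat.card_prod, ← Nat.card_prod, ← Nat.card_prod, ← Nat.card_prod, ← Nat.card_prod]
  refine (Nat.card_congr (Equiv.ofBijective (fun p : V r × V (r + 1) × V (r + 2) × V (r + 3) × V (r + 4) × V (r + 5) =>
    (⟨p.1 * p.2.1 * p.2.2.1 * p.2.2.2.1 * p.2.2.2.2.1 * p.2.2.2.2.2, mul_mem (mul_mem (mul_mem (mul_mem (mul_mem
      (l0 p.1.2) (l1 p.2.1.2)) (l2 p.2.2.1.2)) (l3 p.2.2.2.1.2)) (l4 p.2.2.2.2.1.2)) (l5 p.2.2.2.2.2.2)⟩ :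
      UU V r)) ⟨?_, ?_⟩)).symm
  · rintro ⟨a1, a2, a3, a4, a5, a6⟩ ⟨b1, b2, b3, b4, b5, b6⟩ e
    have e' := congrArg Subtype.val e
    obtain ⟨q1, q2, q3, q4, q5, q6⟩ := g.nf r _ a1.2 _ a2.2 _ a3.2 _ a4.2 _ a5.2 _ a6.2 _ b1.2 _ b2.2 _ b3.2 _ b4.2
      _ b5.2 _ b6.2 e'
    simp only [Prod.mk.injEq]
    exact ⟨Subtype.ext q1, Subtype.ext q2, Subtype.ext q3, Subtype.ext q4, Subtype.ext q5, Subtype.ext q6⟩
  · rintro ⟨y, hy⟩
    obtain ⟨a1, h1, a2, h2, a3, h3, a4, h4, a5, h5, a6, h6, e⟩ := g.mem r y hy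
    exact ⟨⟨⟨a1, h1⟩, ⟨a2, h2⟩, ⟨a3, h3⟩, ⟨a4, h4⟩, ⟨a5, h5⟩, ⟨a6, h6⟩⟩, Subtype.ext e.symm⟩

theorem isPGroup_V (r : ZMod 12) : IsPGroup 2 (V r) := fun y => ⟨1, Subtype.ext (by
  rw [pow_one, Subgroup.coe_pow, sq]; exact g.sq r _ y.2)⟩

/-- `Ŝ` is a `2`-group -/
theorem isPGroup_UU [Finite G] (r : ZMod 12) : IsPGroup 2 (UU V r) := by
  have : Fact (Nat.Prime 2) := ⟨Nat.prime_two⟩
  obtain ⟨k0, e0⟩ := IsPGroup.iff_card.1 (isPGroup_V g r)
  obtain ⟨k1, e1⟩ := IsPGroup.iff_card.1 (isPGroup_V g (r + 1))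
  obtain ⟨k2, e2⟩ := IsPGroup.iff_card.1 (isPGroup_V g (r + 2))
  obtain ⟨k3, e3⟩ := IsPGroup.iff_card.1 (isPGroup_V g (r + 3))
  obtain ⟨k4, e4⟩ := IsPGroup.iff_card.1 (isPGroup_V g (r + 4))
  obtain ⟨k5, e5⟩ := IsPGroup.iff_card.1 (isPGroup_V g (r + 5))
  refine IsPGroup.of_card (n := k0 + (k1 + (k2 + (k3 + (k4 + k5))))) ?_
  rw [card_UU g r, e0, e1, e2, e3, e4, e5, pow_add, pow_add, pow_add, pow_add, pow_add]

/-- `t` normalises `Ŝ` -/
theorem t_UU (r : ZMod 12) {y : G} (hy : y ∈ UU V r) : t * y * t⁻¹ ∈ UU V r := by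
  have key : ∀ k, V k ≤ UU V r → V k ≤ (UU V r).comap (MulAut.conj t).toMonoidHom := by
    intro k hk z hz
    show t * z * t⁻¹ ∈ UU V r
    have e : t * z * t⁻¹ = ⁅t, z⁆ * z := by rw [commutatorElement_def]; group
    rw [e]
    exact hk (mul_mem (g.le k (g.br k z hz)) hz)
  obtain ⟨l0, l1, l2, l3, l4, l5⟩ := V_le V r
  exact UU_le (key _ l0) (key _ l1) (key _ l2) (key _ l3) (key _ l4) (key _ l5) hy

theorem mem_P (tt : t * t = 1) {y : G} (hy : y ∈ UU V 1 ⊔ Subgroup.zpowers t) : y ∈ UU V 1 ∨ ∃ m ∈ UU V 1, y = t * m := by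
  have h1 : ∀ a ∈ Subgroup.zpowers t, ∀ b ∈ UU V 1, a * b * a⁻¹ ∈ UU V 1 := by
    have hK : Subgroup.zpowers t ≤ Subgroup.normalizer (UU V 1 : Set G) := by
      rw [Subgroup.zpowers_le, Subgroup.mem_normalizer_iff]
      intro b
      refine ⟨fun hb => t_UU g 1 hb, fun hb => ?_⟩
      have h2 := t_UU g 1 hb
      have ti : t⁻¹ = t := inv_eq_of_mul_eq_one_left tt
      have e : t * (t * b * t⁻¹) * t⁻¹ = b := by
        rw [ti]
        calc t * (t * b * t) * t = (t * t) * b * (t * t) := by group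
          _ = b := by rw [tt]; group
      rwa [e] at h2
    intro a ha b hb
    exact (Subgroup.mem_normalizer_iff.1 (hK ha) b).1 hb
  rw [sup_comm] at hy
  obtain ⟨a, ha, b, hb, rfl⟩ := mem_sup_norm h1 hy
  obtain ⟨k, rfl⟩ := Subgroup.mem_zpowers_iff.1 ha
  rcases Int.even_or_odd k with ⟨j, rfl⟩ | ⟨j, rfl⟩
  · left
    have : t ^ (j + j) = 1 := by rw [← two_mul, zpow_mul, zpow_two, tt, one_zpow]
    rw [this, one_mul]; exact hb
  · right
    have : t ^ (2 * j + 1) = t := by rw [zpow_add, zpow_mul, zpow_two, tt, one_zpow, one_mul, zpow_one]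
    exact ⟨b, hb, by rw [this]⟩

end Grown

section Env

variable {E : Type*} [Field E] {σ : E ≃+* E} {G : Type*} [Group G] {x : ZMod 12 → E → G} {t : G} (v : Env σ x t)

include v

theorem Us_gen : Us σ x = gen σ x (arc 1 6) := by
  unfold Us gens gen
  congr 1
  ext y
  constructor
  · rintro ⟨k, hk, a, ha, rfl⟩
    refine ⟨k, ?_, a, ha, rfl⟩
    rw [mem_arc, set_pos]
    simpa using hk
  · rintro ⟨k, hk, a, ha, rfl⟩
    refine ⟨k, ?_, a, ha, rfl⟩
    rw [mem_arc, set_pos] at hk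
    simpa using hk

theorem card_fix : Nat.card {a : E // σ a = a} = 2 := by
  have e : {a : E | σ a = a} = {0, 1} := by
    ext a
    constructor
    · intro ha
      rcases v.fix a ha with rfl | rfl
      · exact Or.inl rfl
      · exact Or.inr rfl
    · rintro (rfl | rfl)
      · exact map_zero σ
      · exact map_one σ
  have h1 : Nat.card {a : E // σ a = a} = ({a : E | σ a = a} : Set E).ncard := rfl
  rw [h1, e, Set.ncard_pair zero_ne_one]

theorem card_Us : Nat.card (Us σ x) = 2 ^ 12 := by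
  rw [Us_gen v, v.hex.card_U, v.card, card_fix v]
  norm_num

/-- the `2`-subgroups of `C(t)` have order at most `2^13` -/
theorem card_cent [Finite G] {Q : Subgroup G} (hQ : IsPGroup 2 Q) (hc : ∀ z ∈ Q, z * t = t * z) :
    Nat.card Q ≤ 2 ^ 13 := by
  have : Fact (Nat.Prime 2) := ⟨Nat.prime_two⟩
  set C := Subgroup.centralizer ({t} : Set G) with hC
  have memC : ∀ z, z ∈ C ↔ z * t = t * z := fun z => Subgroup.mem_centralizer_singleton_iff
  -- `⟨t⟩U`
  have hUt : ∀ u ∈ Us σ x, u * t = t * u := fun u hu => (t_gens v hu).symm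
  have htp : IsPGroup 2 (Subgroup.zpowers t) := by
    intro y
    refine ⟨1, Subtype.ext ?_⟩
    obtain ⟨k, hk⟩ := Subgroup.mem_zpowers_iff.1 y.2
    rw [pow_one, Subgroup.coe_pow, ← hk, ← zpow_natCast, ← zpow_mul, mul_comm, zpow_mul]
    have : t ^ ((2 : ℕ) : ℤ) = 1 := by rw [zpow_natCast, sq, v.tt]
    rw [this, one_zpow]; rfl
  have hUP : IsPGroup 2 (Subgroup.zpowers t ⊔ Us σ x : Subgroup G) := by
    refine IsPGroup.to_sup_of_normal_right' htp v.pf.two ?_
    rw [Subgroup.zpowers_le, Subgroup.mem_normalizer_iff]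
    intro u
    constructor
    · intro hu
      rw [← hUt u hu, mul_inv_cancel_right]; exact hu
    · intro hu
      have h1 := hUt _ hu
      have e : t * u * t⁻¹ = u := by
        have h2 : t * (t * u * t⁻¹) = t * u := by
          rw [← h1]; group
        exact mul_left_cancel h2
      rw [e] at hu; exact hu
  have hle : Subgroup.zpowers t ⊔ Us σ x ≤ C := by
    refine sup_le ?_ (fun u hu => (memC u).2 (hUt u hu))
    rw [Subgroup.zpowers_le, memC]
  obtain ⟨P1, hP1⟩ := (hUP.comap_of_injective C.subtype C.subtype_injective).exists_le_sylow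
  have hQC : Q ≤ C := fun z hz => (memC z).2 (hc z hz)
  obtain ⟨P2, hP2⟩ := (hQ.comap_of_injective C.subtype C.subtype_injective).exists_le_sylow
  set R : Subgroup G := (P1 : Subgroup C).map C.subtype with hR
  have hRp : IsPGroup 2 R := P1.isPGroup'.map _
  have hR1 : Subgroup.zpowers t ⊔ Us σ x ≤ R := fun z hz =>
    ⟨⟨z, hle hz⟩, hP1 (Subgroup.mem_comap.2 hz), rfl⟩
  have hRs := v.syl R hRp (by
    rintro _ ⟨z, -, rfl⟩
    exact (memC _).1 z.2) (hR1 ((le_sup_left : Subgroup.zpowers t ≤ _) (Subgroup.mem_zpowers t)))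
    (le_sup_right.trans hR1)
  have hRcard : Nat.card R ≤ 2 ^ 13 := by
    -- injection `R → Bool × Us`
    classical
    let f : R → Bool × Us σ x := fun y =>
      if h : (y : G) ∈ Us σ x then (false, ⟨y, h⟩) else (true, ⟨t * y, (hRs y y.2).resolve_left h⟩)
    have hf : Function.Injective f := by
      intro y z e
      by_cases hy : (y : G) ∈ Us σ x <;> by_cases hz : (z : G) ∈ Us σ x
      · simp only [f, hy, hz, dif_pos, Prod.mk.injEq, Subtype.mk.injEq, true_and] at e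
        exact Subtype.ext e
      · simp only [f, hy, hz, dif_pos, dif_neg, not_false_eq_true, Prod.mk.injEq] at e
        exact absurd e.1 (by decide)
      · simp only [f, hy, hz, dif_pos, dif_neg, not_false_eq_true, Prod.mk.injEq] at e
        exact absurd e.1 (by decide)
      · simp only [f, hy, hz, dif_neg, not_false_eq_true, Prod.mk.injEq, Subtype.mk.injEq, true_and] at e
        exact Subtype.ext (mul_left_cancel e)
    have h1 := Nat.card_le_card_of_injective f hf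
    have hb : Nat.card Bool = 2 := by rw [Nat.card_eq_fintype_card, Fintype.card_bool]
    rw [Nat.card_prod, card_Us v, hb] at h1
    calc Nat.card R ≤ 2 * 2 ^ 12 := h1
      _ = 2 ^ 13 := by norm_num
  have e1 : Nat.card R = Nat.card P1 := Subgroup.card_map_of_injective C.subtype_injective
  have e2 : Nat.card P1 = Nat.card P2 := Nat.card_congr (Sylow.equiv P1 P2).toEquiv
  have e3 : Nat.card Q ≤ Nat.card P2 := by
    have e4 : Nat.card Q = Nat.card (Q.comap C.subtype) := by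
      refine Nat.card_congr ?_
      exact (Subgroup.subgroupOfEquivOfLe hQC).toEquiv.symm
    rw [e4]
    exact Nat.card_le_card_of_injective _ (Subgroup.inclusion_injective hP2)
  omega

/-- **(★)** -/
theorem star [Finite G] {T : Subgroup G} {X : ZMod 12 → Subgroup G} {n : ZMod 12 → G}
    {V : ZMod 12 → Subgroup G} (gr : Grown t T X n V)
    (hinv : ∀ s ∈ UU V 1, s * s = 1 → ∃ K : Subgroup G, K ≤ UU V 1 ∧ (∀ k ∈ K, k * s = s * k) ∧ 2 ^ 14 ≤ Nat.card K)
    {g : G} (hg : g * t * g⁻¹ ∈ UU V 1 ⊔ Subgroup.zpowers t) : ∃ y ∈ UU V 1, g * t * g⁻¹ = y * t * y⁻¹ := by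
  have hsq : (g * t * g⁻¹) * (g * t * g⁻¹) = 1 := by
    calc (g * t * g⁻¹) * (g * t * g⁻¹) = g * (t * t) * g⁻¹ := by group
      _ = 1 := by rw [v.tt]; group
  rcases mem_P gr v.tt hg with h | ⟨m, hm, e⟩
  · exfalso
    obtain ⟨K, hK, hc, hcard⟩ := hinv _ h hsq
    have hKp : IsPGroup 2 K := (isPGroup_UU gr 1).to_le hK
    have h1 := card_cent v (Q := K.map (MulAut.conj g⁻¹).toMonoidHom) (hKp.map _) (by
      rintro _ ⟨k, hk, rfl⟩
      show g⁻¹ * k * g⁻¹⁻¹ * t = t * (g⁻¹ * k * g⁻¹⁻¹)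
      have h2 := hc k hk
      calc g⁻¹ * k * g⁻¹⁻¹ * t = g⁻¹ * (k * (g * t * g⁻¹)) * g := by group
        _ = g⁻¹ * ((g * t * g⁻¹) * k) * g := by rw [h2]
        _ = _ := by group)
    rw [Subgroup.card_map_of_injective (MulEquiv.injective _)] at h1
    omega
  · rw [e] at hsq ⊢
    obtain ⟨y, hy, e2⟩ := gr.good 1 m hm hsq
    exact ⟨y, hy, e2.symm⟩

end Env

/-! ### The two cases -/

section Cases

variable {E : Type*} [Field E] [Finite E] {σ : E ≃+* E} {G : Type*} [Group G]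

/-- split case -/
theorem inv_pair {y1 y2 : ZMod 12 → E → G} (p : Cfsg.Agent.WreathFusion.HexPair.IsPair σ y1 y2) {S : Subgroup G} [Finite S]
    (hS1 : gen σ y1 (arc 1 6) ≤ S) (hS2 : gen σ y2 (arc 1 6) ≤ S) (hS : S ≤ gen σ y1 (arc 1 6) ⊔ gen σ y2 (arc 1 6))
    (hdisj : ∀ u, u ∈ gen σ y1 (arc 1 6) → u ∈ gen σ y2 (arc 1 6) → u = 1)
    {s : G} (hs : s ∈ S) (hss : s * s = 1) :
    ∃ K : Subgroup G, K ≤ S ∧ (∀ k ∈ K, k * s = s * k) ∧
      (Nat.card {a : E // σ a = a} * Nat.card E ^ 2) ^ 2 ≤ Nat.card K := by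
  have cm : ∀ a ∈ gen σ y1 (arc 1 6), ∀ b ∈ gen σ y2 (arc 1 6), a * b = b * a := fun a ha b hb =>
    (Subgroup.mem_centralizer_iff.1 (p.le_centralizer _ _ ha) b hb).symm
  obtain ⟨a, ha, b, hb, rfl⟩ := mem_sup_norm (fun a ha b hb => by
    rw [cm a ha b hb, mul_inv_cancel_right]; exact hb) (hS hs)
  have hab := cm a ha b hb
  have e : a * a = (b * b)⁻¹ := by
    rw [eq_inv_iff_mul_eq_one]
    calc a * a * (b * b) = a * (a * b) * b := by group
      _ = a * (b * a) * b := by rw [hab]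
      _ = 1 := by rw [← hss]; group
  have haa : a * a = 1 := hdisj _ (mul_mem ha ha) (by rw [e]; exact inv_mem (mul_mem hb hb))
  have hbb : b * b = 1 := by rw [haa, eq_comm, inv_eq_one] at e; exact e
  obtain ⟨K1, hK1, c1, k1⟩ := InvCard.inv_card p.h1 (g := a) ha haa
  obtain ⟨K2, hK2, c2, k2⟩ := InvCard.inv_card p.h2 (g := b) hb hbb
  have hK1' : K1 ≤ gen σ y1 (arc 1 6) := hK1
  have hK2' : K2 ≤ gen σ y2 (arc 1 6) := hK2
  have hKS : K1 ⊔ K2 ≤ S := sup_le (hK1'.trans hS1) (hK2'.trans hS2)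
  refine ⟨K1 ⊔ K2, hKS, ?_, ?_⟩
  · intro k hk
    have : K1 ⊔ K2 ≤ Subgroup.centralizer {a * b} := by
      refine sup_le (fun y hy => ?_) (fun y hy => ?_)
      · rw [Subgroup.mem_centralizer_singleton_iff]
        have e1 := c1 y hy
        have e2 := cm y (hK1' hy) b hb
        calc y * (a * b) = (y * a) * b := by group
          _ = a * (y * b) := by rw [e1]; group
          _ = a * b * y := by rw [e2]; group
      · rw [Subgroup.mem_centralizer_singleton_iff]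
        have e1 := c2 y hy
        have e2 := cm a ha y (hK2' hy)
        calc y * (a * b) = (y * a) * b := by group
          _ = a * (y * b) := by rw [← e2]; group
          _ = a * b * y := by rw [e1]; group
    exact Subgroup.mem_centralizer_singleton_iff.1 (this hk)
  · have hfin : Finite (K1 ⊔ K2 : Subgroup G) := Finite.of_injective _ (Subgroup.inclusion_injective hKS)
    let f : K1 × K2 → (K1 ⊔ K2 : Subgroup G) := fun q =>
      ⟨q.1 * q.2, mul_mem ((le_sup_left : K1 ≤ _) q.1.2) ((le_sup_right : K2 ≤ _) q.2.2)⟩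
    have hf : Function.Injective f := by
      rintro ⟨u, w⟩ ⟨u', w'⟩ e
      have e' : (u : G) * w = u' * w' := congrArg Subtype.val e
      have e1 : (u' : G)⁻¹ * u = w' * (w : G)⁻¹ := by
        rw [inv_mul_eq_iff_eq_mul, ← mul_assoc, eq_mul_inv_iff_mul_eq]; exact e'
      have e2 := hdisj ((u' : G)⁻¹ * u) (mul_mem (inv_mem (hK1' u'.2)) (hK1' u.2)) (by
        rw [e1]; exact mul_mem (hK2' w'.2) (inv_mem (hK2' w.2)))
      have e3 : (u : G) = u' := (inv_mul_eq_one.1 e2).symm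
      have e4 : (w : G) = w' := by rw [e3] at e'; exact mul_left_cancel e'
      rw [Prod.mk.injEq]
      exact ⟨Subtype.ext e3, Subtype.ext e4⟩
    have h1 := Nat.card_le_card_of_injective f hf
    rw [Nat.card_prod] at h1
    calc (Nat.card {a : E // σ a = a} * Nat.card E ^ 2) ^ 2
        = (Nat.card {a : E // σ a = a} * Nat.card E ^ 2) * (Nat.card {a : E // σ a = a} * Nat.card E ^ 2) := by ring
      _ ≤ Nat.card K1 * Nat.card K2 := Nat.mul_le_mul k1 k2
      _ ≤ _ := h1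

/-- field case -/
theorem inv_field {Γ : Type*} [Group Γ] {x : ZMod 12 → E → Γ} (h : HexTwo σ x) {S : Subgroup G}
    (e : S ≃* gen σ x (arc 1 6)) {s : G} (hs : s ∈ S) (hss : s * s = 1) :
    ∃ K : Subgroup G, K ≤ S ∧ (∀ k ∈ K, k * s = s * k) ∧
      Nat.card {a : E // σ a = a} * Nat.card E ^ 2 ≤ Nat.card K := by
  have h1 : ((e ⟨s, hs⟩ : gen σ x (arc 1 6)) : Γ) * (e ⟨s, hs⟩ : gen σ x (arc 1 6)) = 1 := by
    rw [← Subgroup.coe_mul, ← map_mul]
    have : (⟨s, hs⟩ : S) * ⟨s, hs⟩ = 1 := Subtype.ext hss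
    rw [this, map_one]; rfl
  obtain ⟨K, hK, hc, hk⟩ := InvCard.inv_card h (e ⟨s, hs⟩).2 h1
  have hK' : K ≤ gen σ x (arc 1 6) := hK
  refine ⟨((K.subgroupOf (gen σ x (arc 1 6))).map e.symm.toMonoidHom).map S.subtype, ?_, ?_, ?_⟩
  · rintro _ ⟨y, -, rfl⟩
    exact y.2
  · rintro _ ⟨_, ⟨y, hy, rfl⟩, rfl⟩
    have h2 := hc y hy
    have h3 : y * e ⟨s, hs⟩ = e ⟨s, hs⟩ * y := Subtype.ext h2
    have h4 := congrArg e.symm h3
    rw [map_mul, map_mul, MulEquiv.symm_apply_apply] at h4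
    exact congrArg Subtype.val h4
  · rw [Subgroup.card_map_of_injective S.subtype_injective, Subgroup.card_map_of_injective e.symm.injective]
    rw [Nat.card_congr (Subgroup.subgroupOfEquivOfLe hK').toEquiv]
    exact hk

end Cases

end Cfsg.Agent.TriTwo.Star
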