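import Cfsg.Agent.StdEven.Loc
import Cfsg.Agent.StdEven.CoreQuot
import Cfsg.Agent.StdL3.OneParity

/-!
# S1778 without outer 2-elements: `T` is not a Sylow 2-subgroup of `G`, `|R| = 2`, and `t ~ t z` in `N(T)`

`C : StdL2.Setup.Conf L A t`, `T` a Sylow 2-subgroup of `N(A)` as in `Loc.IsT`, `T = (T ⊓ A)(T ⊓ C(A))`.
-/

set_option autoImplicit false
set_option linter.unusedSectionVars false

namespace Cfsg.Agent.TriTwo.Start

open Cfsg Subgroup Cfsg.Agent.SignalizersComponents Cfsg.Agent.StdEven.Syl Cfsg.Agent.StdEven.Loc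
open Cfsg.Agent.StdL2.Setup Cfsg.Agent.Schreier.Basic
open scoped commutatorElement

section Transfer

variable {G : Type*} [Group G] [Finite G]

/-- Transfer of an involution all of whose conjugates in `H` have the same value. -/
theorem transfer_const {M : Type*} [CommGroup M] (H : Subgroup G) (φ : H →* M) {t : G} (ht : t * t = 1)
    (htH : t ∈ H) (hcl : ∀ g : G, ∀ hg : g⁻¹ * t * g ∈ H, φ ⟨g⁻¹ * t * g, hg⟩ = φ ⟨t, htH⟩)
    (hodd : Odd H.index) : MonoidHom.transfer φ t = φ ⟨t, htH⟩ := by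
  classical
  have := Fintype.ofFinite (G ⧸ H)
  obtain ⟨f, hf, hprod⟩ := StdL3.OneParity.transfer_eq_prod_fixed H φ t ht
  rw [hprod]
  have hti : t⁻¹ = t := inv_eq_of_mul_eq_one_right ht
  have h1 : ∀ q ∈ Finset.univ.filter (fun q : G ⧸ H => t • q = q), f q = φ ⟨t, htH⟩ := by
    intro q hq
    simp only [Finset.mem_filter, Finset.mem_univ, true_and] at hq
    obtain ⟨g, rfl⟩ := QuotientGroup.mk_surjective q
    have hg : g⁻¹ * t * g ∈ H := by
      rw [MulAction.Quotient.smul_mk, smul_eq_mul, QuotientGroup.eq] at hq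
      have : (t * g)⁻¹ * g = g⁻¹ * t * g := by rw [mul_inv_rev, hti]
      rw [this] at hq; exact hq
    rw [hf _ g rfl hg]; exact hcl g hg
  rw [Finset.prod_congr rfl h1, Finset.prod_const]
  have h2 : φ ⟨t, htH⟩ * φ ⟨t, htH⟩ = 1 := by
    rw [← map_mul, ← map_one φ]
    congr 1
    exact Subtype.ext ht
  have h3 : Odd (Finset.univ.filter (fun q : G ⧸ H => t • q = q)).card := by
    let f' : Function.End (G ⧸ H) := fun q => t • q
    have hp : f' ^ 2 ^ 1 = 1 := by
      rw [pow_one, pow_two]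
      funext q
      show t • t • q = q
      rw [smul_smul, ht, one_smul]
    have : Fact (Nat.Prime 2) := ⟨Nat.prime_two⟩
    have h4 := Equiv.Perm.card_fixedPoints_modEq (p := 2) (n := 1) hp
    have h5 : Fintype.card (Function.fixedPoints f') =
        (Finset.univ.filter (fun q : G ⧸ H => t • q = q)).card := by
      rw [← Fintype.card_subtype]
      exact Fintype.card_congr (Equiv.refl _)
    rw [h5] at h4
    have h6 : Odd (Fintype.card (G ⧸ H)) := by
      rw [← Nat.card_eq_fintype_card]; exact hodd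
    rw [Nat.odd_iff] at h6 ⊢
    rw [← h6]
    exact h4.symm
  obtain ⟨m, hm⟩ := h3
  rw [hm, pow_succ, pow_mul, pow_two, h2, one_pow, one_mul]

end Transfer

/-- A simple nonabelian subgroup lies in the kernel of every homomorphism to a commutative group. -/
theorem le_ker_of_simple {G : Type*} [Group G] {L : Subgroup G} (hs : IsSimpleGroup ↥L)
    (hL : ¬ IsMulCommutative ↥L) {M : Type*} [CommGroup M] (f : G →* M) : L ≤ f.ker := by
  have h1 : commutator ↥L = ⊤ := by
    rcases (inferInstance : (commutator ↥L).Normal).eq_bot_or_eq_top with h | h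
    · exfalso
      apply hL
      rw [commutator_eq_bot_iff_center_eq_top] at h
      refine ⟨⟨fun a b => ?_⟩⟩
      have : b ∈ center ↥L := by rw [h]; exact mem_top _
      exact mem_center_iff.mp this a
    · exact h
  intro x hx
  have h2 : (⟨x, hx⟩ : L) ∈ commutator ↥L := by rw [h1]; exact mem_top _
  exact Abelianization.commutator_subset_ker (f.comp L.subtype) h2

variable {G : Type*} [Group G]

/-- Every element of `T` induces an inner automorphism of `A`. -/
def Inner (A T : Subgroup G) : Prop := ∀ y ∈ T, ∃ a ∈ A, a⁻¹ * y ∈ centralizer (A : Set G)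

/-- Every involution of `T ⊓ A` is conjugate in `A` to an involution `u'` in `C(u')'`, computed in `T ⊓ A`. -/
def Into (A T : Subgroup G) : Prop :=
  ∀ u ∈ T, u ∈ A → u * u = 1 → u ≠ 1 → ∃ a ∈ A, a * u * a⁻¹ ∈
    ⁅(T ⊓ A) ⊓ centralizer ({a * u * a⁻¹} : Set G), (T ⊓ A) ⊓ centralizer ({a * u * a⁻¹} : Set G)⁆

variable [Finite G] {L A : Subgroup G} {t : G} {T : Subgroup G}

section

variable (C : Conf L A t) (hZ : Odd (Nat.card (center ↥A))) (hT : IsT A t T) (hI : Inner A T)
include C hT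

theorem comm_R {r s : G} (hr : r ∈ T) (hrK : r ∈ centralizer (A : Set G)) (hs : s ∈ T)
    (hsK : s ∈ centralizer (A : Set G)) : r * s = s * r := by
  have h1 : IsCyclic ↥(T ⊓ centralizer (A : Set G)) :=
    StdSz.FromStd.isCyclic_of_le C.cyc (hT.syl.two.to_le inf_le_left) inf_le_right
  have h2 := (@IsCyclic.commGroup ↥(T ⊓ centralizer (A : Set G)) _ h1).mul_comm
    ⟨r, mem_inf.mpr ⟨hr, hrK⟩⟩ ⟨s, mem_inf.mpr ⟨hs, hsK⟩⟩
  exact congrArg Subtype.val h2

theorem t_not_mem (hZ : Odd (Nat.card (center ↥A))) : t ∉ A := fun h =>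
  t_ne C.ht (hT.eq_one_of_mem hZ hT.mem h C.htA)

/-- nontrivial elements of `T ⊓ C(A)` have `t` as a power. -/
theorem t_mem_of_ne {r : G} (hr : r ∈ T) (hrK : r ∈ centralizer (A : Set G)) (hr1 : r ≠ 1) {M : Subgroup G}
    (hrM : r ∈ M) : t ∈ M := by
  obtain ⟨k, hk⟩ := hT.syl.two ⟨r, hr⟩
  have hk : r ^ 2 ^ k = 1 := congrArg Subtype.val hk
  obtain ⟨k, hk, hko⟩ := (Nat.dvd_prime_pow Nat.prime_two).mp (orderOf_dvd_of_pow_eq_one hk)
  match k, hko with
  | 0, hko =>
    exfalso
    rw [pow_zero, orderOf_eq_one_iff] at hko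
    exact hr1 hko
  | k + 1, hko =>
    rcases hT.uniq (r ^ 2 ^ k) (pow_mem hr _) (pow_mem hrK _) (by
      rw [← pow_add]
      have : 2 ^ k + 2 ^ k = 2 ^ (k + 1) := by ring
      rw [this, ← hko, pow_orderOf_eq_one]) with h | h
    · exfalso
      have h2 := orderOf_dvd_of_pow_eq_one h
      rw [hko] at h2
      have h3 := Nat.le_of_dvd (by positivity) h2
      have h4 : 2 ^ k < 2 ^ (k + 1) := Nat.pow_lt_pow_right (by norm_num) (by omega)
      omega
    · rw [← h]; exact pow_mem hrM _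

include hI

theorem exists_mul {y : G} (hy : y ∈ T) :
    ∃ u ∈ T, u ∈ A ∧ ∃ r ∈ T, r ∈ centralizer (A : Set G) ∧ y = u * r := by
  obtain ⟨a, ha, hay⟩ := hI y hy
  exact hT.exists_of_inner hy ha hay

theorem commutator_mem {x y : G} (hx : x ∈ T) (hy : y ∈ T) : ⁅x, y⁆ ∈ A := by
  obtain ⟨u, -, huA, r, hr, hrK, rfl⟩ := exists_mul C hT hI hx
  obtain ⟨v, -, hvA, s, hs, hsK, rfl⟩ := exists_mul C hT hI hy
  have h1 : r * s = s * r := comm_R C hT hr hrK hs hsK
  have h2 : r * v = v * r := comm_of_centralizer hrK hvA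
  have h3 : s * u = u * s := comm_of_centralizer hsK huA
  have h4 : r * u = u * r := comm_of_centralizer hrK huA
  have h5 : s * v = v * s := comm_of_centralizer hsK hvA
  have e : ⁅u * r, v * s⁆ = ⁅u, v⁆ := by
    rw [commutatorElement_def, commutatorElement_def]
    have e1 : u * r * (v * s) = u * v * (r * s) := by
      calc u * r * (v * s) = u * (r * v) * s := by group
        _ = u * (v * r) * s := by rw [h2]
        _ = u * v * (r * s) := by group
    have e2 : v * s * (u * r) = v * u * (s * r) := by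
      calc v * s * (u * r) = v * (s * u) * r := by group
        _ = v * (u * s) * r := by rw [h3]
        _ = v * u * (s * r) := by group
    calc u * r * (v * s) * (u * r)⁻¹ * (v * s)⁻¹ = u * r * (v * s) * (v * s * (u * r))⁻¹ := by group
      _ = u * v * (r * s) * (v * u * (s * r))⁻¹ := by rw [e1, e2]
      _ = u * v * (s * r) * (v * u * (s * r))⁻¹ := by rw [h1]
      _ = u * v * u⁻¹ * v⁻¹ := by group
  rw [e, commutatorElement_def]
  exact mul_mem (mul_mem (mul_mem huA hvA) (inv_mem huA)) (inv_mem hvA)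

theorem commutator_le : ⁅T, T⁆ ≤ A := by
  rw [Subgroup.commutator_le]
  exact fun x hx y hy => commutator_mem C hT hI hx hy

include hZ

/-- `t` is not conjugate to `u` if `u ∈ C_U(u)'`, `U = T ⊓ A`. -/
theorem not_conj {g u : G} (hg : g * t * g⁻¹ = u)
    (hu : u ∈ ⁅(T ⊓ A) ⊓ centralizer ({u} : Set G), (T ⊓ A) ⊓ centralizer ({u} : Set G)⁆) : False := by
  set D := (T ⊓ A) ⊓ centralizer ({u} : Set G) with hD
  have hD2 : IsPGroup 2 (D.map (MulAut.conj g⁻¹).toMonoidHom) :=
    isPGroup_map (hT.syl.two.to_le (inf_le_left.trans inf_le_left)) g⁻¹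
  have hDc : D.map (MulAut.conj g⁻¹).toMonoidHom ≤ centralizer ({t} : Set G) := by
    rintro _ ⟨d, hd, rfl⟩
    have h1 := (mem_inf.mp hd).2
    rw [mem_centralizer_singleton_iff] at h1 ⊢
    show g⁻¹ * d * g⁻¹⁻¹ * t = t * (g⁻¹ * d * g⁻¹⁻¹)
    rw [← hg] at h1
    calc g⁻¹ * d * g⁻¹⁻¹ * t = g⁻¹ * (d * (g * t * g⁻¹)) * g := by group
      _ = g⁻¹ * (g * t * g⁻¹ * d) * g := by rw [h1]
      _ = t * (g⁻¹ * d * g⁻¹⁻¹) := by group
  obtain ⟨c, hc, hcT⟩ := (hT.syl_cent C.std C.ht C.htA).exists_conj hD2 hDc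
  rw [mem_centralizer_singleton_iff] at hc
  have h1 : D.map (MulAut.conj (c * g⁻¹)).toMonoidHom ≤ T := by
    rintro _ ⟨d, hd, rfl⟩
    have h2 := hcT _ (conj_mem_map g⁻¹ hd)
    show c * g⁻¹ * d * (c * g⁻¹)⁻¹ ∈ T
    have h3 : c * g⁻¹ * d * (c * g⁻¹)⁻¹ = c * (g⁻¹ * d * g⁻¹⁻¹) * c⁻¹ := by group
    rw [h3]; exact h2
  have h2 : (MulAut.conj (c * g⁻¹)).toMonoidHom u ∈ ⁅T, T⁆ := by
    have h3 : (MulAut.conj (c * g⁻¹)).toMonoidHom u ∈ ⁅D, D⁆.map (MulAut.conj (c * g⁻¹)).toMonoidHom :=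
      ⟨u, hu, rfl⟩
    rw [Subgroup.map_commutator] at h3
    exact Subgroup.commutator_mono h1 h1 h3
  have h3 : (MulAut.conj (c * g⁻¹)).toMonoidHom u = t := by
    show c * g⁻¹ * u * (c * g⁻¹)⁻¹ = t
    rw [← hg]
    calc c * g⁻¹ * (g * t * g⁻¹) * (c * g⁻¹)⁻¹ = c * t * c⁻¹ := by group
      _ = t := by rw [hc]; group
  rw [h3] at h2
  exact t_not_mem C hT hZ (commutator_le C hT hI h2)

theorem conj_not_mem (hin : Into A T) {g : G} (hg : g * t * g⁻¹ ∈ T) : g * t * g⁻¹ ∉ A := by
  intro hA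
  have h1 : g * t * g⁻¹ * (g * t * g⁻¹) = 1 := by
    calc g * t * g⁻¹ * (g * t * g⁻¹) = g * (t * t) * g⁻¹ := by group
      _ = 1 := by rw [tt C.ht]; group
  have h2 : g * t * g⁻¹ ≠ 1 := by
    intro h
    apply t_ne C.ht
    have : t = g⁻¹ * (g * t * g⁻¹) * g := by group
    rw [this, h]; group
  obtain ⟨a, ha, hau⟩ := hin _ hg hA h1 h2
  exact not_conj C hZ hT hI (g := a * g) (by group) hau

/-- **(a)** `T` is not a Sylow 2-subgroup of `G`. -/
theorem not_syl (hin : Into A T) (hrec : IsSyl (T ⊓ A) L → Nat.card L ≤ Nat.card A) : ¬ IsSyl T ⊤ := by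
  intro hsyl
  have hTA : ∀ x ∈ T, ∀ a ∈ A, x * a * x⁻¹ ∈ A := fun x hx a ha => conj_mem_of_mem_normalizer (hT.norm hx) ha
  have hN : (A.subgroupOf T).Normal := ⟨fun n hn g => by
    rw [mem_subgroupOf] at hn ⊢
    exact hTA g g.2 n hn⟩
  let inst : CommGroup (T ⧸ A.subgroupOf T) :=
    { (inferInstance : Group (T ⧸ A.subgroupOf T)) with
      mul_comm := by
        intro a b
        induction a using QuotientGroup.induction_on with
        | H a =>
          induction b using QuotientGroup.induction_on with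
          | H b =>
            rw [← QuotientGroup.mk_mul, ← QuotientGroup.mk_mul, QuotientGroup.eq, mem_subgroupOf]
            have h1 := commutator_mem C hT hI (inv_mem b.2) (inv_mem a.2)
            have h2 : (((a * b)⁻¹ * (b * a) : T) : G) = ⁅(b : G)⁻¹, (a : G)⁻¹⁆ := by
              rw [commutatorElement_def]; push_cast; group
            rw [h2]; exact h1 }
  let φ : T →* T ⧸ A.subgroupOf T := QuotientGroup.mk' (A.subgroupOf T)
  have hφ : ∀ x : T, φ x = 1 ↔ (x : G) ∈ A := fun x => by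
    show (QuotientGroup.mk x : T ⧸ A.subgroupOf T) = 1 ↔ _
    rw [QuotientGroup.eq_one_iff, mem_subgroupOf]
  have hodd : Odd T.index := by
    have := hsyl.odd_relIndex
    rwa [relIndex_top_right] at this
  have hV := transfer_const T φ (tt C.ht) hT.mem (by
    intro g hg
    obtain ⟨u, hu, huA, r, hr, hrK, he⟩ := exists_mul C hT hI hg
    have h1 : r * u = u * r := comm_of_centralizer hrK huA
    have h2 : g⁻¹ * t * g * (g⁻¹ * t * g) = 1 := by
      calc g⁻¹ * t * g * (g⁻¹ * t * g) = g⁻¹ * (t * t) * g := by group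
        _ = 1 := by rw [tt C.ht]; group
    have h3 : (u * u) * (r * r) = 1 := by
      rw [← h2, he]
      calc u * u * (r * r) = u * (u * r) * r := by group
        _ = u * (r * u) * r := by rw [h1]
        _ = u * r * (u * r) := by group
    have h4 : u * u = 1 := by
      apply hT.eq_one_of_mem hZ (mul_mem hu hu) (mul_mem huA huA)
      rw [eq_inv_of_mul_eq_one_left h3]
      exact inv_mem (mul_mem hrK hrK)
    rw [h4, one_mul] at h3
    have h5 : r = t := by
      rcases hT.uniq r hr hrK h3 with h | h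
      · exfalso
        have h6 : g⁻¹ * t * g⁻¹⁻¹ ∈ T := by rw [inv_inv]; exact hg
        apply conj_not_mem C hZ hT hI hin h6
        rw [inv_inv, he, h, mul_one]; exact huA
      · exact h
    have h6 : (⟨g⁻¹ * t * g, hg⟩ : T) = ⟨u, hu⟩ * ⟨t, hT.mem⟩ := Subtype.ext (by
      show g⁻¹ * t * g = u * t
      rw [he, h5])
    rw [h6, map_mul, (hφ ⟨u, hu⟩).mpr huA, one_mul]) hodd
  have hLk := le_ker_of_simple C.simple C.not_comm (MonoidHom.transfer φ)
  have htL : t ∉ L := by
    intro h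
    have h1 := hLk h
    rw [MonoidHom.mem_ker, hV, hφ] at h1
    exact t_not_mem C hT hZ h1
  have hTL : T ⊓ L = T ⊓ A := by
    apply le_antisymm
    · intro x hx
      obtain ⟨hxT, hxL⟩ := mem_inf.mp hx
      obtain ⟨u, hu, huA, r, hr, hrK, he⟩ := exists_mul C hT hI hxT
      have h1 : r ∈ L := by
        have : r = u⁻¹ * x := by rw [he]; group
        rw [this]; exact mul_mem (inv_mem (C.le huA)) hxL
      have h2 : r = 1 := by
        by_contra h3
        exact htL (t_mem_of_ne C hT hr hrK h3 h1)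
      rw [he, h2, mul_one]
      exact mem_inf.mpr ⟨hu, huA⟩
    · exact inf_le_inf_left _ C.le
  have h1 : IsSyl (T ⊓ L) L := by
    apply hsyl.inf_normal le_top
    have := C.normal
    rw [normalizer_eq_top]
  rw [hTL] at h1
  have h2 : A = L := Subgroup.eq_of_le_of_card_ge C.le (hrec h1)
  have h3 := C.htA
  rw [h2, C.cent, mem_bot] at h3
  exact t_ne C.ht h3

/-- **(b)** `R = {1, t}` and some 2-element of `N(T)` maps `t` to `t z` and centralises `z`, `z` the central
involution of `T ⊓ A`. -/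
theorem exists_mover {z : G} (hzT : z ∈ T) (hzA : z ∈ A) (hzz : z * z = 1)
    (hzc : z ∈ ⁅T ⊓ A, T ⊓ A⁆) (hzU : ∀ v ∈ T, v ∈ A → z * v = v * z) (hz1 : z ≠ 1)
    (hcen : ∀ u ∈ T, u ∈ A → (∀ v ∈ T, v ∈ A → u * v = v * u) → u = 1 ∨ u = z) (hns : ¬ IsSyl T ⊤) :
    (∀ r ∈ T, r ∈ centralizer (A : Set G) → r = 1 ∨ r = t) ∧
      ∃ g ∈ normalizer (T : Set G), (∃ k : ℕ, g ^ 2 ^ k = 1) ∧ g * t * g⁻¹ = t * z ∧ g * z * g⁻¹ = z := by
  obtain ⟨X, hX, hTX, hXN⟩ := hT.syl.exists_normalizer hns
  have h1 : ∃ g ∈ X, g * t ≠ t * g := by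
    by_contra hcon
    push Not at hcon
    have h2 := hT.syl.max X hX (fun x hx => mem_normalizer_of_comm C.std C.ht C.htA (hcon x hx)) hTX.le
    rw [h2] at hTX
    exact lt_irrefl _ hTX
  obtain ⟨g, hg, hgt⟩ := h1
  have hgN := hXN hg
  obtain ⟨k, hk⟩ := hX ⟨g, hg⟩
  have hzK : ∀ r ∈ centralizer (A : Set G), r * z = z * r := fun r hr => comm_of_centralizer hr hzA
  -- the centre of `T`
  have hzcen : ∀ x ∈ T, z * x = x * z := by
    intro x hx
    obtain ⟨u, hu, huA, r, hr, hrK, rfl⟩ := exists_mul C hT hI hx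
    calc z * (u * r) = (z * u) * r := by group
      _ = u * (z * r) := by rw [hzU u hu huA]; group
      _ = u * r * z := by rw [← hzK r hrK]; group
  have hRcen : ∀ r ∈ T, r ∈ centralizer (A : Set G) → ∀ x ∈ T, r * x = x * r := by
    intro r hr hrK x hx
    obtain ⟨u, hu, huA, s, hs, hsK, rfl⟩ := exists_mul C hT hI hx
    calc r * (u * s) = (r * u) * s := by group
      _ = u * (r * s) := by rw [comm_of_centralizer hrK huA]; group
      _ = u * s * r := by rw [comm_R C hT hr hrK hs hsK]; group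
  have hcent : ∀ x ∈ T, (∀ y ∈ T, x * y = y * x) →
      ∃ r ∈ T, r ∈ centralizer (A : Set G) ∧ (x = r ∨ x = z * r) := by
    intro x hx hxc
    obtain ⟨u, hu, huA, r, hr, hrK, rfl⟩ := exists_mul C hT hI hx
    refine ⟨r, hr, hrK, ?_⟩
    rcases hcen u hu huA (by
      intro v hv hvA
      have h3 := hxc v hv
      have h4 : r * v = v * r := comm_of_centralizer hrK hvA
      have h5 : u * v * r = v * u * r := by
        calc u * v * r = u * (v * r) := by group
          _ = u * (r * v) := by rw [h4]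
          _ = u * r * v := by group
          _ = v * (u * r) := h3
          _ = v * u * r := by group
      exact mul_right_cancel h5) with h | h
    · left; rw [h, one_mul]
    · right; rw [h]
  have hconj : ∀ x ∈ T, (∀ y ∈ T, x * y = y * x) → g * x * g⁻¹ ∈ T ∧ ∀ y ∈ T, g * x * g⁻¹ * y = y * (g * x * g⁻¹) := by
    intro x hx hxc
    refine ⟨conj_mem_of_mem_normalizer hgN hx, fun y hy => ?_⟩
    have h3 := hxc _ (conj_inv_mem_of_mem_normalizer hgN hy)
    calc g * x * g⁻¹ * y = g * (x * (g⁻¹ * y * g)) * g⁻¹ := by group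
      _ = g * (g⁻¹ * y * g * x) * g⁻¹ := by rw [h3]
      _ = y * (g * x * g⁻¹) := by group
  have hgt1 : g * t * g⁻¹ * (g * t * g⁻¹) = 1 := by
    calc g * t * g⁻¹ * (g * t * g⁻¹) = g * (t * t) * g⁻¹ := by group
      _ = 1 := by rw [tt C.ht]; group
  have hgt2 : g * t * g⁻¹ ≠ 1 := by
    intro h
    apply t_ne C.ht
    have : t = g⁻¹ * (g * t * g⁻¹) * g := by group
    rw [this, h]; group
  have hgt3 : g * t * g⁻¹ ≠ t := by
    intro h
    rw [mul_inv_eq_iff_eq_mul] at h
    exact hgt h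
  have htc : ∀ y ∈ T, t * y = y * t := fun y hy => (hT.cent y hy).symm
  -- (i) `R = {1, t}`
  have hR : ∀ r ∈ T, r ∈ centralizer (A : Set G) → r = 1 ∨ r = t := by
    intro r hr hrK
    by_contra hcon
    push Not at hcon
    obtain ⟨s, hs, hsK, hst⟩ : ∃ s ∈ T, s ∈ centralizer (A : Set G) ∧ s * s = t := by
      obtain ⟨k, hk⟩ := hT.syl.two ⟨r, hr⟩
      have hk : r ^ 2 ^ k = 1 := congrArg Subtype.val hk
      obtain ⟨k, hk, hko⟩ := (Nat.dvd_prime_pow Nat.prime_two).mp (orderOf_dvd_of_pow_eq_one hk)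
      match k, hko with
      | 0, hko =>
        exfalso
        rw [pow_zero, orderOf_eq_one_iff] at hko
        exact hcon.1 hko
      | 1, hko =>
        exfalso
        rcases hT.uniq r hr hrK (by rw [← pow_two, ← pow_one 2, ← hko, pow_orderOf_eq_one]) with h | h
        · exact hcon.1 h
        · exact hcon.2 h
      | k + 2, hko =>
        refine ⟨r ^ 2 ^ k, pow_mem hr _, pow_mem hrK _, ?_⟩
        have h1 : r ^ 2 ^ k * r ^ 2 ^ k = r ^ 2 ^ (k + 1) := by rw [← pow_add]; congr 1; ring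
        rw [h1]
        rcases hT.uniq (r ^ 2 ^ (k + 1)) (pow_mem hr _) (pow_mem hrK _) (by
          rw [← pow_add]
          have : 2 ^ (k + 1) + 2 ^ (k + 1) = 2 ^ (k + 2) := by ring
          rw [this, ← hko, pow_orderOf_eq_one]) with h | h
        · exfalso
          have h2 := orderOf_dvd_of_pow_eq_one h
          rw [hko] at h2
          have h3 := Nat.le_of_dvd (by positivity) h2
          have h4 : 2 ^ (k + 1) < 2 ^ (k + 2) := Nat.pow_lt_pow_right (by norm_num) (by omega)
          omega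
        · exact h
    obtain ⟨h3, h4⟩ := hconj s hs (hRcen s hs hsK)
    obtain ⟨r', hr', hr'K, he⟩ := hcent _ h3 h4
    have h5 : g * t * g⁻¹ = r' * r' := by
      have h6 : g * t * g⁻¹ = (g * s * g⁻¹) * (g * s * g⁻¹) := by rw [← hst]; group
      rw [h6]
      rcases he with he | he
      · rw [he]
      · rw [he]
        have h7 := hzK r' hr'K
        calc z * r' * (z * r') = z * (r' * z) * r' := by group
          _ = (z * z) * (r' * r') := by rw [h7]; group
          _ = r' * r' := by rw [hzz, one_mul]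
    rcases hT.uniq (g * t * g⁻¹) (by rw [h5]; exact mul_mem hr' hr') (by rw [h5]; exact mul_mem hr'K hr'K) hgt1
      with h | h
    · exact hgt2 h
    · exact hgt3 h
  refine ⟨hR, g, hgN, ⟨k, congrArg Subtype.val hk⟩, ?_, ?_⟩
  · obtain ⟨h3, h4⟩ := hconj t hT.mem htc
    obtain ⟨r, hr, hrK, he⟩ := hcent _ h3 h4
    rcases hR r hr hrK with h | h
    · rw [h, mul_one] at he
      rcases he with he | he
      · exact absurd he hgt2
      · exfalso
        -- `t` would be a commutator
        have h5 : z ∈ ⁅T, T⁆ := Subgroup.commutator_mono inf_le_left inf_le_left hzc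
        have h6 : g⁻¹ * z * g⁻¹⁻¹ ∈ ⁅T, T⁆ := by
          have h7 : (MulAut.conj g⁻¹).toMonoidHom z ∈ ⁅T, T⁆.map (MulAut.conj g⁻¹).toMonoidHom := ⟨z, h5, rfl⟩
          rw [Subgroup.map_commutator] at h7
          have h8 : T.map (MulAut.conj g⁻¹).toMonoidHom ≤ T := by
            rintro _ ⟨y, hy, rfl⟩
            exact conj_mem_of_mem_normalizer (inv_mem hgN) hy
          exact Subgroup.commutator_mono h8 h8 h7
        have h7 : g⁻¹ * z * g⁻¹⁻¹ = t := by rw [← he]; group
        rw [h7] at h6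
        exact t_not_mem C hT hZ (commutator_le C hT hI h6)
    · rw [h] at he
      rcases he with he | he
      · exact absurd he hgt3
      · rw [he, hzcen t hT.mem]
  · obtain ⟨h3, h4⟩ := hconj z hzT hzcen
    obtain ⟨r, hr, hrK, he⟩ := hcent _ h3 h4
    have h5 : g * z * g⁻¹ ∈ A := by
      have h5 : z ∈ ⁅T, T⁆ := Subgroup.commutator_mono inf_le_left inf_le_left hzc
      apply commutator_le C hT hI
      have h7 : (MulAut.conj g).toMonoidHom z ∈ ⁅T, T⁆.map (MulAut.conj g).toMonoidHom := ⟨z, h5, rfl⟩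
      rw [Subgroup.map_commutator] at h7
      have h8 : T.map (MulAut.conj g).toMonoidHom ≤ T := by
        rintro _ ⟨y, hy, rfl⟩
        exact conj_mem_of_mem_normalizer hgN hy
      exact Subgroup.commutator_mono h8 h8 h7
    have h6 : g * z * g⁻¹ ≠ 1 := by
      intro h
      apply hz1
      have : z = g⁻¹ * (g * z * g⁻¹) * g := by group
      rw [this, h]; group
    have h7 : r ∈ A := by
      rcases he with he | he
      · rw [← he]; exact h5
      · have : r = z * (g * z * g⁻¹) := by rw [he, ← mul_assoc, hzz, one_mul]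
        rw [this]; exact mul_mem hzA h5
    have h8 : r = 1 := hT.eq_one_of_mem hZ hr h7 hrK
    rw [h8, mul_one] at he
    exact he.resolve_left h6

end

end Cfsg.Agent.TriTwo.Start
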